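import Mathlib

/-!
Derivations dual to a cotangent basis at a rational point: the associated graded is polynomial.
-/

universe u v w

noncomputable section

namespace Groth.Agent.HopfRep.GrDeriv

variable {k : Type u} [Field k] {B : Type v} [CommRing B] [Algebra k B]

theorem deriv_pow (D : Derivation k B B) (I : Ideal B) : ∀ n : ℕ, ∀ b ∈ I ^ (n + 1), D b ∈ I ^ n := by
  intro n
  induction n with
  | zero => intro b _; rw [pow_zero, Ideal.one_eq_top]; trivial
  | succ n ih =>
    intro b hb
    rw [pow_succ] at hb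
    induction hb using Submodule.mul_induction_on' with
    | mem_mul_mem p hp r hr =>
      rw [D.leibniz, smul_eq_mul, smul_eq_mul]
      refine add_mem (Ideal.mul_mem_right _ _ hp) ?_
      rw [pow_succ']
      exact Ideal.mul_mem_mul hr (ih p hp)
    | add p _ r _ hp hr => rw [map_add]; exact add_mem hp hr

variable (g : B →ₐ[k] k) {ι : Type w} [Fintype ι] [DecidableEq ι] (x : ι → B) (hx : ∀ i, g (x i) = 0)

local notation "m" => RingHom.ker g

include hx in
theorem aeval_mem (n : ℕ) (P : MvPolynomial ι k) (hP : P.IsHomogeneous n) :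
    MvPolynomial.aeval x P ∈ m ^ n := by
  have hP' : P ∈ MvPolynomial.idealOfVars _ k ^ n := by
    rw [MvPolynomial.mem_pow_idealOfVars_iff]
    intro d hd
    exact ge_of_eq (by rw [Finsupp.degree_eq_weight_one]; exact hP (MvPolynomial.mem_support_iff.1 hd))
  have hle : Ideal.map (MvPolynomial.aeval x : MvPolynomial ι k →ₐ[k] B) (MvPolynomial.idealOfVars _ k ^ n) ≤ m ^ n := by
    rw [Ideal.map_pow]
    refine Ideal.pow_right_mono (Ideal.map_le_iff_le_comap.2 (Ideal.span_le.2 ?_)) n
    rintro _ ⟨i, rfl⟩
    show MvPolynomial.aeval x _ ∈ m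
    rw [MvPolynomial.aeval_X]
    exact hx i
  exact hle (Ideal.mem_map_of_mem _ hP')

theorem deriv_aeval (D : Derivation k B B) (P : MvPolynomial ι k) :
    D (MvPolynomial.aeval x P) = ∑ j, MvPolynomial.aeval x (MvPolynomial.pderiv j P) * D (x j) := by
  induction P using MvPolynomial.induction_on with
  | C a => simp
  | add p q hp hq => simp [hp, hq, add_mul, Finset.sum_add_distrib]
  | mul_X p i hp =>
    simp only [map_mul, MvPolynomial.aeval_X, Derivation.leibniz, smul_eq_mul, hp, map_add,
      MvPolynomial.pderiv_X, add_mul, Finset.sum_add_distrib, Finset.mul_sum]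
    congr 1
    · rw [Finset.sum_eq_single i]
      · simp [mul_comm]
      · intro j _ hj; simp [Pi.single_eq_of_ne (Ne.symm hj)]
      · simp
    · exact Finset.sum_congr rfl fun j _ => by ring

variable (D : ι → Derivation k B B) (hD : ∀ i j, g (D i (x j)) = if i = j then 1 else 0)

include hx hD in
/-- Homogeneous forms of degree `n` are independent modulo `m ^ (n + 1)`. -/
theorem indep : ∀ n : ℕ, (∀ j, 1 ≤ j → j ≤ n → (j : k) ≠ 0) → ∀ P : MvPolynomial ι k, P.IsHomogeneous n →
    MvPolynomial.aeval x P ∈ m ^ (n + 1) → P = 0 := by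
  intro n
  induction n with
  | zero =>
    intro _ P hP h
    obtain ⟨c, rfl⟩ : ∃ c, P = MvPolynomial.C c :=
      ⟨_, MvPolynomial.totalDegree_eq_zero_iff_eq_C.1 ((MvPolynomial.totalDegree_zero_iff_isHomogeneous _).2 hP)⟩
    rw [zero_add, pow_one, MvPolynomial.aeval_C, RingHom.mem_ker, AlgHom.commutes] at h
    simp at h
    simp [h]
  | succ n ih =>
    intro hj P hP h
    have hz : ∀ i, MvPolynomial.pderiv i P = 0 := by
      intro i
      refine ih (fun j h1 h2 => hj j h1 (by omega)) _ hP.pderiv ?_
      have h1 := deriv_pow (D i) m (n + 1) _ h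
      rw [deriv_aeval] at h1
      have h2 : ∑ j, MvPolynomial.aeval x (MvPolynomial.pderiv j P) * (D i (x j) - if i = j then 1 else 0)
          ∈ m ^ (n + 1) := by
        refine Submodule.sum_mem _ fun j _ => ?_
        rw [pow_succ]
        refine Ideal.mul_mem_mul (aeval_mem g x hx n _ hP.pderiv) ?_
        rw [RingHom.mem_ker, map_sub, hD]
        split <;> simp
      have h3 := sub_mem h1 h2
      rw [← Finset.sum_sub_distrib] at h3
      simpa [mul_sub] using h3
    have := hP.sum_X_mul_pderiv
    simp only [hz, mul_zero, Finset.sum_const_zero] at this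
    rw [← Nat.cast_smul_eq_nsmul k] at this
    exact (smul_eq_zero.1 this.symm).resolve_left (hj _ (by omega) le_rfl)

include hx in
/-- Every element of `m ^ n` is congruent to a form of degree `n`. -/
theorem exists_form (hspan : ∀ a ∈ m, ∃ c : ι → k, a - ∑ i, c i • x i ∈ m ^ 2) :
    ∀ n : ℕ, ∀ a ∈ m ^ n, ∃ P : MvPolynomial ι k, P.IsHomogeneous n ∧ a - MvPolynomial.aeval x P ∈ m ^ (n + 1) := by
  intro n
  induction n with
  | zero =>
    intro a _
    refine ⟨MvPolynomial.C (g a), MvPolynomial.isHomogeneous_C _ _, ?_⟩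
    rw [zero_add, pow_one, RingHom.mem_ker]
    simp
  | succ n ih =>
    intro a ha
    rw [pow_succ] at ha
    induction ha using Submodule.mul_induction_on' with
    | mem_mul_mem p hp r hr =>
      obtain ⟨P, hP, hpP⟩ := ih p hp
      obtain ⟨c, hc⟩ := hspan r hr
      let l : MvPolynomial ι k := ∑ i, MvPolynomial.C (c i) * MvPolynomial.X i
      have hlh : l.IsHomogeneous 1 := MvPolynomial.IsHomogeneous.sum _ _ _ fun i _ => by
        simpa using (MvPolynomial.isHomogeneous_C _ (c i)).mul (MvPolynomial.isHomogeneous_X k i)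
      have hl : MvPolynomial.aeval x l = ∑ i, c i • x i := by
        simp [l, Algebra.smul_def]
      refine ⟨P * l, hP.mul hlh, ?_⟩
      rw [map_mul, hl, show p * r - MvPolynomial.aeval x P * ∑ i, c i • x i =
        (p - MvPolynomial.aeval x P) * r + MvPolynomial.aeval x P * (r - ∑ i, c i • x i) by ring]
      refine add_mem ?_ ?_
      · rw [pow_succ m (n + 1)]; exact Ideal.mul_mem_mul hpP hr
      · rw [show n + 1 + 1 = n + 2 by omega, pow_add]; exact Ideal.mul_mem_mul (aeval_mem g x hx n P hP) hc
    | add p _ r _ hp hr =>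
      obtain ⟨P, hP, hpP⟩ := hp
      obtain ⟨P', hP', hrP⟩ := hr
      refine ⟨P + P', hP.add hP', ?_⟩
      rw [map_add, add_sub_add_comm]
      exact add_mem hpP hrP

include hx hD in
/-- A nilpotent element lies in all powers of `m` (characteristic zero). -/
theorem nilpotent_mem_pow [CharZero k] (hspan : ∀ a ∈ m, ∃ c : ι → k, a - ∑ i, c i • x i ∈ m ^ 2)
    {a : B} (ha : IsNilpotent a) : ∀ n, a ∈ m ^ n := by
  obtain ⟨r, hr⟩ := ha
  intro n
  induction n with
  | zero => rw [pow_zero, Ideal.one_eq_top]; trivial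
  | succ n ih =>
    obtain ⟨P, hP, hPa⟩ := exists_form g x hx hspan n a ih
    have key : ∀ j, a ^ j - MvPolynomial.aeval x P ^ j ∈ m ^ (n * j + 1) := by
      intro j
      induction j with
      | zero => simp
      | succ j hj =>
        rw [show a ^ (j + 1) - MvPolynomial.aeval x P ^ (j + 1) =
          (a ^ j - MvPolynomial.aeval x P ^ j) * a + MvPolynomial.aeval x P ^ j * (a - MvPolynomial.aeval x P) by ring]
        refine add_mem ?_ ?_
        · rw [show n * (j + 1) + 1 = (n * j + 1) + n by ring, pow_add]; exact Ideal.mul_mem_mul hj ih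
        · rw [show n * (j + 1) + 1 = n * j + (n + 1) by ring, pow_add]
          refine Ideal.mul_mem_mul ?_ hPa
          rw [pow_mul]
          exact Ideal.pow_mem_pow (aeval_mem g x hx n P hP) j
    have h0 : P ^ r = 0 := by
      refine indep g x hx D hD (n * r) (fun j h1 _ => Nat.cast_ne_zero.2 (by omega)) _ (hP.pow r) ?_
      rw [map_pow]
      have := key r
      rw [hr, zero_sub, neg_mem_iff] at this
      exact this
    have hP0 : P = 0 := eq_zero_of_pow_eq_zero h0
    simpa [hP0] using hPa

end Groth.Agent.HopfRep.GrDeriv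

namespace Groth.Agent.HopfRep.GrDeriv

variable {k : Type u} [Field k] {B : Type v} [CommRing B] [Algebra k B]

/-- A basis of the cotangent space at a rational point, with coordinate point derivations. -/
theorem exists_cotangent_coords [IsNoetherianRing B] (g : B →ₐ[k] k) :
    ∃ (r : ℕ) (x : Fin r → B) (ψ : Fin r → B →ₗ[k] k), r = Module.finrank k (RingHom.ker g).Cotangent ∧
      (∀ i, g (x i) = 0) ∧ (∀ i a b, ψ i (a * b) = g a * ψ i b + g b * ψ i a) ∧
      (∀ i j, ψ i (x j) = if i = j then 1 else 0) ∧
      ∀ a ∈ RingHom.ker g, ∃ c : Fin r → k, a - ∑ i, c i • x i ∈ RingHom.ker g ^ 2 := by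
  let I := RingHom.ker g
  have hsm : ∀ (a : B) (t : I.Cotangent), a • t = g a • t := by
    intro a t
    obtain ⟨t, rfl⟩ := I.toCotangent_surjective t
    rw [← algebraMap_smul B (g a), ← map_smul, ← map_smul, Ideal.toCotangent_eq]
    show a * (t : B) - algebraMap k B (g a) * t ∈ I ^ 2
    rw [← sub_mul, pow_two]
    refine Ideal.mul_mem_mul ?_ t.2
    simp [I]
  have : Module.Finite k I.Cotangent := by
    have : Module.Finite B I.Cotangent := Module.Finite.of_surjective I.toCotangent I.toCotangent_surjective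
    obtain ⟨s, hs⟩ := this.fg_top
    refine ⟨⟨s, eq_top_iff.2 fun t _ => ?_⟩⟩
    have ht : t ∈ Submodule.span B (s : Set I.Cotangent) := hs ▸ Submodule.mem_top
    induction ht using Submodule.span_induction with
    | mem t ht => exact Submodule.subset_span ht
    | zero => exact zero_mem _
    | add p q _ _ hp hq => exact add_mem (hp trivial) (hq trivial)
    | smul a p _ hp => rw [hsm]; exact Submodule.smul_mem _ _ (hp trivial)
  let b := Module.finBasis k I.Cotangent
  let pr : B →ₗ[k] I := LinearMap.codRestrict (I.restrictScalars k)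
    (LinearMap.id - Algebra.linearMap k B ∘ₗ g.toLinearMap) (fun a => show g _ = 0 by simp)
  let δ : B →ₗ[k] I.Cotangent := (I.toCotangent.restrictScalars k) ∘ₗ pr
  have hδ : ∀ a b, δ (a * b) = g a • δ b + g b • δ a := by
    intro a c
    show I.toCotangent (pr (a * c)) = g a • I.toCotangent (pr c) + g c • I.toCotangent (pr a)
    rw [← algebraMap_smul B (g a), ← algebraMap_smul B (g c), ← map_smul I.toCotangent, ← map_smul I.toCotangent, ← map_add,
      Ideal.toCotangent_eq]
    show a * c - algebraMap k B (g (a * c)) - (algebraMap k B (g a) * (c - algebraMap k B (g c)) +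
      algebraMap k B (g c) * (a - algebraMap k B (g a))) ∈ I ^ 2
    rw [map_mul, map_mul, show a * c - algebraMap k B (g a) * algebraMap k B (g c) -
      (algebraMap k B (g a) * (c - algebraMap k B (g c)) + algebraMap k B (g c) * (a - algebraMap k B (g a))) =
      (a - algebraMap k B (g a)) * (c - algebraMap k B (g c)) by ring, pow_two]
    exact Ideal.mul_mem_mul (show g _ = 0 by simp) (show g _ = 0 by simp)
  choose x hxI using fun i => I.toCotangent_surjective (b i)
  have hprx : ∀ t : I, δ (t : B) = I.toCotangent t := by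
    intro t
    show I.toCotangent (pr t) = _
    congr 1
    apply Subtype.ext
    show (t : B) - algebraMap k B (g t) = t
    rw [show g (t : B) = 0 from t.2, map_zero, sub_zero]
  refine ⟨_, fun i => (x i : B), fun i => b.coord i ∘ₗ δ, rfl, fun i => (x i).2, fun i a c => ?_, fun i j => ?_,
    fun a ha => ?_⟩
  · simp [hδ]
  · simp [hprx, hxI, Finsupp.single_apply, eq_comm]
  · refine ⟨fun i => b.repr (δ a) i, ?_⟩
    have h := b.sum_repr (δ a)
    simp only [← hxI, hprx ⟨a, ha⟩] at h
    have h2 : I.toCotangent (∑ i, (b.repr (δ a) i) • x i) = I.toCotangent ⟨a, ha⟩ := by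
      rw [map_sum]
      refine Eq.trans (Finset.sum_congr rfl fun i _ => ?_) h
      rw [← algebraMap_smul B, map_smul, algebraMap_smul, hprx ⟨a, ha⟩]
    have h3 := (Ideal.toCotangent_eq I).1 h2.symm
    simpa using h3

/-- Characteristic zero: if point derivations extend to derivations at every point, the algebra is reduced. -/
theorem isReduced_of_lifts [CharZero k] [IsNoetherianRing B]
    (hpt : ∀ M : Ideal B, M.IsMaximal → ∃ g : B →ₐ[k] k, RingHom.ker g = M)
    (hlift : ∀ (g : B →ₐ[k] k) (ψ : B →ₗ[k] k), (∀ a b, ψ (a * b) = g a * ψ b + g b * ψ a) →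
      ∃ D : Derivation k B B, ∀ b, g (D b) = ψ b) : IsReduced B := by
  refine ⟨fun a ha => ?_⟩
  by_contra hne
  obtain ⟨M, hM, hle⟩ := Ideal.exists_le_maximal (Submodule.annihilator (Submodule.span B {a})) (by
    rw [Ne, Submodule.annihilator_eq_top_iff, Submodule.span_singleton_eq_bot]
    exact hne)
  obtain ⟨g, rfl⟩ := hpt M hM
  obtain ⟨r, x, ψ, -, hx, hψ, hψx, hspan⟩ := exists_cotangent_coords g
  choose D hD using fun i => hlift g (ψ i) (hψ i)
  have hpow := nilpotent_mem_pow g x hx D (fun i j => by rw [hD, hψx]) hspan ha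
  have hinf : a ∈ (⨅ n : ℕ, RingHom.ker g ^ n • (⊤ : Submodule B B)) :=
    Submodule.mem_iInf _ |>.2 fun n => by simpa using hpow n
  obtain ⟨⟨r, hr⟩, hra⟩ := (Ideal.mem_iInf_smul_pow_eq_bot_iff _ a).1 hinf
  have : (1 - r) ∈ Submodule.annihilator (Submodule.span B {a}) := by
    rw [Submodule.mem_annihilator_span_singleton, sub_smul, one_smul]
    exact sub_eq_zero.2 hra.symm
  have h1 := hle this
  rw [RingHom.mem_ker, map_sub, map_one, RingHom.mem_ker.1 hr, sub_zero] at h1
  exact one_ne_zero h1

end Groth.Agent.HopfRep.GrDeriv
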