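import Groth.Agent.HopfRep.GrDim

universe u v w

open TensorProduct WithConv
open scoped Coalgebra

noncomputable section

namespace Groth.Agent.HopfRep.Order

open Groth.Agent.HopfRep.PrimGen

section descend

variable {R : Type u} [CommRing R] {A : Type v} [CommRing A] [HopfAlgebra R A]
variable {S : Type w} [CommRing S] [Algebra R S]

/-- Restriction of an `S`-algebra map on `S ⊗ A` to `A`. -/
def res {C : Type*} [CommRing C] [Algebra S C] [Algebra R C] [IsScalarTower R S C]
    (F : WithConv ((S ⊗[R] A) →ₐ[S] C)) : WithConv (A →ₐ[R] C) :=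
  toConv ((F.ofConv.restrictScalars R).comp Algebra.TensorProduct.includeRight)

theorem res_one {C : Type*} [CommRing C] [Algebra S C] [Algebra R C] [IsScalarTower R S C] :
    res (R := R) (A := A) (1 : WithConv ((S ⊗[R] A) →ₐ[S] C)) = 1 := by
  apply WithConv.ext
  apply AlgHom.ext
  intro a
  simp [res, AlgHom.convOne_def, ← Algebra.algebraMap_eq_smul_one]

theorem res_mul {C : Type*} [CommRing C] [Algebra S C] [Algebra R C] [IsScalarTower R S C]
    (F G : WithConv ((S ⊗[R] A) →ₐ[S] C)) : res (R := R) (F * G) = res F * res G := by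
  apply WithConv.ext
  apply AlgHom.ext
  intro a
  simp only [res, AlgHom.convMul_def, AlgHom.comp_apply, AlgHom.restrictScalars_apply,
    Algebra.TensorProduct.includeRight_apply, Bialgebra.comulAlgHom_apply]
  rw [← (ℛ R a).eq]
  simp [← (ℛ R a).eq, TensorProduct.tmul_sum, map_sum]

theorem res_pow {C : Type*} [CommRing C] [Algebra S C] [Algebra R C] [IsScalarTower R S C]
    (F : WithConv ((S ⊗[R] A) →ₐ[S] C)) (m : ℕ) : res (R := R) (F ^ m) = res F ^ m := by
  induction m with
  | zero => rw [pow_zero, pow_zero, res_one]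
  | succ m ih => rw [pow_succ, pow_succ, res_mul, ih]

theorem comp_pow {B B' : Type*} [CommRing B] [Algebra R B] [CommRing B'] [Algebra R B'] (h : B →ₐ[R] B')
    (f : WithConv (A →ₐ[R] B)) (m : ℕ) :
    toConv (h.comp (f ^ m).ofConv) = toConv (h.comp f.ofConv) ^ m := by
  induction m with
  | zero =>
    rw [pow_zero, pow_zero]
    apply WithConv.ext
    apply AlgHom.ext
    intro a
    simp [AlgHom.convOne_def]
  | succ m ih =>
    rw [pow_succ, pow_succ, ← ih, AlgHom.comp_convMul_distrib]

/-- The power map and base change. -/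
theorem tmul_pow (m : ℕ) (a : A) :
    ((toConv (AlgHom.id S (S ⊗[R] A))) ^ m).ofConv ((1 : S) ⊗ₜ[R] a) =
      (1 : S) ⊗ₜ[R] ((toConv (AlgHom.id R A)) ^ m).ofConv a := by
  have h1 := res_pow (R := R) (A := A) (toConv (AlgHom.id S (S ⊗[R] A))) m
  have h2 := comp_pow (R := R) (A := A) (Algebra.TensorProduct.includeRight : A →ₐ[R] S ⊗[R] A)
    (toConv (AlgHom.id R A)) m
  have h3 : res (toConv (AlgHom.id S (S ⊗[R] A))) = toConv ((Algebra.TensorProduct.includeRight : A →ₐ[R] S ⊗[R] A).comp
      (toConv (AlgHom.id R A)).ofConv) := by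
    apply WithConv.ext
    apply AlgHom.ext
    intro a
    simp [res]
  rw [h3, ← h2] at h1
  exact DFunLike.congr_fun (congrArg WithConv.ofConv h1) a

/-- If the base change is killed by `m`, the defect is killed by base change. -/
theorem tmul_defect (m : ℕ) (h : (toConv (AlgHom.id S (S ⊗[R] A))) ^ m = 1) (a : A) :
    (1 : S) ⊗ₜ[R] (((toConv (AlgHom.id R A)) ^ m).ofConv a - algebraMap R A (Coalgebra.counit a)) = 0 := by
  rw [TensorProduct.tmul_sub, ← tmul_pow (S := S), h, sub_eq_zero]
  simp [AlgHom.convOne_def, Algebra.algebraMap_eq_smul_one, Algebra.TensorProduct.one_def,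
    TensorProduct.smul_tmul', TensorProduct.tmul_smul]

theorem eq_one_of_defect (m : ℕ)
    (h : ∀ a : A, ((toConv (AlgHom.id R A)) ^ m).ofConv a - algebraMap R A (Coalgebra.counit a) = 0) :
    (toConv (AlgHom.id R A)) ^ m = 1 := by
  apply WithConv.ext
  apply AlgHom.ext
  intro a
  rw [sub_eq_zero.1 (h a)]
  rfl

end descend

section translation

variable {K : Type u} [CommRing K] {A : Type v} [CommRing A] [HopfAlgebra K A]

/-- A point as an endomorphism. -/
def cst (g : WithConv (A →ₐ[K] K)) : WithConv (A →ₐ[K] A) := toConv ((Algebra.ofId K A).comp g.ofConv)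

/-- Translation by a point. -/
def tr (g : WithConv (A →ₐ[K] K)) : A →ₐ[K] A := (cst g * toConv (AlgHom.id K A)).ofConv

theorem cst_one : cst (1 : WithConv (A →ₐ[K] K)) = 1 := by
  apply WithConv.ext
  apply AlgHom.ext
  intro a
  simp [cst, AlgHom.convOne_def]

theorem cst_mul (g h : WithConv (A →ₐ[K] K)) : cst (g * h) = cst g * cst h := by
  apply WithConv.ofConv_injective
  simp only [cst, AlgHom.comp_convMul_distrib]

theorem tr_one : tr (1 : WithConv (A →ₐ[K] K)) = AlgHom.id K A := by
  rw [tr, cst_one, one_mul]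

theorem tr_comp (g h : WithConv (A →ₐ[K] K)) : (tr g).comp (tr h) = tr (h * g) := by
  show (tr g).comp (cst h * toConv (AlgHom.id K A)).ofConv = _
  rw [AlgHom.comp_convMul_distrib]
  have e1 : toConv ((tr g).comp (cst h).ofConv) = cst h := by
    apply WithConv.ext
    apply AlgHom.ext
    intro a
    simp [cst]
  have e2 : toConv ((tr g).comp (toConv (AlgHom.id K A)).ofConv) = cst g * toConv (AlgHom.id K A) := by
    simp [tr]
  rw [e1, e2, ← mul_assoc, ← cst_mul]
  rfl

theorem counit_tr (g : WithConv (A →ₐ[K] K)) : (Bialgebra.counitAlgHom K A).comp (tr g) = g.ofConv := by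
  show (Bialgebra.counitAlgHom K A).comp (cst g * toConv (AlgHom.id K A)).ofConv = _
  rw [AlgHom.comp_convMul_distrib]
  have e1 : toConv ((Bialgebra.counitAlgHom K A).comp (cst g).ofConv) = g := by
    apply WithConv.ext
    apply AlgHom.ext
    intro a
    simp [cst]
  have e2 : toConv ((Bialgebra.counitAlgHom K A).comp (toConv (AlgHom.id K A)).ofConv) =
      (1 : WithConv (A →ₐ[K] K)) := by
    apply WithConv.ext
    apply AlgHom.ext
    intro a
    simp [AlgHom.convOne_def]
  rw [e1, e2, mul_one]

/-- Translation as an automorphism. -/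
def trEquiv (g : WithConv (A →ₐ[K] K)) : A ≃ₐ[K] A :=
  AlgEquiv.ofAlgHom (tr g) (tr g⁻¹) (by rw [tr_comp, inv_mul_cancel, tr_one]) (by rw [tr_comp, mul_inv_cancel, tr_one])

end translation

section field

variable {K : Type u} [Field K] {A : Type v} [CommRing A] [HopfAlgebra K A] [Module.Finite K A]

theorem map_aug (g : WithConv (A →ₐ[K] K)) :
    (aug K A).map ((trEquiv g).symm.toAlgHom) = RingHom.ker g.ofConv.toRingHom := by
  ext a
  rw [Ideal.mem_map_iff_of_surjective ((trEquiv g).symm.toAlgHom) (trEquiv g).symm.surjective]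
  constructor
  · rintro ⟨b, hb, rfl⟩
    show g.ofConv ((trEquiv g).symm b) = 0
    rw [← counit_tr g]
    show Coalgebra.counit (R := K) (trEquiv g ((trEquiv g).symm b)) = 0
    rw [AlgEquiv.apply_symm_apply]
    exact hb
  · intro ha
    refine ⟨trEquiv g a, RingHom.mem_ker.2 ?_, (trEquiv g).symm_apply_apply a⟩
    have : g.ofConv a = 0 := ha
    rw [← counit_tr g] at this
    exact this

variable [IsAlgClosed K]

theorem mem_nilradical_of_points {a : A} (h : ∀ g : A →ₐ[K] K, g a = 0) : a ∈ nilradical A := by
  refine mem_nilradical.2 (nilpotent_iff_mem_prime.2 fun P hP => ?_)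
  have : P.IsMaximal := by
    have : IsArtinianRing A := IsArtinianRing.of_finite K A
    exact inferInstance
  let e := AlgEquiv.ofBijective (Algebra.ofId K (A ⧸ P))
    (IsAlgClosed.algebraMap_bijective_of_isIntegral (k := K) (K := A ⧸ P))
  have := h (e.symm.toAlgHom.comp (Ideal.Quotient.mkₐ K P))
  refine Ideal.Quotient.eq_zero_iff_mem.1 ?_
  have h2 := congrArg e this
  rw [map_zero] at h2
  exact (e.apply_symm_apply (Ideal.Quotient.mk P a)).symm.trans h2

theorem pow_finrank_eq_one_of_isAlgClosed :
    (toConv (AlgHom.id K A)) ^ Module.finrank K A = 1 := by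
  classical
  have hArt : IsArtinianRing A := IsArtinianRing.of_finite K A
  let q := ringExpChar K
  obtain ⟨N, s, hN, hdim, hqs⟩ := exists_finrank_quotient_pow (k := K) (A := A) q
  let m := aug K A
  have hstab : ∀ n, N ≤ n → m ^ n = m ^ N := by
    intro n hn
    induction n, hn using Nat.le_induction with
    | base => rfl
    | succ n _ ih => rw [pow_succ, ih, ← pow_succ, ← hN]
  have : Finite (WithConv (A →ₐ[K] K)) :=
    Finite.of_injective (WithConv.ofConv (A := A →ₐ[K] K)) WithConv.ofConv_injective
  have := Fintype.ofFinite (WithConv (A →ₐ[K] K))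
  let I : WithConv (A →ₐ[K] K) → Ideal A := fun g => RingHom.ker g.ofConv.toRingHom
  obtain ⟨M, hM⟩ := IsNoetherianRing.isNilpotent_nilradical A
  have hcop : Pairwise fun g h => IsCoprime (I g) (I h) := by
    intro g h hgh
    have hmax : ∀ g, (I g).IsMaximal := fun g =>
      RingHom.ker_isMaximal_of_surjective _ fun c => ⟨algebraMap K A c, g.ofConv.commutes c⟩
    refine Ideal.isCoprime_iff_sup_eq.2 ((hmax g).coprime_of_ne (hmax h) fun heq => hgh ?_)
    apply WithConv.ext
    apply AlgHom.ext
    intro a
    have h1 : a - algebraMap K A (g.ofConv a) ∈ I g := by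
      show g.ofConv _ = 0
      simp
    rw [heq] at h1
    have h2 : h.ofConv (a - algebraMap K A (g.ofConv a)) = 0 := h1
    rw [map_sub, AlgHom.commutes, sub_eq_zero] at h2
    exact h2.symm
  have hIpow : ∀ g n, N ≤ n → I g ^ n = I g ^ N := by
    intro g n hn
    show RingHom.ker g.ofConv.toRingHom ^ n = RingHom.ker g.ofConv.toRingHom ^ N
    rw [← map_aug g, ← Ideal.map_pow, ← Ideal.map_pow, hstab n hn]
  have hinf : (⨅ g, I g ^ N) = ⊥ := by
    refine le_bot_iff.1 ?_
    calc (⨅ g, I g ^ N) = ⨅ g, I g ^ (N + M) := iInf_congr fun g => (hIpow g _ (by omega)).symm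
      _ = ∏ g, I g ^ (N + M) := by
          rw [Ideal.prod_eq_iInf_of_pairwise_isCoprime (fun i _ j _ hij => (hcop hij).pow)]
          simp
      _ = (∏ g, I g) ^ (N + M) := Finset.prod_pow _ _ _
      _ ≤ nilradical A ^ (N + M) := Ideal.pow_right_mono ?_ _
      _ ≤ nilradical A ^ M := Ideal.pow_le_pow_right (by omega)
      _ = ⊥ := hM
    intro a ha
    refine mem_nilradical_of_points (K := K) fun g => ?_
    have : (∏ g, I g) ≤ I (toConv g) := Ideal.prod_le_inf.trans (Finset.inf_le (Finset.mem_univ _))
    exact this ha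
  have hquot : ∀ g, Module.finrank K (A ⧸ I g ^ N) = q ^ s := by
    intro g
    rw [← hdim]
    symm
    refine LinearEquiv.finrank_eq (Ideal.quotientEquivAlg (m ^ N) (I g ^ N) (trEquiv g).symm ?_).toLinearEquiv
    show RingHom.ker g.ofConv.toRingHom ^ N = _
    rw [← map_aug g, ← Ideal.map_pow]
    rfl
  have hn : Module.finrank K A = Fintype.card (WithConv (A →ₐ[K] K)) * q ^ s := by
    let φ : A →ₐ[K] ∀ g, A ⧸ I g ^ N := AlgHom.pi fun g => Ideal.Quotient.mkₐ K _
    have hb : Function.Bijective φ := by
      constructor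
      · refine (injective_iff_map_eq_zero φ).2 fun a ha => ?_
        have : a ∈ ⨅ g, I g ^ N := Submodule.mem_iInf _ |>.2 fun g => Ideal.Quotient.eq_zero_iff_mem.1 (congrFun ha g)
        rw [hinf] at this
        exact this
      · intro c
        obtain ⟨x, hx⟩ := Ideal.quotientInfToPiQuotient_surj (I := fun g => I g ^ N) (fun i j hij => (hcop hij).pow) c
        obtain ⟨a, rfl⟩ := Ideal.Quotient.mk_surjective x
        exact ⟨a, hx⟩
    rw [(AlgEquiv.ofBijective φ hb).toLinearEquiv.finrank_eq, Module.finrank_pi_fintype]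
    simp [hquot]
  let f := (toConv (AlgHom.id K A)) ^ Fintype.card (WithConv (A →ₐ[K] K))
  have hgf : ∀ g : A →ₐ[K] K, toConv (g.comp f.ofConv) = 1 := fun g => by
    rw [comp_pow g]
    exact pow_card_eq_one
  have hfnil : ∀ a ∈ m, f.ofConv a ∈ nilradical A := fun a ha => mem_nilradical_of_points (K := K) fun g => by
    have h := DFunLike.congr_fun (congrArg WithConv.ofConv (hgf g)) a
    simpa [AlgHom.convOne_def, show Coalgebra.counit (R := K) a = 0 from ha] using h
  have hfN : ∀ a ∈ m ^ N, f.ofConv a = 0 := fun a ha => by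
    rw [← hstab (N + M) (by omega)] at ha
    have h1 := Ideal.mem_map_of_mem f.ofConv ha
    rw [Ideal.map_pow] at h1
    have h2 : f.ofConv a ∈ nilradical A ^ M :=
      Ideal.pow_le_pow_right (by omega) (Ideal.pow_right_mono (Ideal.map_le_iff_le_comap.2 fun x hx => Ideal.mem_comap.2 (hfnil x hx)) _ h1)
    rw [hM] at h2
    exact h2
  let T : WithConv (A →ₗ[K] A) := toConv f.ofConv.toLinearMap
  let W := T - 1
  have hW : ∀ a, W.ofConv a ∈ Ideal.map f.ofConv m := by
    intro a
    have : W.ofConv a = f.ofConv (a - algebraMap K A (Coalgebra.counit a)) := by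
      rw [map_sub, AlgHom.commutes]
      rfl
    rw [this]
    exact Ideal.mem_map_of_mem _ (sub_counit_mem a)
  have hWpow : ∀ n a, (W ^ n).ofConv a ∈ Ideal.map f.ofConv m ^ n := by
    intro n
    induction n with
    | zero => intro a; simp
    | succ n ih =>
      intro a
      rw [pow_succ, pow_succ]
      show LinearMap.mul' K A (TensorProduct.map (W ^ n).ofConv W.ofConv (Coalgebra.comul a)) ∈ _
      rw [← (ℛ K a).eq, map_sum, map_sum]
      refine Submodule.sum_mem _ fun i _ => ?_
      rw [TensorProduct.map_tmul, LinearMap.mul'_apply]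
      exact Ideal.mul_mem_mul (ih _) (hW _)
  have hW0 : W ^ (q ^ s) = 0 := by
    apply WithConv.ext
    apply LinearMap.ext
    intro a
    have h := hWpow (q ^ s) a
    rw [← Ideal.map_pow, hqs] at h
    have : Ideal.map f.ofConv (m ^ N) ≤ (⊥ : Ideal A) :=
      Ideal.map_le_iff_le_comap.2 fun x hx => hfN x hx
    exact this h
  have hT : T ^ (q ^ s) = 1 := by
    have hTW : T = 1 + W := by simp [W]
    have hinj : Function.Injective (algebraMap K (WithConv (A →ₗ[K] A))) := by
      intro c d h
      have h2 := congrArg (fun F => Coalgebra.counit (R := K) (F.ofConv (1 : A))) h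
      simpa using h2
    have := expChar_of_injective_algebraMap hinj q
    rw [hTW, add_pow_expChar_pow_of_commute _ _ (Commute.one_left W), one_pow, hW0, add_zero]
  have : f ^ (q ^ s) = 1 := by
    apply WithConv.ofConv_injective
    apply AlgHom.toLinearMap_injective
    apply WithConv.toConv_injective
    rw [AlgHom.toLinearMap_convPow, AlgHom.toLinearMap_convOne]
    exact hT
  rw [hn, pow_mul]
  exact this

end field

section general

variable {k : Type u} [Field k] {A : Type v} [CommRing A] [HopfAlgebra k A] [Module.Finite k A]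

theorem pow_finrank_eq_one : (toConv (AlgHom.id k A)) ^ Module.finrank k A = 1 := by
  refine eq_one_of_defect _ fun a => ?_
  have h := tmul_defect (S := AlgebraicClosure k) (R := k) (A := A) (Module.finrank k A) (by
    conv_lhs => arg 2; rw [← Module.finrank_baseChange (R := AlgebraicClosure k)]
    exact pow_finrank_eq_one_of_isAlgClosed) a
  exact Algebra.TensorProduct.includeRight_injective (algebraMap k (AlgebraicClosure k)).injective
    (h.trans (TensorProduct.tmul_zero A 1).symm)

theorem finrank_eq_pow_of_isLocalRing [IsLocalRing A] : ∃ n, Module.finrank k A = ringExpChar k ^ n := by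
  have hArt : IsArtinianRing A := IsArtinianRing.of_finite k A
  obtain ⟨N, s, hN, hdim, -⟩ := exists_finrank_quotient_pow (k := k) (A := A) (ringExpChar k)
  obtain ⟨M, hM⟩ := IsArtinianRing.isNilpotent_jacobson_bot (R := A)
  have hle : aug k A ≤ Ideal.jacobson ⊥ := by
    rw [IsLocalRing.jacobson_eq_maximalIdeal ⊥ bot_ne_top]
    exact IsLocalRing.le_maximalIdeal fun h => by
      have : (1 : A) ∈ aug k A := by rw [h]; trivial
      simp [aug] at this
  have hstab : ∀ n, N ≤ n → aug k A ^ n = aug k A ^ N := by
    intro n hn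
    induction n, hn using Nat.le_induction with
    | base => rfl
    | succ n _ ih => rw [pow_succ, ih, ← pow_succ, ← hN]
  have h0 : aug k A ^ N = ⊥ := by
    rw [← hstab (N + M) (by omega)]
    exact le_bot_iff.1 ((Ideal.pow_right_mono hle _).trans ((Ideal.pow_le_pow_right (by omega)).trans hM.le))
  refine ⟨s, ?_⟩
  rw [← hdim, h0]
  exact (AlgEquiv.quotientBot k A).toLinearEquiv.finrank_eq.symm

end general

section reduced

variable {R : Type u} [CommRing R] {A : Type v} [CommRing A] [HopfAlgebra R A]
  [Module.Finite R A] [Module.Projective R A]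

theorem pow_eq_one_of_isReduced [IsReduced R] (n : ℕ)
    (hn : ∀ p : PrimeSpectrum R, Module.rankAtStalk (R := R) A p = n) :
    (toConv (AlgHom.id R A)) ^ n = 1 := by
  refine eq_one_of_defect _ fun a => ?_
  refine (Module.forall_dual_apply_eq_zero_iff R _).1 fun φ => ?_
  refine IsNilpotent.eq_zero (nilpotent_iff_mem_prime.2 fun P hP => ?_)
  have hrank : Module.finrank P.ResidueField (P.ResidueField ⊗[R] A) = n := by
    rw [← hn ⟨P, hP⟩, Module.rankAtStalk_eq]
  have h := tmul_defect (S := P.ResidueField) (R := R) (A := A) n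
    (hrank ▸ pow_finrank_eq_one) a
  generalize (toConv (AlgHom.id R A) ^ n).ofConv a - algebraMap R A (Coalgebra.counit a) = x at h ⊢
  have h2 := congrArg ((TensorProduct.rid R P.ResidueField).toLinearMap ∘ₗ φ.lTensor P.ResidueField) h
  simpa [Algebra.smul_def, Ideal.algebraMap_residueField_eq_zero] using h2

end reduced

section deligne

variable {R : Type u} [CommRing R] {A : Type v} [CommRing A] [HopfAlgebra R A] [Coalgebra.IsCocomm R A]

/-- Constants in the convolution algebra. -/
def iota : WithConv (A →ₗ[R] R) →+* WithConv (A →ₗ[R] A) where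
  toFun φ := toConv ((Algebra.ofId R A).toLinearMap ∘ₗ φ.ofConv)
  map_one' := by
    apply WithConv.ext
    apply LinearMap.ext
    intro a
    simp
  map_mul' φ ψ := by
    apply WithConv.ofConv_injective
    exact LinearMap.algHom_comp_convMul_distrib _ φ ψ
  map_zero' := by
    apply WithConv.ext
    apply LinearMap.ext
    intro a
    simp
  map_add' φ ψ := by
    apply WithConv.ext
    apply LinearMap.ext
    intro a
    simp

theorem deligne_point [Module.Free R A] [Module.Finite R A] (g : WithConv (A →ₐ[R] R)) :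
    g ^ Module.finrank R A = 1 := by
  classical
  rcases subsingleton_or_nontrivial R with hR | hR
  · apply WithConv.ext
    apply AlgHom.ext
    intro a
    exact Subsingleton.elim _ _
  let alg : Algebra (WithConv (A →ₗ[R] R)) (WithConv (A →ₗ[R] A)) := iota.toAlgebra
  let ι := Module.Free.ChooseBasisIndex R A
  let b : Module.Basis ι R A := Module.Free.chooseBasis R A
  have hc : ∀ (φ : WithConv (A →ₗ[R] R)) (e : A), iota φ * algebraMap A (WithConv (A →ₗ[R] A)) e =
      toConv ((LinearMap.toSpanSingleton R A e) ∘ₗ φ.ofConv) := by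
    intro φ e
    rw [mul_comm, ← Algebra.smul_def (r := e)]
    apply WithConv.ext
    apply LinearMap.ext
    intro a
    show e • algebraMap R A (φ.ofConv a) = φ.ofConv a • e
    rw [smul_eq_mul, mul_comm, Algebra.smul_def]
  have hs : ∀ (φ : WithConv (A →ₗ[R] R)) (u : WithConv (A →ₗ[R] A)), φ • u = iota φ * u :=
    fun φ u => rfl
  let e : WithConv (A →ₗ[R] A) ≃ₗ[WithConv (A →ₗ[R] R)] (ι → WithConv (A →ₗ[R] R)) :=
    LinearEquiv.symm
    { toFun := fun c => ∑ i, iota (c i) * algebraMap A (WithConv (A →ₗ[R] A)) (b i)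
      invFun := fun u i => toConv (b.coord i ∘ₗ u.ofConv)
      map_add' := fun c d => by simp [add_mul, Finset.sum_add_distrib]
      map_smul' := fun φ c => by
        simp [hs, Finset.mul_sum, mul_assoc]
      left_inv := fun c => by
        funext i
        apply WithConv.ext
        apply LinearMap.ext
        intro a
        simp [hc, map_sum, Finsupp.single_apply]
      right_inv := fun u => by
        apply WithConv.ext
        apply LinearMap.ext
        intro a
        simp [hc, b.sum_repr] }
  let bE : Module.Basis ι (WithConv (A →ₗ[R] R)) (WithConv (A →ₗ[R] A)) := Module.Basis.ofEquivFun e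
  let t : A →ₐ[R] A := tr g
  let tE : A ≃ₐ[R] A := trEquiv g
  let post : WithConv (A →ₗ[R] A) ≃ₐ[WithConv (A →ₗ[R] R)] WithConv (A →ₗ[R] A) :=
    { toFun := fun u => toConv (tE.toAlgHom.toLinearMap ∘ₗ u.ofConv)
      invFun := fun u => toConv (tE.symm.toAlgHom.toLinearMap ∘ₗ u.ofConv)
      left_inv := fun u => by
        apply WithConv.ext
        apply LinearMap.ext
        intro a
        simp
      right_inv := fun u => by
        apply WithConv.ext
        apply LinearMap.ext
        intro a
        simp
      map_mul' := fun u v => by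
        apply WithConv.ofConv_injective
        exact LinearMap.algHom_comp_convMul_distrib _ u v
      map_add' := fun u v => by
        apply WithConv.ext
        apply LinearMap.ext
        intro a
        simp
      commutes' := fun φ => by
        apply WithConv.ext
        apply LinearMap.ext
        intro a
        show tE (algebraMap R A (φ.ofConv a)) = algebraMap R A (φ.ofConv a)
        exact tE.commutes _ }
  let idE : WithConv (A →ₗ[R] A) := toConv LinearMap.id
  let gl : WithConv (A →ₗ[R] R) := toConv g.ofConv.toLinearMap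
  have hpost : post idE = iota gl * idE := by
    show toConv t.toLinearMap = _
    exact AlgHom.toLinearMap_convMul (toConv ((Algebra.ofId R A).comp g.ofConv)) (toConv (AlgHom.id R A))
  have hu : IsUnit (Algebra.norm (WithConv (A →ₗ[R] R)) idE) :=
    (IsUnit.of_mul_eq_one _ LinearMap.id_mul_antipode).map _
  have hN : Algebra.norm (WithConv (A →ₗ[R] R)) (post idE) = Algebra.norm (WithConv (A →ₗ[R] R)) idE :=
    Algebra.norm_eq_of_algEquiv post idE
  rw [hpost, map_mul, show iota gl = algebraMap (WithConv (A →ₗ[R] R)) (WithConv (A →ₗ[R] A)) gl from rfl,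
    Algebra.norm_algebraMap_of_basis bE, ← Module.finrank_eq_card_chooseBasisIndex] at hN
  have hgl : gl ^ Module.finrank R A = 1 := hu.mul_right_cancel (hN.trans (one_mul _).symm)
  apply WithConv.ofConv_injective
  apply AlgHom.toLinearMap_injective
  apply WithConv.toConv_injective
  rw [AlgHom.toLinearMap_convPow, AlgHom.toLinearMap_convOne]
  exact hgl

theorem deligne_free [Module.Free R A] [Module.Finite R A] :
    (toConv (AlgHom.id R A)) ^ Module.finrank R A = 1 := by
  rcases subsingleton_or_nontrivial A with hA | hA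
  · apply WithConv.ext
    apply AlgHom.ext
    intro a
    exact Subsingleton.elim _ _
  let g : WithConv ((A ⊗[R] A) →ₐ[A] A) :=
    toConv (Algebra.TensorProduct.lift (AlgHom.id A A) (AlgHom.id R A) fun _ _ => Commute.all _ _)
  have h : g ^ Module.finrank A (A ⊗[R] A) = 1 := deligne_point (R := A) (A := A ⊗[R] A) g
  have : Nontrivial R := RingHom.domain_nontrivial (algebraMap R A)
  rw [Module.finrank_baseChange] at h
  have h2 := res_pow (R := R) g (Module.finrank R A)
  rw [h, res_one] at h2
  have h3 : res (R := R) g = toConv (AlgHom.id R A) := by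
    apply WithConv.ext
    apply AlgHom.ext
    intro a
    simp [res, g]
  rw [h3] at h2
  exact h2.symm

theorem deligne [Module.Finite R A] [Module.Projective R A] (n : ℕ)
    (hn : ∀ p : PrimeSpectrum R, Module.rankAtStalk (R := R) A p = n) :
    (toConv (AlgHom.id R A)) ^ n = 1 := by
  refine eq_one_of_defect _ fun a => ?_
  refine (Module.forall_dual_apply_eq_zero_iff R _).1 fun φ => ?_
  refine eq_zero_of_localization _ fun P hP => ?_
  let S := Localization.AtPrime P
  have : Module.Free S (S ⊗[R] A) := Module.free_of_flat_of_isLocalRing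
  have hrank : Module.finrank S (S ⊗[R] A) = n := by
    rw [← hn ⟨P, hP.isPrime⟩]
    exact ((IsLocalizedModule.isBaseChange P.primeCompl S
      (LocalizedModule.mkLinearMap P.primeCompl A)).equiv).finrank_eq
  have h := tmul_defect (S := S) (R := R) (A := A) n (hrank ▸ deligne_free) a
  generalize (toConv (AlgHom.id R A) ^ n).ofConv a - algebraMap R A (Coalgebra.counit a) = x at h ⊢
  have h2 := congrArg ((TensorProduct.rid R S).toLinearMap ∘ₗ φ.lTensor S) h
  simpa [Algebra.smul_def, S] using h2

end deligne

end Groth.Agent.HopfRep.Order
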