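import Mathlib
import Groth.Agent.HopfRep.GrDeriv
import Groth.Agent.HopfRep.Order

/-!
Derivations on commutative Hopf algebras, Cartier's theorem and the graded ring at the identity.
-/

universe u v

open TensorProduct WithConv
open scoped Coalgebra

noncomputable section

namespace Groth.Agent.HopfRep.HopfReduced

open Groth.Agent.HopfRep.Order

variable {k : Type u} [Field k] {A : Type v} [CommRing A] [HopfAlgebra k A]

/-- Contraction of the comultiplication with a functional. -/
def rd (φ : A →ₗ[k] k) : A →ₗ[k] A :=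
  ((TensorProduct.rid k A).toLinearMap ∘ₗ φ.lTensor A) ∘ₗ Coalgebra.comul (R := k) (A := A)

theorem rd_repr (φ : A →ₗ[k] k) (a : A) :
    rd φ a = ∑ i ∈ (ℛ k a).index, φ ((ℛ k a).right i) • (ℛ k a).left i := by
  simp [rd, ← (ℛ k a).eq, map_sum]

theorem algHom_rd (g : A →ₐ[k] k) (φ : A →ₗ[k] k) (a : A) : g (rd φ a) = φ (tr (toConv g) a) := by
  simp only [rd_repr, tr, cst, AlgHom.convMul_apply, ← (ℛ k a).eq, map_sum, map_smul]
  refine Finset.sum_congr rfl fun i _ => ?_
  simp only [AlgHom.coe_comp, Function.comp_apply, Algebra.TensorProduct.lift_tmul]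
  simp
  rw [← Algebra.smul_def, map_smul, smul_eq_mul, mul_comm]

theorem rd_mul (φ : A →ₗ[k] k) (hφ : ∀ a b, φ (a * b) = Coalgebra.counit (R := k) a * φ b + Coalgebra.counit (R := k) b * φ a)
    (a b : A) : rd φ (a * b) = a • rd φ b + b • rd φ a := by
  have hε : ∀ a : A, ((TensorProduct.rid k A).toLinearMap ∘ₗ (Coalgebra.counit (R := k) (A := A)).lTensor A)
      (Coalgebra.comul a) = a := fun a => by simp
  have key : ∀ z w : A ⊗[k] A,
      ((TensorProduct.rid k A).toLinearMap ∘ₗ φ.lTensor A) (z * w) =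
        ((TensorProduct.rid k A).toLinearMap ∘ₗ (Coalgebra.counit (R := k) (A := A)).lTensor A) z *
          ((TensorProduct.rid k A).toLinearMap ∘ₗ φ.lTensor A) w +
        ((TensorProduct.rid k A).toLinearMap ∘ₗ (Coalgebra.counit (R := k) (A := A)).lTensor A) w *
          ((TensorProduct.rid k A).toLinearMap ∘ₗ φ.lTensor A) z := by
    intro z w
    induction z with
    | zero => simp
    | add p q hp hq => simp only [add_mul, map_add, hp, hq, mul_add]; abel
    | tmul p q =>
      induction w with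
      | zero => simp
      | add c d hc hd => simp only [mul_add, map_add, hc, hd, add_mul]; abel
      | tmul c d =>
        simp only [Algebra.TensorProduct.tmul_mul_tmul, LinearMap.comp_apply, LinearMap.lTensor_tmul,
          LinearEquiv.coe_coe, TensorProduct.rid_tmul, hφ]
        simp only [Algebra.smul_def, map_add, map_mul]
        ring
  show ((TensorProduct.rid k A).toLinearMap ∘ₗ φ.lTensor A) (Coalgebra.comul (a * b)) = _
  rw [Bialgebra.comul_mul, key, hε, hε]
  rfl

/-- Point derivations extend to invariant derivations. -/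
theorem exists_deriv (g : A →ₐ[k] k) (ψ : A →ₗ[k] k) (hψ : ∀ a b, ψ (a * b) = g a * ψ b + g b * ψ a) :
    ∃ D : Derivation k A A, ∀ b, g (D b) = ψ b := by
  let φ : A →ₗ[k] k := ψ ∘ₗ (tr (toConv g)⁻¹).toLinearMap
  have hg : g.comp (tr (toConv g)⁻¹) = Bialgebra.counitAlgHom k A := by
    rw [show g.comp (tr (toConv g)⁻¹) = ((Bialgebra.counitAlgHom k A).comp (tr (toConv g))).comp (tr (toConv g)⁻¹) by
      rw [counit_tr]]
    rw [AlgHom.comp_assoc, tr_comp, inv_mul_cancel, tr_one, AlgHom.comp_id]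
  have hφ : ∀ a b, φ (a * b) = Coalgebra.counit (R := k) a * φ b + Coalgebra.counit (R := k) b * φ a := by
    intro a b
    have h1 : ∀ a, g (tr (toConv g)⁻¹ a) = Coalgebra.counit (R := k) a := fun a => DFunLike.congr_fun hg a
    simp [φ, hψ, h1]
  refine ⟨Derivation.mk' (rd φ) (rd_mul φ hφ), fun b => ?_⟩
  show g (rd φ b) = ψ b
  rw [algHom_rd]
  show ψ ((tr (toConv g)⁻¹).comp (tr (toConv g)) b) = ψ b
  rw [tr_comp, mul_inv_cancel, tr_one]
  rfl

theorem isReduced_of_isAlgClosed [IsAlgClosed k] [CharZero k] [Algebra.FiniteType k A] : IsReduced A := by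
  have : IsNoetherianRing A := Algebra.FiniteType.isNoetherianRing k A
  refine GrDeriv.isReduced_of_lifts (k := k) (fun M hM => ?_) exists_deriv
  have : Module.Finite k (A ⧸ M) := by
    let : Field (A ⧸ M) := Ideal.Quotient.field M
    exact finite_of_finite_type_of_isJacobsonRing k (A ⧸ M)
  let e := AlgEquiv.ofBijective (Algebra.ofId k (A ⧸ M))
    (IsAlgClosed.algebraMap_bijective_of_isIntegral (k := k) (K := A ⧸ M))
  refine ⟨e.symm.toAlgHom.comp (Ideal.Quotient.mkₐ k M), ?_⟩
  ext a
  rw [RingHom.mem_ker]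
  show e.symm (Ideal.Quotient.mk M a) = 0 ↔ _
  rw [EmbeddingLike.map_eq_zero_iff, Ideal.Quotient.eq_zero_iff_mem]

theorem isReduced [CharZero k] [Algebra.FiniteType k A] : IsReduced A := by
  have : IsReduced (AlgebraicClosure k ⊗[k] A) := isReduced_of_isAlgClosed (k := AlgebraicClosure k)
  exact isReduced_of_injective (Algebra.TensorProduct.includeRight : A →ₐ[k] AlgebraicClosure k ⊗[k] A)
    (Algebra.TensorProduct.includeRight_injective (algebraMap k (AlgebraicClosure k)).injective)

theorem hopfIdeal_eq_of_points [CharZero k] [Algebra.FiniteType k A] (I I' : Ideal A) [I.IsHopfIdeal k]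
    [I'.IsHopfIdeal k] (h : ∀ g : A →ₐ[k] AlgebraicClosure k, I ≤ RingHom.ker g ↔ I' ≤ RingHom.ker g) : I = I' := by
  have key : ∀ J : Ideal A, J.IsHopfIdeal k →
      J = sInf {P | ∃ g : A →ₐ[k] AlgebraicClosure k, J ≤ RingHom.ker g ∧ P = RingHom.ker g} := by
    intro J hJ
    have : IsReduced (A ⧸ J) := isReduced (k := k)
    refine le_antisymm (le_sInf ?_) ?_
    · rintro P ⟨g, hg, rfl⟩
      exact hg
    · have hrad : J.IsRadical := (Ideal.isRadical_iff_quotient_reduced J).2 this
      have hJac : J.jacobson = J := by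
        have : IsJacobsonRing A := isJacobsonRing_of_finiteType (A := k)
        exact IsJacobsonRing.out ‹_› hrad
      conv_rhs => rw [← hJac]
      refine le_sInf ?_
      rintro M ⟨hJM, hM⟩
      let : Field (A ⧸ M) := Ideal.Quotient.field M
      have : Module.Finite k (A ⧸ M) := finite_of_finite_type_of_isJacobsonRing k (A ⧸ M)
      let e : A ⧸ M →ₐ[k] AlgebraicClosure k := IsAlgClosed.lift
      let g := e.comp (Ideal.Quotient.mkₐ k M)
      have hker : RingHom.ker g = M := by
        ext a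
        rw [RingHom.mem_ker]
        show e (Ideal.Quotient.mk M a) = 0 ↔ _
        rw [map_eq_zero, Ideal.Quotient.eq_zero_iff_mem]
      exact sInf_le ⟨g, hker.symm ▸ hJM, hker.symm⟩
  rw [key I inferInstance, key I' inferInstance]
  simp only [h]

/-- Degree `n` forms in `r` variables. -/
theorem finrank_homogeneous (r n : ℕ) :
    Module.finrank k (MvPolynomial.homogeneousSubmodule (Fin r) k n) = Nat.choose (r + n - 1) n := by
  classical
  let e : {d : Fin r →₀ ℕ | d.degree = n} ≃ Sym (Fin r) n :=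
    (Equiv.subtypeEquiv Finsupp.equivFunOnFinite (fun d => by
      simp [Finsupp.degree_eq_sum])).trans (Sym.equivNatSumOfFintype (Fin r) n).symm
  rw [MvPolynomial.homogeneousSubmodule_eq_finsupp_supported]
  have : Fintype {d : Fin r →₀ ℕ | d.degree = n} := Fintype.ofEquiv _ e.symm
  rw [(AddMonoidAlgebra.supportedEquivFinsupp _).finrank_eq, Module.finrank_finsupp_self, Fintype.card_congr e,
    Sym.card_sym_eq_choose, Fintype.card_fin]

theorem finrank_quotient_pow_succ [Algebra.FiniteType k A] (n : ℕ) (hn : (n.factorial : k) ≠ 0) :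
    Module.finrank k (A ⧸ RingHom.ker (Bialgebra.counitAlgHom k A) ^ (n + 1)) =
    Module.finrank k (A ⧸ RingHom.ker (Bialgebra.counitAlgHom k A) ^ n) +
    Nat.choose (Module.finrank k (RingHom.ker (Bialgebra.counitAlgHom k A)).Cotangent + n - 1) n := by
  classical
  have : IsNoetherianRing A := Algebra.FiniteType.isNoetherianRing k A
  let g := Bialgebra.counitAlgHom k A
  let I := RingHom.ker g
  obtain ⟨r, x, ψ, hr, hx, hψ, hψx, hspan⟩ := GrDeriv.exists_cotangent_coords g
  choose D hD using fun i => exists_deriv g (ψ i) (hψ i)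
  rw [← hr]
  let H := MvPolynomial.homogeneousSubmodule (Fin r) k n
  let q : (A ⧸ I ^ (n + 1)) →ₗ[k] A ⧸ I ^ n :=
    (Ideal.Quotient.factorₐ k (Ideal.pow_le_pow_right (Nat.le_succ n))).toLinearMap
  have hqs : Function.Surjective q := by
    intro y
    obtain ⟨a, rfl⟩ := Ideal.Quotient.mk_surjective y
    exact ⟨Ideal.Quotient.mk _ a, rfl⟩
  let F : H →ₗ[k] A ⧸ I ^ (n + 1) :=
    (Ideal.Quotient.mkₐ k (I ^ (n + 1))).toLinearMap ∘ₗ (MvPolynomial.aeval x).toLinearMap ∘ₗ H.subtype
  have hjn : ∀ j, 1 ≤ j → j ≤ n → (j : k) ≠ 0 := by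
    intro j h1 h2 h
    obtain ⟨c, hc⟩ := Nat.dvd_factorial h1 h2
    rw [hc, Nat.cast_mul, h, zero_mul] at hn
    exact hn rfl
  have hFi : Function.Injective F := by
    refine (injective_iff_map_eq_zero F).2 fun P hP => Subtype.ext ?_
    exact GrDeriv.indep g x hx D (fun i j => by rw [hD, hψx]) n hjn P.1 P.2 (Ideal.Quotient.eq_zero_iff_mem.1 hP)
  have hker : LinearMap.ker q = LinearMap.range F := by
    ext y
    obtain ⟨a, rfl⟩ := Ideal.Quotient.mk_surjective y
    rw [LinearMap.mem_ker, LinearMap.mem_range]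
    constructor
    · intro ha
      obtain ⟨P, hP, hPa⟩ := GrDeriv.exists_form g x hx hspan n a (Ideal.Quotient.eq_zero_iff_mem.1 ha)
      exact ⟨⟨P, hP⟩, (Ideal.Quotient.eq.2 hPa).symm⟩
    · rintro ⟨P, hP⟩
      rw [← hP]
      exact Ideal.Quotient.eq_zero_iff_mem.2 (GrDeriv.aeval_mem g x hx n P.1 P.2)
  have hfin : ∀ m, Module.Finite k (A ⧸ I ^ m) := by
    intro m
    induction m with
    | zero =>
      rw [pow_zero, Ideal.one_eq_top]
      infer_instance
    | succ m ih =>
      let H' := MvPolynomial.homogeneousSubmodule (Fin r) k m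
      have : Module.Finite k H' := Module.Finite.iff_fg.2 (MvPolynomial.homogeneousSubmodule_fg _ _ m)
      let q' : (A ⧸ I ^ (m + 1)) →ₗ[k] A ⧸ I ^ m :=
        (Ideal.Quotient.factorₐ k (Ideal.pow_le_pow_right (Nat.le_succ m))).toLinearMap
      let F' : H' →ₗ[k] A ⧸ I ^ (m + 1) :=
        (Ideal.Quotient.mkₐ k (I ^ (m + 1))).toLinearMap ∘ₗ (MvPolynomial.aeval x).toLinearMap ∘ₗ H'.subtype
      refine ⟨Submodule.fg_of_fg_map_of_fg_inf_ker q' (IsNoetherian.noetherian _) ?_⟩
      rw [top_inf_eq, show LinearMap.ker q' = LinearMap.range F' from ?_]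
      · exact Module.Finite.iff_fg.1 inferInstance
      ext y
      obtain ⟨a, rfl⟩ := Ideal.Quotient.mk_surjective y
      rw [LinearMap.mem_ker, LinearMap.mem_range]
      constructor
      · intro ha
        obtain ⟨P, hP, hPa⟩ := GrDeriv.exists_form g x hx hspan m a (Ideal.Quotient.eq_zero_iff_mem.1 ha)
        exact ⟨⟨P, hP⟩, (Ideal.Quotient.eq.2 hPa).symm⟩
      · rintro ⟨P, hP⟩
        rw [← hP]
        exact Ideal.Quotient.eq_zero_iff_mem.2 (GrDeriv.aeval_mem g x hx m P.1 P.2)
  have := hfin (n + 1)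
  have h := LinearMap.finrank_range_add_finrank_ker q
  rw [LinearMap.range_eq_top.2 hqs, finrank_top, hker, LinearMap.finrank_range_of_inj hFi, finrank_homogeneous] at h
  exact h.symm

end Groth.Agent.HopfRep.HopfReduced
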