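import Mathlib
import Groth.Agent.HopfRep.HopfReduced
import Groth.Agent.Segre.Param
import Groth.Agent.RegularLocal.Basic

/-!
Dimension and smoothness of affine algebraic groups.
-/

universe u v

open IsLocalRing TensorProduct
open scoped Coalgebra

noncomputable section

namespace Groth.Agent.HopfRep.HopfDim

section smoothPoint

variable {k : Type u} [Field k] {B : Type v} [CommRing B] [Algebra k B]

/-- The local rings at smooth points of algebras over a field are regular. -/
theorem isRegularLocalRing_of_isSmoothAt [Algebra.FinitePresentation k B] (M : Ideal B) [M.IsPrime]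
    [Algebra.IsSmoothAt k M] : IsRegularLocalRing (Localization.AtPrime M) := by
  obtain ⟨f, hf, n, alg, tower, het⟩ := Algebra.IsSmoothAt.exists_isStandardEtale_mvPolynomial (R := k) (p := M)
  let S := Localization.Away f
  let P := MvPolynomial (Fin n) k
  have hdisj : Disjoint (Submonoid.powers f : Set B) (M : Set B) := by
    rw [Set.disjoint_left]
    rintro _ ⟨i, rfl⟩ hM
    exact hf (Ideal.IsPrime.mem_of_pow_mem ‹_› _ hM)
  let M' : Ideal S := M.map (algebraMap B S)
  have hM' : M'.IsPrime := IsLocalization.isPrime_of_isPrime_disjoint (Submonoid.powers f) S M ‹_› hdisj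
  have hcom : M'.comap (algebraMap B S) = M := IsLocalization.under_map_of_isPrime_disjoint (Submonoid.powers f) S ‹_› hdisj
  have : IsLocalization.AtPrime (Localization.AtPrime M') M := by
    convert IsLocalization.isLocalization_isLocalization_atPrime_isLocalization (Submonoid.powers f)
      (Localization.AtPrime M') M'
    exact hcom.symm
  let p : Ideal P := M'.comap (algebraMap P S)
  have : M'.LiesOver p := ⟨rfl⟩
  let := Localization.AtPrime.algebraOfLiesOver p M'
  have : IsRegularLocalRing (Localization.AtPrime p) := isRegularRing_iff.mp inferInstance p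
  have : Algebra.Etale P S := inferInstance
  have : Algebra.IsUnramifiedAt P M' := inferInstance
  have : Algebra.FormallyUnramified (Localization.AtPrime p) (Localization.AtPrime M') :=
    .of_restrictScalars P _ _
  have : Module.Flat (Localization.AtPrime p) (Localization.AtPrime M') := by
    rw [Module.flat_iff_of_isLocalization (Localization.AtPrime p) p.primeCompl]
    exact Module.Flat.trans P S _
  have : IsNoetherianRing S := Algebra.FiniteType.isNoetherianRing k S
  have : IsLocalHom (algebraMap (Localization.AtPrime p) (Localization.AtPrime M')) := by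
    rw [Localization.AtPrime.IsLiesOverAlgebra.algebraMap_eq]
    infer_instance
  have : Algebra.EssFiniteType (Localization.AtPrime p) (Localization.AtPrime M') :=
    .of_comp P _ _
  have h := Algebra.FormallyUnramified.map_maximalIdeal (R := Localization.AtPrime p) (S := Localization.AtPrime M')
  have : IsNoetherianRing (Localization.AtPrime M') := IsLocalization.isNoetherianRing M'.primeCompl _ inferInstance
  have hreg : IsRegularLocalRing (Localization.AtPrime M') := by
    refine IsRegularLocalRing.of_spanFinrank_maximalIdeal_le (R := Localization.AtPrime M') ?_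
    have hdim : ringKrullDim (Localization.AtPrime p) ≤ ringKrullDim (Localization.AtPrime M') := by
      have : Module.FaithfullyFlat (Localization.AtPrime p) (Localization.AtPrime M') :=
        Module.FaithfullyFlat.of_flat_of_isLocalHom
      rw [← maximalIdeal_height_eq_ringKrullDim, ← maximalIdeal_height_eq_ringKrullDim]
      have : (maximalIdeal (Localization.AtPrime M')).LiesOver (maximalIdeal (Localization.AtPrime p)) :=
        ⟨(IsLocalRing.maximalIdeal_comap _).symm⟩
      rw [Ideal.height_eq_height_add_of_liesOver_of_hasGoingDown (maximalIdeal (Localization.AtPrime p))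
        (maximalIdeal (Localization.AtPrime M'))]
      exact WithBot.coe_le_coe.2 le_self_add
    refine le_trans ?_ hdim
    rw [← IsRegularLocalRing.spanFinrank_maximalIdeal (R := Localization.AtPrime p), ← h]
    obtain ⟨s, hs, hspan⟩ := Submodule.FG.exists_span_set_encard_eq_spanFinrank
      (IsNoetherian.noetherian (maximalIdeal (Localization.AtPrime p)))
    norm_cast
    rw [← hspan, Ideal.map_span]
    have hfin : s.Finite := Set.finite_of_encard_eq_coe hs
    refine (Submodule.spanFinrank_span_le_ncard_of_finite (hfin.image _)).trans ?_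
    refine (Set.ncard_image_le hfin).trans (le_of_eq ?_)
    rw [hspan, Set.ncard, hs]; rfl
  exact IsRegularLocalRing.of_ringEquiv (R := Localization.AtPrime M')
    (IsLocalization.algEquiv M.primeCompl (Localization.AtPrime M') (Localization.AtPrime M)).toRingEquiv

/-- A reduced finite type algebra over a perfect field is smooth at some maximal ideal. -/
theorem exists_isSmoothAt [PerfectField k] [Algebra.FiniteType k B] [IsReduced B] [Nontrivial B] :
    ∃ (M : Ideal B) (_ : M.IsMaximal), Algebra.IsSmoothAt k M := by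
  have : IsNoetherianRing B := Algebra.FiniteType.isNoetherianRing k B
  have : Algebra.FinitePresentation k B := Algebra.FinitePresentation.of_finiteType.mp inferInstance
  obtain ⟨q, hq⟩ := Ideal.nonempty_minimalPrimes (I := (⊥ : Ideal B)) bot_ne_top
  have : q.IsPrime := hq.1.1
  have hfield : IsField (Localization.AtPrime q) := by
    have : IsReduced (Localization.AtPrime q) := isReduced_localizationPreserves q.primeCompl _ inferInstance
    have : Ring.KrullDimLE 0 (Localization.AtPrime q) := by
      rw [Ring.krullDimLE_iff, IsLocalization.AtPrime.ringKrullDim_eq_height q]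
      rw [show q.height = 0 from Ideal.height_eq_zero_iff.2 hq]
      rfl
    exact Ring.KrullDimLE.isField_of_isReduced
  let := hfield.toField
  have hsm : (⟨q, inferInstance⟩ : PrimeSpectrum B) ∈ Algebra.smoothLocus k B :=
    (Algebra.FormallySmooth.of_perfectField : Algebra.FormallySmooth k (Localization.AtPrime q))
  have : IsJacobsonRing B := isJacobsonRing_of_finiteType (A := k)
  obtain ⟨x, hx, hxc⟩ := nonempty_inter_closedPoints ⟨_, hsm⟩
    (Algebra.isOpen_smoothLocus (R := k) (A := B)).isLocallyClosed
  exact ⟨x.asIdeal, (PrimeSpectrum.isClosed_singleton_iff_isMaximal x).1 hxc, hx⟩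

end smoothPoint

section localDim

variable {k : Type u} [Field k] {B : Type v} [CommRing B] [Algebra k B] [IsNoetherianRing B]
variable (g : B →ₐ[k] k) [hp : (RingHom.ker g).IsPrime]

/-- A dual family bounds the embedding dimension from below. -/
theorem le_spanFinrank {r : ℕ} (x : Fin r → B) (ψ : Fin r → B →ₗ[k] k) (hx : ∀ i, g (x i) = 0)
    (hψ : ∀ i a b, ψ i (a * b) = g a * ψ i b + g b * ψ i a) (hψx : ∀ i j, ψ i (x j) = if i = j then 1 else 0) :
    r ≤ (maximalIdeal (Localization.AtPrime (RingHom.ker g))).spanFinrank := by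
  classical
  let L := Localization.AtPrime (RingHom.ker g)
  have hθ : ∀ i, ∃ θ : L →ₐ[k] DualNumber k, ∀ b, TrivSqZeroExt.snd (θ (algebraMap B L b)) = ψ i b ∧
      TrivSqZeroExt.fst (θ (algebraMap B L b)) = g b := by
    intro i
    let θ₀ : B →ₐ[k] DualNumber k := AlgHom.ofLinearMap
      { toFun := fun b => TrivSqZeroExt.inl (g b) + TrivSqZeroExt.inr (ψ i b)
        map_add' := fun a b => by ext <;> simp
        map_smul' := fun c a => by ext <;> simp }
      (by
        have h1 := hψ i 1 1
        simp at h1
        ext <;> simp [h1])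
      (fun a b => by ext <;> simp [hψ, add_comm, mul_comm])
    have hu : ∀ s : (RingHom.ker g).primeCompl, IsUnit (θ₀ s) := fun s => by
      rw [TrivSqZeroExt.isUnit_iff_isUnit_fst]
      simp [θ₀]
      exact s.2
    refine ⟨IsLocalization.liftAlgHom (S := L) (M := (RingHom.ker g).primeCompl) (f := θ₀) hu, fun b => ?_⟩
    simp [θ₀]
  choose θ hθ using hθ
  have hfst : ∀ i, ∀ y ∈ maximalIdeal L, TrivSqZeroExt.fst (θ i y) = 0 := by
    intro i y hy
    rw [← Localization.AtPrime.map_eq_maximalIdeal] at hy
    induction hy using Submodule.span_induction with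
    | mem y hy =>
      obtain ⟨b, hb, rfl⟩ := hy
      rw [(hθ i b).2]
      exact hb
    | zero => simp
    | add p q _ _ hp hq => simp [hp, hq]
    | smul a p _ hp => simp [hp]
  obtain ⟨s, hs, hspan⟩ := Submodule.FG.exists_span_set_encard_eq_spanFinrank
    (IsNoetherian.noetherian (maximalIdeal L))
  have hfin : s.Finite := Set.finite_of_encard_eq_coe hs
  let T : L → (Fin r → k) := fun y i => TrivSqZeroExt.snd (θ i y)
  have hT : ∀ y ∈ maximalIdeal L, T y ∈ Submodule.span k (T '' s) := by
    intro y hy
    have hy' : y ∈ Submodule.span L s := hspan ▸ hy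
    clear hy
    induction hy' using Submodule.span_induction with
    | mem y hy => exact Submodule.subset_span ⟨y, hy, rfl⟩
    | zero => convert zero_mem (Submodule.span k (T '' s)) using 1; ext; simp [T]
    | add p q hp' hq' hp hq =>
      have := add_mem hp hq
      convert this using 1
      ext; simp [T]
    | smul a p hp' hp =>
      rcases isEmpty_or_nonempty (Fin r) with hr | ⟨⟨i₀⟩⟩
      · rw [Subsingleton.elim (T (a • p)) 0]
        exact zero_mem _
      have hgl : ∀ i, TrivSqZeroExt.fst (θ i a) = TrivSqZeroExt.fst (θ i₀ a) := by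
        intro i
        obtain ⟨⟨b, t⟩, hb⟩ := IsLocalization.surj (RingHom.ker g).primeCompl a
        have h1 := congrArg (fun z => TrivSqZeroExt.fst (θ i z)) hb
        have h2 := congrArg (fun z => TrivSqZeroExt.fst (θ i₀ z)) hb
        simp [hθ] at h1 h2
        have ht : g (t : B) ≠ 0 := t.2
        exact mul_right_cancel₀ ht (h1.trans h2.symm)
      have hm : p ∈ maximalIdeal L := hspan ▸ hp'
      have := Submodule.smul_mem _ (TrivSqZeroExt.fst (θ i₀ a)) hp
      convert this using 1
      ext i
      simp [T, hfst i p hm, hgl i]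
  have htop : Submodule.span k (T '' s) = ⊤ := by
    refine eq_top_iff.2 fun v _ => ?_
    rw [pi_eq_sum_univ v]
    refine Submodule.sum_mem _ fun j _ => Submodule.smul_mem _ _ ?_
    have hm : algebraMap B L (x j) ∈ maximalIdeal L := by
      rw [← Localization.AtPrime.map_eq_maximalIdeal]
      exact Ideal.mem_map_of_mem _ (hx j)
    convert hT _ hm using 1
    ext i
    simp [T, hθ, hψx, eq_comm]
  have := (hfin.image T).fintype
  have h1 := finrank_span_le_card (R := k) (T '' s)
  rw [htop, finrank_top, Module.finrank_pi, Fintype.card_fin, Set.toFinset_card] at h1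
  refine h1.trans ?_
  rw [← Nat.card_eq_fintype_card, Nat.card_coe_set_eq]
  refine (Set.ncard_image_le hfin).trans (le_of_eq ?_)
  rw [Set.ncard, hs]; rfl

/-- A spanning family bounds the embedding dimension from above. -/
theorem spanFinrank_le {r : ℕ} (x : Fin r → B) (hx : ∀ i, g (x i) = 0)
    (hspan : ∀ a ∈ RingHom.ker g, ∃ c : Fin r → k, a - ∑ i, c i • x i ∈ RingHom.ker g ^ 2) :
    (maximalIdeal (Localization.AtPrime (RingHom.ker g))).spanFinrank ≤ r := by
  let L := Localization.AtPrime (RingHom.ker g)
  let s : Set L := Set.range fun i => algebraMap B L (x i)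
  have hsm : Ideal.span s ≤ maximalIdeal L := Ideal.span_le.2 (by
    rintro _ ⟨i, rfl⟩
    rw [← Localization.AtPrime.map_eq_maximalIdeal]
    exact Ideal.mem_map_of_mem _ (hx i))
  have hle : maximalIdeal L ≤ Ideal.span s ⊔ maximalIdeal L • maximalIdeal L := by
    conv_lhs => rw [← Localization.AtPrime.map_eq_maximalIdeal]
    refine Ideal.map_le_iff_le_comap.2 fun a ha => ?_
    obtain ⟨c, hc⟩ := hspan a ha
    show algebraMap B L a ∈ Ideal.span s ⊔ maximalIdeal L • maximalIdeal L
    rw [show a = ∑ i, c i • x i + (a - ∑ i, c i • x i) by ring, map_add]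
    refine add_mem (Ideal.mem_sup_left ?_) (Ideal.mem_sup_right ?_)
    · rw [map_sum]
      refine Submodule.sum_mem _ fun i _ => ?_
      rw [Algebra.smul_def, map_mul]
      exact Ideal.mul_mem_left _ _ (Ideal.subset_span ⟨i, rfl⟩)
    · rw [smul_eq_mul, ← pow_two, ← Localization.AtPrime.map_eq_maximalIdeal, ← Ideal.map_pow]
      exact Ideal.mem_map_of_mem _ hc
  have h : maximalIdeal L = Ideal.span s := le_antisymm
    (Submodule.le_of_le_smul_of_le_jacobson_bot (IsNoetherian.noetherian _) (maximalIdeal_le_jacobson ⊥) hle) hsm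
  rw [h]
  refine (Submodule.spanFinrank_span_le_ncard_of_finite (Set.finite_range _)).trans ?_
  rw [← Nat.card_coe_set_eq]
  exact (Finite.card_range_le _).trans (le_of_eq (Nat.card_fin r))

theorem spanFinrank_eq : (maximalIdeal (Localization.AtPrime (RingHom.ker g))).spanFinrank =
    Module.finrank k (RingHom.ker g).Cotangent := by
  obtain ⟨r, x, ψ, hr, hx, hψ, hψx, hspan⟩ := GrDeriv.exists_cotangent_coords g
  rw [← hr]
  exact le_antisymm (spanFinrank_le g x hx hspan) (le_spanFinrank g x ψ hx hψ hψx)

end localDim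

section algClosed

open Groth.Agent.HopfRep.Order WithConv

variable {K : Type u} [Field K] [IsAlgClosed K] {A : Type v} [CommRing A] [HopfAlgebra K A]
  [Algebra.FiniteType K A]

local notation "ε" => Bialgebra.counitAlgHom K A

instance isPrime_ker_counit : (RingHom.ker (Bialgebra.counitAlgHom K A)).IsPrime := RingHom.ker_isPrime _

theorem exists_point (M : Ideal A) [M.IsMaximal] : ∃ g : A →ₐ[K] K, RingHom.ker g = M := by
  have : Module.Finite K (A ⧸ M) := by
    let : Field (A ⧸ M) := Ideal.Quotient.field M
    exact finite_of_finite_type_of_isJacobsonRing K (A ⧸ M)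
  let e := AlgEquiv.ofBijective (Algebra.ofId K (A ⧸ M))
    (IsAlgClosed.algebraMap_bijective_of_isIntegral (k := K) (K := A ⧸ M))
  refine ⟨e.symm.toAlgHom.comp (Ideal.Quotient.mkₐ K M), ?_⟩
  ext a
  rw [RingHom.mem_ker]
  show e.symm (Ideal.Quotient.mk M a) = 0 ↔ _
  rw [EmbeddingLike.map_eq_zero_iff, Ideal.Quotient.eq_zero_iff_mem]

/-- Translation moves every maximal ideal to the identity. -/
theorem exists_translate (M : Ideal A) [M.IsMaximal] :
    ∃ τ : A ≃ₐ[K] A, M.comap τ.symm.toAlgHom = RingHom.ker ε := by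
  obtain ⟨g, rfl⟩ := exists_point (K := K) M
  refine ⟨trEquiv (toConv g), ?_⟩
  ext a
  show g ((trEquiv (toConv g)).symm a) = 0 ↔ Coalgebra.counit (R := K) a = 0
  have h := DFunLike.congr_fun (counit_tr (toConv g)) ((trEquiv (toConv g)).symm a)
  rw [show g ((trEquiv (toConv g)).symm a) = Coalgebra.counit (R := K) (trEquiv (toConv g) ((trEquiv (toConv g)).symm a))
    from h.symm, AlgEquiv.apply_symm_apply]

theorem exists_localEquiv (M : Ideal A) [M.IsMaximal] :
    Nonempty (Localization.AtPrime (RingHom.ker ε) ≃ₐ[K] Localization.AtPrime M) := by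
  obtain ⟨τ, hτ⟩ := exists_translate (K := K) M
  exact ⟨IsLocalization.algEquivOfAlgEquiv (Localization.AtPrime (RingHom.ker ε)) (Localization.AtPrime M)
    τ.symm (M := (RingHom.ker ε).primeCompl) (T := M.primeCompl) (by
      ext a
      simp only [Submonoid.mem_map, Ideal.primeCompl]
      constructor
      · rintro ⟨b, hb, rfl⟩
        intro h
        exact hb (hτ ▸ h)
      · intro ha
        refine ⟨τ a, ?_, τ.symm_apply_apply a⟩
        intro h
        rw [SetLike.mem_coe, ← hτ] at h
        exact ha (by simpa using h))⟩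

variable (K) in
include K in
theorem nontrivial_A : Nontrivial A := (Bialgebra.counitAlgHom K A).toRingHom.domain_nontrivial

variable (K) in
include K in
theorem ringKrullDim_eq_local (M : Ideal A) [M.IsMaximal] :
    ringKrullDim A = ringKrullDim (Localization.AtPrime M) := by
  have := nontrivial_A K (A := A)
  have h : ∀ (N : Ideal A) [N.IsMaximal], (N.height : WithBot ℕ∞) = ringKrullDim (Localization.AtPrime M) := by
    intro N hN
    rw [← IsLocalization.AtPrime.ringKrullDim_eq_height N (Localization.AtPrime N)]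
    obtain ⟨e⟩ := exists_localEquiv (K := K) M
    obtain ⟨e'⟩ := exists_localEquiv (K := K) N
    exact ringKrullDim_eq_of_ringEquiv (e'.symm.trans e).toRingEquiv
  rw [← Ideal.sup_isMaximal_height_eq_ringKrullDim, ← h M, WithBot.coe_inj]
  refine le_antisymm (iSup₂_le fun N hN => ?_) (le_iSup₂_of_le M ‹_› le_rfl)
  exact le_of_eq (WithBot.coe_inj.1 ((h N).trans (h M).symm))

theorem ringKrullDim_le_cotangent :
    ringKrullDim A ≤ (Module.finrank K (RingHom.ker ε).Cotangent : WithBot ℕ∞) := by
  have : IsNoetherianRing A := Algebra.FiniteType.isNoetherianRing K A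
  have : (RingHom.ker ε).IsMaximal :=
    RingHom.ker_isMaximal_of_surjective _ fun c => ⟨algebraMap K A c, (ε).commutes c⟩
  rw [ringKrullDim_eq_local K (RingHom.ker ε), ← spanFinrank_eq]
  exact ringKrullDim_le_spanFinrank_maximalIdeal _

theorem isReduced_of_isRegularLocalRing (h : IsRegularLocalRing (Localization.AtPrime (RingHom.ker ε))) :
    IsReduced A := by
  refine isReduced_ofLocalizationMaximal A fun J _ => ?_
  obtain ⟨e⟩ := exists_localEquiv (K := K) J
  have : IsDomain (Localization.AtPrime (RingHom.ker ε)) :=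
    Groth.Agent.RegularLocal.Basic.isDomain_aux _ _ rfl
  exact isReduced_of_injective e.symm.toRingEquiv.toRingHom e.symm.injective

theorem formallySmooth_of_isReduced [IsReduced A] : Algebra.FormallySmooth K A := by
  have := nontrivial_A K (A := A)
  have : Algebra.FinitePresentation K A := Algebra.FinitePresentation.of_finiteType.mp inferInstance
  obtain ⟨M, hM, hsm⟩ := exists_isSmoothAt (k := K) (B := A)
  obtain ⟨e₀⟩ := exists_localEquiv (K := K) M
  rw [← Algebra.smoothLocus_eq_univ_iff]
  by_contra hne
  obtain ⟨x, hx, hxc⟩ := by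
    have : IsJacobsonRing A := isJacobsonRing_of_finiteType (A := K)
    exact nonempty_inter_closedPoints (Set.nonempty_compl.2 hne)
      (Algebra.isOpen_smoothLocus (R := K) (A := A)).isClosed_compl.isLocallyClosed
  have : x.asIdeal.IsMaximal := (PrimeSpectrum.isClosed_singleton_iff_isMaximal x).1 hxc
  obtain ⟨e⟩ := exists_localEquiv (K := K) x.asIdeal
  exact hx (Algebra.FormallySmooth.of_equiv (e₀.symm.trans e) : Algebra.FormallySmooth K (Localization.AtPrime x.asIdeal))

variable (K) in
include K in
theorem isRegularLocalRing_of_formallySmooth [Algebra.FormallySmooth K A] (M : Ideal A) [M.IsPrime] :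
    IsRegularLocalRing (Localization.AtPrime M) := by
  have : Algebra.FinitePresentation K A := Algebra.FinitePresentation.of_finiteType.mp inferInstance
  have : Algebra.FormallySmooth A (Localization.AtPrime M) := .of_isLocalization M.primeCompl
  have : Algebra.IsSmoothAt K M := Algebra.FormallySmooth.comp K A (Localization.AtPrime M)
  exact isRegularLocalRing_of_isSmoothAt (k := K) M

theorem dim_eq_iff_formallySmooth :
    ringKrullDim A = (Module.finrank K (RingHom.ker ε).Cotangent : WithBot ℕ∞) ↔ Algebra.FormallySmooth K A := by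
  have : IsNoetherianRing A := Algebra.FiniteType.isNoetherianRing K A
  have : (RingHom.ker ε).IsMaximal :=
    RingHom.ker_isMaximal_of_surjective _ fun c => ⟨algebraMap K A c, (ε).commutes c⟩
  rw [ringKrullDim_eq_local K (RingHom.ker ε), ← spanFinrank_eq, eq_comm, ← isRegularLocalRing_iff]
  constructor
  · intro h
    have := isReduced_of_isRegularLocalRing (K := K) h
    exact formallySmooth_of_isReduced
  · intro h
    exact isRegularLocalRing_of_formallySmooth K _

theorem isReduced_of_nilradical_le (h : nilradical A ≤ RingHom.ker ε ^ 2) : IsReduced A := by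
  have : IsNoetherianRing A := Algebra.FiniteType.isNoetherianRing K A
  have hN := nontrivial_A K (A := A)
  let R := A ⧸ nilradical A
  have : Nontrivial R := Ideal.Quotient.nontrivial_iff.2 fun h1 => by
    have : (1 : A) ∈ nilradical A := by rw [h1]; trivial
    exact not_isNilpotent_one (mem_nilradical.1 this)
  have : IsReduced R := (Ideal.isRadical_iff_quotient_reduced _).1 (Ideal.radical_isRadical _)
  have : Algebra.FinitePresentation K R := Algebra.FinitePresentation.of_finiteType.mp inferInstance
  obtain ⟨M, hM, hsm⟩ := exists_isSmoothAt (k := K) (B := R)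
  let π := Ideal.Quotient.mkₐ K (nilradical A)
  let MA := M.comap π
  have : MA.IsMaximal := Ideal.comap_isMaximal_of_surjective _ (Ideal.Quotient.mkₐ_surjective K _)
  obtain ⟨g, hg⟩ := exists_point (K := K) MA
  obtain ⟨τ, hτ⟩ := exists_translate (K := K) MA
  have hnil : nilradical A ≤ MA ^ 2 := by
    intro a ha
    have h2 : τ a ∈ RingHom.ker ε ^ 2 := h (mem_nilradical.2 ((mem_nilradical.1 ha).map τ))
    rw [← hτ] at h2
    have h3 : (MA.comap τ.symm.toAlgHom) ^ 2 ≤ (MA ^ 2).comap τ.symm.toAlgHom := by
      rw [← Ideal.map_le_iff_le_comap, Ideal.map_pow]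
      exact Ideal.pow_right_mono Ideal.map_comap_le _
    simpa using h3 h2
  obtain ⟨r, x, ψ, hr, hx, hψ, hψx, hspan⟩ := GrDeriv.exists_cotangent_coords g
  have hψnil : ∀ i, ∀ a ∈ nilradical A, ψ i a = 0 := by
    intro i a ha
    have ha2 := hnil ha
    rw [← hg, pow_two] at ha2
    clear ha
    induction ha2 using Submodule.mul_induction_on' with
    | mem_mul_mem p hp q hq => rw [hψ, RingHom.mem_ker.1 hp, RingHom.mem_ker.1 hq, zero_mul, zero_mul, add_zero]
    | add p hp q hq hp' hq' => rw [map_add, hp', hq', add_zero]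
  have hgnil : ∀ a ∈ nilradical A, g a = 0 := fun a ha => IsNilpotent.eq_zero ((mem_nilradical.1 ha).map g)
  let g' : R →ₐ[K] K := Ideal.Quotient.liftₐ _ g hgnil
  have hg' : RingHom.ker g' = M := by
    refine (Ideal.comap_injective_of_surjective π (Ideal.Quotient.mkₐ_surjective K _)) ?_
    show _ = MA
    rw [← hg]
    rfl
  subst hg'
  let ψ' : Fin r → R →ₗ[K] K := fun i =>
    (Submodule.restrictScalars K (nilradical A)).liftQ (ψ i) (fun a ha => hψnil i a ha) ∘ₗ
      (Submodule.Quotient.restrictScalarsEquiv K (nilradical A)).symm.toLinearMap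
  have hψ'mk : ∀ i a, ψ' i (π a) = ψ i a := fun i a => rfl
  have hlow : r ≤ (maximalIdeal (Localization.AtPrime (RingHom.ker g'))).spanFinrank := by
    refine le_spanFinrank g' (fun i => π (x i)) ψ' (fun i => hx i) ?_ (fun i j => hψx i j)
    intro i a b
    obtain ⟨a, rfl⟩ := Ideal.Quotient.mkₐ_surjective K _ a
    obtain ⟨b, rfl⟩ := Ideal.Quotient.mkₐ_surjective K _ b
    rw [← map_mul]
    exact hψ i a b
  have hreg := isRegularLocalRing_of_isSmoothAt (k := K) (B := R) (RingHom.ker g')
  have h1 : ringKrullDim (Localization.AtPrime (RingHom.ker g')) ≤ ringKrullDim A := by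
    rw [IsLocalization.AtPrime.ringKrullDim_eq_height (RingHom.ker g')]
    exact (Ideal.height_le_ringKrullDim_of_ne_top (Ideal.IsPrime.ne_top inferInstance)).trans
      (ringKrullDim_le_of_surjective _ (Ideal.Quotient.mkₐ_surjective K _ : Function.Surjective π.toRingHom))
  refine isReduced_of_isRegularLocalRing (K := K) ?_
  have : (RingHom.ker ε).IsMaximal :=
    RingHom.ker_isMaximal_of_surjective _ fun c => ⟨algebraMap K A c, (ε).commutes c⟩
  obtain ⟨e⟩ := exists_localEquiv (K := K) MA
  suffices IsRegularLocalRing (Localization.AtPrime MA) from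
    IsRegularLocalRing.of_ringEquiv (R := Localization.AtPrime MA) e.symm.toRingEquiv
  have : IsNoetherianRing (Localization.AtPrime MA) := IsLocalization.isNoetherianRing MA.primeCompl _ inferInstance
  refine IsRegularLocalRing.of_spanFinrank_maximalIdeal_le (R := Localization.AtPrime MA) ?_
  rw [← ringKrullDim_eq_local K MA]
  refine le_trans ?_ h1
  rw [← IsRegularLocalRing.spanFinrank_maximalIdeal (R := Localization.AtPrime (RingHom.ker g'))]
  norm_cast
  refine le_trans ?_ hlow
  have hgen : ∀ (N : Ideal A) [N.IsPrime], RingHom.ker g = N →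
      (maximalIdeal (Localization.AtPrime N)).spanFinrank ≤ r := by
    intro N _ e
    subst e
    exact spanFinrank_le g x hx hspan
  exact hgen MA hg

end algClosed

end Groth.Agent.HopfRep.HopfDim

namespace Groth.Agent.HopfRep.HopfDim

section general

variable {k : Type u} [Field k] {A : Type v} [CommRing A] [HopfAlgebra k A] [Algebra.FiniteType k A]

theorem finrank_cotangent_eq {F : Type*} [Field F] {B : Type*} [CommRing B] [Algebra F B] [IsNoetherianRing B]
    (g : B →ₐ[F] F) {r : ℕ} (x : Fin r → B) (ψ : Fin r → B →ₗ[F] F) (hx : ∀ i, g (x i) = 0)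
    (hψ : ∀ i a b, ψ i (a * b) = g a * ψ i b + g b * ψ i a) (hψx : ∀ i j, ψ i (x j) = if i = j then 1 else 0)
    (hspan : ∀ a ∈ RingHom.ker g, ∃ c : Fin r → F, a - ∑ i, c i • x i ∈ RingHom.ker g ^ 2) :
    Module.finrank F (RingHom.ker g).Cotangent = r := by
  have : (RingHom.ker g).IsPrime := RingHom.ker_isPrime _
  rw [← spanFinrank_eq]
  exact le_antisymm (spanFinrank_le g x hx hspan) (le_spanFinrank g x ψ hx hψ hψx)

theorem finrank_cotangent_baseChange (K : Type u) [Field K] [Algebra k K] :
    Module.finrank K (RingHom.ker (Bialgebra.counitAlgHom K (K ⊗[k] A))).Cotangent =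
      Module.finrank k (RingHom.ker (Bialgebra.counitAlgHom k A)).Cotangent := by
  have : IsNoetherianRing A := Algebra.FiniteType.isNoetherianRing k A
  have : IsNoetherianRing (K ⊗[k] A) := Algebra.FiniteType.isNoetherianRing K (K ⊗[k] A)
  obtain ⟨r, x, ψ, hr, hx, hψ, hψx, hspan⟩ := GrDeriv.exists_cotangent_coords (Bialgebra.counitAlgHom k A)
  rw [← hr]
  let gK := Bialgebra.counitAlgHom K (K ⊗[k] A)
  let ψ' : Fin r → (K ⊗[k] A) →ₗ[K] K := fun i =>
    (TensorProduct.AlgebraTensorModule.rid k K K).toLinearMap ∘ₗ (ψ i).baseChange K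
  have hψ't : ∀ i (c : K) (a : A), ψ' i (c ⊗ₜ a) = ψ i a • c := fun i c a => by simp [ψ']
  have hgt : ∀ (c : K) (a : A), gK (c ⊗ₜ a) = Coalgebra.counit (R := k) a • c := fun c a => by simp [gK]
  refine finrank_cotangent_eq gK (fun i => (1 : K) ⊗ₜ[k] x i) ψ' (fun i => ?_) ?_ ?_ ?_
  · have h : Coalgebra.counit (R := k) (x i) = 0 := hx i
    simp [hgt, h]
  · intro i a b
    induction a with
    | zero => simp
    | add p q hp hq => simp only [add_mul, map_add, hp, hq]; ring
    | tmul c a =>
      induction b with
      | zero => simp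
      | add p q hp hq => simp only [mul_add, map_add, hp, hq]; ring
      | tmul d b =>
        have h : ψ i (a * b) = Coalgebra.counit (R := k) a * ψ i b + Coalgebra.counit (R := k) b * ψ i a := hψ i a b
        simp only [Algebra.TensorProduct.tmul_mul_tmul, hψ't, hgt, h, Algebra.smul_def, map_add, map_mul]
        ring
  · intro i j
    rw [hψ't, hψx]
    split <;> simp
  · have key : ∀ a : K ⊗[k] A, ∃ c : Fin r → K,
        a - algebraMap K (K ⊗[k] A) (gK a) - ∑ i, c i • ((1 : K) ⊗ₜ[k] x i) ∈ RingHom.ker gK ^ 2 := by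
      intro a
      induction a with
      | zero => exact ⟨0, by simp⟩
      | add p q hp hq =>
        obtain ⟨c, hc⟩ := hp
        obtain ⟨d, hd⟩ := hq
        refine ⟨c + d, ?_⟩
        convert add_mem hc hd using 1
        simp only [map_add, Pi.add_apply, add_smul, Finset.sum_add_distrib]
        ring
      | tmul c a =>
        obtain ⟨d, hd⟩ := hspan (a - algebraMap k A (Coalgebra.counit a)) (by simp)
        refine ⟨fun i => d i • c, ?_⟩
        have hmap : Ideal.map (Algebra.TensorProduct.includeRight : A →ₐ[k] K ⊗[k] A)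
            (RingHom.ker (Bialgebra.counitAlgHom k A) ^ 2) ≤ RingHom.ker gK ^ 2 := by
          rw [Ideal.map_pow]
          refine Ideal.pow_right_mono (Ideal.map_le_iff_le_comap.2 fun y hy => ?_) 2
          show gK ((1 : K) ⊗ₜ y) = 0
          have h : Coalgebra.counit (R := k) y = 0 := hy
          simp [hgt, h]
        have h2 := Ideal.mul_mem_left (RingHom.ker gK ^ 2) (c ⊗ₜ[k] (1 : A)) (hmap (Ideal.mem_map_of_mem _ hd))
        convert h2 using 1
        simp only [map_sub, map_sum, Algebra.TensorProduct.includeRight_apply, mul_sub, Finset.mul_sum, hgt,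
          Algebra.TensorProduct.tmul_mul_tmul, mul_one, one_mul]
        congr 1
        · congr 1
          rw [Algebra.TensorProduct.algebraMap_apply, Algebra.algebraMap_eq_smul_one (R := k) (A := A),
            TensorProduct.tmul_smul, TensorProduct.smul_tmul']
          rfl
        · refine Finset.sum_congr rfl fun i _ => ?_
          rw [TensorProduct.tmul_smul, TensorProduct.smul_tmul', TensorProduct.smul_tmul', smul_eq_mul, mul_one]
    intro a ha
    obtain ⟨c, hc⟩ := key a
    rw [RingHom.mem_ker] at ha
    exact ⟨c, by simpa [ha] using hc⟩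

theorem ringKrullDim_baseChange (K : Type u) [Field K] [Algebra k K] [Algebra.IsIntegral k K] :
    ringKrullDim (K ⊗[k] A) = ringKrullDim A := by
  refine (Groth.Agent.Segre.Param.ringKrullDim_eq_of_isIntegral
    (Algebra.TensorProduct.includeRight : A →ₐ[k] K ⊗[k] A).toRingHom ?_
    (Algebra.TensorProduct.includeRight_injective (algebraMap k K).injective)).symm
  intro z
  let alg : Algebra A (K ⊗[k] A) := (Algebra.TensorProduct.includeRight : A →ₐ[k] K ⊗[k] A).toRingHom.toAlgebra
  have : IsScalarTower k A (K ⊗[k] A) := IsScalarTower.of_algebraMap_eq fun c =>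
    ((Algebra.TensorProduct.includeRight : A →ₐ[k] K ⊗[k] A).commutes c).symm
  show IsIntegral A z
  induction z with
  | zero => exact isIntegral_zero
  | add p q hp hq => exact hp.add hq
  | tmul c a =>
    rw [show c ⊗ₜ[k] a = (c ⊗ₜ[k] (1 : A)) * ((1 : K) ⊗ₜ[k] a) by simp]
    exact (((Algebra.IsIntegral.isIntegral (R := k) c).map
      (Algebra.TensorProduct.includeLeft : K →ₐ[k] K ⊗[k] A)).tower_top).mul (isIntegral_algebraMap (x := a))

theorem dim_le_and_eq_iff :
    ringKrullDim A ≤ (Module.finrank k (RingHom.ker (Bialgebra.counitAlgHom k A)).Cotangent : WithBot ℕ∞) ∧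
    (ringKrullDim A = (Module.finrank k (RingHom.ker (Bialgebra.counitAlgHom k A)).Cotangent : WithBot ℕ∞) ↔
      Algebra.FormallySmooth k A) := by
  have h1 := ringKrullDim_baseChange (k := k) (A := A) (AlgebraicClosure k)
  have h2 := finrank_cotangent_baseChange (k := k) (A := A) (AlgebraicClosure k)
  rw [← h1, ← h2]
  refine ⟨ringKrullDim_le_cotangent, dim_eq_iff_formallySmooth.trans ⟨fun h => ?_, fun h => ?_⟩⟩
  · have : Algebra.Smooth (AlgebraicClosure k) (AlgebraicClosure k ⊗[k] A) :=
      ⟨h, Algebra.FinitePresentation.of_finiteType.mp inferInstance⟩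
    exact (Algebra.Smooth.of_smooth_tensorProduct_of_faithfullyFlat (AlgebraicClosure k) (R := k) (S := A)).formallySmooth
  · infer_instance

theorem isDomain_of_formallySmooth [Algebra.FormallySmooth k A]
    (hconn : ∀ e : A, IsIdempotentElem e → e = 0 ∨ e = 1) : IsDomain A := by
  classical
  have : IsNoetherianRing A := Algebra.FiniteType.isNoetherianRing k A
  have : Algebra.FinitePresentation k A := Algebra.FinitePresentation.of_finiteType.mp inferInstance
  have hnt : Nontrivial A := (Bialgebra.counitAlgHom k A).toRingHom.domain_nontrivial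
  have hdom : ∀ (M : Ideal A) [M.IsPrime], IsDomain (Localization.AtPrime M) := by
    intro M _
    have : Algebra.FormallySmooth A (Localization.AtPrime M) := .of_isLocalization M.primeCompl
    have : Algebra.IsSmoothAt k M := Algebra.FormallySmooth.comp k A (Localization.AtPrime M)
    have := isRegularLocalRing_of_isSmoothAt (k := k) M
    exact Groth.Agent.RegularLocal.Basic.isDomain_aux _ _ rfl
  have hred : _root_.IsReduced A := isReduced_ofLocalizationMaximal A fun J _ => by
    have := hdom J
    infer_instance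
  have huniq : ∀ (M : Ideal A) [M.IsPrime], ∀ P ∈ minimalPrimes A, ∀ Q ∈ minimalPrimes A, P ≤ M → Q ≤ M → P = Q := by
    intro M _ P hP Q hQ hPM hQM
    have := hdom M
    have hbot : ∀ R ∈ minimalPrimes A, R ≤ M →
        R = (⊥ : Ideal (Localization.AtPrime M)).comap (algebraMap A (Localization.AtPrime M)) := by
      intro R hR hRM
      have h2 : (⊥ : Ideal (Localization.AtPrime M)).comap (algebraMap A (Localization.AtPrime M)) ≤ R := by
        intro a ha
        have : algebraMap A (Localization.AtPrime M) a = 0 := ha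
        obtain ⟨t, ht⟩ := (IsLocalization.map_eq_zero_iff M.primeCompl _ a).1 this
        have : (t : A) * a ∈ R := by rw [ht]; exact zero_mem _
        exact (hR.1.1.mem_or_mem this).resolve_left fun h => t.2 (hRM h)
      exact le_antisymm (hR.2 ⟨Ideal.comap_isPrime _ _, bot_le⟩ h2) h2
    exact (hbot P hP hPM).trans (hbot Q hQ hQM).symm
  obtain ⟨P, hP⟩ := Ideal.nonempty_minimalPrimes (I := (⊥ : Ideal A)) bot_ne_top
  let others := (minimalPrimes.finite_of_isNoetherianRing A).toFinset.erase P
  let J := others.inf id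
  have hsup : P ⊔ J = ⊤ := by
    by_contra hne
    obtain ⟨M, hM, hle⟩ := Ideal.exists_le_maximal _ hne
    obtain ⟨Q, hQ, hQM⟩ := (Ideal.IsPrime.inf_le' (s := others) (f := id) hM.isPrime).1 (le_sup_right.trans hle)
    obtain ⟨hQne, hQm⟩ := Finset.mem_erase.1 hQ
    exact hQne (huniq M Q ((Set.Finite.mem_toFinset _).1 hQm) P hP hQM (le_sup_left.trans hle))
  obtain ⟨a, ha, b, hb, hab⟩ := Submodule.mem_sup.1 (hsup ▸ Submodule.mem_top : (1 : A) ∈ P ⊔ J)
  have hab0 : a * b = 0 := by
    refine IsNilpotent.eq_zero (nilpotent_iff_mem_prime.2 fun Q hQ => ?_)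
    obtain ⟨Q₀, hQ₀, hle⟩ := Ideal.exists_minimalPrimes_le (I := (⊥ : Ideal A)) (J := Q) bot_le
    refine hle ?_
    by_cases hQP : Q₀ = P
    · exact Ideal.mul_mem_right _ _ (hQP ▸ ha)
    · exact Ideal.mul_mem_left _ _ ((Finset.inf_le (f := id)
        (Finset.mem_erase.2 ⟨hQP, (Set.Finite.mem_toFinset _).2 hQ₀⟩) : J ≤ Q₀) hb)
  have hid : IsIdempotentElem a := by
    show a * a = a
    calc a * a = a * a + a * b := by rw [hab0, add_zero]
      _ = a * (a + b) := by ring
      _ = a := by rw [hab, mul_one]
  rcases hconn a hid with rfl | rfl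
  · rw [zero_add] at hab
    subst hab
    have : others = ∅ := by
      by_contra hne
      obtain ⟨Q, hQ⟩ := Finset.nonempty_iff_ne_empty.2 hne
      have : (1 : A) ∈ Q := (Finset.inf_le (f := id) hQ : J ≤ Q) hb
      exact ((Set.Finite.mem_toFinset _).1 (Finset.mem_erase.1 hQ).2).1.1.ne_top ((Ideal.eq_top_iff_one _).2 this)
    have hP0 : P = ⊥ := by
      refine eq_bot_iff.2 fun c hc => ?_
      refine IsNilpotent.eq_zero (nilpotent_iff_mem_prime.2 fun Q hQ => ?_)
      obtain ⟨Q₀, hQ₀, hle⟩ := Ideal.exists_minimalPrimes_le (I := (⊥ : Ideal A)) (J := Q) bot_le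
      by_cases hQP : Q₀ = P
      · exact hle (hQP ▸ hc)
      · exact absurd (Finset.mem_erase.2 ⟨hQP, (Set.Finite.mem_toFinset _).2 hQ₀⟩) (this ▸ Finset.notMem_empty _)
    have := hP.1.1
    rw [hP0] at this
    exact IsDomain.of_bot_isPrime A
  · exact absurd ((Ideal.eq_top_iff_one _).2 ha) hP.1.1.ne_top

end general

end Groth.Agent.HopfRep.HopfDim

namespace Groth.Agent.HopfRep.HopfDim

theorem eq_bot_of_lie_eq {k : Type u} {A : Type v} [Field k] [CommRing A] [HopfAlgebra k A] [Algebra.FiniteType k A]
    (hconn : ∀ e : A, IsIdempotentElem e → e = 0 ∨ e = 1) (I : Ideal A) [I.IsHopfIdeal k]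
    [Algebra.FormallySmooth k (A ⧸ I)]
    (hLie : ∀ ψ : A →ₗ[k] k, (∀ a b, ψ (a * b) = Coalgebra.counit (R := k) a * ψ b + Coalgebra.counit (R := k) b * ψ a) →
      ∀ a ∈ I, ψ a = 0) : I = ⊥ := by
  have : IsNoetherianRing A := Algebra.FiniteType.isNoetherianRing k A
  have : IsNoetherianRing (A ⧸ I) := Algebra.FiniteType.isNoetherianRing k (A ⧸ I)
  obtain ⟨r, x, ψ, hr, hx, hψ, hψx, hspan⟩ := GrDeriv.exists_cotangent_coords (Bialgebra.counitAlgHom k A)
  have hψI : ∀ i, ∀ a ∈ I, ψ i a = 0 := fun i => hLie (ψ i) (hψ i)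
  have hε : ∀ a : A, Bialgebra.counitAlgHom k (A ⧸ I) (Ideal.Quotient.mk I a) = Bialgebra.counitAlgHom k A a :=
    fun a => rfl
  let ψ' : Fin r → (A ⧸ I) →ₗ[k] k := fun i =>
    (Submodule.restrictScalars k I).liftQ (ψ i) (fun a ha => hψI i a ha) ∘ₗ
      (Submodule.Quotient.restrictScalarsEquiv k I).symm.toLinearMap
  have hcot : Module.finrank k (RingHom.ker (Bialgebra.counitAlgHom k (A ⧸ I))).Cotangent = r := by
    refine finrank_cotangent_eq _ (fun i => Ideal.Quotient.mk I (x i)) ψ' (fun i => (hε (x i)).trans (hx i)) ?_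
      (fun i j => hψx i j) ?_
    · intro i a b
      obtain ⟨a, rfl⟩ := Ideal.Quotient.mk_surjective a
      obtain ⟨b, rfl⟩ := Ideal.Quotient.mk_surjective b
      rw [← map_mul, hε, hε]
      exact hψ i a b
    · intro a ha
      obtain ⟨a, rfl⟩ := Ideal.Quotient.mk_surjective a
      obtain ⟨c, hc⟩ := hspan a ((hε a).symm.trans ha)
      refine ⟨c, ?_⟩
      have h1 := Ideal.mem_map_of_mem (Ideal.Quotient.mkₐ k I) hc
      rw [Ideal.map_pow] at h1
      have h2 : Ideal.map (Ideal.Quotient.mkₐ k I) (RingHom.ker (Bialgebra.counitAlgHom k A)) ≤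
          RingHom.ker (Bialgebra.counitAlgHom k (A ⧸ I)) :=
        Ideal.map_le_iff_le_comap.2 fun y hy => (hε y).trans hy
      have h3 := Ideal.pow_right_mono h2 2 h1
      rw [map_sub, map_sum] at h3
      simp only [map_smul] at h3
      exact h3
  have hB := (dim_le_and_eq_iff (k := k) (A := A ⧸ I)).2.2 inferInstance
  rw [hcot] at hB
  have hA : Algebra.FormallySmooth k A := by
    refine (dim_le_and_eq_iff (k := k) (A := A)).2.1 (le_antisymm (dim_le_and_eq_iff (k := k) (A := A)).1 ?_)
    rw [← hr, ← hB]
    exact ringKrullDim_le_of_surjective _ Ideal.Quotient.mk_surjective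
  have hdimA : ringKrullDim A = r := by
    rw [(dim_le_and_eq_iff (k := k) (A := A)).2.2 hA, hr]
  have := isDomain_of_formallySmooth (k := k) hconn
  by_contra hne
  obtain ⟨c, hc, hc0⟩ := Submodule.exists_mem_ne_zero_of_ne_bot hne
  have h := ringKrullDim_quotient_succ_le_of_nonZeroDivisor (mem_nonZeroDivisors_of_ne_zero hc0)
  have h2 : ringKrullDim (A ⧸ I) ≤ ringKrullDim (A ⧸ Ideal.span {c}) :=
    ringKrullDim_le_of_surjective (Ideal.Quotient.factor ((Ideal.span_singleton_le_iff_mem _).2 hc))
      (Ideal.Quotient.factor_surjective _)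
  rw [hB] at h2
  rw [hdimA] at h
  have h3 : ((r : WithBot ℕ∞) + 1) ≤ r := le_trans (by gcongr) h
  norm_cast at h3
  omega

end Groth.Agent.HopfRep.HopfDim
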