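import Groth.Agent.Mor.OpenGen
import Mathlib.AlgebraicGeometry.PullbackCarrier
import Mathlib.AlgebraicGeometry.Morphisms.ClosedImmersion
import Mathlib.AlgebraicGeometry.Morphisms.Immersion
import Mathlib.CategoryTheory.Monoidal.Cartesian.Grp

/-!
Topology of group schemes over a field: translations over residue fields, products of dense opens,
images of homomorphisms.
-/

universe u

open CategoryTheory MonoidalCategory CartesianMonoidalCategory MonObj GrpObj AlgebraicGeometry

noncomputable section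

namespace Groth.Agent.HopfRep.GrpTop

variable {K : Type u} [Field K] {G H : Over (Spec (CommRingCat.of K))}

/-- The residue field of a point as an object over the base. -/
def res {W : Over (Spec (CommRingCat.of K))} (w : W.left) : Over (Spec (CommRingCat.of K)) :=
  Over.mk (W.left.fromSpecResidueField w ≫ W.hom)

def resι {W : Over (Spec (CommRingCat.of K))} (w : W.left) : res w ⟶ W :=
  Over.homMk (W.left.fromSpecResidueField w)

theorem resι_apply {W : Over (Spec (CommRingCat.of K))} (w : W.left) (t : (res w).left) :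
    (resι w).left t = w :=
  Scheme.fromSpecResidueField_apply w t

instance {W : Over (Spec (CommRingCat.of K))} (w : W.left) : Unique (res w).left :=
  inferInstanceAs (Unique (PrimeSpectrum (W.left.residueField w)))

theorem universallyOpen_hom (W : Over (Spec (CommRingCat.of K))) : UniversallyOpen W.hom :=
  haveI : Subsingleton ↥(Spec (CommRingCat.of K)) := inferInstanceAs (Subsingleton (PrimeSpectrum K))
  Mor.OpenGen.universallyOpen_of_subsingleton W.hom

theorem isOpenMap_snd (T W : Over (Spec (CommRingCat.of K))) : IsOpenMap (snd T W).left := by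
  have := universallyOpen_hom T
  have : UniversallyOpen (Limits.pullback.snd T.hom W.hom) := inferInstance
  exact (Limits.pullback.snd T.hom W.hom).isOpenMap

theorem surjective_snd (T W : Over (Spec (CommRingCat.of K))) (t : T.left) :
    Function.Surjective (snd T W).left := by
  intro w
  haveI : Subsingleton ↥(Spec (CommRingCat.of K)) := inferInstanceAs (Subsingleton (PrimeSpectrum K))
  obtain ⟨z, -, hz⟩ := Scheme.Pullback.exists_preimage_pullback (f := T.hom) (g := W.hom) t w (Subsingleton.elim _ _)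
  exact ⟨z, hz⟩

theorem left_comp_apply {X Y Z : Over (Spec (CommRingCat.of K))} (f : X ⟶ Y) (g : Y ⟶ Z) (x : X.left) :
    (f ≫ g).left x = g.left (f.left x) := rfl

variable [GrpObj G]

/-- Left translation by a point `t` of `G`, over its base `T`. -/
def lmul {T : Over (Spec (CommRingCat.of K))} (t : T ⟶ G) : T ⊗ G ≅ T ⊗ G where
  hom := lift (fst T G) ((fst T G ≫ t) * snd T G)
  inv := lift (fst T G) ((fst T G ≫ t)⁻¹ * snd T G)
  hom_inv_id := by
    ext1
    · simp
    · simp [MonObj.comp_mul, GrpObj.comp_inv]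
  inv_hom_id := by
    ext1
    · simp
    · simp [MonObj.comp_mul, GrpObj.comp_inv]

/-- Right translation by a point `t` of `G`, over its base `T`. -/
def rmul {T : Over (Spec (CommRingCat.of K))} (t : T ⟶ G) : T ⊗ G ≅ T ⊗ G where
  hom := lift (fst T G) (snd T G * (fst T G ≫ t))
  inv := lift (fst T G) (snd T G * (fst T G ≫ t)⁻¹)
  hom_inv_id := by
    ext1
    · simp
    · simp [MonObj.comp_mul, GrpObj.comp_inv]
  inv_hom_id := by
    ext1
    · simp
    · simp [MonObj.comp_mul, GrpObj.comp_inv]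

/-- `v ↦ t v⁻¹`, an involution up to order. -/
def divMap {T : Over (Spec (CommRingCat.of K))} (t : T ⟶ G) : T ⊗ G ≅ T ⊗ G where
  hom := lift (fst T G) ((fst T G ≫ t) * (snd T G)⁻¹)
  inv := lift (fst T G) ((snd T G)⁻¹ * (fst T G ≫ t))
  hom_inv_id := by
    ext1
    · simp
    · simp [MonObj.comp_mul, GrpObj.comp_inv]
  inv_hom_id := by
    ext1
    · simp
    · simp [MonObj.comp_mul, GrpObj.comp_inv]

theorem continuous_open {T W : Over (Spec (CommRingCat.of K))} (e : T ≅ W) :
    IsHomeomorph e.hom.left := by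
  have : IsIso e.hom.left := inferInstanceAs (IsIso ((Over.forget _).map e.hom))
  exact e.hom.left.homeomorph.isHomeomorph

theorem exists_mul_eq (U V : G.left.Opens) (hU : (U : Set G.left).Nonempty) (hV : Dense (V : Set G.left))
    (x : G.left) : ∃ z : (G ⊗ G).left, (fst G G).left z ∈ U ∧ (snd G G).left z ∈ V ∧ μ[G].left z = x := by
  let T := res x
  let t : T ⟶ G := resι x
  let φ := divMap t
  let p := (snd T G).left
  have hsurj : Function.Surjective p := surjective_snd T G default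
  have hne : (φ.hom.left ⁻¹' (p ⁻¹' (U : Set G.left))).Nonempty := by
    obtain ⟨a, ha⟩ := hU
    obtain ⟨b, hb⟩ := hsurj a
    obtain ⟨c, hc⟩ := (continuous_open φ).surjective b
    exact ⟨c, show p (φ.hom.left c) ∈ U by rw [hc, hb]; exact ha⟩
  have hop : IsOpen (φ.hom.left ⁻¹' (p ⁻¹' (U : Set G.left))) :=
    (U.2.preimage p.continuous).preimage φ.hom.left.continuous
  have hVd : Dense (p ⁻¹' (V : Set G.left)) := hV.preimage (isOpenMap_snd T G)
  obtain ⟨v, hvU, hvV⟩ := hVd.inter_open_nonempty _ hop hne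
  let f : T ⊗ G ⟶ G ⊗ G := lift ((fst T G ≫ t) * (snd T G)⁻¹) (snd T G)
  refine ⟨f.left v, ?_, ?_, ?_⟩
  · rw [← left_comp_apply]
    have e : f ≫ fst G G = φ.hom ≫ snd T G := by simp [f, φ, divMap]
    rw [e, left_comp_apply]
    exact hvU
  · rw [← left_comp_apply]
    have e : f ≫ snd G G = snd T G := by simp [f]
    rw [e]
    exact hvV
  · rw [← left_comp_apply, ← Hom.mul_def, inv_mul_cancel_right, left_comp_apply]
    exact resι_apply x _

theorem compactSpace_of_irreducibleSpace [IrreducibleSpace G.left] : CompactSpace G.left := by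
  obtain ⟨_, ⟨U, hU, rfl⟩, hxU, -⟩ := G.left.isBasis_affineOpens.exists_subset_of_mem_open
    (Set.mem_univ (η[G].left (IsLocalRing.closedPoint K))) isOpen_univ
  have hne : (U : Set G.left).Nonempty := ⟨_, hxU⟩
  have hd : Dense (U : Set G.left) := U.2.dense hne
  have : IsAffine U := hU
  let P := Limits.pullback ((Scheme.Opens.ι U) ≫ G.hom) ((Scheme.Opens.ι U) ≫ G.hom)
  let j : P ⟶ (G ⊗ G).left := Limits.pullback.map ((Scheme.Opens.ι U) ≫ G.hom) ((Scheme.Opens.ι U) ≫ G.hom) G.hom G.hom (Scheme.Opens.ι U) (Scheme.Opens.ι U) (𝟙 _)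
    (by simp) (by simp)
  refine ⟨?_⟩
  have hc : IsCompact (Set.range (j ≫ μ[G].left)) := isCompact_range (j ≫ μ[G].left).continuous
  convert hc
  refine (Set.eq_univ_of_forall fun x => ?_).symm
  obtain ⟨z, h1, h2, h3⟩ := exists_mul_eq U U hne hd x
  have hz : z ∈ Set.range j := by
    rw [Scheme.Pullback.range_map]
    exact ⟨by rw [Scheme.Opens.range_ι]; exact h1, by rw [Scheme.Opens.range_ι]; exact h2⟩
  obtain ⟨w, rfl⟩ := hz
  exact ⟨w, h3⟩

theorem image_eq_univ (U V : G.left.Opens) (hU : (U : Set G.left).Nonempty) (hV : Dense (V : Set G.left)) :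
    μ[G].left '' ((fst G G).left ⁻¹' (U : Set G.left) ∩ (snd G G).left ⁻¹' (V : Set G.left)) = Set.univ :=
  Set.eq_univ_of_forall fun x => by
    obtain ⟨z, h1, h2, h3⟩ := exists_mul_eq U V hU hV x
    exact ⟨z, ⟨h1, h2⟩, h3⟩

section hom

variable [GrpObj H] (ψ : H ⟶ G) [IsMonHom ψ]

/-- Two points in the image lift simultaneously. -/
theorem exists_lift {W : Over (Spec (CommRingCat.of K))} (a b : W ⟶ G) (w : W.left)
    (ha : a.left w ∈ Set.range ψ.left) (hb : b.left w ∈ Set.range ψ.left) :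
    ∃ (Q : Over (Spec (CommRingCat.of K))) (q : Q ⟶ W) (z : Q.left) (h₁ h₂ : Q ⟶ H),
      q.left z = w ∧ q ≫ a = h₁ ≫ ψ ∧ q ≫ b = h₂ ≫ ψ := by
  obtain ⟨x, hx⟩ := ha
  obtain ⟨y, hy⟩ := hb
  let P₁ : Over (Spec (CommRingCat.of K)) := Over.mk (Limits.pullback.snd ψ.left a.left ≫ W.hom)
  let q₁ : P₁ ⟶ W := Over.homMk (Limits.pullback.snd ψ.left a.left)
  let k₁ : P₁ ⟶ H := Over.homMk (Limits.pullback.fst ψ.left a.left) (by
    show _ ≫ H.hom = _ ≫ W.hom
    rw [← Over.w ψ, ← Over.w a, ← Category.assoc, ← Category.assoc, Limits.pullback.condition])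
  have e₁ : q₁ ≫ a = k₁ ≫ ψ := by
    ext1
    exact Limits.pullback.condition.symm
  obtain ⟨z₁, -, hz₁⟩ := Scheme.Pullback.exists_preimage_pullback (f := ψ.left) (g := a.left) x w hx
  let b₁ : P₁ ⟶ G := q₁ ≫ b
  let P₂ : Over (Spec (CommRingCat.of K)) := Over.mk (Limits.pullback.snd ψ.left b₁.left ≫ P₁.hom)
  let q₂ : P₂ ⟶ P₁ := Over.homMk (Limits.pullback.snd ψ.left b₁.left)
  let k₂ : P₂ ⟶ H := Over.homMk (Limits.pullback.fst ψ.left b₁.left) (by
    show _ ≫ H.hom = _ ≫ P₁.hom
    rw [← Over.w ψ, ← Over.w b₁, ← Category.assoc, ← Category.assoc, Limits.pullback.condition])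
  have e₂ : q₂ ≫ b₁ = k₂ ≫ ψ := by
    ext1
    exact Limits.pullback.condition.symm
  obtain ⟨z₂, -, hz₂⟩ := Scheme.Pullback.exists_preimage_pullback (f := ψ.left) (g := b₁.left) y z₁
    (by rw [hy]; exact (congrArg b.left hz₁).symm)
  refine ⟨P₂, q₂ ≫ q₁, z₂, q₂ ≫ k₁, k₂, ?_, by rw [Category.assoc, e₁, Category.assoc],
    by rw [Category.assoc]; exact e₂⟩
  rw [left_comp_apply]
  exact (congrArg q₁.left hz₂).trans hz₁

theorem mul_mem {W : Over (Spec (CommRingCat.of K))} (a b : W ⟶ G) (w : W.left)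
    (ha : a.left w ∈ Set.range ψ.left) (hb : b.left w ∈ Set.range ψ.left) :
    (a * b).left w ∈ Set.range ψ.left := by
  obtain ⟨Q, q, z, h₁, h₂, hz, e₁, e₂⟩ := exists_lift ψ a b w ha hb
  have e : q ≫ (a * b) = (h₁ * h₂) ≫ ψ := by rw [MonObj.comp_mul, e₁, e₂, MonObj.mul_comp]
  exact ⟨(h₁ * h₂).left z, by rw [← left_comp_apply, ← e, left_comp_apply, hz]⟩

theorem inv_mem {W : Over (Spec (CommRingCat.of K))} (a : W ⟶ G) (w : W.left)
    (ha : a.left w ∈ Set.range ψ.left) : (a⁻¹).left w ∈ Set.range ψ.left := by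
  obtain ⟨Q, q, z, h₁, h₂, hz, e₁, e₂⟩ := exists_lift ψ a a w ha ha
  have e : q ≫ a⁻¹ = h₁⁻¹ ≫ ψ := by rw [GrpObj.comp_inv, e₁, GrpObj.inv_comp]
  exact ⟨(h₁⁻¹).left z, by rw [← left_comp_apply, ← e, left_comp_apply, hz]⟩

theorem one_mem (W : Over (Spec (CommRingCat.of K))) (w : W.left) :
    (1 : W ⟶ G).left w ∈ Set.range ψ.left :=
  ⟨(1 : W ⟶ H).left w, by rw [← left_comp_apply, MonObj.one_comp]⟩

theorem isClosed_range_of_isOpen (h : IsOpen (Set.range ψ.left)) : IsClosed (Set.range ψ.left) := by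
  rw [← isOpen_compl_iff, isOpen_iff_forall_mem_open]
  intro x hx
  let T := res x
  let t : T ⟶ G := resι x
  let φ := lmul t
  let p := (snd T G).left
  let O : Set (T ⊗ G).left := p ⁻¹' Set.range ψ.left
  refine ⟨p '' (φ.hom.left '' O), ?_, isOpenMap_snd T G _
    ((continuous_open φ).isOpenMap _ (h.preimage p.continuous)), ?_⟩
  · rintro _ ⟨_, ⟨v, hv, rfl⟩, rfl⟩ hmem
    refine hx ?_
    have e : φ.hom ≫ snd T G = (fst T G ≫ t) * snd T G := by simp [φ, lmul]
    rw [← left_comp_apply, e] at hmem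
    have h' := mul_mem ψ _ _ v hmem (inv_mem ψ (snd T G) v hv)
    rwa [mul_inv_cancel_right, left_comp_apply, resι_apply] at h'
  · let s : T ⟶ T ⊗ G := lift (𝟙 T) 1
    refine ⟨φ.hom.left (s.left default), ⟨_, ?_, rfl⟩, ?_⟩
    · show p (s.left default) ∈ Set.range ψ.left
      rw [← left_comp_apply, lift_snd]
      exact one_mem ψ T _
    · rw [← left_comp_apply, ← left_comp_apply]
      have e : (s ≫ φ.hom) ≫ snd T G = t := by simp [s, φ, lmul, MonObj.comp_mul]
      rw [← Category.assoc, e]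
      exact resι_apply x _

theorem closure_mul_mem {W : Over (Spec (CommRingCat.of K))} (a b : W ⟶ G) (w : W.left)
    (ha : a.left w ∈ closure (Set.range ψ.left)) (hb : b.left w ∈ Set.range ψ.left) :
    (a * b).left w ∈ closure (Set.range ψ.left) := by
  let T := res w
  let a' : T ⟶ G := resι w ≫ a
  let b' : T ⟶ G := resι w ≫ b
  let p := (snd T G).left
  let φ := rmul b'
  have hφ : φ.hom.left '' (p ⁻¹' Set.range ψ.left) ⊆ p ⁻¹' Set.range ψ.left := by
    rintro _ ⟨v, hv, rfl⟩
    have e : φ.hom ≫ snd T G = snd T G * (fst T G ≫ b') := by simp [φ, rmul]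
    rw [Set.mem_preimage, ← left_comp_apply, e]
    refine mul_mem ψ _ _ v hv ?_
    rw [left_comp_apply, left_comp_apply, resι_apply]
    exact hb
  have hcl : p ⁻¹' closure (Set.range ψ.left) = closure (p ⁻¹' Set.range ψ.left) :=
    (isOpenMap_snd T G).preimage_closure_eq_closure_preimage p.continuous _
  let s : T ⟶ T ⊗ G := lift (𝟙 T) a'
  have hs : s.left default ∈ closure (p ⁻¹' Set.range ψ.left) := by
    rw [← hcl, Set.mem_preimage, ← left_comp_apply, lift_snd, left_comp_apply, resι_apply]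
    exact ha
  have hs' := map_mem_closure φ.hom.left.continuous hs (fun v hv => hφ ⟨v, hv, rfl⟩)
  rw [← hcl, Set.mem_preimage, ← left_comp_apply, ← left_comp_apply] at hs'
  have e : (s ≫ φ.hom) ≫ snd T G = resι w ≫ (a * b) := by simp [s, φ, rmul, MonObj.comp_mul, a', b']
  rw [← Category.assoc, e, left_comp_apply, resι_apply] at hs'
  exact hs'

theorem closure_inv_mem {W : Over (Spec (CommRingCat.of K))} (a : W ⟶ G) (w : W.left)
    (ha : a.left w ∈ closure (Set.range ψ.left)) :
    (a⁻¹).left w ∈ closure (Set.range ψ.left) := by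
  have e : a⁻¹ = a ≫ (𝟙 G : G ⟶ G)⁻¹ := by rw [GrpObj.comp_inv, Category.comp_id]
  rw [e, left_comp_apply]
  exact map_mem_closure ((𝟙 G : G ⟶ G)⁻¹).left.continuous ha fun v hv => inv_mem ψ (𝟙 G) v hv

theorem isClosed_range_of_isLocallyClosed (h : IsLocallyClosed (Set.range ψ.left)) :
    IsClosed (Set.range ψ.left) := by
  refine closure_subset_iff_isClosed.1 fun x hx => ?_
  let T := res x
  let t : T ⟶ G := resι x
  let p := (snd T G).left
  let φ := lmul t
  have hcl : p ⁻¹' closure (Set.range ψ.left) = closure (p ⁻¹' Set.range ψ.left) :=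
    (isOpenMap_snd T G).preimage_closure_eq_closure_preimage p.continuous _
  obtain ⟨U, Z, hU, hZ, hR⟩ := h
  have hincl : closure (Set.range ψ.left) ⊆ Z := closure_minimal (hR ▸ Set.inter_subset_right) hZ
  have hfwd : ∀ v, p v ∈ Set.range ψ.left → p (φ.hom.left v) ∈ closure (Set.range ψ.left) := by
    intro v hv
    have e : φ.hom ≫ snd T G = (fst T G ≫ t) * snd T G := by simp [φ, lmul]
    rw [← left_comp_apply, e]
    refine closure_mul_mem ψ _ _ v ?_ hv
    rw [left_comp_apply, resι_apply]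
    exact hx
  have hbwd : ∀ v, p v ∈ Set.range ψ.left → p (φ.inv.left v) ∈ closure (Set.range ψ.left) := by
    intro v hv
    have e : φ.inv ≫ snd T G = (fst T G ≫ t)⁻¹ * snd T G := by simp [φ, lmul]
    rw [← left_comp_apply, e]
    refine closure_mul_mem ψ _ _ v (closure_inv_mem ψ _ v ?_) hv
    rw [left_comp_apply, resι_apply]
    exact hx
  obtain ⟨v₀, hv₀⟩ := surjective_snd T G default ((1 : 𝟙_ _ ⟶ G).left (IsLocalRing.closedPoint K))
  have hv₀R : p v₀ ∈ Set.range ψ.left := hv₀ ▸ one_mem ψ _ _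
  -- `φ⁻¹ U` is an open set meeting the closure of the preimage
  have hmeet : φ.inv.left v₀ ∈ φ.hom.left ⁻¹' (p ⁻¹' U) := by
    show p (φ.hom.left (φ.inv.left v₀)) ∈ U
    rw [← left_comp_apply φ.inv φ.hom, φ.inv_hom_id]
    exact (hR ▸ hv₀R : p v₀ ∈ U ∩ Z).1
  have hmem : φ.inv.left v₀ ∈ closure (p ⁻¹' Set.range ψ.left) := hcl ▸ hbwd v₀ hv₀R
  obtain ⟨v, hvU, hvR⟩ := mem_closure_iff.1 hmem _ ((hU.preimage p.continuous).preimage φ.hom.left.continuous) hmeet
  have hvR' : p (φ.hom.left v) ∈ Set.range ψ.left := hR ▸ ⟨hvU, hincl (hfwd v hvR)⟩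
  have e : φ.hom ≫ snd T G = (fst T G ≫ t) * snd T G := by simp [φ, lmul]
  rw [← left_comp_apply, e] at hvR'
  have h' := mul_mem ψ _ _ v hvR' (inv_mem ψ (snd T G) v hvR)
  rwa [mul_inv_cancel_right, left_comp_apply, resι_apply] at h'

theorem isClosedImmersion_of_isImmersion [IsImmersion ψ.left] : IsClosedImmersion ψ.left :=
  .of_isPreimmersion _ (isClosed_range_of_isLocallyClosed ψ ψ.left.isLocallyClosed_range)

end hom

end Groth.Agent.HopfRep.GrpTop

end
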