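import Groth.Prelude.Def_AlgGrp
import Groth.Agent.HopfRep.GrpTop
import Mathlib.AlgebraicGeometry.Morphisms.Finite
import Mathlib.AlgebraicGeometry.Morphisms.FlatDescent
import Mathlib.AlgebraicGeometry.Group.Abelian

/-!
Torsor squares of kernels; connectedness of extensions of group schemes over a field.
-/

universe u v

open CategoryTheory MonoidalCategory CartesianMonoidalCategory MonObj GrpObj AlgebraicGeometry

noncomputable section

namespace Groth.Agent.HopfRep.Torsor

section general

variable {S : Scheme.{u}} {N G Q X : Over S} [GrpObj G] [GrpObj Q]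

/-- If `N` is the kernel of `q'`, then pairs with equal image in `Q` are translates by `N`. -/
theorem isPullback (i : N ⟶ G) (q' : G ⟶ Q) [IsMonHom q'] (hker : AlgGrp.IsKernel i q')
    (s : X ⟶ G) (q : X ⟶ Q) (hs : s ≫ q' = q) :
    IsPullback (fst X N) ((fst X N ≫ s) * (snd X N ≫ i)) q q' := by
  have hw : fst X N ≫ q = ((fst X N ≫ s) * (snd X N ≫ i)) ≫ q' := by
    rw [MonObj.mul_comp, Category.assoc, Category.assoc, hs, hker.w, ← Category.assoc, comp_toUnit,
      ← Hom.one_def, _root_.mul_one]
  have key : ∀ (c : Limits.PullbackCone q q'),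
      ((c.fst ≫ s)⁻¹ * c.snd) ≫ q' = toUnit c.pt ≫ η[Q] := fun c => by
    rw [MonObj.mul_comp, GrpObj.inv_comp, Category.assoc, hs, c.condition, inv_mul_cancel, Hom.one_def]
  refine IsPullback.of_isLimit' ⟨hw⟩ (Limits.PullbackCone.IsLimit.mk _
    (fun c => lift c.fst (hker.lift ((c.fst ≫ s)⁻¹ * c.snd) (toUnit _) (key c))) ?_ ?_ ?_)
  · intro c; simp
  · intro c
    rw [MonObj.comp_mul, lift_fst_assoc, lift_snd_assoc, hker.lift_fst, mul_inv_cancel_left]
  · intro c m h1 h2
    apply CartesianMonoidalCategory.hom_ext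
    · rw [lift_fst, h1]
    · rw [lift_snd]
      apply hker.hom_ext
      · rw [hker.lift_fst, Category.assoc, ← h2, MonObj.comp_mul, reassoc_of% h1,
          inv_mul_cancel_left]
      · exact toUnit_unique _ _

theorem isPullback_left {A B C D : Over S} {f : A ⟶ B} {g : A ⟶ C} {h : B ⟶ D} {k : C ⟶ D}
    (H : IsPullback f g h k) : IsPullback f.left g.left h.left k.left :=
  H.map (Over.forget S)

theorem isPullback_fst (X N : Over S) : IsPullback (fst X N).left (snd X N).left X.hom N.hom :=
  IsPullback.of_hasPullback _ _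

/-- The self square of `q : G ⟶ Q` with kernel `i`. -/
theorem isPullback_self (i : N ⟶ G) (q : G ⟶ Q) [IsMonHom q] (hker : AlgGrp.IsKernel i q) :
    IsPullback (fst G N).left ((fst G N) * (snd G N ≫ i)).left q.left q.left := by
  have h := isPullback_left (isPullback i q hker (𝟙 G) q (Category.id_comp q))
  rwa [Category.comp_id] at h

theorem isPullback_whisker {T W : Over S} (f : T ⟶ W) (N : Over S) :
    IsPullback (fst T N) (f ▷ N) f (fst W N) := by
  refine IsPullback.of_isLimit' ⟨by simp⟩ (Limits.PullbackCone.IsLimit.mk _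
    (fun c => lift c.fst (c.snd ≫ snd W N)) ?_ ?_ ?_)
  · intro c; simp
  · intro c
    apply CartesianMonoidalCategory.hom_ext
    · simp [c.condition]
    · simp
  · intro c a h1 h2
    apply CartesianMonoidalCategory.hom_ext
    · simp [← h1]
    · simp [← h2]

end general

section field

variable {K : Type u} [Field K]

theorem isSeparated (G : Over (Spec (CommRingCat.of K))) [GrpObj G] : IsSeparated G.hom := by
  have hw : lift (𝟙 G) (𝟙 G) ≫ (fst G G * (snd G G)⁻¹) = toUnit G ≫ η[G] := by
    rw [MonObj.comp_mul, GrpObj.comp_inv, lift_fst, lift_snd, mul_inv_cancel, Hom.one_def]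
  have key : ∀ c : Limits.PullbackCone (fst G G * (snd G G)⁻¹) η[G], c.fst ≫ fst G G = c.fst ≫ snd G G :=
    fun c => by
      have := c.condition
      rw [MonObj.comp_mul, GrpObj.comp_inv, toUnit_unique c.snd (toUnit _), ← Hom.one_def] at this
      exact mul_inv_eq_one.1 this
  have H : IsPullback (lift (𝟙 G) (𝟙 G)) (toUnit G) (fst G G * (snd G G)⁻¹) η[G] := by
    refine IsPullback.of_isLimit' ⟨hw⟩ (Limits.PullbackCone.IsLimit.mk _ (fun c => c.fst ≫ fst G G) ?_ ?_ ?_)
    · intro c
      apply CartesianMonoidalCategory.hom_ext <;> simp [key c]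
    · intro c; exact toUnit_unique _ _
    · intro c m h1 h2
      rw [← h1]; simp
  constructor
  have h := isPullback_left H
  exact MorphismProperty.of_isPullback (P := @IsClosedImmersion) h.flip inferInstance

theorem quasiCompact_hom {G Q : Over (Spec (CommRingCat.of K))} [GrpObj Q] (q : G ⟶ Q)
    [QuasiCompact G.hom] : QuasiCompact q.left := by
  have := isSeparated Q
  have : QuasiCompact (q.left ≫ Q.hom) := by rw [Over.w]; infer_instance
  exact QuasiCompact.of_comp q.left Q.hom

theorem lfp_hom {G Q : Over (Spec (CommRingCat.of K))} (q : G ⟶ Q)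
    [LocallyOfFiniteType G.hom] [LocallyOfFiniteType Q.hom] : LocallyOfFinitePresentation q.left := by
  have : IsLocallyNoetherian Q.left := LocallyOfFiniteType.isLocallyNoetherian Q.hom
  rw [LocallyOfFinitePresentation.iff_locallyOfFiniteType]
  have : LocallyOfFiniteType (q.left ≫ Q.hom) := by rw [Over.w]; infer_instance
  exact locallyOfFiniteType_of_comp q.left Q.hom

/-- A connected scheme with a rational point stays connected over residue fields of closed points. -/
theorem connectedSpace_res_tensor {X N : Over (Spec (CommRingCat.of K))} [LocallyOfFiniteType X.hom]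
    {x : X.left} (hx : IsClosed {x}) [ConnectedSpace N.left] (e : 𝟙_ (Over (Spec (CommRingCat.of K))) ⟶ N) :
    ConnectedSpace (GrpTop.res x ⊗ N).left := by
  let T := GrpTop.res x
  have hcl := isClosed_singleton_iff_isClosedImmersion.1 hx
  have : IsFinite T.hom := by
    have : Subsingleton (T.left) := inferInstanceAs (Subsingleton (PrimeSpectrum (X.left.residueField x)))
    have : _root_.AlgebraicGeometry.IsReduced T.left :=
      inferInstanceAs (AlgebraicGeometry.IsReduced (Spec (X.left.residueField x)))
    have : JacobsonSpace ↥(Spec (CommRingCat.of K)) := inferInstanceAs (JacobsonSpace (PrimeSpectrum K))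
    exact isFinite_iff_locallyOfFiniteType_of_jacobsonSpace.2
      (show LocallyOfFiniteType (X.left.fromSpecResidueField x ≫ X.hom) from inferInstance)
  have : IsFinite (snd T N).left :=
    MorphismProperty.of_isPullback (P := @IsFinite) (isPullback_fst T N) this
  have hclosed : IsClosedMap (snd T N).left := (snd T N).left.isClosedMap
  have hopen : IsOpenMap (snd T N).left := GrpTop.isOpenMap_snd T N
  let n₀ : N.left := e.left (IsLocalRing.closedPoint K)
  let s : T ⟶ T ⊗ N := lift (𝟙 T) (toUnit T ≫ e)
  have hs : ∀ z : (T ⊗ N).left, (snd T N).left z = n₀ → z = s.left default := by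
    intro z hz
    have hp' : IsPullback (T ◁ e) (snd T (𝟙_ _)) (snd T N) e := by
      refine IsPullback.of_isLimit' ⟨by simp⟩ (Limits.PullbackCone.IsLimit.mk _
        (fun c => lift (c.fst ≫ fst T N) c.snd) ?_ ?_ ?_)
      · intro c
        apply CartesianMonoidalCategory.hom_ext
        · simp
        · simpa using c.condition.symm
      · intro c; simp
      · intro c m h1 h2
        apply CartesianMonoidalCategory.hom_ext
        · simp [← h1]
        · simp [← h2]
    obtain ⟨w, hw, -⟩ := Scheme.exists_preimage_of_isPullback (isPullback_left hp') z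
      (IsLocalRing.closedPoint K) hz
    have : w = (lift (𝟙 T) (toUnit T)).left ((fst T (𝟙_ _)).left w) := by
      rw [← GrpTop.left_comp_apply]
      have : fst T (𝟙_ _) ≫ lift (𝟙 T) (toUnit T) = 𝟙 (T ⊗ 𝟙_ _) := by
        apply CartesianMonoidalCategory.hom_ext
        · simp
        · exact toUnit_unique _ _
      rw [this]; rfl
    rw [← hw, this, ← GrpTop.left_comp_apply]
    have : lift (𝟙 T) (toUnit T) ≫ T ◁ e = s := by simp [s]
    rw [this, Unique.eq_default ((fst T (𝟙_ _)).left w)]
  have : Nonempty (T ⊗ N).left := ⟨s.left default⟩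
  have key : ∀ C : Set (T ⊗ N).left, IsClopen C → C.Nonempty → s.left default ∈ C := by
    intro C hC hne
    have : (snd T N).left '' C = Set.univ :=
      (IsClopen.eq_univ ⟨hclosed _ hC.1, hopen _ hC.2⟩ (hne.image _))
    obtain ⟨z, hz, hz'⟩ := this.ge (Set.mem_univ n₀)
    exact hs z hz' ▸ hz
  exact connectedSpace_iff_clopen.2 ⟨inferInstance, fun C hC => by
    by_contra h
    rw [not_or] at h
    exact key Cᶜ hC.compl (Set.nonempty_compl.2 h.2) (key C hC (Set.nonempty_iff_ne_empty.2 h.1))⟩

/-- An extension of connected group schemes is connected. -/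
theorem connectedSpace_of_extension {N G Q : Over (Spec (CommRingCat.of K))} [GrpObj N] [GrpObj G] [GrpObj Q]
    [LocallyOfFiniteType N.hom] [LocallyOfFiniteType G.hom] [LocallyOfFiniteType Q.hom]
    (i : N ⟶ G) [IsMonHom i] (q : G ⟶ Q) [IsMonHom q] [Flat q.left] [Surjective q.left]
    (hker : AlgGrp.IsKernel i q) [ConnectedSpace N.left] [ConnectedSpace Q.left] :
    ConnectedSpace G.left := by
  have := lfp_hom q
  have hopen : IsOpenMap q.left := q.left.isOpenMap
  let p := (fst G N).left
  let m := ((fst G N) * (snd G N ≫ i)).left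
  have hsq := isPullback_self i q hker
  have : Nonempty G.left := ⟨η[G].left (IsLocalRing.closedPoint K)⟩
  have sat : ∀ U : Set G.left, IsClopen U → q.left ⁻¹' (q.left '' U) = U := by
    intro U hU
    refine Set.Subset.antisymm ?_ (Set.subset_preimage_image _ _)
    have hD : IsClopen (p ⁻¹' U ∩ m ⁻¹' Uᶜ) :=
      (hU.preimage p.continuous).inter (hU.compl.preimage m.continuous)
    have hempty : p ⁻¹' U ∩ m ⁻¹' Uᶜ = ∅ := by
      by_contra hne
      have : JacobsonSpace (G ⊗ N).left := by
        have : LocallyOfFiniteType (G ⊗ N).hom := by dsimp; infer_instance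
        have : JacobsonSpace ↥(Spec (CommRingCat.of K)) := inferInstanceAs (JacobsonSpace (PrimeSpectrum K))
        exact LocallyOfFiniteType.jacobsonSpace (G ⊗ N).hom
      obtain ⟨z, ⟨hzU, hzm⟩, hz⟩ := nonempty_inter_closedPoints (Set.nonempty_iff_ne_empty.2 hne) hD.2.isLocallyClosed
      have : JacobsonSpace G.left := by
        have : JacobsonSpace ↥(Spec (CommRingCat.of K)) := inferInstanceAs (JacobsonSpace (PrimeSpectrum K))
        exact LocallyOfFiniteType.jacobsonSpace G.hom
      have : LocallyOfFiniteType p := MorphismProperty.of_isPullback (P := @LocallyOfFiniteType)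
        (isPullback_fst G N).flip inferInstance
      let g := p z
      have hg : IsClosed {g} := p.closePoints_subset_preimage_closedPoints hz
      have := connectedSpace_res_tensor (N := N) hg η[N]
      let j : GrpTop.res g ⊗ N ⟶ G ⊗ N := GrpTop.resι g ▷ N
      obtain ⟨w, hw, -⟩ := Scheme.exists_preimage_of_isPullback
        (isPullback_left (isPullback_whisker (GrpTop.resι g) N)).flip z default
        (by rw [GrpTop.resι_apply])
      have hD' : IsClopen (j.left ⁻¹' (p ⁻¹' U ∩ m ⁻¹' Uᶜ)) := hD.preimage j.left.continuous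
      have huniv : j.left ⁻¹' (p ⁻¹' U ∩ m ⁻¹' Uᶜ) = Set.univ :=
        hD'.eq_univ ⟨w, by rw [Set.mem_preimage, hw]; exact ⟨hzU, hzm⟩⟩
      let s : GrpTop.res g ⟶ GrpTop.res g ⊗ N := lift (𝟙 _) 1
      obtain ⟨h1, h2⟩ := huniv.ge (Set.mem_univ (s.left default))
      apply h2
      show (fst G N * (snd G N ≫ i)).left (j.left (s.left default)) ∈ U
      rw [← GrpTop.left_comp_apply, ← GrpTop.left_comp_apply]
      have e1 : s ≫ j ≫ (fst G N * (snd G N ≫ i)) = s ≫ j ≫ fst G N := by
        simp [s, j, MonObj.comp_mul, MonObj.one_comp]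
      rw [e1]
      change (fst G N).left (j.left (s.left default)) ∈ U at h1
      rw [← GrpTop.left_comp_apply, ← GrpTop.left_comp_apply] at h1
      exact h1
    rintro y ⟨x, hx, hxy⟩
    by_contra hy
    obtain ⟨z, hz1, hz2⟩ := Scheme.exists_preimage_of_isPullback hsq x y hxy
    have : z ∈ p ⁻¹' U ∩ m ⁻¹' Uᶜ := ⟨show (fst G N).left z ∈ U from hz1 ▸ hx, show (fst G N * (snd G N ≫ i)).left z ∈ Uᶜ from hz2 ▸ hy⟩
    rw [hempty] at this
    exact this
  refine connectedSpace_iff_clopen.2 ⟨inferInstance, fun U hU => ?_⟩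
  have himg : IsClopen (q.left '' U) := by
    refine ⟨?_, hopen _ hU.2⟩
    rw [← isOpen_compl_iff]
    have : (q.left '' U)ᶜ = q.left '' Uᶜ := by
      ext y
      obtain ⟨x, rfl⟩ := q.left.surjective y
      constructor
      · intro h; exact ⟨x, fun hx => h ⟨x, hx, rfl⟩, rfl⟩
      · intro h h'
        have h1 : x ∈ U := (sat U hU).le h'
        exact (sat Uᶜ hU.compl).le h h1
    rw [this]; exact hopen _ hU.compl.2
  rcases isClopen_iff.1 himg with h | h
  · exact Or.inl (Set.image_eq_empty.1 h)
  · exact Or.inr (by rw [← sat U hU, h, Set.preimage_univ])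

end field

end Groth.Agent.HopfRep.Torsor

end
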