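import Groth.Agent.HopfRep.SepPoints
import Groth.Agent.HopfRep.HopfDim
import Groth.Agent.HopfRep.Torsor
import Mathlib.AlgebraicGeometry.Properties

/-!
Smooth schemes over a separably closed field: reduced, rational points dense, factorisation through
closed subschemes is decided on rational points.
-/

universe u

open CategoryTheory MonoidalCategory CartesianMonoidalCategory AlgebraicGeometry Limits

set_option linter.style.haveILetI false

noncomputable section

namespace Groth.Agent.HopfRep.Rational

set_option backward.isDefEq.respectTransparency.types false in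
theorem isReduced_of_smooth {K : Type u} [Field K] {X : Scheme.{u}} (f : X ⟶ Spec (CommRingCat.of K))
    [Smooth f] : IsReduced X := by
  have : ∀ x : X, _root_.IsReduced (X.presheaf.stalk x) := by
    intro x
    obtain ⟨U, hU, V, hV, hx, e, hsm⟩ := Smooth.exists_isStandardSmooth f x
    have hUtop : U = ⊤ := by
      haveI : Subsingleton ↥(Spec (CommRingCat.of K)) := inferInstanceAs (Subsingleton (PrimeSpectrum K))
      exact TopologicalSpace.Opens.ext (Set.eq_univ_of_forall fun y => Subsingleton.elim (f x) y ▸ e hx)
    subst hUtop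
    let σ : K →+* Γ(X, V) := ((Scheme.ΓSpecIso (CommRingCat.of K)).inv ≫ f.appLE ⊤ V e).hom
    letI := σ.toAlgebra
    have h2 : σ.IsStandardSmooth :=
      RingHom.isStandardSmooth_respectsIso.2 (f.appLE ⊤ V e).hom
        (Scheme.ΓSpecIso (CommRingCat.of K)).symm.commRingCatIsoToRingEquiv hsm
    have : Algebra.IsStandardSmooth K Γ(X, V) := RingHom.isStandardSmooth_algebraMap.1 h2
    have : _root_.IsReduced Γ(X, V) := by
      refine isReduced_ofLocalizationMaximal _ fun J _ => ?_
      have : Algebra.FormallySmooth Γ(X, V) (Localization.AtPrime J) := .of_isLocalization J.primeCompl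
      have : Algebra.IsSmoothAt K J := Algebra.FormallySmooth.comp K Γ(X, V) (Localization.AtPrime J)
      have := HopfDim.isRegularLocalRing_of_isSmoothAt (k := K) J
      have : IsDomain (Localization.AtPrime J) := Groth.Agent.RegularLocal.Basic.isDomain_aux _ _ rfl
      infer_instance
    have hloc := hV.isLocalization_stalk ⟨x, hx⟩
    letI := TopCat.Presheaf.algebra_section_stalk X.presheaf (⟨x, hx⟩ : V)
    exact isReduced_localizationPreserves.{u} (hV.primeIdealOf ⟨x, hx⟩).asIdeal.primeCompl
      (X.presheaf.stalk x) ‹_›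
  exact isReduced_of_isReduced_stalk X

/-- Rational points of a smooth scheme over a separably closed field are dense. -/
theorem exists_section_mem {K : Type u} [Field K] [IsSepClosed K] {X : Scheme.{u}}
    (f : X ⟶ Spec (CommRingCat.of K)) [Smooth f] (U : X.Opens) (hU : (U : Set X).Nonempty) :
    ∃ s : Spec (CommRingCat.of K) ⟶ X, s ≫ f = 𝟙 _ ∧ ∀ p, s p ∈ U := by
  obtain ⟨x, hx⟩ := hU
  have : Nonempty (U : Scheme.{u}) := ⟨⟨x, hx⟩⟩
  obtain ⟨s, hs⟩ := SepPoints.exists_section (U.ι ≫ f)
  refine ⟨s ≫ U.ι, by rw [Category.assoc]; exact hs, fun p => ?_⟩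
  have : U.ι (s p) ∈ Set.range U.ι := Set.mem_range_self _
  rw [Scheme.Opens.range_ι] at this
  exact this

/-- A closed immersion containing all rational points of a smooth scheme is an isomorphism. -/
theorem isIso_of_points {K : Type u} [Field K] [IsSepClosed K] {X Z : Scheme.{u}}
    (f : X ⟶ Spec (CommRingCat.of K)) [Smooth f] (c : Z ⟶ X) [IsClosedImmersion c]
    (h : ∀ s : Spec (CommRingCat.of K) ⟶ X, s ≫ f = 𝟙 _ → ∃ t, t ≫ c = s) : IsIso c := by
  have := isReduced_of_smooth f
  have : Surjective c := ⟨fun x => by
    by_contra hx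
    let U : X.Opens := ⟨(Set.range c)ᶜ, c.isClosedEmbedding.isClosed_range.isOpen_compl⟩
    obtain ⟨s, hs, hsU⟩ := exists_section_mem f U ⟨x, hx⟩
    obtain ⟨t, ht⟩ := h s hs
    refine hsU (IsLocalRing.closedPoint K) ⟨t (IsLocalRing.closedPoint K), ?_⟩
    rw [← ht]; rfl⟩
  exact isIso_of_isClosedImmersion_of_surjective c

variable {k : Type u} [Field k] (K : Type u) [Field K] [Algebra k K]

/-- `Spec K` over `Spec k`. -/
abbrev spec : Over (Spec (CommRingCat.of k)) :=
  Over.mk (Spec.map (CommRingCat.ofHom (algebraMap k K)))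

set_option backward.isDefEq.respectTransparency.types false in
/-- A morphism from a smooth scheme factors through a closed subscheme as soon as it does on points
with values in a separably closed extension. -/
theorem exists_factor [IsSepClosed K] {X Y Z : Over (Spec (CommRingCat.of k))} [Smooth X.hom]
    (c : Z ⟶ Y) [IsClosedImmersion c.left] (a : X ⟶ Y)
    (h : ∀ x : spec K ⟶ X, ∃ z : spec K ⟶ Z, z ≫ c = x ≫ a) :
    ∃ b : X ⟶ Z, b ≫ c = a := by
  let j := pullback.snd c.left a.left
  let g : Spec (CommRingCat.of K) ⟶ Spec (CommRingCat.of k) := Spec.map (CommRingCat.ofHom (algebraMap k K))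
  let p := pullback.fst X.hom g
  let f := pullback.snd X.hom g
  let d := pullback.snd j p
  have hd : IsIso d := by
    refine isIso_of_points f d fun s hs => ?_
    let x : spec K ⟶ X := Over.homMk (s ≫ p) (by
      show (s ≫ p) ≫ X.hom = g
      rw [Category.assoc, pullback.condition, reassoc_of% hs])
    obtain ⟨z, hz⟩ := h x
    have hz' : z.left ≫ c.left = (s ≫ p) ≫ a.left := congrArg CommaMorphism.left hz
    refine ⟨pullback.lift (pullback.lift z.left (s ≫ p) hz') s (pullback.lift_snd _ _ _), pullback.lift_snd _ _ _⟩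
  have : Surjective g := inferInstance
  have hp : (@Surjective ⊓ @Flat ⊓ @QuasiCompact : MorphismProperty Scheme.{u}) p :=
    MorphismProperty.of_isPullback (P := (@Surjective ⊓ @Flat ⊓ @QuasiCompact : MorphismProperty Scheme.{u}))
      (IsPullback.of_hasPullback X.hom g).flip ⟨⟨inferInstance, inferInstance⟩, inferInstance⟩
  have : IsIso j := MorphismProperty.of_pullback_snd_of_descendsAlong
    (P := MorphismProperty.isomorphisms Scheme.{u}) hp (show IsIso (pullback.snd j p) from hd)
  have hb : (inv j ≫ pullback.fst c.left a.left) ≫ c.left = a.left := by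
    rw [Category.assoc, pullback.condition, IsIso.inv_hom_id_assoc]
  refine ⟨Over.homMk (inv j ≫ pullback.fst c.left a.left) ?_, Over.OverMorphism.ext hb⟩
  rw [← Over.w c, ← Category.assoc, hb, Over.w a]

/-- Morphisms from a smooth scheme to a group scheme agreeing on points are equal. -/
theorem eq_of_points [IsSepClosed K] {X G : Over (Spec (CommRingCat.of k))} [Smooth X.hom] [GrpObj G]
    (a b : X ⟶ G) (h : ∀ x : spec K ⟶ X, x ≫ a = x ≫ b) : a = b := by
  have := Torsor.isSeparated G
  have : IsClosedImmersion (lift (𝟙 G) (𝟙 G)).left := by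
    have : (lift (𝟙 G) (𝟙 G)).left = pullback.diagonal G.hom := by
      apply pullback.hom_ext <;> simp
      · exact pullback.lift_fst ..
      · exact pullback.lift_snd ..
    rw [this]; infer_instance
  obtain ⟨e, he⟩ := exists_factor K (lift (𝟙 G) (𝟙 G)) (lift a b)
    fun x => ⟨x ≫ a, by rw [comp_lift, comp_lift, Category.comp_id, h x]⟩
  rw [comp_lift, Category.comp_id] at he
  have h1 := congrArg (· ≫ fst G G) he
  have h2 := congrArg (· ≫ snd G G) he
  simp only [lift_fst, lift_snd] at h1 h2
  rw [← h1, ← h2]

end Groth.Agent.HopfRep.Rational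

end
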