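import Groth.Agent.HopfRep.GeomReduced
import Groth.Agent.HopfRep.Rational
import Mathlib.AlgebraicGeometry.AlgClosed.Basic

/-!
Reduced orbits of smooth group schemes are smooth.
-/

universe u

open CategoryTheory MonoidalCategory CartesianMonoidalCategory MonObj GrpObj AlgebraicGeometry Limits

set_option linter.style.haveILetI false

noncomputable section

namespace Groth.Agent.HopfRep.Orbit

theorem exists_lift_immersion {X Y Z : Scheme.{u}} (i : Z ⟶ Y) [IsImmersion i] (a : X ⟶ Y) [IsReduced X]
    (h : Set.range a ⊆ Set.range i) : ∃ b : X ⟶ Z, b ≫ i = a := by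
  let j := pullback.snd i a
  have hr : Set.range j = Set.univ := by
    rw [Scheme.Pullback.range_snd]
    exact Set.eq_univ_of_forall fun x => h ⟨x, rfl⟩
  have : IsImmersion j := inferInstanceAs (IsImmersion (pullback.snd i a))
  have : IsClosedImmersion j := .of_isPreimmersion _ (hr ▸ isClosed_univ)
  have : Surjective j := ⟨Set.range_eq_univ.1 hr⟩
  have := isIso_of_isClosedImmersion_of_surjective j
  exact ⟨inv j ≫ pullback.fst i a, by rw [Category.assoc, pullback.condition, IsIso.inv_hom_id_assoc]⟩

section action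

variable {S : Scheme.{u}} {G X : Over S} [GrpObj G] (a : AlgGrp.Action G X)

theorem act_mul {T : Over S} (g h : T ⟶ G) (x : T ⟶ X) :
    lift (g * h) x ≫ a.act = lift g (lift h x ≫ a.act) ≫ a.act := by
  have e := congrArg (lift (lift g h) x ≫ ·) a.mul_act
  simp only [lift_whiskerRight_assoc, lift_lift_associator_hom_assoc, lift_whiskerLeft_assoc] at e
  rw [Hom.mul_def]; exact e

theorem act_one {T : Over S} (x : T ⟶ X) : lift (1 : T ⟶ G) x ≫ a.act = x := by
  have e := congrArg (lift (toUnit T) x ≫ ·) a.one_act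
  simp only [lift_whiskerRight_assoc, lift_leftUnitor_hom] at e
  rw [Hom.one_def]; exact e

theorem comp_orbitMap {T : Over S} (o : 𝟙_ (Over S) ⟶ X) (h : T ⟶ G) :
    h ≫ a.orbitMap o = lift h (toUnit T ≫ o) ≫ a.act := by
  simp [AlgGrp.Action.orbitMap, comp_lift_assoc]

theorem act_orbitMap {T : Over S} (o : 𝟙_ (Over S) ⟶ X) (g h : T ⟶ G) :
    lift g (h ≫ a.orbitMap o) ≫ a.act = (g * h) ≫ a.orbitMap o := by
  rw [comp_orbitMap, comp_orbitMap, act_mul]

/-- Translation of `X` by a point of `G`, over its base. -/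
def translate {T : Over S} (g : T ⟶ G) : T ⊗ X ≅ T ⊗ X where
  hom := lift (fst T X) (lift (fst T X ≫ g) (snd T X) ≫ a.act)
  inv := lift (fst T X) (lift (fst T X ≫ g⁻¹) (snd T X) ≫ a.act)
  hom_inv_id := by
    apply CartesianMonoidalCategory.hom_ext
    · simp
    · rw [Category.assoc, lift_snd, comp_lift_assoc, lift_fst_assoc, lift_snd, ← act_mul,
        GrpObj.comp_inv, inv_mul_cancel, act_one, Category.id_comp]
  inv_hom_id := by
    apply CartesianMonoidalCategory.hom_ext
    · simp
    · rw [Category.assoc, lift_snd, comp_lift_assoc, lift_fst_assoc, lift_snd, ← act_mul,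
        GrpObj.comp_inv, mul_inv_cancel, act_one, Category.id_comp]

@[simp] theorem translate_fst {T : Over S} (g : T ⟶ G) : (translate a g).hom ≫ fst T X = fst T X := by
  simp [translate]

theorem whisker_orbit_translate {T : Over S} (o : 𝟙_ (Over S) ⟶ X) (g : T ⟶ G) :
    T ◁ a.orbitMap o ≫ (translate a g).hom ≫ snd T X =
      ((fst T G ≫ g) * snd T G) ≫ a.orbitMap o := by
  simp only [translate, lift_snd, comp_lift_assoc, whiskerLeft_fst_assoc, whiskerLeft_snd]
  rw [act_orbitMap]

theorem isPullback_whiskerLeft {T : Over S} {A B : Over S} (f : A ⟶ B) :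
    IsPullback (T ◁ f) (snd T A) (snd T B) f := by
  refine IsPullback.of_isLimit' ⟨by simp⟩ (Limits.PullbackCone.IsLimit.mk _
    (fun c => lift (c.fst ≫ fst T B) c.snd) ?_ ?_ ?_)
  · intro c
    apply CartesianMonoidalCategory.hom_ext
    · simp
    · simpa using c.condition.symm
  · intro c; simp
  · intro c m h1 h2
    apply CartesianMonoidalCategory.hom_ext
    · simp [← h1]
    · simp [← h2]

end action

variable {k : Type u} [Field k]

set_option backward.isDefEq.respectTransparency.types false in
/-- The reduced orbit of a rational point under a smooth group scheme is smooth. -/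
theorem smooth_orbit {G X : Over (Spec (CommRingCat.of k))} [GrpObj G] [Smooth G.hom]
    [LocallyOfFiniteType X.hom] (a : AlgGrp.Action G X) (x : 𝟙_ (Over (Spec (CommRingCat.of k))) ⟶ X)
    {O : Scheme.{u}} (i : O ⟶ X.left) [IsImmersion i] [IsReduced O]
    (hO : Set.range i = Set.range (a.orbitMap x).left) : Smooth (i ≫ X.hom) := by
  let K := AlgebraicClosure k
  let T := Rational.spec (k := k) K
  have := Rational.isReduced_of_smooth G.hom
  obtain ⟨a₀, ha₀⟩ := exists_lift_immersion i (a.orbitMap x).left hO.ge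
  have : Surjective a₀ := ⟨fun o => by
    obtain ⟨g, hg⟩ := hO.le ⟨o, rfl⟩
    refine ⟨g, i.isEmbedding.injective ?_⟩
    rw [← hg, ← ha₀]; rfl⟩
  have : Smooth (a₀ ≫ i ≫ X.hom) := by
    rw [← Category.assoc, ha₀, Over.w]; infer_instance
  let p := (snd T X).left
  let j := pullback.fst p i
  let f' : pullback p i ⟶ Spec (CommRingCat.of K) := j ≫ (fst T X).left
  have hsq : IsPullback (pullback.snd p i) f' (i ≫ X.hom) T.hom :=
    (IsPullback.of_hasPullback p i).flip.paste_vert (Torsor.isPullback_fst T X).flip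
  have : IsReduced (pullback p i) := by
    have : IsReduced (pullback (i ≫ X.hom) T.hom) := GeomReduced.isReduced_pullback K a₀ (i ≫ X.hom)
    exact isReduced_of_isOpenImmersion hsq.isoPullback.hom
  have : LocallyOfFiniteType (i ≫ X.hom) := inferInstance
  have hlft : LocallyOfFiniteType f' := MorphismProperty.of_isPullback (P := @LocallyOfFiniteType) hsq ‹_›
  have : LocallyOfFinitePresentation f' := LocallyOfFinitePresentation.iff_locallyOfFiniteType.2 hlft
  have hrange : Set.range j = p ⁻¹' Set.range (a.orbitMap x).left := by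
    rw [Scheme.Pullback.range_fst, hO]
  have hpres : ∀ g : T ⟶ G, Set.range (j ≫ (translate a g).hom.left) ⊆ Set.range j := by
    intro g
    rintro _ ⟨z, rfl⟩
    rw [hrange]
    obtain ⟨h, hh⟩ := hrange.le ⟨z, rfl⟩
    obtain ⟨w, hw, -⟩ := Scheme.exists_preimage_of_isPullback
      (Torsor.isPullback_left (isPullback_whiskerLeft (T := T) (a.orbitMap x))) (j z) h hh.symm
    refine ⟨(((fst T G ≫ g) * snd T G)).left w, ?_⟩
    show _ = p ((translate a g).hom.left (j z))
    rw [← hw, ← GrpTop.left_comp_apply, ← whisker_orbit_translate]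
    rfl
  have hτ : ∀ g : T ⟶ G, ∃ τ : pullback p i ⟶ pullback p i, τ ≫ j = j ≫ (translate a g).hom.left :=
    fun g => exists_lift_immersion j _ (hpres g)
  choose τ hτ using hτ
  have hτf : ∀ g, τ g ≫ f' = f' := fun g => by
    show τ g ≫ j ≫ _ = j ≫ _
    rw [reassoc_of% hτ g, ← Over.comp_left, translate_fst]
  have hτiso : ∀ g, IsIso (τ g) := by
    intro g
    have hi : Set.range (j ≫ (translate a g).inv.left) ⊆ Set.range j := by
      have : (translate a g).inv = (translate a g⁻¹).hom := by simp [translate]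
      rw [this]; exact hpres _
    obtain ⟨τ', hτ'⟩ := exists_lift_immersion j _ hi
    refine ⟨τ', (cancel_mono j).1 ?_, (cancel_mono j).1 ?_⟩
    · rw [Category.assoc, hτ', reassoc_of% hτ g, ← Over.comp_left, Iso.hom_inv_id, Category.id_comp]
      exact Category.comp_id _
    · rw [Category.assoc, hτ g, reassoc_of% hτ', ← Over.comp_left, Iso.inv_hom_id, Category.id_comp]
      exact Category.comp_id _
  have hpt : ∀ s : Spec (CommRingCat.of K) ⟶ pullback p i, s ≫ f' = 𝟙 _ →
      ∃ g : T ⟶ G, s ≫ j = (lift (𝟙 T) (g ≫ a.orbitMap x)).left := by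
    intro s hs
    let sT : T ⟶ T ⊗ X := Over.homMk (s ≫ j) (by
      rw [← Over.w (fst T X), Category.assoc, ← Category.assoc j, ← Category.assoc s]
      rw [show s ≫ j ≫ (fst T X).left = 𝟙 _ from hs, Category.id_comp])
    have e1 : sT ≫ fst T X = 𝟙 T := Over.OverMorphism.ext ((Category.assoc _ _ _).trans hs)
    let y := sT ≫ snd T X
    obtain ⟨h, hh⟩ := hrange.le ⟨s (IsLocalRing.closedPoint K), rfl⟩
    have hh' : (a.orbitMap x).left h = y.left (IsLocalRing.closedPoint K) := hh
    let F := pullback (a.orbitMap x).left y.left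
    have : LocallyOfFiniteType (a.orbitMap x).left := by
      have : LocallyOfFiniteType ((a.orbitMap x).left ≫ X.hom) := by rw [Over.w]; infer_instance
      exact locallyOfFiniteType_of_comp _ X.hom
    let fF : F ⟶ Spec (CommRingCat.of K) := pullback.snd (a.orbitMap x).left y.left
    have : LocallyOfFiniteType fF := inferInstanceAs (LocallyOfFiniteType (pullback.snd _ _))
    obtain ⟨z₀, -, -⟩ := Scheme.Pullback.exists_preimage_pullback (f := (a.orbitMap x).left) (g := y.left) h
      (IsLocalRing.closedPoint K) hh'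
    have : JacobsonSpace ↥F := by
      have : JacobsonSpace ↥(Spec (CommRingCat.of K)) := inferInstanceAs (JacobsonSpace (PrimeSpectrum K))
      exact LocallyOfFiniteType.jacobsonSpace fF
    obtain ⟨c, -, hc⟩ := nonempty_inter_closedPoints (Z := (Set.univ : Set F)) ⟨z₀, trivial⟩ isClosed_univ.isLocallyClosed
    let t := pointOfClosedPoint fF c hc
    have ht : t ≫ fF = 𝟙 _ := pointOfClosedPoint_comp fF c hc
    have hw : (t ≫ pullback.fst (a.orbitMap x).left y.left) ≫ (a.orbitMap x).left = y.left := by
      rw [Category.assoc, pullback.condition, ← Category.assoc, ht]; exact Category.id_comp _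
    refine ⟨Over.homMk (t ≫ pullback.fst _ _) (by rw [← Over.w (a.orbitMap x), ← Category.assoc, hw, Over.w y]), ?_⟩
    show sT.left = _
    congr 1
    apply CartesianMonoidalCategory.hom_ext
    · rw [e1, lift_fst]
    · rw [lift_snd]; exact (Over.OverMorphism.ext hw).symm
  have : Nonempty ↥(pullback p i : Scheme.{u}) := by
    obtain ⟨h0⟩ : Nonempty G.left := ⟨η[G].left (IsLocalRing.closedPoint k)⟩
    obtain ⟨v, hv⟩ := GrpTop.surjective_snd T X (IsLocalRing.closedPoint K) ((a.orbitMap x).left h0)
    obtain ⟨z, -⟩ := hrange.ge (show v ∈ p ⁻¹' _ from ⟨h0, hv.symm⟩)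
    exact ⟨z⟩
  have : JacobsonSpace ↥(pullback p i : Scheme.{u}) := by
    have : JacobsonSpace ↥(Spec (CommRingCat.of K)) := inferInstanceAs (JacobsonSpace (PrimeSpectrum K))
    exact LocallyOfFiniteType.jacobsonSpace f'
  obtain ⟨c₀, hc₀s, hc₀⟩ := nonempty_inter_closedPoints f'.dense_smoothLocus_of_perfectField.nonempty
    f'.smoothLocus.2.isLocallyClosed
  have hall : f'.smoothLocus = ⊤ := by
    apply TopologicalSpace.Opens.ext
    by_contra hne
    obtain ⟨c, hcs, hc⟩ := nonempty_inter_closedPoints (Set.nonempty_compl.2 hne)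
      f'.smoothLocus.2.isClosed_compl.isLocallyClosed
    obtain ⟨g, hg⟩ := hpt _ (pointOfClosedPoint_comp f' c hc)
    obtain ⟨g₀, hg₀⟩ := hpt _ (pointOfClosedPoint_comp f' c₀ hc₀)
    let dg := g * g₀⁻¹
    have e : pointOfClosedPoint f' c₀ hc₀ ≫ τ dg = pointOfClosedPoint f' c hc := by
      apply (cancel_mono j).1
      rw [Category.assoc, hτ, ← Category.assoc, hg₀, hg, ← Over.comp_left]
      congr 1
      apply CartesianMonoidalCategory.hom_ext
      · simp [translate]
      · simp only [translate, Category.assoc, lift_snd, comp_lift_assoc, lift_fst_assoc, Category.id_comp]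
        rw [act_orbitMap, inv_mul_cancel_right]
    have := hτiso dg
    have he : τ dg c₀ = c := by
      have h1 := congrArg (fun φ => φ (IsLocalRing.closedPoint K)) e
      simpa using h1
    refine hcs ?_
    have hpre : τ dg ⁻¹ᵁ f'.smoothLocus = f'.smoothLocus := by
      rw [Scheme.Hom.preimage_smoothLocus_eq]
      simp only [hτf]
    have hmem : c₀ ∈ τ dg ⁻¹ᵁ f'.smoothLocus := hpre.ge hc₀s
    exact he ▸ hmem
  have hsm : Smooth f' := Scheme.Hom.smoothLocus_eq_top_iff.1 hall
  have : Surjective T.hom := inferInstanceAs (Surjective (Spec.map _))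
  exact MorphismProperty.of_isPullback_of_descendsAlong (P := @Smooth)
    (Q := (@Surjective ⊓ @Flat ⊓ @QuasiCompact : MorphismProperty Scheme.{u})) hsq.flip
    ⟨⟨inferInstance, inferInstance⟩, inferInstance⟩ hsm

end Groth.Agent.HopfRep.Orbit

end
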