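import Groth.Agent.HopfRep.Orbit
import Mathlib.AlgebraicGeometry.Restrict
import Mathlib.AlgebraicGeometry.Morphisms.Flat

/-!
The locus of the base over which an equivariant morphism has a local property is stable.
-/

universe u

open CategoryTheory MonoidalCategory CartesianMonoidalCategory MonObj GrpObj AlgebraicGeometry Limits

noncomputable section

namespace Groth.Agent.HopfRep.StableLocus

theorem restrict_pullback {A B C D : Scheme.{u}} {φ : A ⟶ B} {w : A ⟶ C} {v : B ⟶ D} {f : C ⟶ D}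
    (H : IsPullback φ w v f) (W : D.Opens) (U : B.Opens) (e : U ≤ v ⁻¹ᵁ W) :
    ∃ l, IsPullback (φ ∣_ U) l (v.resLE W U e) (f ∣_ W) := by
  have hUY : φ ⁻¹ᵁ U = φ ⁻¹ᵁ U ⊓ w ⁻¹ᵁ (f ⁻¹ᵁ W) := by
    refine (inf_eq_left.2 ?_).symm
    rw [← Scheme.Hom.comp_preimage, ← H.w, Scheme.Hom.comp_preimage]
    exact φ.preimage_mono e
  have h := Scheme.Hom.isPullback_resLE H (US := W) (UT := f ⁻¹ᵁ W) (UX := U) le_rfl e hUY
  rw [Scheme.Hom.resLE_eq_morphismRestrict, Scheme.Hom.resLE_eq_morphismRestrict] at h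
  exact ⟨_, h⟩

theorem restrict_iSup {X Y : Scheme.{u}} (f : X ⟶ Y) (P : MorphismProperty Scheme.{u})
    [IsZariskiLocalAtTarget P] {J : Type*} (V : J → Y.Opens) (h : ∀ i, P (f ∣_ V i)) :
    P (f ∣_ ⨆ i, V i) := by
  refine IsZariskiLocalAtTarget.of_iSup_eq_top (fun i => (⨆ i, V i).ι ⁻¹ᵁ V i) ?_ fun i => ?_
  · rw [← Scheme.Hom.preimage_iSup, Scheme.Opens.ι_preimage_self]
  · refine (P.arrow_mk_iso_iff (morphismRestrictRestrict f _ _ ≪≫ morphismRestrictEq f ?_)).2 (h i)
    rw [Scheme.Hom.image_preimage_eq_opensRange_inf, Scheme.Opens.opensRange_ι]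
    exact inf_eq_right.2 (le_iSup V i)

variable {k : Type u} [Field k] {G X Y : Over (Spec (CommRingCat.of k))} [GrpObj G]

theorem comp_act (a : AlgGrp.Action G Y) {T : Over (Spec (CommRingCat.of k))} (v : T ⟶ G ⊗ Y) :
    v ≫ a.act = lift (v ≫ fst G Y) (v ≫ snd G Y) ≫ a.act := by
  rw [← comp_lift, lift_fst_snd, Category.comp_id]

/-- The shear `(g, y) ↦ (g, g y)`. -/
def shear (a : AlgGrp.Action G Y) : G ⊗ Y ≅ G ⊗ Y where
  hom := lift (fst G Y) a.act
  inv := lift (fst G Y) (lift (fst G Y)⁻¹ (snd G Y) ≫ a.act)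
  hom_inv_id := by
    apply CartesianMonoidalCategory.hom_ext
    · simp
    · rw [Category.assoc, lift_snd, comp_lift_assoc, GrpObj.comp_inv, lift_fst, lift_snd]
      conv_lhs => arg 1; arg 2; rw [← Category.id_comp a.act, comp_act]
      rw [Category.id_comp, Category.id_comp, ← Orbit.act_mul, inv_mul_cancel, Orbit.act_one]
  inv_hom_id := by
    apply CartesianMonoidalCategory.hom_ext
    · simp
    · rw [Category.assoc, lift_snd, comp_act, lift_fst, lift_snd, ← Orbit.act_mul, mul_inv_cancel,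
        Orbit.act_one, Category.id_comp]

theorem isPullback_act (aX : AlgGrp.Action G X) (aY : AlgGrp.Action G Y) (f : X ⟶ Y)
    (hf : (G ◁ f) ≫ aY.act = aX.act ≫ f) : IsPullback (G ◁ f) aX.act aY.act f := by
  have h := Orbit.isPullback_whiskerLeft (T := G) f
  have e₁ : (shear aX).hom ≫ (G ◁ f) = (G ◁ f) ≫ (shear aY).hom := by
    apply CartesianMonoidalCategory.hom_ext
    · simp [shear]
    · simpa [shear] using hf.symm
  refine IsPullback.of_iso h (shear aX).symm (shear aY).symm (Iso.refl X) (Iso.refl Y) ?_ ?_ ?_ ?_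
  · rw [Iso.symm_hom, Iso.symm_hom, Iso.eq_inv_comp, reassoc_of% e₁, Iso.hom_inv_id, Category.comp_id]
  · rw [Iso.refl_hom, Category.comp_id, Iso.symm_hom, Iso.eq_inv_comp]
    simp [shear]
  · rw [Iso.refl_hom, Category.comp_id, Iso.symm_hom, Iso.eq_inv_comp]
    simp [shear]
  · simp

theorem exists_stable (aX : AlgGrp.Action G X) (aY : AlgGrp.Action G Y) (f : X ⟶ Y)
    (hf : (G ◁ f) ≫ aY.act = aX.act ≫ f) (P : MorphismProperty Scheme.{u}) [IsZariskiLocalAtTarget P]
    [P.IsStableUnderBaseChange] [P.DescendsAlong (@Flat ⊓ @Surjective ⊓ @UniversallyOpen)] :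
    ∃ V : Y.left.Opens, P (f.left ∣_ V) ∧ (∀ V' : Y.left.Opens, P (f.left ∣_ V') → V' ≤ V) ∧
      (snd G Y).left ⁻¹ᵁ V ≤ aY.act.left ⁻¹ᵁ V := by
  let V : Y.left.Opens := ⨆ W : {W : Y.left.Opens // P (f.left ∣_ W)}, W.1
  have hV : P (f.left ∣_ V) := restrict_iSup f.left P _ fun W => W.2
  have hmax : ∀ V' : Y.left.Opens, P (f.left ∣_ V') → V' ≤ V := fun V' h =>
    le_iSup (fun W : {W : Y.left.Opens // P (f.left ∣_ W)} => W.1) ⟨V', h⟩
  refine ⟨V, hV, hmax, ?_⟩
  have hsnd : IsPullback (snd G Y).left (fst G Y).left Y.hom G.hom := (IsPullback.of_hasPullback G.hom Y.hom).flip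
  have : Flat G.hom := inferInstance
  have : UniversallyOpen G.hom := GrpTop.universallyOpen_hom G
  have : Flat (snd G Y).left := MorphismProperty.of_isPullback (P := @Flat) hsnd.flip ‹_›
  have : UniversallyOpen (snd G Y).left := MorphismProperty.of_isPullback (P := @UniversallyOpen) hsnd.flip ‹_›
  have hact : aY.act.left = (shear aY).hom.left ≫ (snd G Y).left := by
    rw [← Over.comp_left]; simp [shear]
  have : IsIso (shear aY).hom.left := inferInstanceAs (IsIso ((Over.forget _).map (shear aY).hom))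
  have : Flat aY.act.left := hact ▸ inferInstance
  have : UniversallyOpen aY.act.left := hact ▸ inferInstance
  let U : (G ⊗ Y).left.Opens := (snd G Y).left ⁻¹ᵁ V
  let W : Y.left.Opens := ⟨aY.act.left '' U, aY.act.left.isOpenMap _ U.2⟩
  have e : U ≤ aY.act.left ⁻¹ᵁ W := fun z hz => ⟨z, hz, rfl⟩
  obtain ⟨l₁, h₁⟩ := restrict_pullback (Torsor.isPullback_left (Orbit.isPullback_whiskerLeft (T := G) f)) V U le_rfl
  have hU : P ((G ◁ f).left ∣_ U) := MorphismProperty.of_isPullback h₁.flip hV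
  obtain ⟨l₂, h₂⟩ := restrict_pullback (Torsor.isPullback_left (isPullback_act aX aY f hf)) W U e
  have hQ : (@Flat ⊓ @Surjective ⊓ @UniversallyOpen : MorphismProperty Scheme.{u}) (aY.act.left.resLE W U e) := by
    refine ⟨⟨?_, ⟨?_⟩⟩, ?_⟩
    · delta Scheme.Hom.resLE; infer_instance
    · rintro ⟨_, z, hz, rfl⟩
      refine ⟨⟨z, hz⟩, W.ι.isOpenEmbedding.injective ?_⟩
      exact ((Scheme.Hom.comp_apply _ _ _).symm.trans
        (congrArg (fun φ => φ ⟨z, hz⟩) (aY.act.left.resLE_comp_ι e))).trans rfl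
    · delta Scheme.Hom.resLE
      exact MorphismProperty.comp_mem @UniversallyOpen _ _ inferInstance
        (MorphismProperty.of_isPullback (isPullback_morphismRestrict aY.act.left W).flip ‹_›)
  have hW : P (f.left ∣_ W) := MorphismProperty.of_isPullback_of_descendsAlong h₂ hQ hU
  exact le_trans e (aY.act.left.preimage_mono (hmax W hW))

end Groth.Agent.HopfRep.StableLocus

end
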