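import Groth.Agent.HopfRep.StableLocus
import Groth.Agent.ConstrTop.Basic
import Mathlib.AlgebraicGeometry.AlgClosed.Basic

/-!
Orbits are locally closed; a closed orbit exists.
-/

universe u

open CategoryTheory MonoidalCategory CartesianMonoidalCategory MonObj GrpObj AlgebraicGeometry Limits

noncomputable section

namespace Groth.Agent.HopfRep.OrbitClosed

theorem exists_open {X : Type u} [TopologicalSpace X] {O : Set X} (h : Topology.IsConstructible O)
    (hne : O.Nonempty) : ∃ V : Set X, IsOpen V ∧ (V ∩ O).Nonempty ∧ V ∩ closure O ⊆ O := by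
  classical
  obtain ⟨n, Z, hZ, rfl⟩ := ConstrTop.Basic.exists_lc h
  suffices ∀ s : Finset (Fin n), (⋃ i ∈ s, Z i).Nonempty →
      ∃ V : Set X, IsOpen V ∧ (V ∩ ⋃ i ∈ s, Z i).Nonempty ∧ V ∩ closure (⋃ i ∈ s, Z i) ⊆ ⋃ i ∈ s, Z i by
    simpa using this Finset.univ (by simpa using hne)
  intro s
  induction s using Finset.induction_on with
  | empty => simp
  | insert a s _ ih =>
    rw [Finset.set_biUnion_insert]
    intro hne
    set R := ⋃ i ∈ s, Z i
    obtain ⟨U, C, hU, hC, hUC⟩ := hZ a
    by_cases h1 : ((U \ closure R) ∩ Z a).Nonempty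
    · refine ⟨U \ closure R, hU.sdiff isClosed_closure, h1.mono (by gcongr; exact Set.subset_union_left), ?_⟩
      rintro x ⟨⟨hxU, hxR⟩, hx⟩
      rw [closure_union] at hx
      refine Or.inl (hUC ▸ ⟨hxU, ?_⟩)
      exact (hx.resolve_right hxR) |> closure_minimal (hUC ▸ Set.inter_subset_right) hC
    · have hsub : Z a ⊆ closure R := fun x hx => by
        by_contra hc
        exact h1 ⟨x, ⟨(hUC ▸ hx : x ∈ U ∩ C).1, hc⟩, hx⟩
      have hR : R.Nonempty := by
        rcases hne with ⟨x, hx | hx⟩
        · exact closure_nonempty_iff.1 ⟨x, hsub hx⟩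
        · exact ⟨x, hx⟩
      obtain ⟨V, hV, hV1, hV2⟩ := ih hR
      refine ⟨V, hV, hV1.mono (by gcongr; exact Set.subset_union_right), ?_⟩
      rw [closure_union, Set.union_eq_right.2 (closure_minimal hsub isClosed_closure)]
      exact hV2.trans Set.subset_union_right

variable {k : Type u} [Field k] {G X : Over (Spec (CommRingCat.of k))} [GrpObj G]

theorem jacobson {W : Scheme.{u}} {K : Type u} [Field K] (f : W ⟶ Spec (CommRingCat.of K))
    [LocallyOfFiniteType f] : JacobsonSpace W :=
  have : JacobsonSpace ↥(Spec (CommRingCat.of K)) := inferInstanceAs (JacobsonSpace (PrimeSpectrum K))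
  LocallyOfFiniteType.jacobsonSpace f

/-- An orbit containing an open piece of its closure is locally closed. -/
theorem isLocallyClosed_orbit_of_piece [LocallyOfFiniteType G.hom] (a : AlgGrp.Action G X)
    (x : 𝟙_ (Over (Spec (CommRingCat.of k))) ⟶ X) {V : Set X.left} (hV : IsOpen V)
    (hVne : (V ∩ Set.range (a.orbitMap x).left).Nonempty)
    (hVsub : V ∩ closure (Set.range (a.orbitMap x).left) ⊆ Set.range (a.orbitMap x).left) :
    IsLocallyClosed (Set.range (a.orbitMap x).left) := by
  let O := Set.range (a.orbitMap x).left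
  let K := AlgebraicClosure k
  let T := Rational.spec (k := k) K
  let p := (snd T X).left
  let q := (T ◁ a.orbitMap x).left
  have hp : IsOpenMap p := GrpTop.isOpenMap_snd T X
  have hO' : Set.range q = p ⁻¹' O := by
    ext v
    constructor
    · rintro ⟨w, rfl⟩
      refine ⟨(snd T G).left w, ?_⟩
      show _ = (snd T X).left ((T ◁ a.orbitMap x).left w)
      rw [← GrpTop.left_comp_apply, ← GrpTop.left_comp_apply, whiskerLeft_snd]
    · rintro ⟨h, hh⟩
      obtain ⟨w, hw, -⟩ := Scheme.exists_preimage_of_isPullback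
        (Torsor.isPullback_left (Orbit.isPullback_whiskerLeft (T := T) (a.orbitMap x))) v h hh.symm
      exact ⟨w, hw⟩
  let σ : (T ⟶ G) → Set (T ⊗ X).left := fun g => (Orbit.translate a g).hom.left ⁻¹' (p ⁻¹' V)
  let S : Set (T ⊗ X).left := ⋃ g, σ g
  have hS : IsOpen S := isOpen_iUnion fun g => (hV.preimage p.continuous).preimage (Orbit.translate a g).hom.left.continuous
  have hpres : ∀ (g : T ⟶ G) v, v ∈ p ⁻¹' O → (Orbit.translate a g).hom.left v ∈ p ⁻¹' O := by
    intro g v hv
    obtain ⟨w, rfl⟩ := hO'.ge hv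
    refine ⟨(((fst T G ≫ g) * snd T G)).left w, ?_⟩
    show _ = p ((Orbit.translate a g).hom.left (q w))
    rw [← GrpTop.left_comp_apply, ← Orbit.whisker_orbit_translate]
    rfl
  have hsub : S ∩ closure (p ⁻¹' O) ⊆ p ⁻¹' O := by
    rintro v ⟨hv, hvc⟩
    obtain ⟨g, hg⟩ := Set.mem_iUnion.1 hv
    have h1 := map_mem_closure (Orbit.translate a g).hom.left.continuous hvc (hpres g)
    rw [← hp.preimage_closure_eq_closure_preimage p.continuous] at h1
    have h2 := hpres g⁻¹ _ (show (Orbit.translate a g).hom.left v ∈ p ⁻¹' O from hVsub ⟨hg, h1⟩)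
    have e : (Orbit.translate a g).hom.left ≫ (Orbit.translate a g⁻¹).hom.left = 𝟙 _ := by
      rw [show (Orbit.translate a g⁻¹).hom = (Orbit.translate a g).inv by simp [Orbit.translate],
        ← Over.comp_left, Iso.hom_inv_id]
      rfl
    rwa [← Scheme.Hom.comp_apply, e] at h2
  have hcov : p ⁻¹' O ⊆ S := by
    rw [← hO']
    rintro _ ⟨w, rfl⟩
    by_contra hw
    let f : (T ⊗ G).left ⟶ Spec (CommRingCat.of K) := (fst T G).left
    have : LocallyOfFiniteType f := MorphismProperty.of_isPullback (P := @LocallyOfFiniteType)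
      (Torsor.isPullback_fst T G).flip inferInstance
    have := jacobson f
    obtain ⟨c, hcS, hc⟩ := nonempty_inter_closedPoints (Z := q ⁻¹' Sᶜ) ⟨w, hw⟩
      (hS.isClosed_compl.preimage q.continuous).isLocallyClosed
    obtain ⟨_, hzV, h0, rfl⟩ := hVne
    obtain ⟨z, hz⟩ := GrpTop.surjective_snd T G (IsLocalRing.closedPoint K) h0
    obtain ⟨c₁, hc₁V, hc₁⟩ := nonempty_inter_closedPoints (Z := q ⁻¹' (p ⁻¹' V)) ⟨z, by
      show (snd T X).left ((T ◁ a.orbitMap x).left z) ∈ V
      rw [← GrpTop.left_comp_apply, whiskerLeft_snd, GrpTop.left_comp_apply, hz]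
      exact hzV⟩
      ((hV.preimage p.continuous).preimage q.continuous).isLocallyClosed
    let s : T ⟶ T ⊗ G := Over.homMk (pointOfClosedPoint f c hc) (by
      rw [← Over.w (fst T G)]; exact pointOfClosedPoint_comp_assoc f c hc _)
    let s₁ : T ⟶ T ⊗ G := Over.homMk (pointOfClosedPoint f c₁ hc₁) (by
      rw [← Over.w (fst T G)]; exact pointOfClosedPoint_comp_assoc f c₁ hc₁ _)
    let g := s ≫ snd T G
    let g₁ := s₁ ≫ snd T G
    have es : s ≫ fst T G = 𝟙 T := Over.OverMorphism.ext (pointOfClosedPoint_comp f c hc)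
    have es₁ : s₁ ≫ fst T G = 𝟙 T := Over.OverMorphism.ext (pointOfClosedPoint_comp f c₁ hc₁)
    refine hcS (Set.mem_iUnion.2 ⟨g₁ * g⁻¹, ?_⟩)
    have e : s ≫ (T ◁ a.orbitMap x) ≫ (Orbit.translate a (g₁ * g⁻¹)).hom = s₁ ≫ (T ◁ a.orbitMap x) := by
      apply CartesianMonoidalCategory.hom_ext
      · simp [Orbit.translate, es, es₁]
      · rw [Category.assoc, Category.assoc, Category.assoc, whiskerLeft_snd,
          Orbit.whisker_orbit_translate, ← Category.assoc, MonObj.comp_mul, ← Category.assoc, es,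
          Category.id_comp, ← Category.assoc]
        show (g₁ * g⁻¹ * g) ≫ _ = g₁ ≫ _
        rw [inv_mul_cancel_right]
    show (Orbit.translate a (g₁ * g⁻¹)).hom.left (q c) ∈ p ⁻¹' V
    have h1 : ∀ t, s.left t = c := pointOfClosedPoint_apply f c hc
    have h2 : ∀ t, s₁.left t = c₁ := pointOfClosedPoint_apply f c₁ hc₁
    have h3 : (s ≫ (T ◁ a.orbitMap x) ≫ (Orbit.translate a (g₁ * g⁻¹)).hom).left (IsLocalRing.closedPoint K) =
        (s₁ ≫ (T ◁ a.orbitMap x)).left (IsLocalRing.closedPoint K) := congrArg (fun φ => φ.left (IsLocalRing.closedPoint K)) e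
    have h4 : (Orbit.translate a (g₁ * g⁻¹)).hom.left (q (s.left (IsLocalRing.closedPoint K))) =
        q (s₁.left (IsLocalRing.closedPoint K)) := h3
    have h5 : (Orbit.translate a (g₁ * g⁻¹)).hom.left (q c) = q c₁ :=
      ((congrArg (fun z => (Orbit.translate a (g₁ * g⁻¹)).hom.left (q z)) (h1 _)).symm.trans h4).trans
        (congrArg q (h2 _))
    rw [h5]
    exact hc₁V
  have hlc : IsOpen (p ⁻¹' (closure O \ O)ᶜ) := by
    have : p ⁻¹' (closure O \ O)ᶜ = S ∪ (closure (p ⁻¹' O))ᶜ := by
      rw [← hp.preimage_closure_eq_closure_preimage p.continuous]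
      ext v
      constructor
      · intro hv
        by_cases hc : v ∈ p ⁻¹' closure O
        · exact Or.inl (hcov (by_contra fun h => hv ⟨hc, h⟩))
        · exact Or.inr hc
      · rintro (hv | hv) ⟨h1, h2⟩
        · exact h2 (hsub ⟨hv, (hp.preimage_closure_eq_closure_preimage p.continuous O).le h1⟩)
        · exact hv h1
    rw [this]
    exact hS.union isClosed_closure.isOpen_compl
  have hsurj : Function.Surjective p := GrpTop.surjective_snd T X (IsLocalRing.closedPoint K)
  rw [isLocallyClosed_iff_isOpen_coborder]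
  show IsOpen (closure O \ O)ᶜ
  rw [← Set.image_preimage_eq (closure O \ O)ᶜ hsurj]
  exact hp _ hlc

/-- Orbits of rational points are locally closed. -/
theorem isLocallyClosed_orbit [LocallyOfFiniteType G.hom] [QuasiCompact G.hom] [LocallyOfFiniteType X.hom]
    [QuasiCompact X.hom] (a : AlgGrp.Action G X) (x : 𝟙_ (Over (Spec (CommRingCat.of k))) ⟶ X) :
    IsLocallyClosed (Set.range (a.orbitMap x).left) := by
  let O := Set.range (a.orbitMap x).left
  have : CompactSpace X.left := QuasiCompact.compactSpace_of_compactSpace X.hom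
  have : CompactSpace G.left := QuasiCompact.compactSpace_of_compactSpace G.hom
  have : IsLocallyNoetherian X.left := LocallyOfFiniteType.isLocallyNoetherian X.hom
  have : QuasiCompact (a.orbitMap x).left := by
    have : QuasiCompact ((a.orbitMap x).left ≫ X.hom) := by rw [Over.w]; infer_instance
    exact QuasiCompact.of_comp _ X.hom
  have := Torsor.lfp_hom (a.orbitMap x)
  have hO : Topology.IsConstructible O := by
    have := (a.orbitMap x).left.isConstructible_image (s := Set.univ) Topology.IsConstructible.univ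
    rwa [Set.image_univ] at this
  obtain ⟨V, hV, hVne, hVsub⟩ := exists_open hO ⟨_, η[G].left (IsLocalRing.closedPoint k), rfl⟩
  exact isLocallyClosed_orbit_of_piece a x hV hVne hVsub

/-- Over an algebraically closed field there is a closed orbit. -/
theorem exists_closed_orbit [IsAlgClosed k] [LocallyOfFiniteType G.hom] [QuasiCompact G.hom]
    [LocallyOfFiniteType X.hom] [QuasiCompact X.hom] [Nonempty X.left] (a : AlgGrp.Action G X) :
    ∃ x : 𝟙_ (Over (Spec (CommRingCat.of k))) ⟶ X, IsClosed (Set.range (a.orbitMap x).left) := by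
  have := jacobson X.hom
  have := jacobson G.hom
  have : CompactSpace X.left := QuasiCompact.compactSpace_of_compactSpace X.hom
  have : IsLocallyNoetherian X.left := LocallyOfFiniteType.isLocallyNoetherian X.hom
  have : IsNoetherian X.left := ⟨⟩
  obtain ⟨z⟩ := ‹Nonempty X.left›
  obtain ⟨c, -, hc⟩ := nonempty_inter_closedPoints (Z := (Set.univ : Set X.left)) ⟨z, trivial⟩ isClosed_univ.isLocallyClosed
  let pt : ∀ c : X.left, c ∈ closedPoints X.left → (𝟙_ (Over (Spec (CommRingCat.of k))) ⟶ X) :=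
    fun c hc => Over.homMk (pointOfClosedPoint X.hom c hc) (pointOfClosedPoint_comp X.hom c hc)
  let C : (𝟙_ (Over (Spec (CommRingCat.of k))) ⟶ X) → TopologicalSpace.Closeds X.left :=
    fun x => TopologicalSpace.Closeds.closure (Set.range (a.orbitMap x).left)
  obtain ⟨_, ⟨x, rfl⟩, hmin⟩ := wellFounded_lt.has_min (Set.range C) ⟨_, pt c hc, rfl⟩
  refine ⟨x, ?_⟩
  set O := Set.range (a.orbitMap x).left with hOdef
  by_contra hne
  have hD : IsClosed (closure O \ O) := by
    have h := isLocallyClosed_iff_isOpen_coborder.1 (isLocallyClosed_orbit a x)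
    exact ⟨h⟩
  have hDne : (closure O \ O).Nonempty := by
    rw [Set.sdiff_nonempty]
    exact fun h => hne (closure_subset_iff_isClosed.1 h)
  obtain ⟨y₀, hy₀, hy₀c⟩ := nonempty_inter_closedPoints hDne hD.isLocallyClosed
  let y := pt y₀ hy₀c
  let τ : (𝟙_ (Over (Spec (CommRingCat.of k))) ⟶ G) → (X ⟶ X) :=
    fun g => lift (toUnit X ≫ g) (𝟙 X) ≫ a.act
  have hτ : ∀ g, Set.MapsTo (τ g).left O O := by
    intro g
    rintro _ ⟨h, rfl⟩
    have e : a.orbitMap x ≫ τ g = ((toUnit G ≫ g) * 𝟙 G) ≫ a.orbitMap x := by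
      rw [← Orbit.act_orbitMap, Category.id_comp]
      simp only [τ, comp_lift_assoc, Category.comp_id, comp_toUnit_assoc]
    exact ⟨((toUnit G ≫ g) * 𝟙 G).left h, by rw [← GrpTop.left_comp_apply, ← e]; rfl⟩
  have hyτ : ∀ g, g ≫ a.orbitMap y ≫ τ g⁻¹ = y := by
    intro g
    have e : ∀ (u : 𝟙_ (Over (Spec (CommRingCat.of k))) ⟶ X) (h : 𝟙_ (Over (Spec (CommRingCat.of k))) ⟶ G),
        u ≫ τ h = lift h u ≫ a.act := fun u h => by
      simp [τ, comp_lift_assoc]
    rw [← Category.assoc, e, Orbit.comp_orbitMap, ← Orbit.act_mul, inv_mul_cancel, Orbit.act_one,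
      toUnit_unique (toUnit _) (𝟙 _), Category.id_comp]
  have hsub : (a.orbitMap y).left ⁻¹' (closure O \ O) = Set.univ := by
    by_contra hh
    obtain ⟨c, hcD, hc⟩ := nonempty_inter_closedPoints (Set.nonempty_compl.2 hh)
      (hD.preimage (a.orbitMap y).left.continuous).isOpen_compl.isLocallyClosed
    let g : 𝟙_ (Over (Spec (CommRingCat.of k))) ⟶ G :=
      Over.homMk (pointOfClosedPoint G.hom c hc) (pointOfClosedPoint_comp G.hom c hc)
    have hg : g.left (IsLocalRing.closedPoint k) = c := pointOfClosedPoint_apply G.hom c hc _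
    have hy : y.left (IsLocalRing.closedPoint k) = y₀ := pointOfClosedPoint_apply X.hom y₀ hy₀c _
    have hz : (τ g⁻¹).left ((a.orbitMap y).left c) = y₀ := by
      rw [← hy, ← hg]
      exact congrArg (fun φ => φ.left (IsLocalRing.closedPoint k)) (hyτ g)
    refine hcD ⟨?_, fun h => hy₀.2 (hz ▸ hτ _ h)⟩
    have e : y ≫ τ g = g ≫ a.orbitMap y := by
      rw [Orbit.comp_orbitMap, toUnit_unique (toUnit _) (𝟙 _), Category.id_comp]
      simp [τ, comp_lift_assoc]
    have hz' : (τ g).left y₀ = (a.orbitMap y).left c := by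
      rw [← hy, ← hg]
      exact congrArg (fun φ => φ.left (IsLocalRing.closedPoint k)) e
    exact hz' ▸ map_mem_closure (τ g).left.continuous hy₀.1 (hτ g)
  have hle : C y < C x := by
    have h1 : closure (Set.range (a.orbitMap y).left) ⊆ closure O \ O :=
      closure_minimal (Set.range_subset_iff.2 fun g => hsub.ge (Set.mem_univ g)) hD
    refine lt_of_le_not_ge (fun z hz => (h1 hz).1) fun h => ?_
    have hx : (a.orbitMap x).left (η[G].left (IsLocalRing.closedPoint k)) ∈ O := ⟨_, rfl⟩
    exact (h1 (h (subset_closure hx))).2 hx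
  exact hmin _ ⟨y, rfl⟩ hle

end Groth.Agent.HopfRep.OrbitClosed

end
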