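import Groth.Agent.HopfRep.AntiAffine
import Mathlib.AlgebraicGeometry.AlgClosed.Basic
import Mathlib.AlgebraicGeometry.Limits

/-!
Finitely many closed points of a group scheme over an algebraically closed field lie in an affine open.
-/

universe u

open CategoryTheory MonoidalCategory CartesianMonoidalCategory MonObj GrpObj AlgebraicGeometry

set_option linter.style.haveILetI false
set_option backward.isDefEq.respectTransparency.types false

noncomputable section

namespace Groth.Agent.HopfRep.AffineCover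

theorem isOpen_irreducibleComponent {X : Type u} [TopologicalSpace X]
    (h : ∀ x : X, ∃ U : Set X, IsOpen U ∧ x ∈ U ∧ IsIrreducible U) (x : X) :
    IsOpen (irreducibleComponent x) := by
  rw [isOpen_iff_forall_mem_open]
  intro y hy
  obtain ⟨U, hU, hyU, hUi⟩ := h y
  refine ⟨U, ?_, hU, hyU⟩
  have hsub : irreducibleComponent x ⊆ closure U :=
    (subset_closure_inter_of_isPreirreducible_of_isOpen isIrreducible_irreducibleComponent.isPreirreducible hU
      ⟨y, hy, hyU⟩).trans (closure_mono Set.inter_subset_right)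
  exact subset_closure.trans ((irreducibleComponent_mem_irreducibleComponents x).2 hUi.closure hsub)

theorem disjoint_of_ne {X : Type u} [TopologicalSpace X]
    (h : ∀ x : X, ∃ U : Set X, IsOpen U ∧ x ∈ U ∧ IsIrreducible U) (x y : X)
    (hne : irreducibleComponent x ≠ irreducibleComponent y) :
    Disjoint (irreducibleComponent x) (irreducibleComponent y) := by
  rw [Set.disjoint_left]
  intro z hzx hzy
  obtain ⟨U, hU, hzU, hUi⟩ := h z
  have key : ∀ w : X, z ∈ irreducibleComponent w → irreducibleComponent w = closure U := fun w hzw => by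
    have hsub : irreducibleComponent w ⊆ closure U :=
      (subset_closure_inter_of_isPreirreducible_of_isOpen isIrreducible_irreducibleComponent.isPreirreducible hU
        ⟨z, hzw, hzU⟩).trans (closure_mono Set.inter_subset_right)
    exact hsub.antisymm ((irreducibleComponent_mem_irreducibleComponents w).2 hUi.closure hsub)
  exact hne ((key x hzx).trans (key y hzy).symm)

variable {k : Type u} [Field k] [IsAlgClosed k] {G : Over (Spec (CommRingCat.of k))} [GrpObj G]
  [LocallyOfFiniteType G.hom]

/-- the rational point at a closed point -/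
def rpt (c : G.left) (hc : c ∈ closedPoints G.left) : 𝟙_ (Over (Spec (CommRingCat.of k))) ⟶ G :=
  Over.homMk (pointOfClosedPoint G.hom c hc) (pointOfClosedPoint_comp G.hom c hc)

theorem rpt_apply (c : G.left) (hc : c ∈ closedPoints G.left) (t : ↥(Spec (CommRingCat.of k))) :
    (rpt c hc).left t = c :=
  pointOfClosedPoint_apply G.hom c hc t

/-- left translation by a rational point -/
def lt (a : 𝟙_ (Over (Spec (CommRingCat.of k))) ⟶ G) : G ≅ G where
  hom := (toUnit G ≫ a) * 𝟙 G
  inv := (toUnit G ≫ a)⁻¹ * 𝟙 G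
  hom_inv_id := by simp [MonObj.comp_mul, GrpObj.comp_inv]
  inv_hom_id := by simp [MonObj.comp_mul]

/-- right translation by a rational point -/
def rt (a : 𝟙_ (Over (Spec (CommRingCat.of k))) ⟶ G) : G ≅ G where
  hom := 𝟙 G * (toUnit G ≫ a)
  inv := 𝟙 G * (toUnit G ≫ a)⁻¹
  hom_inv_id := by simp [MonObj.comp_mul, GrpObj.comp_inv]
  inv_hom_id := by simp [MonObj.comp_mul]

theorem point_lt (a b : 𝟙_ (Over (Spec (CommRingCat.of k))) ⟶ G) : b ≫ (lt a).hom = a * b := by
  simp [lt, MonObj.comp_mul, toUnit_unique (b ≫ toUnit G) (𝟙 _)]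

theorem point_rt (a b : 𝟙_ (Over (Spec (CommRingCat.of k))) ⟶ G) : b ≫ (rt a).hom = b * a := by
  simp [rt, MonObj.comp_mul, toUnit_unique (b ≫ toUnit G) (𝟙 _)]

theorem map_rpt (φ : G ⟶ G) (c c' : G.left) (hc : c ∈ closedPoints G.left) (hc' : c' ∈ closedPoints G.left)
    (h : rpt c hc ≫ φ = rpt c' hc') : φ.left c = c' := by
  have h1 := congrArg (fun f : 𝟙_ (Over (Spec (CommRingCat.of k))) ⟶ G => f.left (IsLocalRing.closedPoint k)) h
  exact (congrArg φ.left (rpt_apply c hc _)).symm.trans (h1.trans (rpt_apply c' hc' _))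

theorem isHomeomorph_left (e : G ≅ G) : IsHomeomorph e.hom.left := by
  have : IsIso e.hom.left := inferInstanceAs (IsIso ((Over.forget _).map e.hom))
  exact e.hom.left.homeomorph.isHomeomorph

theorem exists_irreducible_nhd (z : G.left) : ∃ W : Set G.left, IsOpen W ∧ z ∈ W ∧ IsIrreducible W := by
  have : IsLocallyNoetherian G.left := LocallyOfFiniteType.isLocallyNoetherian G.hom
  have := OrbitClosed.jacobson G.hom
  obtain ⟨_, ⟨U, hU, rfl⟩, hzU, -⟩ := G.left.isBasis_affineOpens.exists_subset_of_mem_open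
    (Set.mem_univ z) isOpen_univ
  have : IsNoetherianRing Γ(G.left, U) := IsLocallyNoetherian.component_noetherian ⟨U, hU⟩
  have : TopologicalSpace.NoetherianSpace (U : Set G.left) := noetherianSpace_of_isAffineOpen U hU
  obtain ⟨W, hW, hWne, hWi⟩ : ∃ W : Set G.left, IsOpen W ∧ W.Nonempty ∧ IsIrreducible W := by
    let x₀ : (U : Set G.left) := ⟨z, hzU⟩
    let Z := irreducibleComponent x₀
    let o : Set (U : Set G.left) := (⋃₀ (irreducibleComponents _ \ {Z}))ᶜ
    have ho : IsOpen o := by
      simp only [o, Set.sUnion_eq_biUnion]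
      exact ((TopologicalSpace.NoetherianSpace.finite_irreducibleComponents.subset Set.sdiff_subset).isClosed_biUnion
        fun s hs => isClosed_of_mem_irreducibleComponents s hs.1).isOpen_compl
    have hle : o ⊆ Z := fun w hw => by
      by_contra hwc
      refine hw ⟨irreducibleComponent w, ⟨irreducibleComponent_mem_irreducibleComponents w, fun h => ?_⟩, mem_irreducibleComponent⟩
      exact hwc ((Set.mem_singleton_iff.1 h).le mem_irreducibleComponent)
    have : QuasiSober (U : Set G.left) := U.2.isOpenEmbedding_subtypeVal.quasiSober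
    have hne' : o.Nonempty := by
      obtain ⟨ξ, hξ⟩ := QuasiSober.sober (isIrreducible_irreducibleComponent (x := x₀)) isClosed_irreducibleComponent
      refine ⟨ξ, ?_⟩
      rintro ⟨s, ⟨hs, hne⟩, hξs⟩
      have hle : Z ≤ s := hξ.def.symm.le.trans ((isClosed_of_mem_irreducibleComponents s hs).closure_subset_iff.2
        (Set.singleton_subset_iff.2 hξs))
      exact hne (((irreducibleComponent_mem_irreducibleComponents x₀).2 hs.1 hle).antisymm hle)
    refine ⟨Subtype.val '' o, U.2.isOpenMap_subtype_val _ ho, hne'.image _, hne'.image _, ?_⟩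
    exact (IsPreirreducible.open_subset isIrreducible_irreducibleComponent.isPreirreducible ho hle).image _ continuous_subtype_val.continuousOn
  obtain ⟨c₀, hc₀W, hc₀⟩ := nonempty_inter_closedPoints hWne hW.isLocallyClosed
  obtain ⟨c, hcz, hc⟩ := nonempty_inter_closedPoints (Z := closure {z}) ⟨z, subset_closure rfl⟩
    isClosed_closure.isLocallyClosed
  let L := lt (rpt c₀ hc₀ * (rpt c hc)⁻¹)
  have hLc : L.hom.left c = c₀ := map_rpt _ _ _ hc hc₀ (by simp [L, point_lt])
  have hwW : L.hom.left c ∈ W := hLc ▸ hc₀W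
  exact ⟨L.hom.left ⁻¹' W, hW.preimage L.hom.left.continuous,
    (specializes_iff_mem_closure.2 hcz).mem_open (hW.preimage L.hom.left.continuous) hwW, ⟨c, hwW⟩,
    hWi.isPreirreducible.preimage (isHomeomorph_left L).isOpenEmbedding⟩

theorem isAffineOpen_biSup {X : Scheme.{u}} {α : Type u} [DecidableEq α] (s : Finset α) (V : α → X.Opens)
    (hV : ∀ a ∈ s, IsAffineOpen (V a))
    (hd : ∀ a ∈ s, ∀ b ∈ s, a ≠ b → Disjoint (V a) (V b)) : IsAffineOpen (s.sup V) := by
  induction s using Finset.induction_on with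
  | empty => simpa using isAffineOpen_bot X
  | insert a s ha ih =>
    rw [Finset.sup_insert]
    refine IsAffineOpen.sup_of_disjoint (hV a (Finset.mem_insert_self a s))
      (ih (fun b hb => hV b (Finset.mem_insert_of_mem hb))
        (fun b hb c hc => hd b (Finset.mem_insert_of_mem hb) c (Finset.mem_insert_of_mem hc))) ?_
    rw [Finset.disjoint_sup_right]
    exact fun b hb => hd a (Finset.mem_insert_self a s) b (Finset.mem_insert_of_mem hb) fun h => ha (h ▸ hb)

theorem exists_affineOpen (n : ℕ) (g : Fin n → G.left) (hg : ∀ i, IsClosed ({g i} : Set G.left)) :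
    ∃ U : G.left.Opens, IsAffineOpen U ∧ ∀ i, g i ∈ U := by
  classical
  have := OrbitClosed.jacobson G.hom
  have hirr := exists_irreducible_nhd (G := G)
  let O : G.left → G.left.Opens := fun x => ⟨irreducibleComponent x, isOpen_irreducibleComponent hirr x⟩
  have hV : ∀ C : Set G.left, ∃ V : G.left.Opens, IsAffineOpen V ∧
      ((∃ x, irreducibleComponent x = C) → (V : Set G.left).Nonempty ∧ (V : Set G.left) ⊆ C) := by
    intro C
    by_cases h : ∃ x, irreducibleComponent x = C
    · obtain ⟨x, rfl⟩ := h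
      obtain ⟨_, ⟨V, hV, rfl⟩, hxV, hVC⟩ := G.left.isBasis_affineOpens.exists_subset_of_mem_open
        (mem_irreducibleComponent : x ∈ irreducibleComponent x) (O x).2
      exact ⟨V, hV, fun _ => ⟨⟨x, hxV⟩, hVC⟩⟩
    · exact ⟨⊥, isAffineOpen_bot _, fun h' => absurd h' h⟩
  choose V hV₁ hV₂ using hV
  let s : Finset (Set G.left) := Finset.univ.image fun i => irreducibleComponent (g i)
  let U := s.sup V
  have hU : IsAffineOpen U := by
    refine isAffineOpen_biSup s V (fun a _ => hV₁ a) fun a ha b hb hab => ?_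
    obtain ⟨i, -, rfl⟩ := Finset.mem_image.1 ha
    obtain ⟨j, -, rfl⟩ := Finset.mem_image.1 hb
    have := disjoint_of_ne hirr (g i) (g j) hab
    rw [disjoint_iff]
    exact SetLike.coe_injective (by
      simpa using Set.disjoint_iff_inter_eq_empty.1 (this.mono (hV₂ _ ⟨_, rfl⟩).2 (hV₂ _ ⟨_, rfl⟩).2))
  let e : G.left := η[G].left (IsLocalRing.closedPoint k)
  let C := irreducibleComponent e
  have hC : IsOpen C := isOpen_irreducibleComponent hirr e
  have hmeet : ∀ i, (C ∩ (lt (rpt (g i) (hg i))).hom.left ⁻¹' (U : Set G.left)).Nonempty := by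
    intro i
    let L := (lt (rpt (g i) (hg i))).hom.left
    have hLe : L e = g i := by
      have h1 : η[G] = (1 : 𝟙_ (Over (Spec (CommRingCat.of k))) ⟶ G) := by
        rw [Hom.one_def, toUnit_unique (toUnit _) (𝟙 _), Category.id_comp]
      have h2 : η[G] ≫ (lt (rpt (g i) (hg i))).hom = rpt (g i) (hg i) := by
        rw [point_lt, h1, _root_.mul_one]
      exact (congrArg (fun f : 𝟙_ (Over (Spec (CommRingCat.of k))) ⟶ G => f.left (IsLocalRing.closedPoint k)) h2).trans
        (rpt_apply _ _ _)
    have hsub : L '' C ⊆ irreducibleComponent (g i) := by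
      have himg : IsOpen (L '' C) := (isHomeomorph_left _).isOpenMap _ hC
      have hgi : g i ∈ L '' C := ⟨e, mem_irreducibleComponent, hLe⟩
      have h1 : irreducibleComponent (g i) ⊆ closure (L '' C) :=
        (subset_closure_inter_of_isPreirreducible_of_isOpen isIrreducible_irreducibleComponent.isPreirreducible himg
          ⟨g i, mem_irreducibleComponent, hgi⟩).trans (closure_mono Set.inter_subset_right)
      exact subset_closure.trans ((irreducibleComponent_mem_irreducibleComponents (g i)).2
        (isIrreducible_irreducibleComponent.image L L.continuous.continuousOn).closure h1)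
    obtain ⟨hne, hVsub⟩ := hV₂ _ ⟨g i, rfl⟩
    obtain ⟨y, -, ⟨x, hx, rfl⟩, hyV⟩ := isIrreducible_irreducibleComponent.isPreirreducible (L '' C)
      (V (irreducibleComponent (g i)) : Set G.left) ((isHomeomorph_left _).isOpenMap _ hC) (V _).2
      ⟨g i, mem_irreducibleComponent, e, mem_irreducibleComponent, hLe⟩
      (by obtain ⟨v, hv⟩ := hne; exact ⟨v, hVsub hv, hv⟩)
    exact ⟨x, hx, SetLike.le_def.1 (Finset.le_sup (f := V) (Finset.mem_image_of_mem _ (Finset.mem_univ i))) hyV⟩
  have hkey : ∀ t : Finset (Fin n), ∃ W : Set G.left, IsOpen W ∧ W.Nonempty ∧ W ⊆ C ∧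
      ∀ i ∈ t, W ⊆ (lt (rpt (g i) (hg i))).hom.left ⁻¹' (U : Set G.left) := by
    intro t
    induction t using Finset.induction_on with
    | empty => exact ⟨C, hC, ⟨e, mem_irreducibleComponent⟩, subset_rfl, by simp⟩
    | insert a t _ ih =>
      obtain ⟨W, hW, ⟨w, hw⟩, hWC, hWt⟩ := ih
      have ho := U.2.preimage (lt (rpt (g a) (hg a))).hom.left.continuous
      obtain ⟨y, -, hy⟩ := isIrreducible_irreducibleComponent.isPreirreducible W _ hW ho
        ⟨w, hWC hw, hw⟩ (hmeet a)
      refine ⟨W ∩ (lt (rpt (g a) (hg a))).hom.left ⁻¹' (U : Set G.left), hW.inter ho, ⟨y, hy⟩,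
        Set.inter_subset_left.trans hWC, fun i hi => ?_⟩
      rcases Finset.mem_insert.1 hi with rfl | hi
      · exact Set.inter_subset_right
      · exact Set.inter_subset_left.trans (hWt i hi)
  obtain ⟨W, hW, hWne, -, hWall⟩ := hkey Finset.univ
  obtain ⟨h, hhW, hh⟩ := nonempty_inter_closedPoints hWne hW.isLocallyClosed
  have : IsIso (rt (rpt h hh)).hom.left := inferInstanceAs (IsIso ((Over.forget _).map (rt (rpt h hh)).hom))
  refine ⟨(rt (rpt h hh)).hom.left ⁻¹ᵁ U, hU.preimage_of_isIso _, fun i => ?_⟩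
  show (rt (rpt h hh)).hom.left (g i) ∈ U
  have h1 : (lt (rpt (g i) (hg i))).hom.left h ∈ U := hWall i (Finset.mem_univ i) hhW
  have e1 := congrArg (fun f : 𝟙_ (Over (Spec (CommRingCat.of k))) ⟶ G => f.left (IsLocalRing.closedPoint k))
    ((point_lt (rpt (g i) (hg i)) (rpt h hh)).trans (point_rt (rpt h hh) (rpt (g i) (hg i))).symm)
  have e2 : (lt (rpt (g i) (hg i))).hom.left h = (rt (rpt h hh)).hom.left (g i) :=
    (congrArg (lt (rpt (g i) (hg i))).hom.left (rpt_apply h hh _)).symm.trans
      (e1.trans (congrArg (rt (rpt h hh)).hom.left (rpt_apply (g i) (hg i) _)))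
  exact e2 ▸ h1

end Groth.Agent.HopfRep.AffineCover

end
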