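import Groth.Agent.HopfRep.CharHom

/-!
The Hopf algebra of an affine group scheme over an affine base, described on points.
-/

universe u

open CategoryTheory MonoidalCategory CartesianMonoidalCategory MonObj AlgebraicGeometry Limits TensorProduct

set_option linter.style.haveILetI false

noncomputable section

namespace Groth.Agent.HopfRep.AffinePts

open DiagRigid CharHom

variable {K : Type u} [CommRing K]

abbrev tmap {L L' : Type u} [CommRing L] [Algebra K L] [CommRing L'] [Algebra K L'] (φ : L →ₐ[K] L') :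
    Tp (K := K) L' ⟶ Tp (K := K) L :=
  Tmap (𝟙 (Spec (CommRingCat.of K))) φ

theorem tmap_comp {A L L' : Type u} [CommRing A] [Algebra K A] [CommRing L] [Algebra K L] [CommRing L'] [Algebra K L']
    (ψ : A →ₐ[K] L) (φ : L →ₐ[K] L') : tmap φ ≫ tmap ψ = tmap (φ.comp ψ) := by
  ext1
  exact (Spec.map_comp _ _).symm

theorem tmap_id (A : Type u) [CommRing A] [Algebra K A] : tmap (AlgHom.id K A) = 𝟙 (Tp (K := K) A) := by
  ext1
  exact Spec.map_id _

theorem tmap_bijective {A L : Type u} [CommRing A] [Algebra K A] [CommRing L] [Algebra K L] :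
    Function.Bijective (fun φ : A →ₐ[K] L => tmap φ) := by
  refine ⟨fun φ ψ h => ?_, fun g => ?_⟩
  · have h' : Spec.map (CommRingCat.ofHom φ.toRingHom) = Spec.map (CommRingCat.ofHom ψ.toRingHom) :=
      congrArg CommaMorphism.left h
    exact AlgHom.coe_ringHom_injective (congrArg CommRingCat.Hom.hom (Spec.map_injective h'))
  · let ψ := Spec.preimage g.left
    have hψ : CommRingCat.ofHom (algebraMap K A) ≫ ψ = CommRingCat.ofHom (algebraMap K L) := by
      apply Spec.map_injective
      rw [Spec.map_comp, show Spec.map ψ = g.left from Spec.map_preimage _]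
      have := Over.w g
      simpa using this
    exact ⟨⟨ψ.hom, fun r => RingHom.congr_fun (congrArg CommRingCat.Hom.hom hψ) r⟩,
      Over.OverMorphism.ext (Spec.map_preimage _)⟩

/-- An affine scheme over `Spec K` is the spectrum of an algebra. -/
theorem exists_alg (E : Over (Spec (CommRingCat.of K))) [IsAffine E.left] :
    ∃ (A : Type u) (_ : CommRing A) (_ : Algebra K A), Nonempty (Tp (K := K) A ≅ E) := by
  let φ₀ := Spec.preimage (E.left.isoSpec.inv ≫ E.hom)
  letI : Algebra K Γ(E.left, ⊤) := φ₀.hom.toAlgebra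
  refine ⟨Γ(E.left, ⊤), inferInstance, inferInstance, ⟨Over.isoMk E.left.isoSpec.symm ?_⟩⟩
  show _ = Spec.map φ₀ ≫ 𝟙 _
  rw [Category.comp_id, Spec.map_preimage]
  rfl

/-- points of `E` as algebra maps -/
def e {E : Over (Spec (CommRingCat.of K))} {A : Type u} [CommRing A] [Algebra K A] (σ : Tp (K := K) A ≅ E)
    {L : Type u} [CommRing L] [Algebra K L] (a : A →ₐ[K] L) : Tp (K := K) L ⟶ E :=
  tmap a ≫ σ.hom

section e

variable {E : Over (Spec (CommRingCat.of K))} {A : Type u} [CommRing A] [Algebra K A] (σ : Tp (K := K) A ≅ E)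
  {L : Type u} [CommRing L] [Algebra K L]

theorem e_nat {L' : Type u} [CommRing L'] [Algebra K L'] (φ : L →ₐ[K] L') (a : A →ₐ[K] L) :
    tmap φ ≫ e σ a = e σ (φ.comp a) := by
  rw [e, e, ← Category.assoc, tmap_comp]

theorem e_injective : Function.Injective (e σ (L := L)) := fun a b h =>
  tmap_bijective.1 ((cancel_mono σ.hom).1 h)

theorem e_surjective : Function.Surjective (e σ (L := L)) := fun g => by
  obtain ⟨a, ha⟩ := tmap_bijective.2 (g ≫ σ.inv)
  exact ⟨a, by rw [e]; exact (congrArg (· ≫ σ.hom) ha).trans (by simp)⟩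

end e

/-- The Hopf algebra structure on points. -/
theorem exists_hopf (E : Over (Spec (CommRingCat.of K))) [GrpObj E] [IsAffine E.left] :
    ∃ (A : Type u) (_ : CommRing A) (_ : HopfAlgebra K A) (σ : Tp (K := K) A ≅ E),
      (∀ (L : Type u) [CommRing L] [Algebra K L] (x y : A →ₐ[K] L),
        e σ x * e σ y = e σ ((Algebra.TensorProduct.lift x y fun _ _ => .all _ _).comp (Bialgebra.comulAlgHom K A))) ∧
      (∀ (L : Type u) [CommRing L] [Algebra K L],
        e σ ((Algebra.ofId K L).comp (Bialgebra.counitAlgHom K A)) = 1) := by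
  obtain ⟨A, _, _, ⟨σ⟩⟩ := exists_alg E
  let i₁ : A →ₐ[K] A ⊗[K] A := Algebra.TensorProduct.includeLeft
  let i₂ : A →ₐ[K] A ⊗[K] A := Algebra.TensorProduct.includeRight
  obtain ⟨Δ, hΔ⟩ := e_surjective σ (e σ i₁ * e σ i₂)
  obtain ⟨ε, hε⟩ := e_surjective σ (1 : Tp (K := K) K ⟶ E)
  obtain ⟨S, hS⟩ := e_surjective σ (e σ (AlgHom.id K A))⁻¹
  have hmul : ∀ (L : Type u) [CommRing L] [Algebra K L] (x y : A →ₐ[K] L),
      e σ x * e σ y = e σ ((Algebra.TensorProduct.lift x y fun _ _ => .all _ _).comp Δ) := fun L _ _ x y => by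
    rw [← e_nat, hΔ, MonObj.comp_mul, e_nat, e_nat, Algebra.TensorProduct.lift_comp_includeLeft,
      Algebra.TensorProduct.lift_comp_includeRight']
  have hone : ∀ (L : Type u) [CommRing L] [Algebra K L], e σ ((Algebra.ofId K L).comp ε) = 1 := fun L _ _ => by
    rw [← e_nat, hε, MonObj.comp_one]
  have hmap : ∀ {B C : Type u} [CommRing B] [Algebra K B] [CommRing C] [Algebra K C] (f : A →ₐ[K] B) (g : A →ₐ[K] C),
      e σ ((Algebra.TensorProduct.map f g).comp Δ) =
        e σ ((Algebra.TensorProduct.includeLeft : B →ₐ[K] B ⊗[K] C).comp f) *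
          e σ ((Algebra.TensorProduct.includeRight : C →ₐ[K] B ⊗[K] C).comp g) := by
    intro B C _ _ _ _ f g
    rw [hmul]
    congr 2
    ext <;> simp
  have hcoassoc : (Algebra.TensorProduct.assoc K K K A A A).toAlgHom.comp
      ((Algebra.TensorProduct.map Δ (.id K A)).comp Δ) = (Algebra.TensorProduct.map (.id K A) Δ).comp Δ := by
    apply e_injective σ
    let α := (Algebra.TensorProduct.assoc K K K A A A).toAlgHom
    let j₁ : A →ₐ[K] A ⊗[K] (A ⊗[K] A) := Algebra.TensorProduct.includeLeft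
    let j₂₃ : A ⊗[K] A →ₐ[K] A ⊗[K] (A ⊗[K] A) := Algebra.TensorProduct.includeRight
    let l : A ⊗[K] A →ₐ[K] (A ⊗[K] A) ⊗[K] A := Algebra.TensorProduct.includeLeft
    let r : A →ₐ[K] (A ⊗[K] A) ⊗[K] A := Algebra.TensorProduct.includeRight
    have a1 : α.comp (l.comp i₁) = j₁ := AlgHom.ext fun a => by simp [α, l, i₁, j₁]; rfl
    have a2 : α.comp (l.comp i₂) = j₂₃.comp i₁ := AlgHom.ext fun a => by simp [α, l, i₁, i₂, j₂₃]
    have a3 : α.comp r = j₂₃.comp i₂ := AlgHom.ext fun a => by simp [α, r, i₂, j₂₃, Algebra.TensorProduct.one_def]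
    have lhs : e σ (α.comp ((Algebra.TensorProduct.map Δ (.id K A)).comp Δ)) =
        e σ j₁ * e σ (j₂₃.comp i₁) * e σ (j₂₃.comp i₂) := by
      rw [← e_nat, hmap, MonObj.comp_mul, AlgHom.comp_id, e_nat, e_nat, a3, ← AlgHom.comp_assoc, ← e_nat, hΔ,
        MonObj.comp_mul, e_nat, e_nat, AlgHom.comp_assoc, AlgHom.comp_assoc, a1, a2]
    refine lhs.trans ?_
    rw [hmap, AlgHom.comp_id, ← e_nat σ _ Δ, hΔ, MonObj.comp_mul, e_nat, e_nat, _root_.mul_assoc]
  have hr : (Algebra.TensorProduct.map ε (.id K A)).comp Δ = (Algebra.TensorProduct.lid K A).symm := by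
    apply e_injective σ
    rw [hmap, AlgHom.comp_id, show (Algebra.TensorProduct.includeLeft : K →ₐ[K] K ⊗[K] A) = Algebra.ofId K _ from
      Subsingleton.elim _ _, hone, _root_.one_mul]
    congr 1
  have hl : (Algebra.TensorProduct.map (.id K A) ε).comp Δ = (Algebra.TensorProduct.rid K K A).symm := by
    apply e_injective σ
    rw [hmap, AlgHom.comp_id, show (Algebra.TensorProduct.includeRight : K →ₐ[K] A ⊗[K] K) = Algebra.ofId K _ from
      Subsingleton.elim _ _, hone, _root_.mul_one]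
    congr 1
  letI bi : Bialgebra K A := Bialgebra.ofAlgHom Δ ε hcoassoc hr hl
  have hanti : ∀ (x y : A →ₐ[K] A), e σ x * e σ y = 1 →
      LinearMap.mul' K A ∘ₗ TensorProduct.map x.toLinearMap y.toLinearMap ∘ₗ Δ.toLinearMap =
        Algebra.linearMap K A ∘ₗ ε.toLinearMap := by
    intro x y h
    rw [hmul, ← hone A] at h
    have h' := e_injective σ h
    refine Eq.trans ?_ (congrArg AlgHom.toLinearMap h')
    rw [AlgHom.comp_toLinearMap, ← LinearMap.comp_assoc]
    congr 1
    exact TensorProduct.ext' fun a b => by simp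
  have hSr : LinearMap.mul' K A ∘ₗ S.toLinearMap.rTensor A ∘ₗ (Coalgebra.comul (R := K)) =
      Algebra.linearMap K A ∘ₗ (Coalgebra.counit (R := K)) :=
    hanti S (.id K A) (by rw [hS, inv_mul_cancel])
  have hSl : LinearMap.mul' K A ∘ₗ S.toLinearMap.lTensor A ∘ₗ (Coalgebra.comul (R := K)) =
      Algebra.linearMap K A ∘ₗ (Coalgebra.counit (R := K)) :=
    hanti (.id K A) S (by rw [hS, mul_inv_cancel])
  exact ⟨A, _, { bi with antipode := S.toLinearMap, mul_antipode_rTensor_comul := hSr, mul_antipode_lTensor_comul := hSl },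
    σ, hmul, hone⟩

end Groth.Agent.HopfRep.AffinePts

end
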