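import Groth.Agent.HopfRep.Slice
import Mathlib.Algebra.FreeAlgebra
import Mathlib.RingTheory.SimpleModule.Basic

/-!
Comodules over a coalgebra over a field as modules over the free algebra on the linear dual.
-/

universe u v w w'

open TensorProduct

noncomputable section

namespace Groth.Agent.HopfRep.Bridge

open _root_.HopfRep Groth.Agent.HopfRep.Slice

/-- The common operator ring. -/
abbrev Opr (k : Type u) [Field k] (A : Type v) [AddCommGroup A] [Module k A] := FreeAlgebra k (A →ₗ[k] k)

variable (k : Type u) [Field k] (A : Type v) [AddCommGroup A] [Module k A] [Coalgebra k A]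
variable (V : Type w) [AddCommGroup V] [Module k V] [Comod k A V]

/-- The action of the operators. -/
def act : Opr k A →ₐ[k] Module.End k V :=
  FreeAlgebra.lift k fun f : A →ₗ[k] k => (slice k V f : Module.End k V)

/-- A comodule as a module over the operator ring. -/
@[reducible] def module : Module (Opr k A) V :=
  Module.compHom V (act k A V).toRingHom

theorem scalarTower : letI := module k A V; IsScalarTower k (Opr k A) V := by
  letI := module k A V
  refine ⟨fun c r x => ?_⟩
  show act k A V (c • r) x = c • act k A V r x
  rw [map_smul]
  rfl

variable {k A V}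

theorem ι_smul (f : A →ₗ[k] k) (x : V) :
    (letI := module k A V; FreeAlgebra.ι k f • x) = slice k V f x := by
  show act k A V (FreeAlgebra.ι k f) x = _
  rw [act, FreeAlgebra.lift_ι_apply]

theorem smul_mem {U : Submodule k V} (hU : IsSubcomod (k := k) (A := A) U) (r : Opr k A) :
    ∀ x ∈ U, (letI := module k A V; r • x) ∈ U := by
  letI := module k A V
  haveI := scalarTower k A V
  induction r using FreeAlgebra.induction with
  | grade0 c => intro x hx; rw [algebraMap_smul]; exact U.smul_mem c hx
  | grade1 f => intro x hx; rw [ι_smul]; exact isSubcomod_iff.1 hU f x hx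
  | mul a b ha hb => intro x hx; rw [mul_smul]; exact ha _ (hb x hx)
  | add a b ha hb => intro x hx; rw [add_smul]; exact U.add_mem (ha x hx) (hb x hx)

/-- A subcomodule as a submodule over the operator ring. -/
@[reducible] def toSub (U : Submodule k V) (hU : IsSubcomod (k := k) (A := A) U) :
    letI := module k A V; Submodule (Opr k A) V :=
  letI := module k A V
  { carrier := U
    add_mem' := U.add_mem
    zero_mem' := U.zero_mem
    smul_mem' := fun r x hx => smul_mem hU r x hx }

theorem isSubcomod_restrictScalars :
    letI := module k A V; haveI := scalarTower k A V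
    ∀ N : Submodule (Opr k A) V, IsSubcomod (k := k) (A := A) (N.restrictScalars k) := by
  letI := module k A V
  haveI := scalarTower k A V
  exact fun N => isSubcomod_iff.2 fun f x hx => by
    rw [← ι_smul]
    exact N.smul_mem _ hx

theorem toSub_restrictScalars (U : Submodule k V) (hU : IsSubcomod (k := k) (A := A) U) :
    letI := module k A V; haveI := scalarTower k A V
    (toSub U hU).restrictScalars k = U := rfl

variable {W : Type w'} [AddCommGroup W] [Module k W] [Comod k A W]

theorem map_smul_hom {φ : V →ₗ[k] W} (hφ : Hoch.IsComodHom A φ) (r : Opr k A) :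
    ∀ x : V, φ (letI := module k A V; r • x) = (letI := module k A W; r • φ x) := by
  letI := module k A V; haveI := scalarTower k A V
  letI := module k A W; haveI := scalarTower k A W
  induction r using FreeAlgebra.induction with
  | grade0 c => intro x; rw [algebraMap_smul, algebraMap_smul, map_smul]
  | grade1 f => intro x; rw [ι_smul, ι_smul, map_slice hφ]
  | mul a b ha hb => intro x; rw [mul_smul, mul_smul, ha, hb]
  | add a b ha hb => intro x; rw [add_smul, add_smul, map_add, ha, hb]

/-- A comodule map as a linear map over the operator ring. -/
@[reducible] def toLin (φ : V →ₗ[k] W) (hφ : Hoch.IsComodHom A φ) :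
    letI := module k A V; letI := module k A W; V →ₗ[Opr k A] W :=
  letI := module k A V
  letI := module k A W
  { toFun := φ
    map_add' := map_add φ
    map_smul' := fun r x => map_smul_hom hφ r x }

theorem isComodHom_restrictScalars :
    letI := module k A V; haveI := scalarTower k A V
    letI := module k A W; haveI := scalarTower k A W
    ∀ f : V →ₗ[Opr k A] W, Hoch.IsComodHom A (f.restrictScalars k) := by
  letI := module k A V; haveI := scalarTower k A V
  letI := module k A W; haveI := scalarTower k A W
  exact fun f => isComodHom_of_slice fun g x => by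
    simp only [LinearMap.restrictScalars_apply, ← ι_smul, map_smul]

variable (k A V)

theorem isSemisimple_iff :
    IsSemisimpleComod k A V ↔ (letI := module k A V; IsSemisimpleModule (Opr k A) V) := by
  letI := module k A V
  haveI := scalarTower k A V
  constructor
  · intro h
    rw [isSemisimpleModule_iff]
    refine ⟨fun N => ?_⟩
    obtain ⟨U, hU, hc⟩ := h _ (isSubcomod_restrictScalars N)
    refine ⟨toSub U hU, ?_, ?_⟩
    · rw [Submodule.disjoint_def]
      exact fun x hx hx' => Submodule.disjoint_def.1 hc.disjoint x hx hx'
    · rw [codisjoint_iff, ← Submodule.restrictScalars_inj k, Submodule.restrictScalars_sup,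
        Submodule.restrictScalars_top]
      exact hc.sup_eq_top
  · intro h U hU
    obtain ⟨N, hN⟩ := h.exists_isCompl (toSub U hU)
    refine ⟨N.restrictScalars k, isSubcomod_restrictScalars N, ?_, ?_⟩
    · rw [Submodule.disjoint_def]
      exact fun x hx hx' => Submodule.disjoint_def.1 hN.disjoint x hx hx'
    · rw [codisjoint_iff]
      have := congrArg (Submodule.restrictScalars k) hN.sup_eq_top
      rwa [Submodule.restrictScalars_sup, Submodule.restrictScalars_top] at this

variable {k A V}

theorem isAtom_toSub_iff (U : Submodule k V) (hU : IsSubcomod (k := k) (A := A) U) :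
    (letI := module k A V; IsAtom (toSub U hU)) ↔
      U ≠ ⊥ ∧ ∀ W' : Submodule k V, IsSubcomod (k := k) (A := A) W' → W' ≤ U → W' = ⊥ ∨ W' = U := by
  letI := module k A V
  haveI := scalarTower k A V
  constructor
  · intro h
    refine ⟨fun h0 => h.1 ?_, fun W' hW' hle => ?_⟩
    · rw [← Submodule.restrictScalars_inj k, Submodule.restrictScalars_bot]
      exact h0
    · rcases (h.le_iff.1 (show toSub W' hW' ≤ toSub U hU from fun x hx => hle hx)) with h1 | h1
      · exact Or.inl ((toSub_restrictScalars W' hW').symm.trans ((congrArg (Submodule.restrictScalars k) h1).trans (Submodule.restrictScalars_bot k (R := Opr k A) (M := V))))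
      · exact Or.inr ((toSub_restrictScalars W' hW').symm.trans ((congrArg (Submodule.restrictScalars k) h1).trans (toSub_restrictScalars U hU)))
  · rintro ⟨h0, hmin⟩
    refine ⟨fun h1 => h0 ((toSub_restrictScalars U hU).symm.trans ((congrArg (Submodule.restrictScalars k) h1).trans (Submodule.restrictScalars_bot k (R := Opr k A) (M := V)))), fun N hN => ?_⟩
    rcases hmin _ (isSubcomod_restrictScalars N) (fun x hx => hN.le hx) with h1 | h1
    · rwa [← Submodule.restrictScalars_bot k (R := Opr k A) (M := V), Submodule.restrictScalars_inj] at h1
    · exact absurd (Submodule.restrictScalars_injective k _ _ (h1 : N.restrictScalars k = (toSub U hU).restrictScalars k)) hN.ne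

theorem isSimpleModule_of (h : IsSimpleComod k A V) : letI := module k A V; IsSimpleModule (Opr k A) V := by
  letI := module k A V
  haveI := scalarTower k A V
  obtain ⟨hn, hmin⟩ := h
  rw [isSimpleModule_iff]
  exact {
    exists_pair_ne := ⟨⊥, ⊤, bot_ne_top⟩
    eq_bot_or_eq_top := fun N => by
      rcases hmin _ (isSubcomod_restrictScalars N) with h1 | h1
      · left
        rwa [← Submodule.restrictScalars_bot k (R := Opr k A) (M := V), Submodule.restrictScalars_inj] at h1
      · right
        rwa [← Submodule.restrictScalars_top k (R := Opr k A) (M := V), Submodule.restrictScalars_inj] at h1 }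

theorem isSimpleComod_of_isSimpleModule
    (h : letI := module k A V; IsSimpleModule (Opr k A) V) : IsSimpleComod k A V := by
  letI := module k A V
  haveI := scalarTower k A V
  haveI := h
  refine ⟨IsSimpleModule.nontrivial (Opr k A) V, fun U hU => ?_⟩
  rcases eq_bot_or_eq_top (toSub U hU) with h1 | h1
  · exact Or.inl ((toSub_restrictScalars U hU).symm.trans ((congrArg (Submodule.restrictScalars k) h1).trans (Submodule.restrictScalars_bot k (R := Opr k A) (M := V))))
  · exact Or.inr ((toSub_restrictScalars U hU).symm.trans ((congrArg (Submodule.restrictScalars k) h1).trans (Submodule.restrictScalars_top k (R := Opr k A) (M := V))))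

theorem finite_of_isSimpleComod (h : IsSimpleComod k A V) : Module.Finite k V := by
  obtain ⟨hn, hmin⟩ := h
  obtain ⟨x, hx⟩ := exists_ne (0 : V)
  rcases hmin _ (isSubcomod_gen (A := A) x) with h1 | h1
  · exact absurd ((Submodule.mem_bot k).1 (h1 ▸ mem_gen_self x)) hx
  · exact Module.Finite.equiv ((LinearEquiv.ofEq _ _ h1).trans Submodule.topEquiv)

end Groth.Agent.HopfRep.Bridge
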