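import Groth.Prelude.Def_TwC
import Mathlib.AlgebraicGeometry.Morphisms.Flat
import Mathlib.AlgebraicGeometry.Morphisms.FlatDescent
import Mathlib.AlgebraicGeometry.Morphisms.LocalFlatDescent
import Mathlib.RingTheory.Spectrum.Prime.RingHom
import Mathlib.LinearAlgebra.DFinsupp
import Mathlib.RingTheory.Idempotents

/-!
fpqc-local properties in the sense of `TwC.Locally`: affine charts with faithfully flat ring maps, and descent
of morphism properties along them.
-/

universe u

open CategoryTheory AlgebraicGeometry Limits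

set_option linter.style.haveILetI false

noncomputable section

namespace Groth.Agent.HopfRep.FpqcCover

theorem exists_cover {S : Scheme.{u}} {P : ∀ (S' : Scheme.{u}), (S' ⟶ S) → Prop}
    (hP : TwC.Locally S TwC.Topology.fpqc P) (s : S) :
    ∃ (V : S.affineOpens) (R' : Type u) (_ : CommRing R') (_ : Algebra Γ(S, V.1) R'),
      Module.FaithfullyFlat Γ(S, V.1) R' ∧ s ∈ V.1 ∧
      ∀ q : Spec (CommRingCat.of R'), ∃ (Ri : Type u) (_ : CommRing Ri) (_ : Algebra R' Ri) (_ : Module.Projective R' Ri)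
        (_ : IsOpenImmersion (Spec.map (CommRingCat.ofHom (algebraMap R' Ri))))
        (S' : Scheme.{u}) (f : S' ⟶ S) (U : S'.Opens) (a : Spec (CommRingCat.of Ri) ⟶ (U : Scheme.{u})),
        q ∈ Set.range (Spec.map (CommRingCat.ofHom (algebraMap R' Ri))) ∧ P U (U.ι ≫ f) ∧
        a ≫ U.ι ≫ f = Spec.map (CommRingCat.ofHom (algebraMap R' Ri)) ≫
          Spec.map (CommRingCat.ofHom (algebraMap Γ(S, V.1) R')) ≫ V.2.fromSpec := by
  classical
  obtain ⟨S', f, hflat, -, hqc, hloc⟩ := hP
  obtain ⟨_, ⟨V, hV, rfl⟩, hsV, -⟩ := S.isBasis_affineOpens.exists_subset_of_mem_open (Set.mem_univ s) isOpen_univ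
  obtain ⟨W, hW, hWV⟩ := hqc V hV
  have hU : ∀ w : (W : Set S'), ∃ (U' : S'.affineOpens) (U : S'.Opens),
      (w : S') ∈ U'.1 ∧ U'.1 ≤ W ∧ U'.1 ≤ U ∧ P U (U.ι ≫ f) := fun ⟨w, hw⟩ => by
    obtain ⟨U, hwU, hiso⟩ := hloc w
    obtain ⟨_, ⟨U', hU', rfl⟩, hwU', hsub⟩ := S'.isBasis_affineOpens.exists_subset_of_mem_open
      (show w ∈ W ⊓ U from ⟨hw, hwU⟩) (W ⊓ U).2
    exact ⟨⟨U', hU'⟩, U, hwU', fun a ha => (hsub ha).1, fun a ha => (hsub ha).2, hiso⟩
  choose U' U hwU' hU'W hU'U hiso using hU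
  obtain ⟨t, ht⟩ := hW.elim_finite_subcover (fun w => ((U' w).1 : Set S')) (fun w => (U' w).1.2)
    (fun w hw => Set.mem_iUnion.2 ⟨⟨w, hw⟩, hwU' ⟨w, hw⟩⟩)
  have hle : ∀ w, (U' w).1 ≤ f ⁻¹ᵁ V := fun w a ha => hWV.le ⟨a, hU'W w ha, rfl⟩
  let φ : ∀ w : t, Γ(S, V) →+* Γ(S', (U' w.1).1) := fun w => (f.appLE V (U' w.1).1 (hle w.1)).hom
  letI : ∀ w : t, Algebra Γ(S, V) Γ(S', (U' w.1).1) := fun w => (φ w).toAlgebra
  let R' := ∀ w : t, Γ(S', (U' w.1).1)
  have hfl : ∀ w : t, Module.Flat Γ(S, V) Γ(S', (U' w.1).1) := fun w =>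
    HasRingHomProperty.appLE @Flat f hflat ⟨V, hV⟩ (U' w.1) (hle w.1)
  have : Module.Flat Γ(S, V) R' :=
    Module.Flat.of_linearEquiv (DFinsupp.linearEquivFunOnFintype (R := Γ(S, V)) (M := fun w : t => Γ(S', (U' w.1).1))).symm
  have hff : Module.FaithfullyFlat Γ(S, V) R' := by
    refine Module.FaithfullyFlat.of_comap_surjective fun 𝔭 => ?_
    have hV' : IsAffineOpen V := hV
    obtain ⟨w, hw, hfw⟩ := hWV.ge (show hV'.fromSpec 𝔭 ∈ (V : Set S) from hV'.range_fromSpec.le ⟨𝔭, rfl⟩)
    obtain ⟨i, hi, hwi⟩ := Set.mem_iUnion₂.1 (ht hw)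
    let Q := (U' i).2.primeIdealOf ⟨w, hwi⟩
    refine ⟨PrimeSpectrum.comap (Pi.evalRingHom (fun w : t => Γ(S', (U' w.1).1)) ⟨i, hi⟩) Q, ?_⟩
    rw [← PrimeSpectrum.comap_comp_apply]
    apply (IsAffineOpen.isOpenImmersion_fromSpec hV').base_open.injective
    show hV'.fromSpec (PrimeSpectrum.comap (φ ⟨i, hi⟩) Q) = hV'.fromSpec 𝔭
    rw [← hfw]
    have h1 := IsAffineOpen.SpecMap_appLE_fromSpec f hV' (U' i).2 (hle i)
    have h2 : (Spec.map (f.appLE V (U' i).1 (hle i)) ≫ hV'.fromSpec) Q = f w := by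
      rw [h1]
      exact congrArg f ((U' i).2.fromSpec_primeIdealOf ⟨w, hwi⟩)
    exact h2
  refine ⟨⟨V, hV⟩, R', inferInstance, inferInstance, hff, hsV, fun q => ?_⟩
  let σ := Spec.map (CommRingCat.ofHom (algebraMap Γ(S, V) R')) ≫ (hV : IsAffineOpen V).fromSpec
  obtain ⟨i, Q, hQ⟩ := PrimeSpectrum.exists_comap_evalRingHom_eq (R := fun w : t => Γ(S', (U' w.1).1))
    q
  letI : Algebra R' Γ(S', (U' i.1).1) := (Pi.evalRingHom (fun w : t => Γ(S', (U' w.1).1)) i).toAlgebra
  have hproj : Module.Projective R' Γ(S', (U' i.1).1) := by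
    refine Module.Projective.of_split (M := R')
      { toFun := fun x : Γ(S', (U' i.1).1) => (Pi.single i x : R')
        map_add' := fun x y => by funext j; exact congr_fun (Pi.single_add (f := fun w : t => (Γ(S', (U' w.1).1) : Type u)) i x y) j
        map_smul' := fun r x => by
          show Pi.single i (r i * x) = r * Pi.single i x
          funext j
          show (Pi.single i (r i * x) : R') j = r j * (Pi.single i x : R') j
          by_cases h : j = i
          · subst h; simp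
          · simp [h] }
      (Algebra.linearMap R' _) (LinearMap.ext fun x => ?_)
    show (Pi.single i x : R') i = x
    simp
  let ev := Spec.map (CommRingCat.ofHom (algebraMap R' Γ(S', (U' i.1).1)))
  have : IsOpenImmersion ev := by
    have : IsLocalization.Away (Pi.single i 1 : R') Γ(S', (U' i.1).1) := by
      apply IsLocalization.away_of_isIdempotentElem_of_mul
      · ext j; by_cases h : j = i
        · subst h; simp
        · simp [h]
      · intro x y
        constructor
        · intro e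
          ext j
          by_cases h : j = i
          · subst h
            simp only [Pi.mul_apply, Pi.single_eq_same, _root_.one_mul]
            exact e
          · simp [h]
        · intro e
          have := congr_fun e i
          simp only [Pi.mul_apply, Pi.single_eq_same, _root_.one_mul] at this
          exact this
      · exact Function.surjective_eval _
    exact IsOpenImmersion.of_isLocalization (Pi.single i 1 : R')
  let hU'' : IsAffineOpen (U' i.1).1 := (U' i.1).2
  let a : Spec Γ(S', (U' i.1).1) ⟶ (U i.1 : Scheme.{u}) :=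
    hU''.isoSpec.inv ≫ S'.homOfLE (hU'U i.1)
  have ha : a ≫ (U i.1).ι ≫ f = ev ≫ σ := by
    show (hU''.isoSpec.inv ≫ S'.homOfLE (hU'U i.1)) ≫ (U i.1).ι ≫ f = ev ≫ Spec.map _ ≫ _
    rw [Category.assoc, Scheme.homOfLE_ι_assoc, IsAffineOpen.isoSpec_inv_ι_assoc, ← Category.assoc, ← Spec.map_comp,
      ← IsAffineOpen.SpecMap_appLE_fromSpec f hV hU'' (hle i.1)]
    rfl
  exact ⟨Γ(S', (U' i.1).1), inferInstance, inferInstance, hproj, ‹_›, S', f, U i.1, a, ⟨Q, hQ⟩,
    hiso i.1, ha⟩

set_option backward.isDefEq.respectTransparency.types false in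
/-- A property of morphisms which is local on the target and descends fpqc holds for `φ` if it holds after base
change to every affine scheme mapping into a member of an fpqc-local trivialisation. -/
theorem descend {Q : MorphismProperty Scheme.{u}} [IsZariskiLocalAtTarget Q] [Q.IsStableUnderBaseChange]
    [Q.DescendsAlong (@Surjective ⊓ @Flat ⊓ @QuasiCompact)]
    {S : Scheme.{u}} {P : ∀ (S' : Scheme.{u}), (S' ⟶ S) → Prop} (hP : TwC.Locally S TwC.Topology.fpqc P)
    {Z Z' : Scheme.{u}} (φ : Z ⟶ Z') (g : Z' ⟶ S)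
    (h : ∀ (S' : Scheme.{u}) (f : S' ⟶ S) (U : S'.Opens), P U (U.ι ≫ f) → ∀ (R : CommRingCat.{u})
      (a : Spec R ⟶ (U : Scheme.{u})), Q (pullback.snd φ (pullback.fst g (a ≫ U.ι ≫ f)))) : Q φ := by
  choose V R' _ _ hff hsV hq using fun s => exists_cover hP s
  let 𝒰 : Z'.OpenCover := Scheme.Cover.mkOfCovers S (fun s => pullback g (V s).2.fromSpec)
    (fun s => pullback.fst g (V s).2.fromSpec) (fun z => by
      refine ⟨g z, ?_⟩
      have hz : g z ∈ Set.range (V (g z)).2.fromSpec := (V (g z)).2.range_fromSpec.ge (hsV (g z))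
      obtain ⟨w, hw⟩ := hz
      obtain ⟨x, hx, -⟩ := Scheme.Pullback.exists_preimage_pullback z w hw.symm
      exact ⟨x, hx⟩)
    (fun s => have := (V s).2.isOpenImmersion_fromSpec; inferInstance)
  have hcongr : ∀ {T : Scheme.{u}} {i i' : T ⟶ Z'}, i = i' → Q (pullback.snd φ i) → Q (pullback.snd φ i') := by
    rintro _ _ _ rfl h'
    exact h'
  refine IsZariskiLocalAtTarget.of_openCover (P := Q) (𝒰 := 𝒰) fun s => ?_
  show Q (pullback.snd φ (pullback.fst g (V s).2.fromSpec))
  let p := Spec.map (CommRingCat.ofHom (algebraMap Γ(S, (V s).1) (R' s)))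
  have hp : (@Surjective ⊓ @Flat ⊓ @QuasiCompact : MorphismProperty Scheme.{u}) p := by
    have h := RingHom.faithfullyFlat_algebraMap_iff.2 (hff s)
    exact ⟨((flat_and_surjective_SpecMap_iff _).2 h).symm, inferInstance⟩
  let j : pullback g (p ≫ (V s).2.fromSpec) ⟶ pullback g (V s).2.fromSpec :=
    pullback.map _ _ _ _ (𝟙 _) p (𝟙 _) (by simp) (by simp)
  have hj : IsPullback j (pullback.snd g (p ≫ (V s).2.fromSpec)) (pullback.snd g (V s).2.fromSpec) p := by
    refine IsPullback.of_right ?_ (pullback.lift_snd _ _ _) (IsPullback.of_hasPullback g (V s).2.fromSpec)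
    rw [pullback.lift_fst, Category.comp_id]
    exact IsPullback.of_hasPullback g (p ≫ (V s).2.fromSpec)
  have hj' : (@Surjective ⊓ @Flat ⊓ @QuasiCompact : MorphismProperty Scheme.{u}) j :=
    MorphismProperty.of_isPullback hj.flip hp
  refine MorphismProperty.of_pullback_snd_of_descendsAlong (P := Q)
    (Q := @Surjective ⊓ @Flat ⊓ @QuasiCompact) (g := j) hj' ?_
  rw [← pullbackLeftPullbackSndIso_hom_snd, MorphismProperty.cancel_left_of_respectsIso (P := Q)]
  refine hcongr (show pullback.fst g (p ≫ (V s).2.fromSpec) = j ≫ pullback.fst g (V s).2.fromSpec from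
      ((pullback.lift_fst _ _ _).trans (Category.comp_id _)).symm) ?_
  choose Ri _ _ hpr hoi S' f U a hqmem hPU ha using hq s
  let ev := fun q => Spec.map (CommRingCat.ofHom (algebraMap (R' s) (Ri q)))
  let l := fun q => pullback.map g (ev q ≫ p ≫ (V s).2.fromSpec) g (p ≫ (V s).2.fromSpec) (𝟙 _) (ev q) (𝟙 _)
    (by simp) (by simp)
  let 𝒲 : (pullback g (p ≫ (V s).2.fromSpec)).OpenCover :=
    Scheme.Cover.mkOfCovers (Spec (CommRingCat.of (R' s))) (fun q => pullback g (ev q ≫ p ≫ (V s).2.fromSpec)) l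
      (fun z => ⟨pullback.snd g (p ≫ (V s).2.fromSpec) z, by
        show z ∈ Set.range (l _)
        rw [Scheme.Pullback.range_map]
        exact ⟨⟨_, rfl⟩, hqmem _⟩⟩)
      (fun q => have := hoi q; (inferInstance : IsOpenImmersion (l q)))
  refine IsZariskiLocalAtTarget.of_openCover (P := Q) (𝒰 := 𝒲) fun q => ?_
  show Q (pullback.snd (pullback.snd φ _) (l q))
  rw [← pullbackLeftPullbackSndIso_hom_snd, MorphismProperty.cancel_left_of_respectsIso (P := Q)]
  refine hcongr (show pullback.fst g (ev q ≫ p ≫ (V s).2.fromSpec) = l q ≫ pullback.fst g (p ≫ (V s).2.fromSpec) from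
      ((pullback.lift_fst _ _ _).trans (Category.comp_id _)).symm) ?_
  exact ha q ▸ h (S' q) (f q) (U q) (hPU q) (CommRingCat.of (Ri q)) (a q)

end Groth.Agent.HopfRep.FpqcCover

end
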