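import Groth.Agent.HopfRep.EssFree
import Groth.Agent.HopfRep.FpqcCover
import Groth.Prelude.Def_SGA3x
import Mathlib.RingTheory.Spectrum.Prime.RingHom
import Mathlib.RingTheory.FiniteType
import Mathlib.AlgebraicGeometry.Morphisms.FiniteType
import Mathlib.AlgebraicGeometry.Morphisms.LocalFlatDescent
import Mathlib.LinearAlgebra.DFinsupp

/-!
Groups of multiplicative type of finite type and essentially free morphisms are essentially free in
the sense of `EssFree`.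
-/

universe u

open TensorProduct CategoryTheory MonoidalCategory CartesianMonoidalCategory AlgebraicGeometry Limits

set_option linter.style.haveILetI false

noncomputable section

namespace Groth.Agent.HopfRep.EssFreeSGA

open EssFree

theorem piecesOver_diag (M : Type) [AddCommGroup M] :
    PiecesOver (Red.diag (ULift.{u} ℤ) M).hom := by
  intro z
  have hid : IsOpenImmersion (𝟙 (Spec (CommRingCat.of (MonoidAlgebra (ULift.{u} ℤ) (Multiplicative M))))) :=
    @IsOpenImmersion.of_isIso _ _ _ (IsIso.id _)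
  refine ⟨MonoidAlgebra (ULift.{u} ℤ) (Multiplicative M), inferInstance, inferInstance, 𝟙 _, inferInstance,
    hid, ⟨z, rfl⟩, ?_⟩
  exact Category.id_comp _

theorem exists_isPullback_multType {S : Scheme.{u}} (H : Over S) [GrpObj H] {S' : Scheme.{u}} (f : S' ⟶ S)
    (U : S'.Opens) (M : Type) [AddCommGroup M]
    (e : Grp.mk (Red.bc (U.ι ≫ f) H) ≅ Grp.mk (Red.DS (U : Scheme.{u}) M))
    {R : Type u} [CommRing R] (a : Spec (CommRingCat.of R) ⟶ (U : Scheme.{u})) :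
    ∃ (_ : Algebra (ULift.{u} ℤ) R) (π : pullback H.hom (a ≫ U.ι ≫ f) ⟶ (Red.diag (ULift.{u} ℤ) M).left),
      IsPullback π (pullback.snd H.hom (a ≫ U.ι ≫ f)) (Red.diag (ULift.{u} ℤ) M).hom
        (Spec.map (CommRingCat.ofHom (algebraMap (ULift.{u} ℤ) R))) := by
  let HU := Red.bc (U.ι ≫ f) H
  let e' : HU ≅ Red.DS (U : Scheme.{u}) M := (Grp.forget _).mapIso e
  let t := Limits.IsTerminal.from specULiftZIsTerminal (U : Scheme.{u})
  let l : pullback H.hom (a ≫ U.ι ≫ f) ⟶ HU.left :=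
    pullback.lift (pullback.fst _ _) (pullback.snd _ _ ≫ a) (by rw [pullback.condition, Category.assoc])
  have h1 : IsPullback l (pullback.snd H.hom (a ≫ U.ι ≫ f)) HU.hom a := by
    refine IsPullback.of_right ?_ (pullback.lift_snd _ _ _) (IsPullback.of_hasPullback H.hom (U.ι ≫ f))
    rw [pullback.lift_fst]
    exact IsPullback.of_hasPullback _ _
  have : IsIso e'.hom.left := inferInstanceAs (IsIso ((Over.forget _).map e'.hom))
  have h2 : IsPullback e'.hom.left HU.hom (Red.DS (U : Scheme.{u}) M).hom (𝟙 _) :=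
    IsPullback.of_horiz_isIso ⟨by rw [Category.comp_id]; exact Over.w e'.hom⟩
  have h4 := (h1.paste_horiz h2).paste_horiz (IsPullback.of_hasPullback (Red.diag (ULift.{u} ℤ) M).hom t)
  rw [Category.comp_id] at h4
  letI : Algebra (ULift.{u} ℤ) R := (((Int.castRingHom R)).comp (ULift.ringEquiv : ULift.{u} ℤ ≃+* ℤ).toRingHom).toAlgebra
  have h5 : a ≫ t = Spec.map (CommRingCat.ofHom (algebraMap (ULift.{u} ℤ) R)) :=
    specULiftZIsTerminal.hom_ext _ _
  rw [h5] at h4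
  exact ⟨inferInstance, _, h4⟩

theorem piecesOver_multType {S : Scheme.{u}} (H : Over S) [GrpObj H] {S' : Scheme.{u}} (f : S' ⟶ S)
    (U : S'.Opens) (M : Type) [AddCommGroup M]
    (e : Grp.mk (Red.bc (U.ι ≫ f) H) ≅ Grp.mk (Red.DS (U : Scheme.{u}) M))
    {R : Type u} [CommRing R] (a : Spec (CommRingCat.of R) ⟶ (U : Scheme.{u})) :
    PiecesOver (pullback.snd H.hom (a ≫ U.ι ≫ f)) := by
  obtain ⟨_, π, h4⟩ := exists_isPullback_multType H f U M e a
  exact (piecesOver_diag M).baseChange h4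

theorem exists_cover_of_multTypeFT {S : Scheme.{u}} {H : Over S} [GrpObj H] (hH : SGA3x.IsMultTypeFT H) (s : S) :
    ∃ (V : S.affineOpens) (R' : Type u) (_ : CommRing R') (_ : Algebra Γ(S, V.1) R'),
      Module.FaithfullyFlat Γ(S, V.1) R' ∧ s ∈ V.1 ∧
      ∀ q : Spec (CommRingCat.of R'), ∃ (Ri : Type u) (_ : CommRing Ri) (_ : Algebra R' Ri) (_ : Module.Projective R' Ri)
        (_ : IsOpenImmersion (Spec.map (CommRingCat.ofHom (algebraMap R' Ri))))
        (S' : Scheme.{u}) (f : S' ⟶ S) (U : S'.Opens) (M : Type) (_ : AddCommGroup M) (a : Spec (CommRingCat.of Ri) ⟶ (U : Scheme.{u})),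
        q ∈ Set.range (Spec.map (CommRingCat.ofHom (algebraMap R' Ri))) ∧ AddGroup.FG M ∧
        Nonempty (Grp.mk (Red.bc (U.ι ≫ f) H) ≅ Grp.mk (Red.DS (U : Scheme.{u}) M)) ∧
        a ≫ U.ι ≫ f = Spec.map (CommRingCat.ofHom (algebraMap R' Ri)) ≫
          Spec.map (CommRingCat.ofHom (algebraMap Γ(S, V.1) R')) ≫ V.2.fromSpec := by
  obtain ⟨V, R', i1, i2, hff, hsV, hq⟩ := FpqcCover.exists_cover (S := S)
    (P := fun U g => ∃ (M : Type) (_ : AddCommGroup M), AddGroup.FG M ∧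
      Nonempty (Grp.mk (Red.bc g H) ≅ Grp.mk (Red.DS U M))) hH s
  refine ⟨V, R', i1, i2, hff, hsV, fun q => ?_⟩
  obtain ⟨Ri, j1, j2, hpr, hoi, S', f, U, a, hqm, ⟨M, hM, hfg, hiso⟩, ha⟩ := hq q
  exact ⟨Ri, j1, j2, hpr, hoi, S', f, U, M, hM, a, hqm, hfg, hiso, ha⟩

theorem isEssFree_of_multTypeFT {S : Scheme.{u}} {H : Over S} [GrpObj H] (hH : SGA3x.IsMultTypeFT H) :
    IsEssFree H.hom := by
  intro s
  obtain ⟨V, R', _, _, hff, hsV, hq⟩ := exists_cover_of_multTypeFT hH s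
  refine ⟨V, R', inferInstance, inferInstance, hff, hsV, fun z => ?_⟩
  let σ := Spec.map (CommRingCat.ofHom (algebraMap Γ(S, V.1) R')) ≫ V.2.fromSpec
  obtain ⟨Ri, _, _, _, _, S', f, U, M, _, a, ⟨Q, hQ⟩, -, ⟨e⟩, ha⟩ := hq (pullback.snd H.hom σ z)
  let π : pullback H.hom (a ≫ U.ι ≫ f) ⟶ pullback H.hom σ :=
    pullback.map _ _ _ _ (𝟙 _) (Spec.map (CommRingCat.ofHom (algebraMap R' Ri))) (𝟙 _) (by simp)
      (by rw [Category.comp_id, ha])
  have : IsOpenImmersion π := inferInstance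
  obtain ⟨z', hz'⟩ : z ∈ Set.range π := by
    rw [Scheme.Pullback.range_map]
    exact ⟨⟨_, rfl⟩, ⟨Q, hQ⟩⟩
  obtain ⟨B, hB, hA, w, hp, hw, hzw, hwp⟩ := PiecesOver.of_summand (R := R') (piecesOver_multType H f U M e a) π
    (p₀ := pullback.snd H.hom σ) (pullback.lift_snd _ _ _) z'
  exact ⟨B, hB, hA, w, hp, hw, hz' ▸ hzw, hwp⟩

theorem locallyOfFiniteType_diag (M : Type) [AddCommGroup M] (hM : AddGroup.FG M) :
    LocallyOfFiniteType (Red.diag (ULift.{u} ℤ) M).hom := by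
  have : Monoid.FG (Multiplicative M) := Group.fg_iff_monoid_fg.1 (AddGroup.fg_iff_mul_fg.1 hM)
  show LocallyOfFiniteType (Spec.map (CommRingCat.ofHom (algebraMap (ULift.{u} ℤ) (MonoidAlgebra (ULift.{u} ℤ) (Multiplicative M)))))
  rw [HasRingHomProperty.Spec_iff (P := @LocallyOfFiniteType)]
  exact RingHom.finiteType_algebraMap.2 inferInstance

set_option backward.isDefEq.respectTransparency.types false in
theorem locallyOfFiniteType_of_multTypeFT {S : Scheme.{u}} {H : Over S} [GrpObj H] (hH : SGA3x.IsMultTypeFT H) :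
    LocallyOfFiniteType H.hom := by
  choose V R' _ _ hff hsV hq using fun s => exists_cover_of_multTypeFT hH s
  let 𝒰 : S.OpenCover := Scheme.Cover.mkOfCovers S (fun s => Spec Γ(S, (V s).1)) (fun s => (V s).2.fromSpec)
    (fun s => ⟨s, (V s).2.range_fromSpec.ge (hsV s)⟩) (fun s => (V s).2.isOpenImmersion_fromSpec)
  refine IsZariskiLocalAtTarget.of_openCover (P := @LocallyOfFiniteType) (𝒰 := 𝒰) fun s => ?_
  show LocallyOfFiniteType (pullback.snd H.hom (V s).2.fromSpec)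
  let φ := Spec.map (CommRingCat.ofHom (algebraMap Γ(S, (V s).1) (R' s)))
  have : Surjective φ ∧ Flat φ := by
    have h := RingHom.faithfullyFlat_algebraMap_iff.2 (hff s)
    exact ((flat_and_surjective_SpecMap_iff _).2 h).symm
  refine MorphismProperty.of_pullback_snd_of_descendsAlong (P := @LocallyOfFiniteType)
    (Q := @Surjective ⊓ @Flat ⊓ @QuasiCompact) (g := φ) ⟨⟨this.1, this.2⟩, inferInstance⟩ ?_
  rw [← pullbackLeftPullbackSndIso_hom_snd, MorphismProperty.cancel_left_of_respectsIso (P := @LocallyOfFiniteType)]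
  choose Ri _ _ hpr hoi S' f U M hM a hqmem hMfg hiso ha using hq s
  let 𝒲 : (Spec (CommRingCat.of (R' s))).OpenCover :=
    Scheme.Cover.mkOfCovers (Spec (CommRingCat.of (R' s))) (fun q => Spec (CommRingCat.of (Ri q)))
      (fun q => Spec.map (CommRingCat.ofHom (algebraMap (R' s) (Ri q))))
      (fun q => ⟨q, hqmem q⟩) (fun q => hoi q)
  refine IsZariskiLocalAtTarget.of_openCover (P := @LocallyOfFiniteType) (𝒰 := 𝒲) fun q => ?_
  show LocallyOfFiniteType (pullback.snd (pullback.snd H.hom _) _)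
  rw [← pullbackLeftPullbackSndIso_hom_snd, MorphismProperty.cancel_left_of_respectsIso (P := @LocallyOfFiniteType)]
  obtain ⟨_, π, h4⟩ := exists_isPullback_multType H (f q) (U q) (M q) (hiso q).some (R := Ri q) (a q)
  have h := MorphismProperty.of_isPullback (P := @LocallyOfFiniteType) h4 (locallyOfFiniteType_diag (M q) (hMfg q))
  exact (congrArg (fun x => LocallyOfFiniteType (pullback.snd H.hom x)) (ha q)).mp h

theorem quasiCompact_of_multTypeFT {S : Scheme.{u}} {H : Over S} [GrpObj H] (hH : SGA3x.IsMultTypeFT H) :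
    QuasiCompact H.hom := by
  obtain ⟨S', f, -, -, hqc, hloc⟩ := hH
  rw [quasiCompact_iff_forall_isAffineOpen]
  intro V hV
  obtain ⟨W, hW, hWV⟩ := hqc V hV
  have hU : ∀ w : (W : Set S'), ∃ (U' : S'.affineOpens) (U : S'.Opens) (M : Type) (_ : AddCommGroup M),
      (w : S') ∈ U'.1 ∧ U'.1 ≤ W ∧ U'.1 ≤ U ∧
      Nonempty (Grp.mk (Red.bc (U.ι ≫ f) H) ≅ Grp.mk (Red.DS (U : Scheme.{u}) M)) := fun ⟨w, hw⟩ => by
    obtain ⟨U, hwU, M, hM, -, hiso⟩ := hloc w
    obtain ⟨_, ⟨U', hU', rfl⟩, hwU', hsub⟩ := S'.isBasis_affineOpens.exists_subset_of_mem_open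
      (show w ∈ W ⊓ U from ⟨hw, hwU⟩) (W ⊓ U).2
    exact ⟨⟨U', hU'⟩, U, M, hM, hwU', fun a ha => (hsub ha).1, fun a ha => (hsub ha).2, hiso⟩
  choose U' U M hM hwU' hU'W hU'U hiso using hU
  obtain ⟨t, ht⟩ := hW.elim_finite_subcover (fun w => ((U' w).1 : Set S')) (fun w => (U' w).1.2)
    (fun w hw => Set.mem_iUnion.2 ⟨⟨w, hw⟩, hwU' ⟨w, hw⟩⟩)
  let a : ∀ w, Spec Γ(S', (U' w).1) ⟶ (U w : Scheme.{u}) := fun w =>
    (U' w).2.isoSpec.inv ≫ S'.homOfLE (hU'U w)
  let P := fun w => pullback H.hom (a w ≫ (U w).ι ≫ f)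
  have hP : ∀ w, IsAffine (P w) := fun w => by
    obtain ⟨_, π, h4⟩ := exists_isPullback_multType H f (U w) (M w) (hiso w).some (R := Γ(S', (U' w).1)) (a w)
    have : IsAffineHom (Red.diag (ULift.{u} ℤ) (M w)).hom :=
      inferInstanceAs (IsAffineHom (Spec.map (CommRingCat.ofHom (algebraMap (ULift.{u} ℤ) (MonoidAlgebra (ULift.{u} ℤ) (Multiplicative (M w)))))))
    have : IsAffineHom (pullback.snd H.hom (a w ≫ (U w).ι ≫ f)) :=
      MorphismProperty.of_isPullback (P := @IsAffineHom) h4 inferInstance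
    exact isAffine_of_isAffineHom (pullback.snd H.hom (a w ≫ (U w).ι ≫ f))
  have ha : ∀ w, a w ≫ (U w).ι = (U' w).2.fromSpec := fun w => by
    show (_ ≫ _) ≫ _ = _
    rw [Category.assoc, Scheme.homOfLE_ι]
    exact IsAffineOpen.isoSpec_inv_ι _
  have haq : ∀ w (q : Spec Γ(S', (U' w).1)), (a w ≫ (U w).ι ≫ f) q = f ((U' w).2.fromSpec q) := fun w q => by
    show f ((a w ≫ (U w).ι) q) = _
    rw [ha]
  have heq : (H.hom ⁻¹' (V : Set S)) = ⋃ (w : (W : Set S')) (_ : w ∈ (t : Finset _)), Set.range (pullback.fst H.hom (a w ≫ (U w).ι ≫ f)) := by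
    ext h
    simp only [Set.mem_preimage, Set.mem_iUnion]
    constructor
    · intro hh
      obtain ⟨x, hxW, hfx⟩ := hWV.ge hh
      obtain ⟨w, hw, hxw⟩ := Set.mem_iUnion₂.1 (ht hxW)
      refine ⟨w, hw, ?_⟩
      obtain ⟨q, hq⟩ : x ∈ Set.range (U' w).2.fromSpec := (U' w).2.range_fromSpec.ge hxw
      obtain ⟨z, hz, -⟩ := Scheme.exists_preimage_of_isPullback (IsPullback.of_hasPullback H.hom (a w ≫ (U w).ι ≫ f)) h q
        (by rw [haq, hq, hfx])
      exact ⟨z, hz⟩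
    · rintro ⟨w, hw, z, rfl⟩
      rw [← Scheme.Hom.comp_apply, pullback.condition, Scheme.Hom.comp_apply, haq]
      exact hWV.le ⟨_, hU'W w ((U' w).2.range_fromSpec.le ⟨_, rfl⟩), rfl⟩
  show IsCompact (H.hom ⁻¹' (V : Set S))
  rw [heq]
  exact t.finite_toSet.isCompact_biUnion fun w _ =>
    haveI := hP w
    isCompact_range (pullback.fst H.hom (a w ≫ (U w).ι ≫ f)).continuous

theorem isEssFree_of_isEssentiallyFree {F S : Scheme.{u}} {f : F ⟶ S} (hf : SGA3x.IsEssentiallyFree f) :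
    IsEssFree f := by
  intro s
  obtain ⟨U, hsU, hU, S', hS', g, hgf, hgs, hpieces⟩ := hf s
  let ψ : Γ(S, U) ⟶ Γ(S', ⊤) := Spec.preimage (S'.isoSpec.inv ≫ g ≫ hU.isoSpec.hom)
  letI : Algebra Γ(S, U) Γ(S', ⊤) := ψ.hom.toAlgebra
  have hψ : Spec.map (CommRingCat.ofHom (algebraMap Γ(S, U) Γ(S', ⊤))) = S'.isoSpec.inv ≫ g ≫ hU.isoSpec.hom :=
    Spec.map_preimage _
  have hff : Module.FaithfullyFlat Γ(S, U) Γ(S', ⊤) := by
    rw [← RingHom.faithfullyFlat_algebraMap_iff]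
    have := (flat_and_surjective_SpecMap_iff (CommRingCat.ofHom (algebraMap Γ(S, U) Γ(S', ⊤)))).1
      ⟨hψ ▸ inferInstance, hψ ▸ inferInstance⟩
    exact this
  refine ⟨⟨U, hU⟩, Γ(S', ⊤), inferInstance, inferInstance, hff, hsU, fun z => ?_⟩
  let σ := Spec.map (CommRingCat.ofHom (algebraMap Γ(S, U) Γ(S', ⊤))) ≫ hU.fromSpec
  have hσ : S'.isoSpec.hom ≫ σ = g ≫ U.ι := by
    show _ ≫ Spec.map _ ≫ hU.fromSpec = _
    rw [hψ, ← hU.isoSpec_inv_ι]
    simp
  let m : pullback f (g ≫ U.ι) ⟶ pullback f σ :=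
    pullback.map _ _ _ _ (𝟙 _) S'.isoSpec.hom (𝟙 _) (by simp) (by rw [Category.comp_id, hσ])
  have : IsIso m := inferInstance
  obtain ⟨x, rfl⟩ : z ∈ Set.range m := by
    rw [Set.range_eq_univ.2 m.surjective]; trivial
  obtain ⟨V', hxV', hV', hproj⟩ := hpieces x
  have : IsAffine (V' : Scheme.{u}) := hV'
  letI := (V'.ι ≫ pullback.snd f (g ≫ U.ι)).appTop.hom.toAlgebra
  refine ⟨Γ(↑V', ⊤), inferInstance, inferInstance, (V' : Scheme.{u}).isoSpec.inv ≫ V'.ι ≫ m, hproj, inferInstance,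
    ⟨(V' : Scheme.{u}).isoSpec.hom ⟨x, hxV'⟩, ?_⟩, ?_⟩
  · show ((V' : Scheme.{u}).isoSpec.hom ≫ (V' : Scheme.{u}).isoSpec.inv ≫ V'.ι ≫ m) ⟨x, hxV'⟩ = _
    rw [Iso.hom_inv_id_assoc]
    rfl
  · show ((V' : Scheme.{u}).isoSpec.inv ≫ V'.ι ≫ m) ≫ pullback.snd f σ = Spec.map (V'.ι ≫ pullback.snd f (g ≫ U.ι)).appTop
    rw [Category.assoc, Category.assoc, pullback.lift_snd, Iso.inv_comp_eq, Scheme.isoSpec_hom_naturality,
      Category.assoc]

end Groth.Agent.HopfRep.EssFreeSGA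

end
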