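import Groth.Agent.HopfRep.WeilClosed
import Groth.Agent.Mor.Cancel
import Mathlib.AlgebraicGeometry.Morphisms.Immersion
import Mathlib.AlgebraicGeometry.PullbackCarrier
import Mathlib.CategoryTheory.Monoidal.Cartesian.Over
import Mathlib.LinearAlgebra.FreeModule.Basic
import Mathlib.RingTheory.Localization.Free
import Mathlib.RingTheory.Finiteness.ModuleFinitePresentation
import Mathlib.RingTheory.LocalRing.Module
import Mathlib.AlgebraicGeometry.Morphisms.Finite
import Mathlib.AlgebraicGeometry.Morphisms.Flat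
import Mathlib.AlgebraicGeometry.Morphisms.Separated
import Mathlib.AlgebraicGeometry.Morphisms.FinitePresentation

/-!
Weil restriction of closed subschemes of `X ⊗ F` along `F`, when `F` is locally free over the base.
-/

universe u

open TensorProduct CategoryTheory MonoidalCategory CartesianMonoidalCategory AlgebraicGeometry Limits

set_option linter.style.haveILetI false

noncomputable section

namespace Groth.Agent.HopfRep.WeilClosed

variable {S : Scheme.{u}} (F X : Over S)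

/-- `F` is covered, locally on the base, by affine opens with free rings of functions. -/
def LocFree : Prop :=
  ∀ s : S, ∃ V : S.affineOpens, s ∈ V.1 ∧ ∀ y : F.left, F.hom y ∈ V.1 →
    ∃ (D : F.left.affineOpens) (h : D.1 ≤ F.hom ⁻¹ᵁ V.1), y ∈ D.1 ∧
      @Module.Free Γ(S, V.1) Γ(F.left, D.1) _ _ (F.hom.appLE V.1 D.1 h).hom.toAlgebra.toModule

theorem locFree_of_field {k : Type u} [Field k] (F : Over (Spec (CommRingCat.of k))) : LocFree F := by
  intro s
  refine ⟨⟨⊤, isAffineOpen_top _⟩, trivial, fun y _ => ?_⟩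
  obtain ⟨_, ⟨D, hD, rfl⟩, hyD, -⟩ := F.left.isBasis_affineOpens.exists_subset_of_mem_open (Set.mem_univ y) isOpen_univ
  refine ⟨⟨D, hD⟩, le_top, hyD, ?_⟩
  letI := ((Scheme.ΓSpecIso (CommRingCat.of k)).inv ≫ F.hom.appLE ⊤ D le_top).hom.toAlgebra
  let e : k ≃+* Γ(Spec (CommRingCat.of k), ⊤) := (Scheme.ΓSpecIso (CommRingCat.of k)).symm.commRingCatIsoToRingEquiv
  let b := Module.Free.chooseBasis k Γ(F.left, D)
  letI := (F.hom.appLE ⊤ D le_top).hom.toAlgebra
  exact Module.Free.of_basis (b.mapCoeffs e fun c x => rfl)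

theorem freeOver_fst {V : S.affineOpens}
    (hV : ∀ y : F.left, F.hom y ∈ V.1 → ∃ (D : F.left.affineOpens) (h : D.1 ≤ F.hom ⁻¹ᵁ V.1), y ∈ D.1 ∧
      @Module.Free Γ(S, V.1) Γ(F.left, D.1) _ _ (F.hom.appLE V.1 D.1 h).hom.toAlgebra.toModule)
    (U : X.left.affineOpens) (hU : U.1 ≤ X.hom ⁻¹ᵁ V.1) : FreeOver (fst X F).left U := by
  intro z hz
  have hzV : F.hom ((snd X F).left z) ∈ V.1 := by
    have : X.hom ((fst X F).left z) = F.hom ((snd X F).left z) := by
      rw [← Scheme.Hom.comp_apply, ← Scheme.Hom.comp_apply, Over.w, Over.w]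
    exact this ▸ hU hz
  obtain ⟨D, hDV, hyD, hfree⟩ := hV _ hzV
  letI := (F.hom.appLE V.1 D.1 hDV).hom.toAlgebra
  letI := (X.hom.appLE V.1 U.1 hU).hom.toAlgebra
  let B := Γ(X.left, U.1) ⊗[Γ(S, V.1)] Γ(F.left, D.1)
  have e₁ : Spec.map (CommRingCat.ofHom (algebraMap Γ(S, V.1) Γ(X.left, U.1))) ≫ V.2.fromSpec = U.2.fromSpec ≫ X.hom :=
    IsAffineOpen.SpecMap_appLE_fromSpec X.hom V.2 U.2 hU
  have e₂ : Spec.map (CommRingCat.ofHom (algebraMap Γ(S, V.1) Γ(F.left, D.1))) ≫ V.2.fromSpec = D.2.fromSpec ≫ F.hom :=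
    IsAffineOpen.SpecMap_appLE_fromSpec F.hom V.2 D.2 hDV
  have : IsOpenImmersion V.2.fromSpec := IsAffineOpen.isOpenImmersion_fromSpec V.2
  have : IsOpenImmersion U.2.fromSpec := IsAffineOpen.isOpenImmersion_fromSpec U.2
  have : IsOpenImmersion D.2.fromSpec := IsAffineOpen.isOpenImmersion_fromSpec D.2
  let m := pullback.map _ _ X.hom F.hom U.2.fromSpec D.2.fromSpec V.2.fromSpec e₁ e₂
  let w : Spec (CommRingCat.of B) ⟶ (X ⊗ F).left := (pullbackSpecIso Γ(S, V.1) Γ(X.left, U.1) Γ(F.left, D.1)).inv ≫ m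
  refine ⟨B, inferInstance, inferInstance, w, inferInstance, inferInstanceAs (IsOpenImmersion (_ ≫ m)), ?_, ?_⟩
  · have hzm : z ∈ Set.range m := by
      rw [Scheme.Pullback.range_map]
      exact ⟨U.2.range_fromSpec.ge hz, D.2.range_fromSpec.ge hyD⟩
    obtain ⟨q, hq⟩ := hzm
    refine ⟨(pullbackSpecIso Γ(S, V.1) Γ(X.left, U.1) Γ(F.left, D.1)).hom q, ?_⟩
    show ((pullbackSpecIso Γ(S, V.1) Γ(X.left, U.1) Γ(F.left, D.1)).inv ≫ m) _ = z
    rw [← Scheme.Hom.comp_apply, Iso.hom_inv_id_assoc]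
    exact hq
  · show (_ ≫ m) ≫ pullback.fst X.hom F.hom = _
    rw [Category.assoc, pullback.lift_fst, pullbackSpecIso_inv_fst_assoc]

theorem hgood (hF : LocFree F) :
    ∀ x : X.left, ∃ U : X.left.affineOpens, x ∈ U.1 ∧
      ∀ W : X.left.affineOpens, W.1 ≤ U.1 → FreeOver (fst X F).left W := by
  intro x
  obtain ⟨V, hxV, hV⟩ := hF (X.hom x)
  obtain ⟨_, ⟨U, hU, rfl⟩, hxU, hUV⟩ := X.left.isBasis_affineOpens.exists_subset_of_mem_open
    (show x ∈ X.hom ⁻¹ᵁ V.1 from hxV) (X.hom ⁻¹ᵁ V.1).2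
  exact ⟨⟨U, hU⟩, hxU, fun W hW => freeOver_fst F X hV W fun a ha => hUV (hW ha)⟩

variable {F X}

/-- The points of `X` at which a closed subscheme of `X ⊗ F` contains all of `F`. -/
theorem exists_closed_over' (hF : LocFree F) {E : Over S} (j : E ⟶ X ⊗ F) [IsClosedImmersion j.left] :
    ∃ (Z : Over S) (z : Z ⟶ X), IsClosedImmersion z.left ∧ (∀ (T : Over S) (g : T ⟶ X),
      (∃ g' : T ⟶ Z, g' ≫ z = g) ↔
        ∀ (T' : Over S) (t : T' ⟶ T) (a : T' ⟶ F), ∃ e : T' ⟶ E, e ≫ j = lift (t ≫ g) a) ∧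
      (QuasiCompact F.hom → LocallyOfFinitePresentation j.left → LocallyOfFinitePresentation z.left) := by
  obtain ⟨Z, z, hz, h, hfp⟩ := exists_closed (fst X F).left j.left (hgood F X hF)
  refine ⟨Over.mk (z ≫ X.hom), Over.homMk z, hz, fun T g => ⟨?_, fun hg => ?_⟩, fun hq hj => hfp ?_ hj⟩
  · rintro ⟨g', rfl⟩ T' t a
    obtain ⟨e, he⟩ := (h (g'.left ≫ z)).1 ⟨g'.left, rfl⟩ t.left (lift (t ≫ g' ≫ Over.homMk z) a).left (by
      rw [← Over.comp_left (f := lift (t ≫ g' ≫ Over.homMk z) a), lift_fst]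
      rfl)
    refine ⟨Over.homMk e ?_, Over.OverMorphism.ext he⟩
    rw [← Over.w j, ← Category.assoc, he, Over.w]
  · obtain ⟨g', hg'⟩ := (h g.left).2 fun W t q hq => by
      let T' : Over S := Over.mk (t ≫ T.hom)
      let t' : T' ⟶ T := Over.homMk t
      have hw : (q ≫ (snd X F).left) ≫ F.hom = t ≫ T.hom := by
        rw [Category.assoc, Over.w, ← Over.w (fst X F), ← Category.assoc, ← hq, Category.assoc, Over.w]
      let a : T' ⟶ F := Over.homMk (q ≫ (snd X F).left) hw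
      obtain ⟨e, he⟩ := hg T' t' a
      refine ⟨e.left, ?_⟩
      have hq' : (lift (t' ≫ g) a).left = q := by
        apply pullback.hom_ext
        · show (lift (t' ≫ g) a).left ≫ (fst X F).left = _
          rw [← Over.comp_left, lift_fst]
          exact hq
        · show (lift (t' ≫ g) a).left ≫ (snd X F).left = _
          rw [← Over.comp_left, lift_snd]
          rfl
      rw [← Over.comp_left, he, hq']
    refine ⟨Over.homMk g' (by
      show g' ≫ z ≫ X.hom = T.hom
      rw [← Category.assoc, hg', Over.w]), Over.OverMorphism.ext hg'⟩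
  · have := hq
    exact inferInstanceAs (QuasiCompact (pullback.fst X.hom F.hom))

theorem exists_closed_over (hF : LocFree F) {E : Over S} (j : E ⟶ X ⊗ F) [IsClosedImmersion j.left] :
    ∃ (Z : Over S) (z : Z ⟶ X), IsClosedImmersion z.left ∧ ∀ (T : Over S) (g : T ⟶ X),
      (∃ g' : T ⟶ Z, g' ≫ z = g) ↔
        ∀ (T' : Over S) (t : T' ⟶ T) (a : T' ⟶ F), ∃ e : T' ⟶ E, e ≫ j = lift (t ≫ g) a :=
  let ⟨Z, z, hz, h, _⟩ := exists_closed_over' hF j
  ⟨Z, z, hz, h⟩

/-- A pair of maps lies in an open where the diagonal is closed. -/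
def NearDiag {W Y : Over S} (u v : W ⟶ Y) : Prop :=
  ∀ z : W.left, (lift u v).left z ∈ (lift (𝟙 Y) (𝟙 Y) : Y ⟶ Y ⊗ Y).left ''
    Set.univ ∪ (closure (Set.range (lift (𝟙 Y) (𝟙 Y) : Y ⟶ Y ⊗ Y).left))ᶜ

theorem diag_left (Y : Over S) : (lift (𝟙 Y) (𝟙 Y) : Y ⟶ Y ⊗ Y).left = pullback.diagonal Y.hom := by
  apply pullback.hom_ext
  · rw [pullback.diagonal_fst]
    show (lift (𝟙 Y) (𝟙 Y) : Y ⟶ Y ⊗ Y).left ≫ (fst Y Y).left = _
    rw [← Over.comp_left, lift_fst]; rfl
  · rw [pullback.diagonal_snd]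
    show (lift (𝟙 Y) (𝟙 Y) : Y ⟶ Y ⊗ Y).left ≫ (snd Y Y).left = _
    rw [← Over.comp_left, lift_snd]; rfl

theorem nearDiag_of_isSeparated {W Y : Over S} (u v : W ⟶ Y) [IsSeparated Y.hom] : NearDiag u v := by
  intro z
  rw [Set.image_univ, IsClosed.closure_eq]
  · exact (em _).imp id id
  · rw [diag_left]; exact (pullback.diagonal Y.hom).isClosedEmbedding.isClosed_range

theorem exists_eqLocus' {W Y : Over S} (u v : W ⟶ Y) (h : NearDiag u v) :
    ∃ (E : Over S) (j : E ⟶ W), IsClosedImmersion j.left ∧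
      (∀ (T : Over S) (g : T ⟶ W), (∃ e : T ⟶ E, e ≫ j = g) ↔ g ≫ u = g ≫ v) ∧
      (LocallyOfFiniteType Y.hom → LocallyOfFinitePresentation j.left) := by
  let δ := (lift (𝟙 Y) (𝟙 Y) : Y ⟶ Y ⊗ Y).left
  let l := (lift u v).left
  have hδ : IsImmersion δ := by
    show IsImmersion (lift (𝟙 Y) (𝟙 Y) : Y ⟶ Y ⊗ Y).left
    rw [diag_left]; infer_instance
  have hl : ∀ z, l z ∈ δ.coborderRange := fun z => by
    show l z ∈ coborder (Set.range δ)
    rw [coborder, Set.mem_compl_iff, Set.mem_sdiff]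
    rintro ⟨h1, h2⟩
    rcases h z with h | h
    · exact h2 (Set.image_univ ▸ h)
    · exact h h1
  let Ω := δ.coborderRange
  let l' : W.left ⟶ (Ω : Scheme.{u}) := IsOpenImmersion.lift Ω.ι l (by
    rw [Scheme.Opens.range_ι]; rintro _ ⟨z, rfl⟩; exact hl z)
  have hl' : l' ≫ Ω.ι = l := IsOpenImmersion.lift_fac _ _ _
  let j₀ := pullback.fst l' δ.liftCoborder
  have hj₀ : IsClosedImmersion j₀ := inferInstanceAs (IsClosedImmersion (pullback.fst l' δ.liftCoborder))
  refine ⟨Over.mk (j₀ ≫ W.hom), Over.homMk j₀, hj₀,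
    fun T g => ⟨?_, fun hg => ?_⟩, fun hY => ?_⟩
  · rintro ⟨e, rfl⟩
    rw [Category.assoc, Category.assoc]
    congr 1
    apply Over.OverMorphism.ext
    have hcond : j₀ ≫ l = pullback.snd l' δ.liftCoborder ≫ δ := by
      rw [← hl', ← Category.assoc, pullback.condition, Category.assoc, δ.liftCoborder_ι]
    have h1 := congrArg (· ≫ (fst Y Y).left) hcond
    have h2 := congrArg (· ≫ (snd Y Y).left) hcond
    simp only [l, δ, Category.assoc, ← Over.comp_left, lift_fst, lift_snd] at h1 h2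
    exact h1.trans h2.symm
  · have hc : g.left ≫ l = (g ≫ u).left ≫ δ := by
      show g.left ≫ (lift u v).left = (g ≫ u).left ≫ (lift (𝟙 Y) (𝟙 Y) : Y ⟶ Y ⊗ Y).left
      rw [← Over.comp_left, ← Over.comp_left]
      refine congrArg CommaMorphism.left ?_
      rw [comp_lift, comp_lift, Category.comp_id, ← hg]
    have hc' : g.left ≫ l' = (g ≫ u).left ≫ δ.liftCoborder := by
      rw [← cancel_mono Ω.ι, Category.assoc, Category.assoc, hl', δ.liftCoborder_ι, hc]
    refine ⟨Over.homMk (pullback.lift g.left _ hc') ?_, Over.OverMorphism.ext (pullback.lift_fst _ _ _)⟩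
    show pullback.lift g.left _ hc' ≫ j₀ ≫ W.hom = T.hom
    rw [pullback.lift_fst_assoc, Over.w]
  · have := hY
    have h1 : LocallyOfFinitePresentation δ := by
      show LocallyOfFinitePresentation (lift (𝟙 Y) (𝟙 Y) : Y ⟶ Y ⊗ Y).left
      rw [diag_left]; exact Mor.Cancel.locallyOfFinitePresentation_diagonal _
    have h2 : LocallyOfFinitePresentation (δ.liftCoborder ≫ δ.coborderRange.ι) := by
      rw [δ.liftCoborder_ι]; exact h1
    have h3 : LocallyOfFinitePresentation δ.liftCoborder :=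
      Mor.Cancel.locallyOfFinitePresentation_of_comp _ δ.coborderRange.ι
    exact inferInstanceAs (LocallyOfFinitePresentation (pullback.fst l' δ.liftCoborder))

theorem exists_eqLocus {W Y : Over S} (u v : W ⟶ Y) (h : NearDiag u v) :
    ∃ (E : Over S) (j : E ⟶ W), IsClosedImmersion j.left ∧
      ∀ (T : Over S) (g : T ⟶ W), (∃ e : T ⟶ E, e ≫ j = g) ↔ g ≫ u = g ≫ v :=
  let ⟨E, j, hj, hE, _⟩ := exists_eqLocus' u v h
  ⟨E, j, hj, hE⟩

/-- The locus where two families of maps parametrized by `F` agree. -/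
theorem exists_closed_eq (hF : LocFree F) {Y : Over S} (u v : X ⊗ F ⟶ Y) (h : NearDiag u v) :
    ∃ (Z : Over S) (z : Z ⟶ X), IsClosedImmersion z.left ∧ ∀ (T : Over S) (g : T ⟶ X),
      (∃ g' : T ⟶ Z, g' ≫ z = g) ↔
        ∀ (T' : Over S) (t : T' ⟶ T) (a : T' ⟶ F), lift (t ≫ g) a ≫ u = lift (t ≫ g) a ≫ v := by
  obtain ⟨E, j, hj, hE⟩ := exists_eqLocus u v h
  obtain ⟨Z, z, hz, hZ⟩ := exists_closed_over hF j
  exact ⟨Z, z, hz, fun T g => (hZ T g).trans ⟨fun h T' t a => (hE _ _).1 (h T' t a),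
    fun h T' t a => (hE _ _).2 (h T' t a)⟩⟩

theorem exists_closed_eq' (hF : LocFree F) {Y : Over S} (u v : X ⊗ F ⟶ Y) (h : NearDiag u v) :
    ∃ (Z : Over S) (z : Z ⟶ X), IsClosedImmersion z.left ∧ (∀ (T : Over S) (g : T ⟶ X),
      (∃ g' : T ⟶ Z, g' ≫ z = g) ↔
        ∀ (T' : Over S) (t : T' ⟶ T) (a : T' ⟶ F), lift (t ≫ g) a ≫ u = lift (t ≫ g) a ≫ v) ∧
      (QuasiCompact F.hom → LocallyOfFiniteType Y.hom → LocallyOfFinitePresentation z.left) := by
  obtain ⟨E, j, hj, hE, hjfp⟩ := exists_eqLocus' u v h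
  obtain ⟨Z, z, hz, hZ, hfp⟩ := exists_closed_over' hF j
  exact ⟨Z, z, hz, fun T g => (hZ T g).trans ⟨fun h T' t a => (hE _ _).1 (h T' t a),
    fun h T' t a => (hE _ _).2 (h T' t a)⟩, fun hq hY => hfp hq (hjfp hY)⟩

theorem nearDiag_of_mem {W Y : Over S} (u v : W ⟶ Y)
    (h : ∀ z : W.left, ∃ U : Y.left.affineOpens, u.left z ∈ U.1 ∧ v.left z ∈ U.1) : NearDiag u v := by
  intro z
  obtain ⟨U, hu, hv⟩ := h z
  rw [Set.image_univ, Set.mem_union, Set.mem_compl_iff]
  refine (em _).imp id fun hn hcl => hn ?_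
  rw [diag_left] at hcl ⊢
  let f := U.1.ι ≫ Y.hom
  let κ : pullback f f ⟶ pullback Y.hom Y.hom :=
    pullback.map f f Y.hom Y.hom U.1.ι U.1.ι (𝟙 S) (Category.comp_id _) (Category.comp_id _)
  have : IsAffine (U.1 : Scheme.{u}) := U.2
  have : IsSeparated f := by
    have : IsSeparated (f ≫ terminal.from S) := by rw [terminal.comp_from]; infer_instance
    exact IsSeparated.of_comp f (terminal.from S)
  obtain ⟨q, hq⟩ : (lift u v).left z ∈ Set.range κ := by
    rw [Scheme.Pullback.range_map, Scheme.Opens.range_ι]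
    refine ⟨?_, ?_⟩
    · show ((lift u v).left ≫ (fst Y Y).left) z ∈ U.1
      rw [← Over.comp_left, lift_fst]; exact hu
    · show ((lift u v).left ≫ (snd Y Y).left) z ∈ U.1
      rw [← Over.comp_left, lift_snd]; exact hv
  have hclosed : IsClosed (Set.range (pullback.diagonal f)) := (pullback.diagonal f).isClosedEmbedding.isClosed_range
  have hδ : pullback.diagonal f ≫ κ = U.1.ι ≫ pullback.diagonal Y.hom := by
    apply pullback.hom_ext
    · rw [Category.assoc, Category.assoc, pullback.lift_fst, pullback.diagonal_fst, pullback.diagonal_fst_assoc,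
        Category.comp_id]
    · rw [Category.assoc, Category.assoc, pullback.lift_snd, pullback.diagonal_snd, pullback.diagonal_snd_assoc,
        Category.comp_id]
  have hsub : κ ⁻¹' Set.range (pullback.diagonal Y.hom) ⊆ Set.range (pullback.diagonal f) := by
    rintro q' ⟨x, hx⟩
    have hxU : x ∈ U.1 := by
      have h1 := congrArg (pullback.fst Y.hom Y.hom) hx
      rw [← Scheme.Hom.comp_apply, ← Scheme.Hom.comp_apply, pullback.diagonal_fst] at h1
      have h2 : κ ≫ pullback.fst Y.hom Y.hom = pullback.fst f f ≫ U.1.ι := pullback.lift_fst _ _ _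
      rw [h2] at h1
      have h3 : x = U.1.ι ((pullback.fst f f) q') := h1
      rw [h3]
      exact ((pullback.fst f f) q').2
    refine ⟨⟨x, hxU⟩, ?_⟩
    apply κ.isOpenEmbedding.injective
    show (pullback.diagonal f ≫ κ) ⟨x, hxU⟩ = _
    rw [hδ, ← hx]; rfl
  have hq' : q ∈ κ ⁻¹' closure (Set.range (pullback.diagonal Y.hom)) := by rw [Set.mem_preimage, hq]; exact hcl
  rw [κ.isOpenEmbedding.isOpenMap.preimage_closure_eq_closure_preimage κ.continuous] at hq'
  obtain ⟨x, hx⟩ := (closure_minimal hsub hclosed) hq'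
  refine ⟨U.1.ι x, ?_⟩
  rw [← Scheme.Hom.comp_apply, ← hδ, Scheme.Hom.comp_apply, hx, hq]

theorem nearDiag_of_stable {W Y : Over S} (u v : W ⟶ Y)
    (h : ∀ z : W.left, ∀ U : Y.left.Opens, v.left z ∈ U → u.left z ∈ U) : NearDiag u v := by
  refine nearDiag_of_mem u v fun z => ?_
  obtain ⟨_, ⟨U, hU, rfl⟩, hzU, -⟩ := Y.left.isBasis_affineOpens.exists_subset_of_mem_open
    (Set.mem_univ (v.left z)) isOpen_univ
  exact ⟨⟨U, hU⟩, h z U hzU, hzU⟩

theorem locFree_of_finite_flat (F : Over S) [IsFinite F.hom] [Flat F.hom] [LocallyOfFinitePresentation F.hom] :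
    LocFree F := by
  intro s
  obtain ⟨_, ⟨V, hV, rfl⟩, hsV, -⟩ := S.isBasis_affineOpens.exists_subset_of_mem_open (Set.mem_univ s) isOpen_univ
  let D := F.hom ⁻¹ᵁ V
  have hD : IsAffineOpen D := hV.preimage F.hom
  let φ := (F.hom.app V).hom
  letI := φ.toAlgebra
  have hfin : φ.Finite := IsFinite.finite_app F.hom V hV
  have : Module.Finite Γ(S, V) Γ(F.left, D) := hfin
  have hflat : φ.Flat := by
    have := HasRingHomProperty.appLE @Flat F.hom inferInstance ⟨V, hV⟩ ⟨D, hD⟩ le_rfl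
    rwa [← Scheme.Hom.app_eq_appLE] at this
  have : Module.Flat Γ(S, V) Γ(F.left, D) := hflat
  have hfp : φ.FinitePresentation := by
    have := HasRingHomProperty.appLE @LocallyOfFinitePresentation F.hom inferInstance ⟨V, hV⟩ ⟨D, hD⟩ le_rfl
    rwa [← Scheme.Hom.app_eq_appLE] at this
  have : Algebra.FinitePresentation Γ(S, V) Γ(F.left, D) := hfp
  have : Module.FinitePresentation Γ(S, V) Γ(F.left, D) := Module.FinitePresentation.of_finite_of_finitePresentation _ _
  let P := (hV.primeIdealOf ⟨s, hsV⟩).asIdeal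
  let AP := Localization.AtPrime P
  let MP := LocalizedModule P.primeCompl Γ(F.left, D)
  have : Module.Flat AP MP := Module.Flat.localizedModule P.primeCompl
  have : Module.Finite AP MP := inferInstance
  have : Module.Free AP MP := Module.free_of_flat_of_isLocalRing
  obtain ⟨r, hr, hfree, -⟩ := Module.FinitePresentation.exists_free_localizedModule_powers P.primeCompl
    (LocalizedModule.mkLinearMap P.primeCompl Γ(F.left, D)) AP
  refine ⟨⟨S.basicOpen r, hV.basicOpen r⟩, ?_, fun y hy => ⟨⟨F.left.basicOpen (φ r), hD.basicOpen (φ r)⟩, ?_, ?_, ?_⟩⟩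
  · have h1 : hV.fromSpec (hV.primeIdealOf ⟨s, hsV⟩) ∈ S.basicOpen r := by
      change hV.primeIdealOf ⟨s, hsV⟩ ∈ hV.fromSpec ⁻¹ᵁ S.basicOpen r
      rw [hV.fromSpec_preimage_basicOpen]
      exact hr
    rwa [hV.fromSpec_primeIdealOf ⟨s, hsV⟩] at h1
  · exact (Scheme.preimage_basicOpen F.hom r).ge
  · exact (Scheme.preimage_basicOpen F.hom r).le hy
  · have hle : F.left.basicOpen (φ r) ≤ F.hom ⁻¹ᵁ S.basicOpen r := (Scheme.preimage_basicOpen F.hom r).ge
    let ψ := (F.hom.appLE (S.basicOpen r) (F.left.basicOpen (φ r)) hle).hom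
    let A' := Γ(S, S.basicOpen r)
    let M' := Γ(F.left, F.left.basicOpen (φ r))
    have := hV.isLocalization_basicOpen r
    have := hD.isLocalization_basicOpen (φ r)
    letI : Algebra Γ(S, V) A' := (S.presheaf.map (homOfLE (S.basicOpen_le r)).op).hom.toAlgebra
    letI : Algebra A' M' := ψ.toAlgebra
    letI : Algebra Γ(F.left, D) M' := (F.left.presheaf.map (homOfLE (F.left.basicOpen_le (φ r))).op).hom.toAlgebra
    letI : Algebra Γ(S, V) M' := ((algebraMap Γ(F.left, D) M').comp φ).toAlgebra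
    have : IsScalarTower Γ(S, V) Γ(F.left, D) M' := .of_algebraMap_eq' rfl
    have : IsScalarTower Γ(S, V) A' M' := .of_algebraMap_eq' (by
      show (F.hom.app V ≫ F.left.presheaf.map _).hom =
        (S.presheaf.map _ ≫ F.hom.appLE (S.basicOpen r) (F.left.basicOpen (φ r)) hle).hom
      rw [Scheme.Hom.map_appLE, Scheme.Hom.app_eq_appLE, Scheme.Hom.appLE_map])
    have : IsLocalization (Algebra.algebraMapSubmonoid Γ(F.left, D) (Submonoid.powers r)) M' := by
      rw [Algebra.algebraMapSubmonoid_powers]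
      exact ‹IsLocalization.Away (φ r) _›
    have : IsLocalizedModule (Submonoid.powers r) (IsScalarTower.toAlgHom Γ(S, V) Γ(F.left, D) M').toLinearMap :=
      (isLocalizedModule_iff_isLocalization (S := Submonoid.powers r)).2 ‹_›
    let A'' := Localization (Submonoid.powers r)
    let σ : A'' ≃ₐ[Γ(S, V)] A' := IsLocalization.algEquiv (Submonoid.powers r) _ _
    letI : Module A'' M' := Module.compHom M' (σ : A'' →+* A')
    have : IsScalarTower Γ(S, V) A'' M' := IsScalarTower.of_algebraMap_smul fun a x => by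
      show σ (algebraMap Γ(S, V) A'' a) • x = a • x
      rw [σ.commutes, algebraMap_smul]
    let e := (IsLocalizedModule.iso (Submonoid.powers r)
      (IsScalarTower.toAlgHom Γ(S, V) Γ(F.left, D) M').toLinearMap).extendScalarsOfIsLocalization
        (Submonoid.powers r) A''
    have : Module.Free A'' M' := Module.Free.of_equiv e
    exact Module.Free.of_basis ((Module.Free.chooseBasis A'' M').mapCoeffs σ.toRingEquiv fun c x => rfl)

end Groth.Agent.HopfRep.WeilClosed

end
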