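import Groth.Agent.HopfRep.DiagRigidRel
import Groth.Agent.HopfRep.EssFreeSGA
import Groth.Agent.HopfRep.WeilClosedOver
import Mathlib.RingTheory.Ideal.IdempotentFG
import Mathlib.RingTheory.Spectrum.Prime.Topology

/-!
The locus where a homomorphism out of a group of multiplicative type is trivial is open and closed: it is closed
by Weil restriction, and its finitely generated ideal `I` satisfies `I = I ^ 2` by rigidity modulo `I / I ^ 2`.
-/

universe u

open CategoryTheory MonoidalCategory CartesianMonoidalCategory MonObj AlgebraicGeometry Limits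

set_option linter.style.haveILetI false

noncomputable section

namespace Groth.Agent.HopfRep.TrivLocus

open DiagRigid

theorem isNilpotent_ker_specMap {A B : CommRingCat.{u}} (pr : A ⟶ B) (h : IsNilpotent (RingHom.ker pr.hom)) :
    ∀ x : Spec A, ∃ U : (Spec A).affineOpens, x ∈ (U : (Spec A).Opens) ∧
      IsNilpotent ((Spec.map pr).ker.ideal U) := by
  intro x
  refine ⟨⟨⊤, isAffineOpen_top _⟩, trivial, ?_⟩
  obtain ⟨n, hn⟩ := h
  refine ⟨n, ?_⟩
  rw [Scheme.Hom.ker_apply]
  show RingHom.ker ((Spec.map pr).app ⊤).hom ^ n = ⊥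
  have hle : RingHom.ker ((Spec.map pr).app ⊤).hom ≤
      (RingHom.ker pr.hom).comap (Scheme.ΓSpecIso A).hom.hom := by
    intro c hc
    have h1 := RingHom.congr_fun (congrArg CommRingCat.Hom.hom (Scheme.ΓSpecIso_naturality pr)) c
    rw [Ideal.mem_comap, RingHom.mem_ker]
    refine h1.symm.trans ?_
    exact (congrArg (Scheme.ΓSpecIso B).hom.hom hc).trans (map_zero _)
  refine le_bot_iff.1 ((pow_le_pow_left' hle n).trans ((Ideal.le_comap_pow _ n).trans ?_))
  rw [hn]
  intro c hc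
  exact (map_eq_zero_iff (Scheme.ΓSpecIso A).hom.hom (ConcreteCategory.bijective_of_isIso _).1).1 hc

variable {S : Scheme.{u}} {H G : Over S} [GrpObj H] [GrpObj G] (u : H ⟶ G)

/-- `u` is trivial over `τ : T → S`. -/
def Triv {T : Scheme.{u}} (τ : T ⟶ S) : Prop :=
  ∀ (Y : Over S) (_ : Y ⟶ Over.mk τ) (h : Y ⟶ H), h ≫ u = 1

theorem Triv.comp {T T' : Scheme.{u}} {τ : T ⟶ S} (h : Triv u τ) (j : T' ⟶ T) {τ' : T' ⟶ S} (hj : j ≫ τ = τ') :
    Triv u τ' := fun Y q a => h Y (q ≫ (Over.homMk j hj : Over.mk τ' ⟶ Over.mk τ)) a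

theorem map_eq_one_iff {S' : Scheme.{u}} (f : S' ⟶ S) : (Over.pullback f).map u = 1 ↔ Triv u f := by
  constructor
  · intro h Y q a
    let Y' : Over S' := Over.mk q.left
    let j : (Over.map f).obj Y' ⟶ Y := Over.homMk (𝟙 _) (by simpa [Y'] using (Over.w q).symm)
    have : IsIso j := by
      have : IsIso ((Over.forget S).map j) := inferInstanceAs (IsIso (𝟙 _))
      exact isIso_of_reflects_iso j (Over.forget S)
    rw [← cancel_epi j, MonObj.comp_one]
    let φ := fun (Z : Over S) => (Over.mapPullbackAdj f).homEquiv Y' Z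
    have h1 : φ G ((j ≫ a) ≫ u) = φ H (j ≫ a) ≫ (Over.pullback f).map u :=
      (Over.mapPullbackAdj f).homEquiv_naturality_right _ _
    rw [h, MonObj.comp_one] at h1
    have h2 : φ G 1 = 1 := by
      have := DiagRigid.homEquiv_mul' f G Y' 1 1
      rw [_root_.one_mul] at this
      exact mul_eq_left.1 this.symm
    rw [← h2] at h1
    simpa [Category.assoc] using ((Over.mapPullbackAdj f).homEquiv Y' G).injective h1
  · intro h
    let Y' : Over S' := (Over.pullback f).obj H
    let φ := fun (Z : Over S) => (Over.mapPullbackAdj f).homEquiv Y' Z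
    have h1 : φ G ((φ H).symm (𝟙 _) ≫ u) = φ H ((φ H).symm (𝟙 _)) ≫ (Over.pullback f).map u :=
      (Over.mapPullbackAdj f).homEquiv_naturality_right _ _
    rw [Equiv.apply_symm_apply, Category.id_comp,
      h ((Over.map f).obj Y') (Over.homMk Y'.hom rfl) ((φ H).symm (𝟙 _))] at h1
    have h2 : φ G 1 = 1 := by
      have := DiagRigid.homEquiv_mul' f G Y' 1 1
      rw [_root_.one_mul] at this
      exact mul_eq_left.1 this.symm
    rw [← h1, h2]

theorem exists_clopen [IsMonHom u] [IsSeparated G.hom]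
    (hH : SGA3x.IsMultTypeFT H) (hG : IsLocallyNoetherian S ∨ LocallyOfFiniteType G.hom) :
    ∃ U : S.Opens, IsClosed (U : Set S) ∧ (∀ s : S, s ∈ U ↔ Triv u (S.fromSpecResidueField s)) ∧ Triv u U.ι := by
  classical
  have hloc : TwC.Locally S TwC.Topology.fpqc
      (fun S' f => ∃ (M : Type) (_ : AddCommGroup M), Nonempty (Grp.mk (Red.bc f H) ≅ Grp.mk (Red.DS S' M))) := by
    obtain ⟨S', f, h1, h2, h3, h4⟩ := hH
    exact ⟨S', f, h1, h2, h3, fun s' => let ⟨U, hU, M, hM, _, he⟩ := h4 s'; ⟨U, hU, M, hM, he⟩⟩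
  obtain ⟨Z, z, hz, hzT, hzfp⟩ := EssFree.exists_closed_eq (X := 𝟙_ (Over S)) (EssFreeSGA.isEssFree_of_multTypeFT hH)
    (snd (𝟙_ (Over S)) H ≫ u) 1 (WeilClosed.nearDiag_of_isSeparated _ _)
  let z' : Z.left ⟶ S := z.left
  have : IsClosedImmersion z' := hz
  have hfac : ∀ {T : Scheme.{u}} (τ : T ⟶ S), (∃ l : T ⟶ Z.left, l ≫ z' = τ) ↔ Triv u τ := by
    intro T τ
    constructor
    · rintro ⟨l, hl⟩ Y q a
      have hl' : l ≫ Z.hom = τ := by
        rw [← Over.w z]
        show l ≫ z' ≫ 𝟙 S = τ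
        rw [Category.comp_id, hl]
      have h1 := (hzT (Over.mk τ) (toUnit _)).1 ⟨Over.homMk l hl', toUnit_unique _ _⟩ Y q a
      simpa [MonObj.comp_one] using h1
    · intro h
      obtain ⟨l, hl⟩ := (hzT (Over.mk τ) (toUnit _)).2 fun Y q a => by simpa [MonObj.comp_one] using h Y q a
      exact ⟨l.left, (congrArg Over.Hom.left hl).trans (by simp)⟩
  -- affine description
  have hkey : ∀ V : S.affineOpens, ∃ e : Γ(S, V.1), IsIdempotentElem e ∧
      ∀ {K : CommRingCat.{u}} (φ : Γ(S, V.1) ⟶ K), φ.hom e = 0 ↔ ∃ l, l ≫ z' = Spec.map φ ≫ V.2.fromSpec := by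
    intro V
    have hU₀ : IsAffineOpen (z' ⁻¹ᵁ V.1) := V.2.preimage z'
    have hsurj : Function.Surjective (z'.app V.1).hom := z'.app_surjective V.1 V.2
    let I : Ideal Γ(S, V.1) := RingHom.ker (z'.app V.1).hom
    have hI : ∀ {K : CommRingCat.{u}} (φ : Γ(S, V.1) ⟶ K),
        I ≤ RingHom.ker φ.hom ↔ ∃ l, l ≫ z' = Spec.map φ ≫ V.2.fromSpec := by
      intro K φ
      constructor
      · intro h
        let ψ : Γ(Z.left, z' ⁻¹ᵁ V.1) →+* K := RingHom.liftOfSurjective (z'.app V.1).hom hsurj ⟨φ.hom, h⟩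
        have hψ : z'.app V.1 ≫ CommRingCat.ofHom ψ = φ := by
          ext r
          show ψ ((z'.app V.1).hom r) = φ.hom r
          exact RingHom.liftOfRightInverse_comp_apply _ _ _ _ r
        refine ⟨Spec.map (CommRingCat.ofHom ψ) ≫ hU₀.fromSpec, ?_⟩
        rw [Category.assoc, ← IsAffineOpen.SpecMap_appLE_fromSpec z' V.2 hU₀ le_rfl, ← Spec.map_comp_assoc,
          ← Scheme.Hom.app_eq_appLE, hψ]
      · rintro ⟨l, hl⟩
        have := hU₀.isOpenImmersion_fromSpec
        have := V.2.isOpenImmersion_fromSpec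
        let l₀ : Spec K ⟶ Spec Γ(Z.left, z' ⁻¹ᵁ V.1) := IsOpenImmersion.lift hU₀.fromSpec l (by
          rw [hU₀.range_fromSpec]
          rintro _ ⟨p, rfl⟩
          show z' (l p) ∈ V.1
          rw [← Scheme.Hom.comp_apply, hl]
          exact V.2.range_fromSpec.le ⟨_, rfl⟩)
        have h1 : Spec.map (z'.app V.1 ≫ Spec.preimage l₀) ≫ V.2.fromSpec = Spec.map φ ≫ V.2.fromSpec := by
          rw [Spec.map_comp, Spec.map_preimage, Category.assoc, Scheme.Hom.app_eq_appLE,
            IsAffineOpen.SpecMap_appLE_fromSpec z' V.2 hU₀ le_rfl, IsOpenImmersion.lift_fac_assoc, hl]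
        rw [cancel_mono] at h1
        have h2 := Spec.map_injective h1
        intro r hr
        show φ.hom r = 0
        rw [← h2]
        show (Spec.preimage l₀).hom ((z'.app V.1).hom r) = 0
        rw [show (z'.app V.1).hom r = 0 from hr, map_zero]
    have hfg : I.FG := by
      rcases hG with hS | hG
      · have := IsLocallyNoetherian.component_noetherian (X := S) V
        exact IsNoetherian.noetherian I
      · have : LocallyOfFinitePresentation z' := hzfp (EssFreeSGA.quasiCompact_of_multTypeFT hH) hG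
        have hfp : (z'.app V.1).hom.FinitePresentation := by
          rw [Scheme.Hom.app_eq_appLE]
          exact z'.finitePresentation_appLE V.2 hU₀ le_rfl
        letI := (z'.app V.1).hom.toAlgebra
        have : Algebra.FinitePresentation Γ(S, V.1) Γ(Z.left, z' ⁻¹ᵁ V.1) := hfp
        exact Algebra.FinitePresentation.ker_fG_of_surjective (Algebra.ofId Γ(S, V.1) Γ(Z.left, z' ⁻¹ᵁ V.1)) hsurj
    -- rigidity
    let mk₂ : Γ(S, V.1) ⟶ CommRingCat.of (Γ(S, V.1) ⧸ I * I) := CommRingCat.ofHom (Ideal.Quotient.mk _)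
    let pr : CommRingCat.of (Γ(S, V.1) ⧸ I * I) ⟶ CommRingCat.of (Γ(S, V.1) ⧸ I) :=
      CommRingCat.ofHom (Ideal.Quotient.factor (show I * I ≤ I from Ideal.mul_le_left))
    let i₀ := Spec.map pr
    have : IsClosedImmersion i₀ := IsClosedImmersion.spec_of_surjective _
      (Ideal.Quotient.factor_surjective (show I * I ≤ I from Ideal.mul_le_left))
    have hnil := isNilpotent_ker_specMap pr ⟨2, by
      rw [pow_two, Ideal.zero_eq_bot, eq_bot_iff, Ideal.mul_le]
      intro a ha b hb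
      obtain ⟨r, rfl⟩ := Ideal.Quotient.mk_surjective a
      obtain ⟨r', rfl⟩ := Ideal.Quotient.mk_surjective b
      rw [Ideal.mem_bot, ← map_mul]
      exact Ideal.Quotient.eq_zero_iff_mem.2
        (Ideal.mul_mem_mul (Ideal.Quotient.eq_zero_iff_mem.1 ha) (Ideal.Quotient.eq_zero_iff_mem.1 hb))⟩
    have htriv : Triv u (Spec.map mk₂ ≫ V.2.fromSpec) := by
      refine hom_trivial_rel _ i₀ hnil H G hloc u ?_
      show Triv u (i₀ ≫ Spec.map mk₂ ≫ V.2.fromSpec)
      rw [← Spec.map_comp_assoc]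
      refine (hfac _).1 ((hI _).1 fun r hr => ?_)
      exact Ideal.Quotient.eq_zero_iff_mem.2 hr
    have hII : IsIdempotentElem I := by
      refine le_antisymm Ideal.mul_le_left fun r hr => ?_
      exact Ideal.Quotient.eq_zero_iff_mem.1 ((hI mk₂).2 ((hfac _).2 htriv) hr)
    obtain ⟨e, he, hIe⟩ := (Ideal.isIdempotentElem_iff_of_fg I hfg).1 hII
    refine ⟨e, he, fun {K} φ => Iff.trans ?_ (hI φ)⟩
    rw [hIe, Ideal.submodule_span_eq, Ideal.span_le, Set.singleton_subset_iff]
    rfl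
  choose e he hfacV using hkey
  -- points
  have hpt : ∀ s : S, s ∈ Set.range z' ↔ Triv u (S.fromSpecResidueField s) := by
    intro s
    rw [← hfac]
    constructor
    · intro hs
      have : Surjective (pullback.snd z' (S.fromSpecResidueField s)) := ⟨fun p => by
        obtain ⟨y, hy⟩ := hs
        obtain ⟨w, -, hw⟩ := Scheme.Pullback.exists_preimage_pullback (f := z') (g := S.fromSpecResidueField s) y p
          (hy.trans (Scheme.fromSpecResidueField_apply s p).symm)
        exact ⟨w, hw⟩⟩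
      have := isIso_of_isClosedImmersion_of_surjective (pullback.snd z' (S.fromSpecResidueField s))
      exact ⟨inv (pullback.snd z' (S.fromSpecResidueField s)) ≫ pullback.fst _ _,
        by rw [Category.assoc, pullback.condition, IsIso.inv_hom_id_assoc]⟩
    · rintro ⟨l, hl⟩
      refine ⟨l (IsLocalRing.closedPoint _), ?_⟩
      exact (congrArg (fun f : Spec (S.residueField s) ⟶ S => f (IsLocalRing.closedPoint _)) hl).trans
        (Scheme.fromSpecResidueField_apply _ _)
  have hV : ∀ (V : S.affineOpens) (q : PrimeSpectrum Γ(S, V.1)),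
      V.2.fromSpec q ∈ Set.range z' ↔ e V ∈ q.asIdeal := by
    intro V q
    let L := q.asIdeal.ResidueField
    have hq : Spec.map (CommRingCat.ofHom (algebraMap Γ(S, V.1) L)) (⊥ : PrimeSpectrum L) = q := by
      refine PrimeSpectrum.ext ?_
      show Ideal.comap _ ⊥ = _
      exact Ideal.ker_algebraMap_residueField q.asIdeal
    rw [← Ideal.algebraMap_residueField_eq_zero (I := q.asIdeal)]
    refine Iff.trans ?_ (hfacV V (CommRingCat.ofHom (algebraMap Γ(S, V.1) L))).symm
    constructor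
    · intro hs
      obtain ⟨l, hl⟩ := (hfac _).2 ((hpt _).1 hs)
      obtain ⟨⟨s', ι₀⟩, hι⟩ := (S.SpecToEquivOfField L).symm.surjective
        (Spec.map (CommRingCat.ofHom (algebraMap Γ(S, V.1) L)) ≫ V.2.fromSpec)
      have hι' : Spec.map ι₀ ≫ S.fromSpecResidueField s' =
        Spec.map (CommRingCat.ofHom (algebraMap Γ(S, V.1) L)) ≫ V.2.fromSpec := hι
      have hs' : s' = V.2.fromSpec q := by
        rw [← hq]
        show s' = (Spec.map (CommRingCat.ofHom (algebraMap Γ(S, V.1) L)) ≫ V.2.fromSpec) (⊥ : PrimeSpectrum L)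
        rw [← hι']
        exact (Scheme.fromSpecResidueField_apply _ _).symm
      subst hs'
      exact ⟨Spec.map ι₀ ≫ l, by rw [Category.assoc, hl, hι']⟩
    · rintro ⟨l, hl⟩
      refine ⟨l (⊥ : PrimeSpectrum L), ?_⟩
      refine Eq.trans (congrArg (fun f : Spec (CommRingCat.of L) ⟶ S => f (⊥ : PrimeSpectrum L)) hl) ?_
      exact congrArg (fun x => V.2.fromSpec x) hq
  have hopen : IsOpen (Set.range z') := by
    rw [isOpen_iff_forall_mem_open]
    intro s hs
    obtain ⟨_, ⟨V, hVa, rfl⟩, hsV, -⟩ := S.isBasis_affineOpens.exists_subset_of_mem_open (Set.mem_univ s) isOpen_univ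
    let V' : S.affineOpens := ⟨V, hVa⟩
    have := V'.2.isOpenImmersion_fromSpec
    refine ⟨V'.2.fromSpec '' (PrimeSpectrum.zeroLocus {e V'}), ?_, ?_, ?_⟩
    · rintro _ ⟨q, hq, rfl⟩
      exact (hV V' q).2 (Set.singleton_subset_iff.1 hq)
    · refine V'.2.fromSpec.isOpenEmbedding.isOpenMap _ ?_
      rw [PrimeSpectrum.zeroLocus_eq_basicOpen_of_isIdempotentElem _ (he V')]
      exact (PrimeSpectrum.basicOpen (1 - e V')).2
    · obtain ⟨q, rfl⟩ := V'.2.range_fromSpec.ge hsV
      exact ⟨q, Set.singleton_subset_iff.2 ((hV V' q).1 hs), rfl⟩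
  refine ⟨⟨Set.range z', hopen⟩, z'.isClosedEmbedding.isClosed_range, hpt, ?_⟩
  intro Y q a
  ext1
  refine Scheme.hom_ext_of_forall _ _ fun y => ?_
  obtain ⟨_, ⟨V, hVa, rfl⟩, hyV, hVU⟩ := S.isBasis_affineOpens.exists_subset_of_mem_open
    (show Y.hom y ∈ Set.range z' by rw [← Over.w q]; exact (q.left y).2) hopen
  let V' : S.affineOpens := ⟨V, hVa⟩
  have he0 : e V' = 0 := by
    refine (he V').eq_zero_of_isNilpotent (nilpotent_iff_mem_prime.2 fun p hp => ?_)
    exact (hV V' ⟨p, hp⟩).1 (hVU (V'.2.range_fromSpec.le ⟨_, rfl⟩))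
  let O : Y.left.Opens := Y.hom ⁻¹ᵁ V
  refine ⟨O, ?_, ?_⟩
  · show Y.hom y ∈ V
    exact hyV
  · have htV : Triv u V'.1.ι := by
      have := hfacV V' (𝟙 _)
      obtain ⟨l, hl⟩ := this.1 (by rw [he0]; exact map_zero _)
      refine ((hfac V'.1.ι).1 ⟨V'.2.isoSpec.hom ≫ l, ?_⟩)
      rw [Category.assoc, hl, Spec.map_id, Category.id_comp]
      exact IsAffineOpen.isoSpec_hom_fromSpec _
    let Y' : Over S := Over.mk (O.ι ≫ Y.hom)
    let j : Y' ⟶ Y := Over.homMk O.ι rfl
    let q' : Y' ⟶ Over.mk V'.1.ι := Over.homMk (Y.hom ∣_ V'.1) (morphismRestrict_ι _ _)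
    have h1 := htV Y' q' (j ≫ a)
    rw [Category.assoc] at h1
    have h2 : j ≫ (a ≫ u) = j ≫ 1 := by rw [h1, MonObj.comp_one]
    exact congrArg Over.Hom.left h2

end Groth.Agent.HopfRep.TrivLocus

end
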