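import Groth.Agent.HopfRep.FpqcBase
import Groth.Agent.HopfRep.TrivLocus
import Groth.Agent.FieldExt.AlgClosedTensor
import Groth.Prelude.Def_Red

/-!
A central homomorphism out of a group of multiplicative type descends along an fpqc covering with geometrically
connected fibres: its two pullbacks to `S' ×_S S'` agree on the diagonal and their locus of agreement is open and
closed.
-/

universe u

open CategoryTheory MonoidalCategory CartesianMonoidalCategory MonObj AlgebraicGeometry Limits

set_option linter.style.haveILetI false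

noncomputable section

namespace Groth.Agent.HopfRep.CentralDescent

open FpqcBase TrivLocus

variable {S S' : Scheme.{u}} {H G : Over S} [GrpObj H] [GrpObj G] {π : S' ⟶ S}
  (u' : Red.bc π H ⟶ Red.bc π G)

omit [GrpObj H] [GrpObj G] in
theorem act_w {Y : Over S} (b : Y ⟶ Over.mk π) (h : Y ⟶ H) : h.left ≫ H.hom = b.left ≫ π := by
  rw [Over.w h]
  exact (Over.w b).symm

/-- the value of `u'` at an `S'`-valued point -/
def act {Y : Over S} (b : Y ⟶ Over.mk π) (h : Y ⟶ H) : Y ⟶ G :=
  Over.homMk (pullback.lift h.left b.left (act_w b h) ≫ u'.left ≫ pullback.fst G.hom π) (by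
    have hu : u'.left ≫ pullback.snd G.hom π = pullback.snd H.hom π := Over.w u'
    rw [Category.assoc, Category.assoc, pullback.condition, reassoc_of% hu, pullback.lift_snd_assoc]
    exact Over.w b)

omit [GrpObj H] [GrpObj G] in
theorem comp_act {Y Y' : Over S} (g : Y' ⟶ Y) (b : Y ⟶ Over.mk π) (h : Y ⟶ H) :
    g ≫ act u' b h = act u' (g ≫ b) (g ≫ h) := by
  ext1
  show g.left ≫ pullback.lift h.left b.left _ ≫ _ = pullback.lift (g.left ≫ h.left) (g.left ≫ b.left) _ ≫ _
  rw [← Category.assoc g.left]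
  congr 1
  apply pullback.hom_ext
  · rw [Category.assoc]
    exact (congrArg (g.left ≫ ·) (pullback.lift_fst _ _ _)).trans (pullback.lift_fst _ _ _).symm
  · rw [Category.assoc]
    exact (congrArg (g.left ≫ ·) (pullback.lift_snd _ _ _)).trans (pullback.lift_snd _ _ _).symm

/-- `Y` seen over `S'` -/
abbrev lift' {Y : Over S} (b : Y ⟶ Over.mk π) : Over S' := Over.mk b.left

/-- back to `Y` -/
abbrev back {Y : Over S} (b : Y ⟶ Over.mk π) : (Over.map π).obj (lift' b) ≅ Y :=
  Over.isoMk (Iso.refl _) (by simpa using (Over.w b).symm)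

omit [GrpObj H] [GrpObj G] in
theorem back_act {Y : Over S} (b : Y ⟶ Over.mk π) (h : Y ⟶ H) :
    (back b).hom ≫ act u' b h = ((Over.mapPullbackAdj π).homEquiv (lift' b) G).symm
      ((Over.mapPullbackAdj π).homEquiv (lift' b) H ((back b).hom ≫ h) ≫ u') := by
  ext1
  rw [homEquiv_symm_left, Over.comp_left, Over.comp_left, Category.assoc]
  show 𝟙 _ ≫ pullback.lift h.left b.left _ ≫ _ = _
  rw [Category.id_comp]
  congr 1
  apply pullback.hom_ext
  · rw [pullback.lift_fst, ← homEquiv_symm_left, Equiv.symm_apply_apply]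
    exact (Category.id_comp _).symm
  · rw [pullback.lift_snd]
    exact (Over.w ((Over.mapPullbackAdj π).homEquiv (lift' b) H ((back b).hom ≫ h))).symm

theorem symm_mul {f : S' ⟶ S} (G : Over S) [GrpObj G] {Y : Over S'} (x y : Y ⟶ Red.bc f G) :
    ((Over.mapPullbackAdj f).homEquiv Y G).symm (x * y) =
      ((Over.mapPullbackAdj f).homEquiv Y G).symm x * ((Over.mapPullbackAdj f).homEquiv Y G).symm y := by
  rw [Equiv.symm_apply_eq, DiagRigid.homEquiv_mul', Equiv.apply_symm_apply, Equiv.apply_symm_apply]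

theorem act_mul [IsMonHom u'] {Y : Over S} (b : Y ⟶ Over.mk π) (h h' : Y ⟶ H) :
    act u' b (h * h') = act u' b h * act u' b h' := by
  rw [← cancel_epi (back b).hom, MonObj.comp_mul, back_act, back_act, back_act, MonObj.comp_mul,
    DiagRigid.homEquiv_mul', MonObj.mul_comp, symm_mul]

omit [GrpObj H] in
theorem act_comm (hc : ∀ (X : Over S') (g : X ⟶ Red.bc π G) (h : X ⟶ Red.bc π H), g * (h ≫ u') = (h ≫ u') * g)
    {Y : Over S} (b : Y ⟶ Over.mk π) (h : Y ⟶ H) (g : Y ⟶ G) : g * act u' b h = act u' b h * g := by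
  rw [← cancel_epi (back b).hom, MonObj.comp_mul, MonObj.comp_mul, back_act]
  apply ((Over.mapPullbackAdj π).homEquiv (lift' b) G).injective
  rw [DiagRigid.homEquiv_mul', DiagRigid.homEquiv_mul', Equiv.apply_symm_apply]
  exact hc _ _ _

variable (π) in
/-- the base `S' ×_S S'` -/
abbrev q : pullback π π ⟶ S := pullback.fst π π ≫ π

/-- the first projection as a point -/
abbrev b₁ (Y : Over (pullback π π)) : (Over.map (q π)).obj Y ⟶ Over.mk π :=
  Over.homMk (Y.hom ≫ pullback.fst π π) (by simp [q])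

/-- the second projection as a point -/
abbrev b₂ (Y : Over (pullback π π)) : (Over.map (q π)).obj Y ⟶ Over.mk π :=
  Over.homMk (Y.hom ≫ pullback.snd π π) (by simp [q, pullback.condition])

theorem aux {M : Type*} [Group M] (a b c d : M) (hb : b * c = c * b) (hd : c * d = d * c) :
    a * b * (c * d)⁻¹ = a * c⁻¹ * (b * d⁻¹) := by
  rw [hd, _root_.mul_inv_rev]
  simp only [_root_.mul_assoc]
  rw [(show Commute b c from hb).inv_right.left_comm]

/-- the difference of the two pullbacks of `u'` -/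
def diffHom : Red.bc (q π) H ⟶ Red.bc (q π) G :=
  (Over.mapPullbackAdj (q π)).homEquiv _ G
    (act u' (b₁ (Red.bc (q π) H)) (((Over.mapPullbackAdj (q π)).homEquiv _ H).symm (𝟙 _)) *
      (act u' (b₂ (Red.bc (q π) H)) (((Over.mapPullbackAdj (q π)).homEquiv _ H).symm (𝟙 _)))⁻¹)

omit [GrpObj H] in
theorem comp_diffHom {Y : Over (pullback π π)} (z : Y ⟶ Red.bc (q π) H) :
    ((Over.mapPullbackAdj (q π)).homEquiv Y G).symm (z ≫ diffHom u') =
      act u' (b₁ Y) (((Over.mapPullbackAdj (q π)).homEquiv Y H).symm z) *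
        (act u' (b₂ Y) (((Over.mapPullbackAdj (q π)).homEquiv Y H).symm z))⁻¹ := by
  rw [diffHom, Adjunction.homEquiv_naturality_left_symm, Equiv.symm_apply_apply, MonObj.comp_mul, GrpObj.comp_inv,
    comp_act, comp_act, ← Adjunction.homEquiv_naturality_left_symm, Category.comp_id]
  have e₁ : (Over.map (q π)).map z ≫ b₁ (Red.bc (q π) H) = b₁ Y := Over.OverMorphism.ext (by
    show z.left ≫ _ ≫ _ = _
    rw [← Category.assoc, Over.w z]
    rfl)
  have e₂ : (Over.map (q π)).map z ≫ b₂ (Red.bc (q π) H) = b₂ Y := Over.OverMorphism.ext (by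
    show z.left ≫ _ ≫ _ = _
    rw [← Category.assoc, Over.w z]
    rfl)
  rw [e₁, e₂]

theorem isMonHom_diffHom [IsMonHom u']
    (hc : ∀ (X : Over S') (g : X ⟶ Red.bc π G) (h : X ⟶ Red.bc π H), g * (h ≫ u') = (h ≫ u') * g) :
    IsMonHom (diffHom u') := by
  refine isMonHom_of_forall_mul _ fun Y x y => ?_
  apply ((Over.mapPullbackAdj (q π)).homEquiv Y G).symm.injective
  rw [symm_mul, comp_diffHom, comp_diffHom, comp_diffHom, symm_mul, act_mul, act_mul]
  exact aux _ _ _ _ (act_comm u' hc _ _ _) (act_comm u' hc _ _ _)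

theorem geometricallyConnected (hconn : ∀ s : S, ConnectedSpace ↥(pullback π (Red.geomPt s))) :
    GeometricallyConnected π := by
  refine ⟨geometrically_iff_of_isClosedUnderIsomorphisms.mpr fun K _ t => ?_⟩
  obtain ⟨⟨s, ρ⟩, hρ⟩ := (S.SpecToEquivOfField K).symm.surjective t
  have hι' : Spec.map ρ ≫ S.fromSpecResidueField s = t := hρ
  letI := ρ.hom.toAlgebra
  let Ω := AlgebraicClosure (S.residueField s)
  let L := AlgebraicClosure K
  let e : Ω →ₐ[S.residueField s] L := IsAlgClosed.lift
  let tL := Spec.map (CommRingCat.ofHom (algebraMap K L)) ≫ t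
  have hL : Spec.map (CommRingCat.ofHom e.toRingHom) ≫ Red.geomPt s = tL := by
    show Spec.map _ ≫ Spec.map _ ≫ _ = _ ≫ _
    rw [← hι', ← Category.assoc, ← Category.assoc, ← Spec.map_comp, ← Spec.map_comp]
    refine congrArg (fun g => Spec.map g ≫ S.fromSpecResidueField s) (CommRingCat.hom_ext (RingHom.ext fun x => ?_))
    exact e.commutes x
  have := hconn s
  have := FieldExt.AlgClosedTensor.geometricallyConnected (pullback.snd π (Red.geomPt s))
  have h1 : ConnectedSpace ↥(pullback (pullback.snd π (Red.geomPt s)) (Spec.map (CommRingCat.ofHom e.toRingHom))) :=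
    GeometricallyConnected.geometrically_connectedSpace _ _ _ (IsPullback.of_hasPullback _ _)
  have h2 : ConnectedSpace ↥(pullback π tL) := by
    rw [← hL]
    exact ((pullbackLeftPullbackSndIso π (Red.geomPt s) _).hom.homeomorph.connectedSpace_iff).1 h1
  have h3 : ConnectedSpace ↥(pullback (pullback.snd π t) (Spec.map (CommRingCat.ofHom (algebraMap K L)))) :=
    ((pullbackLeftPullbackSndIso π t _).hom.homeomorph.connectedSpace_iff).2 h2
  have : Surjective (Spec.map (CommRingCat.ofHom (algebraMap K L))) := ⟨fun x => ⟨default, Subsingleton.elim _ _⟩⟩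
  exact (pullback.fst (pullback.snd π t) (Spec.map (CommRingCat.ofHom (algebraMap K L)))).surjective.connectedSpace
    (pullback.fst (pullback.snd π t) _).continuous

/-- the two pullbacks of `u'` agree -/
theorem act_eq [IsMonHom u'] [IsSeparated G.hom] [LocallyOfFiniteType G.hom] (hH : SGA3x.IsMultTypeFT H)
    (hc : ∀ (X : Over S') (g : X ⟶ Red.bc π G) (h : X ⟶ Red.bc π H), g * (h ≫ u') = (h ≫ u') * g)
    (hconn : ∀ s : S, ConnectedSpace ↥(pullback π (Red.geomPt s)))
    {Y : Over S} (c₁ c₂ : Y ⟶ Over.mk π) (h : Y ⟶ H) : act u' c₁ h = act u' c₂ h := by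
  have := isMonHom_diffHom u' hc
  have : IsSeparated (Red.bc (q π) G).hom := inferInstanceAs (IsSeparated (pullback.snd G.hom (q π)))
  have : LocallyOfFiniteType (Red.bc (q π) G).hom := inferInstanceAs (LocallyOfFiniteType (pullback.snd G.hom (q π)))
  obtain ⟨U, hU, hmem, hT⟩ := TrivLocus.exists_clopen (diffHom u') (isMultTypeFT_bc H hH (q π)) (Or.inr inferInstance)
  have key : ∀ {T : Scheme.{u}} (τ : T ⟶ pullback π π), τ ≫ pullback.fst π π = τ ≫ pullback.snd π π →
      Triv (diffHom u') τ := by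
    intro T τ hτ Z p a
    apply ((Over.mapPullbackAdj (q π)).homEquiv Z G).symm.injective
    rw [comp_diffHom]
    have hb : b₁ Z = b₂ Z := Over.OverMorphism.ext (by
      show Z.hom ≫ _ = Z.hom ≫ _
      rw [← Over.w p]
      simpa using congrArg (p.left ≫ ·) hτ)
    rw [hb, mul_inv_cancel]
    symm
    rw [Equiv.symm_apply_eq, eq_comm]
    exact mul_eq_left.1 ((DiagRigid.homEquiv_mul' (q π) G Z 1 1).symm.trans (by rw [_root_.one_mul]))
  have hall : ∀ z, z ∈ U := by
    intro z
    have := geometricallyConnected hconn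
    let δ := pullback.diagonal π
    let y := pullback.fst π π z
    have hres : IsIso (δ.residueFieldMap y) := by
      refine (ConcreteCategory.isIso_iff_bijective _).2 ⟨RingHom.injective _, fun c => ?_⟩
      obtain ⟨c₀, rfl⟩ := S'.residue_surjective y c
      obtain ⟨c₁, rfl⟩ := δ.stalkMap_surjective y c₀
      exact ⟨(pullback π π).residue (δ y) c₁,
        congrArg (fun g : (pullback π π).presheaf.stalk (δ y) ⟶ S'.residueField y => g.hom c₁) (Scheme.residue_residueFieldMap δ y)⟩
    have hδ : δ y ∈ U := by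
      rw [hmem]
      refine (key δ (by simp [δ])).comp _ (inv (Spec.map (δ.residueFieldMap y)) ≫ S'.fromSpecResidueField y) ?_
      rw [Category.assoc, IsIso.inv_comp_eq, Scheme.Hom.SpecMap_residueFieldMap_fromSpecResidueField]
    have hfy : pullback.fst π π (δ y) = y := by
      rw [← Scheme.Hom.comp_apply]
      simp [δ]
    exact ((pullback.fst π π).isConnected_preimage_singleton y).isPreconnected.subset_isClopen ⟨hU, U.2⟩
      ⟨δ y, hfy, hδ⟩ (rfl : pullback.fst π π z = y)
  let c : Y.left ⟶ pullback π π := pullback.lift c₁.left c₂.left ((Over.w c₁).trans (Over.w c₂).symm)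
  let Y' : Over (pullback π π) := Over.mk c
  let k : (Over.map (q π)).obj Y' ≅ Y := Over.isoMk (Iso.refl _) (by
    show 𝟙 _ ≫ Y.hom = c ≫ pullback.fst π π ≫ π
    rw [pullback.lift_fst_assoc, Category.id_comp]
    exact (Over.w c₁).symm)
  let z := (Over.mapPullbackAdj (q π)).homEquiv Y' H (k.hom ≫ h)
  have hz := hT Y' (Over.homMk (IsOpenImmersion.lift U.ι c (by
    rintro _ ⟨w, rfl⟩
    rw [Scheme.Opens.range_ι]
    exact hall _)) (IsOpenImmersion.lift_fac _ _ _)) z
  have h1 := comp_diffHom u' z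
  rw [hz] at h1
  have h2 : ((Over.mapPullbackAdj (q π)).homEquiv Y' G).symm 1 = 1 := by
    rw [Equiv.symm_apply_eq, eq_comm]
    exact mul_eq_left.1 ((DiagRigid.homEquiv_mul' (q π) G Y' 1 1).symm.trans (by rw [_root_.one_mul]))
  rw [h2, eq_comm, mul_inv_eq_one, Equiv.symm_apply_apply] at h1
  have e₁ : k.hom ≫ c₁ = b₁ Y' := Over.OverMorphism.ext ((Category.id_comp _).trans (pullback.lift_fst _ _ _).symm)
  have e₂ : k.hom ≫ c₂ = b₂ Y' := Over.OverMorphism.ext ((Category.id_comp _).trans (pullback.lift_snd _ _ _).symm)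
  rw [← cancel_epi k.hom, comp_act, comp_act, e₁, e₂]
  exact h1

/-- descent -/
theorem existsUnique_descent [IsMonHom u'] [IsSeparated G.hom] [LocallyOfFiniteType G.hom]
    (hH : SGA3x.IsMultTypeFT H) [Flat π] [Surjective π] (hcov : Cov π)
    (hc : ∀ (X : Over S') (g : X ⟶ Red.bc π G) (h : X ⟶ Red.bc π H), g * (h ≫ u') = (h ≫ u') * g)
    (hconn : ∀ s : S, ConnectedSpace ↥(pullback π (Red.geomPt s))) :
    ∃! u : H ⟶ G, IsMonHom u ∧ (Over.pullback π).map u = u' := by
  let p := pullback.fst H.hom π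
  have : EffectiveEpi p := (hcov.fst H.hom).effectiveEpi
  let w := u'.left ≫ pullback.fst G.hom π
  have hw : ∀ {Z : Scheme.{u}} (g₁ g₂ : Z ⟶ pullback H.hom π), g₁ ≫ p = g₂ ≫ p → g₁ ≫ w = g₂ ≫ w := by
    intro Z g₁ g₂ hg
    let Y : Over S := Over.mk (g₁ ≫ p ≫ H.hom)
    let h : Y ⟶ H := Over.homMk (g₁ ≫ p) (Category.assoc _ _ _)
    let c₁ : Y ⟶ Over.mk π := Over.homMk (g₁ ≫ pullback.snd H.hom π) (by
      show (g₁ ≫ pullback.snd H.hom π) ≫ π = g₁ ≫ p ≫ H.hom
      rw [Category.assoc, pullback.condition])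
    let c₂ : Y ⟶ Over.mk π := Over.homMk (g₂ ≫ pullback.snd H.hom π) (by
      show (g₂ ≫ pullback.snd H.hom π) ≫ π = g₁ ≫ p ≫ H.hom
      rw [reassoc_of% hg, pullback.condition, Category.assoc])
    have h0 := congrArg Over.Hom.left (act_eq u' hH hc hconn c₁ c₂ h)
    have e₁ : pullback.lift h.left c₁.left (act_w c₁ h) = g₁ := pullback.hom_ext (pullback.lift_fst _ _ _) (pullback.lift_snd _ _ _)
    have e₂ : pullback.lift h.left c₂.left (act_w c₂ h) = g₂ := pullback.hom_ext ((pullback.lift_fst _ _ _).trans hg) (pullback.lift_snd _ _ _)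
    simpa [act, e₁, e₂, w] using h0
  let u₀ : H.left ⟶ G.left := EffectiveEpi.desc p w hw
  have hu₀ : p ≫ u₀ = w := EffectiveEpi.fac p w hw
  have hwS : w ≫ G.hom = p ≫ H.hom := by
    simp only [w, p, Category.assoc, pullback.condition]
    have h9 : u'.left ≫ pullback.snd G.hom π = pullback.snd H.hom π := Over.w u'
    exact (reassoc_of% h9) π
  let u : H ⟶ G := Over.homMk u₀ (by rw [← cancel_epi p, reassoc_of% hu₀]; exact hwS)
  have heval : ∀ {Y : Over S} (b : Y ⟶ Over.mk π) (h : Y ⟶ H), h ≫ u = act u' b h := by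
    intro Y b h
    ext1
    show h.left ≫ u₀ = pullback.lift h.left b.left _ ≫ w
    rw [← hu₀, pullback.lift_fst_assoc]
  have hmon : IsMonHom u := by
    refine isMonHom_of_forall_mul _ fun Y x y => ?_
    have : EffectiveEpi (pullback.fst Y.hom π) := (hcov.fst Y.hom).effectiveEpi
    let Y₁ : Over S := Over.mk (pullback.fst Y.hom π ≫ Y.hom)
    let j : Y₁ ⟶ Y := Over.homMk (pullback.fst Y.hom π) rfl
    let b : Y₁ ⟶ Over.mk π := Over.homMk (pullback.snd Y.hom π) pullback.condition.symm
    have : Epi j.left := inferInstanceAs (Epi (pullback.fst Y.hom π))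
    have : Epi j := Over.epi_of_epi_left _
    rw [← cancel_epi j, MonObj.comp_mul, ← Category.assoc, ← Category.assoc, ← Category.assoc, MonObj.comp_mul,
      heval b, heval b, heval b, act_mul]
  refine ⟨u, ⟨hmon, ?_⟩, fun v hv => ?_⟩
  · ext1
    apply pullback.hom_ext
    · exact (pullback.lift_fst _ _ _).trans hu₀
    · exact (Over.w ((Over.pullback π).map u)).trans (Over.w u').symm
  · ext1
    rw [← cancel_epi p]
    show p ≫ v.left = p ≫ u₀
    rw [hu₀]
    show p ≫ v.left = u'.left ≫ _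
    rw [← hv.2]
    exact (pullback.lift_fst _ _ _).symm

end Groth.Agent.HopfRep.CentralDescent

end
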