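import Groth.Agent.HopfRep.DiagRigid
import Groth.Prelude.Def_SGA3x
import Mathlib.AlgebraicGeometry.Sites.Fpqc
import Mathlib.AlgebraicGeometry.Cover.QuasiCompact

/-!
The fpqc covering condition is stable under base change and gives effective epimorphisms; the base change of a group
of multiplicative type of finite type is again one.
-/

universe u

open CategoryTheory MonoidalCategory CartesianMonoidalCategory MonObj AlgebraicGeometry Limits

noncomputable section

namespace Groth.Agent.HopfRep.FpqcBase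

/-- every affine open is the image of a quasi-compact open -/
def Cov {S S' : Scheme.{u}} (π : S' ⟶ S) : Prop :=
  ∀ V : S.Opens, IsAffineOpen V → ∃ W : S'.Opens, IsCompact (W : Set S') ∧ π.base '' (W : Set S') = (V : Set S)

theorem Cov.quasiCompactCover {S S' : Scheme.{u}} {π : S' ⟶ S} (h : Cov π) :
    QuasiCompactCover (PreZeroHypercover.singleton.{0} π) := by
  refine ⟨fun {U} hU => ?_⟩
  obtain ⟨W, hW, hWU⟩ := h U hU
  rw [← hWU]
  exact .of_finite (κ := PUnit.{1}) (fun _ => PUnit.unit) (fun _ => W) (fun _ => hW) (Set.iUnion_const _)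

theorem cov_of_quasiCompactCover {S S' : Scheme.{u}} (π : S' ⟶ S)
    (h : QuasiCompactCover (PreZeroHypercover.singleton.{0} π)) : Cov π := by
  intro V hV
  obtain ⟨s, hs, W, hW, hWV⟩ := hV.isCompactOpenCovered (PreZeroHypercover.singleton.{0} π)
  by_cases hmem : PUnit.unit ∈ s
  · refine ⟨W _ hmem, hW _ hmem, ?_⟩
    rw [← hWV]
    ext x
    simp only [Set.mem_iUnion]
    exact ⟨fun hx => ⟨_, hmem, hx⟩, fun ⟨⟨⟩, _, hx⟩ => hx⟩
  · refine ⟨⊥, by simp, ?_⟩
    rw [← hWV]
    ext x
    simp only [Set.mem_iUnion]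
    exact ⟨fun ⟨y, hy, _⟩ => hy.elim, fun ⟨⟨⟩, hi, _⟩ => absurd hi hmem⟩

theorem Cov.fst {S S' T : Scheme.{u}} {π : S' ⟶ S} (h : Cov π) (q : T ⟶ S) : Cov (pullback.fst q π) := by
  have := h.quasiCompactCover
  have h2 : QuasiCompactCover ((PreZeroHypercover.singleton.{0} π).pullback₁ q) := inferInstance
  refine cov_of_quasiCompactCover _ ⟨fun {U} hU => ?_⟩
  exact h2.isCompactOpenCovered_of_isAffineOpen hU

theorem Cov.effectiveEpi {S S' : Scheme.{u}} {π : S' ⟶ S} (h : Cov π) [Flat π] [Surjective π] : EffectiveEpi π := by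
  rw [← Sieve.effectiveEpimorphic_singleton, Presieve.EffectiveEpimorphic.iff_forall_isSheafFor_yoneda]
  intro Z
  refine (GrothendieckTopology.Subcanonical.isSheaf_of_isRepresentable
    (J := Scheme.fpqcTopology) _).isSheafFor _ ?_
  rw [Scheme.fpqcTopology_eq_propQCTopology]
  refine Precoverage.generate_mem_toGrothendieck ⟨?_, ?_⟩
  · rw [← PreZeroHypercover.presieve₀_singleton π, Scheme.presieve₀_mem_qcPrecoverage_iff]
    exact h.quasiCompactCover
  · grind [Scheme.singleton_mem_precoverage_iff]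

theorem isMonHom_of_forall_mul {C : Type*} [Category C] [CartesianMonoidalCategory C] {A B : C} [GrpObj A]
    [GrpObj B] (f : A ⟶ B) (h : ∀ (Y : C) (x y : Y ⟶ A), (x * y) ≫ f = (x ≫ f) * (y ≫ f)) : IsMonHom f where
  one_hom := by
    have h1 := h (𝟙_ C) 1 1
    rw [_root_.one_mul] at h1
    have h2 := mul_eq_left.1 h1.symm
    rw [Hom.one_def, Hom.one_def, toUnit_unique (toUnit (𝟙_ C)) (𝟙 _), Category.id_comp, Category.id_comp] at h2
    exact h2
  mul_hom := by
    have h1 := h (A ⊗ A) (fst A A) (snd A A)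
    rw [Hom.mul_def, Hom.mul_def, lift_fst_snd, Category.id_comp, ← lift_map_assoc, lift_fst_snd,
      Category.id_comp] at h1
    exact h1

variable {S S' T : Scheme.{u}}

theorem homEquiv_symm_left {f : S' ⟶ S} {G : Over S} {Y : Over S'} (z : Y ⟶ Red.bc f G) :
    (((Over.mapPullbackAdj f).homEquiv Y G).symm z).left = z.left ≫ pullback.fst G.hom f := by
  rw [Adjunction.homEquiv_counit]
  simp

theorem fst_mul {f : S' ⟶ S} {G : Over S} [GrpObj G] {Y : Over S'} (x y : Y ⟶ Red.bc f G) :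
    (x * y).left ≫ pullback.fst G.hom f =
      (((Over.mapPullbackAdj f).homEquiv Y G).symm x * ((Over.mapPullbackAdj f).homEquiv Y G).symm y).left := by
  rw [← homEquiv_symm_left]
  congr 1
  rw [Equiv.symm_apply_eq, DiagRigid.homEquiv_mul', Equiv.apply_symm_apply, Equiv.apply_symm_apply]

/-- base change in two steps is base change along the composite, as groups -/
theorem exists_bc_comp (G : Over S) [GrpObj G] {b : S' ⟶ S} {a : T ⟶ S'} {c : T ⟶ S} (hc : a ≫ b = c) :
    Nonempty (Grp.mk (Red.bc a (Red.bc b G)) ≅ Grp.mk (Red.bc c G)) := by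
  subst hc
  let e : Red.bc a (Red.bc b G) ≅ Red.bc (a ≫ b) G := Over.isoMk (pullbackLeftPullbackSndIso G.hom b a)
    (pullbackLeftPullbackSndIso_hom_snd _ _ _)
  have hfst : e.hom.left ≫ pullback.fst G.hom (a ≫ b) = pullback.fst _ a ≫ pullback.fst G.hom b :=
    pullbackLeftPullbackSndIso_hom_fst _ _ _
  have : IsMonHom e.hom := by
    refine isMonHom_of_forall_mul _ fun Y x y => Over.OverMorphism.ext (pullback.hom_ext ?_ ?_)
    · let j : (Over.map (a ≫ b)).obj Y ⟶ (Over.map b).obj ((Over.map a).obj Y) :=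
        Over.homMk (𝟙 _) (by simp)
      have hj : ∀ z : Y ⟶ Red.bc a (Red.bc b G), ((Over.mapPullbackAdj (a ≫ b)).homEquiv Y G).symm (z ≫ e.hom) =
          j ≫ ((Over.mapPullbackAdj b).homEquiv _ G).symm (((Over.mapPullbackAdj a).homEquiv Y _).symm z) := by
        intro z
        ext1
        rw [homEquiv_symm_left, Over.comp_left, Category.assoc, hfst, Over.comp_left, homEquiv_symm_left,
          homEquiv_symm_left]
        simp [j]
      rw [fst_mul, hj, hj, ← MonObj.comp_mul, Over.comp_left, Over.comp_left, Category.assoc, hfst,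
        reassoc_of% (fst_mul x y), fst_mul]
      simp [j]
    · exact (Over.w ((x * y) ≫ e.hom)).trans (Over.w ((x ≫ e.hom) * (y ≫ e.hom))).symm
  exact ⟨Grp.mkIso' e⟩

theorem isMultTypeFT_bc (H : Over S) [GrpObj H] (hH : SGA3x.IsMultTypeFT H) (q : T ⟶ S) :
    SGA3x.IsMultTypeFT (Red.bc q H) := by
  obtain ⟨S₁, f, hf, hfs, hcov, hloc⟩ := hH
  refine ⟨pullback q f, pullback.fst q f, inferInstance, inferInstance, Cov.fst hcov q, fun x => ?_⟩
  obtain ⟨U, hU, M, iM, hfg, ⟨e⟩⟩ := hloc (pullback.snd q f x)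
  let U' := pullback.snd q f ⁻¹ᵁ U
  let g : (U' : Scheme.{u}) ⟶ U := pullback.snd q f ∣_ U
  refine ⟨U', hU, M, iM, hfg, ?_⟩
  obtain ⟨e₁⟩ := exists_bc_comp H (c := g ≫ U.ι ≫ f) (b := q) (a := U'.ι ≫ pullback.fst q f) (by
    rw [Category.assoc, pullback.condition, ← Category.assoc, ← morphismRestrict_ι, Category.assoc])
  obtain ⟨e₂⟩ := exists_bc_comp H (b := U.ι ≫ f) (a := g) rfl
  obtain ⟨e₃⟩ := exists_bc_comp (Red.diag (ULift.{u} ℤ) M) (b := specULiftZIsTerminal.from (U : Scheme.{u})) (a := g)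
    (c := specULiftZIsTerminal.from (U' : Scheme.{u})) (specULiftZIsTerminal.hom_ext _ _)
  exact ⟨e₁ ≪≫ e₂.symm ≪≫ (Over.pullback g).mapGrp.mapIso e ≪≫ e₃⟩

end Groth.Agent.HopfRep.FpqcBase

end
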