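import Groth.Agent.HopfRep.CentralEq
import Groth.Agent.HopfRep.EssFreeSGA
import Mathlib.RingTheory.Flat.FaithfullyFlat.Descent
import Mathlib.GroupTheory.Finiteness

/-!
Homomorphisms of groups of multiplicative type are locally given by homomorphisms of the character groups;
consequently the locus where such a homomorphism has a descending property (mono, iso, faithfully flat) is open
and closed.
-/

universe u

open CategoryTheory MonoidalCategory CartesianMonoidalCategory MonObj AlgebraicGeometry Limits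

set_option linter.style.haveILetI false

noncomputable section

namespace Groth.Agent.HopfRep.HomLocus

open DiagRigid CharHom GroupLike

theorem flat_descendsAlong :
    MorphismProperty.DescendsAlong (@Flat : MorphismProperty Scheme.{u}) (@Surjective ⊓ @Flat ⊓ @QuasiCompact) := by
  refine HasRingHomProperty.descendsAlong_flat (Q := RingHom.Flat) ?_
  refine RingHom.CodescendsAlong.mk _ RingHom.Flat.respectsIso fun R S T _ _ _ _ _ h h' => ?_
  rw [RingHom.faithfullyFlat_algebraMap_iff] at h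
  rw [RingHom.flat_algebraMap_iff] at h' ⊢
  exact Module.Flat.of_flat_tensorProduct R T S

/-- near a prime, a group-like valued map is a map of groups -/
theorem exists_single_hom {K : Type u} [CommRing K] {M M' : Type} [CommGroup M] [CommGroup M'] [Group.FG M']
    (g : M' →* MonoidAlgebra K M) (hg : ∀ m, IsGL (g m)) (p : Ideal K) [p.IsPrime] :
    ∃ (r : K) (φ : M' →* M), r ∉ p ∧ ∀ (L : Type u) [CommRing L] (f : K →+* L), IsUnit (f r) → ∀ m,
      MonoidAlgebra.mapRingHom M f (g m) = MonoidAlgebra.single (φ m) 1 := by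
  classical
  choose φ₀ hφ₀ hsing using fun m => (hg m).exists_single p
  let κ := p.ResidueField
  have hκ : ∀ m, MonoidAlgebra.mapRingHom M (algebraMap K κ) (g m) = MonoidAlgebra.single (φ₀ m) 1 := fun m =>
    hsing m _ (isUnit_iff_ne_zero.2 fun h => hφ₀ m (Ideal.algebraMap_residueField_eq_zero.1 h))
  let φ : M' →* M := MonoidHom.mk' φ₀ fun a b => by
    apply MonoidAlgebra.single_left_injective (R := κ) one_ne_zero
    show MonoidAlgebra.single (φ₀ (a * b)) (1 : κ) = MonoidAlgebra.single (φ₀ a * φ₀ b) 1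
    rw [← hκ, map_mul, map_mul, hκ, hκ, MonoidAlgebra.single_mul_single, _root_.one_mul]
  obtain ⟨T, hT⟩ := Monoid.FG.fg_top (M := M')
  refine ⟨∏ t ∈ T, (g t).coeff (φ₀ t), φ, fun h => ?_, fun L _ f hu m => ?_⟩
  · obtain ⟨t, -, ht⟩ := (Ideal.IsPrime.prod_mem_iff).1 h
    exact hφ₀ t ht
  · rw [map_prod] at hu
    have heq : Set.EqOn ((MonoidAlgebra.mapRingHom M f).toMonoidHom.comp g)
        ((MonoidAlgebra.of L M).comp φ) (T : Set M') := fun t ht =>
      hsing t f ((IsUnit.mul_iff (y := ∏ x ∈ T.erase t, f ((g x).coeff (φ₀ x)))).1 (by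
        rwa [Finset.mul_prod_erase T (fun x => f ((g x).coeff (φ₀ x))) ht])).1
    exact DFunLike.congr_fun (MonoidHom.eq_of_eqOn_denseM hT heq) m

theorem diagPts_inj {K : Type u} [CommRing K] {M : Type} [AddCommGroup M] :
    Inj (diagPts (K := K) (M := M)) := by
  intro L _ _ χ χ' h
  apply (MonoidAlgebra.lift K L (Multiplicative M)).injective
  apply CoactBr.pt_injective
  have : IsIso (Over.homMk (𝟙 _) ((Category.id_comp _).trans (Category.comp_id _).symm) :
      Tp (K := K) L ⟶ CoactBr.sp K L) := by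
    have : IsIso ((Over.forget _).map (Over.homMk (𝟙 _) ((Category.id_comp _).trans (Category.comp_id _).symm) :
      Tp (K := K) L ⟶ CoactBr.sp K L)) := inferInstanceAs (IsIso (𝟙 _))
    exact isIso_of_reflects_iso _ (Over.forget _)
  exact (cancel_epi _).1 h

/-- a group with character points is `Spec K[M]` -/
theorem exists_iso_diag {K : Type u} [CommRing K] {M : Type} [AddCommGroup M] {G : Over (Spec (CommRingCat.of K))}
    [GrpObj G] [IsAffine G.left] (P : CharPts (𝟙 (Spec (CommRingCat.of K))) M G) (hinj : Inj P) :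
    ∃ j : Red.diag K M ≅ G, ∀ (L : Type u) [CommRing L] [Algebra K L] (χ : Multiplicative M →* L),
      diagPts.pt L χ ≫ j.hom = P.pt L χ := by
  have : IsAffine (Red.diag K M).left :=
    inferInstanceAs (IsAffine (Spec (CommRingCat.of (MonoidAlgebra K (Multiplicative M)))))
  obtain ⟨v, -, hv⟩ := exists_hom diagPts diagPts_inj (fun L _ _ χ => P.pt L χ)
    (fun L L' _ _ _ _ φ χ => P.pt_nat L L' φ χ) (fun L _ _ χ χ' => (P.pt_mul L χ χ').symm)
  obtain ⟨w, -, hw⟩ := exists_hom P hinj (fun L _ _ χ => (diagPts (K := K) (M := M)).pt L χ)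
    (fun L L' _ _ _ _ φ χ => diagPts.pt_nat L L' φ χ) (fun L _ _ χ χ' => (diagPts.pt_mul L χ χ').symm)
  refine ⟨⟨v, w, pts_ext fun L _ _ a => ?_, pts_ext fun L _ _ a => ?_⟩, hv⟩
  · obtain ⟨χ, rfl⟩ := diagPts.pt_surjective L a
    rw [← Category.assoc, hv, hw, Category.comp_id]
  · obtain ⟨χ, rfl⟩ := P.pt_surjective L a
    rw [← Category.assoc, hw, hv, Category.comp_id]

/-- the morphism `D(φ)` -/
abbrev dMap (K : Type u) [CommRing K] {M M' : Type} [AddCommGroup M] [AddCommGroup M']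
    (φ : Multiplicative M' →* Multiplicative M) : Red.diag K M ⟶ Red.diag K M' :=
  CoactBr.pt (MonoidAlgebra.mapDomainAlgHom K K φ)

theorem diagPts_comp_dMap {K : Type u} [CommRing K] {M M' : Type} [AddCommGroup M] [AddCommGroup M']
    (φ : Multiplicative M' →* Multiplicative M) (L : Type u) [CommRing L] [Algebra K L] (χ : Multiplicative M →* L) :
    diagPts.pt L χ ≫ dMap K φ = diagPts.pt L (χ.comp φ) := by
  show (_ ≫ CoactBr.pt _) ≫ _ = _ ≫ CoactBr.pt _
  rw [Category.assoc, ← CoactBr.pt_comp]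
  congr 2
  exact MonoidAlgebra.algHom_ext (fun m => by simp [ev]) (Subsingleton.elim _ _)

variable {S : Scheme.{u}} {G H : Over S} [GrpObj G] [GrpObj H] (u : G ⟶ H)

/-- the base change of `u` -/
abbrev uS {S' : Scheme.{u}} (s : S' ⟶ S) : (Red.bc s G).left ⟶ (Red.bc s H).left :=
  ((Over.pullback s).map u).left

omit [GrpObj G] [GrpObj H] in
theorem isPullback_uS {S' : Scheme.{u}} (s : S' ⟶ S) :
    IsPullback (pullback.fst G.hom s) (uS u s) u.left (pullback.fst H.hom s) := by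
  have h2 : uS u s ≫ pullback.fst H.hom s = pullback.fst G.hom s ≫ u.left := pullback.lift_fst _ _ _
  refine IsPullback.of_bot ?_ h2.symm (IsPullback.of_hasPullback H.hom s)
  rw [show uS u s ≫ pullback.snd H.hom s = pullback.snd G.hom s from pullback.lift_snd _ _ _, Over.w u]
  exact IsPullback.of_hasPullback G.hom s

set_option backward.isDefEq.respectTransparency.types false in
omit [GrpObj G] [GrpObj H] in
theorem uS_comp_iff {Q : MorphismProperty Scheme.{u}} [Q.IsStableUnderBaseChange]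
    [Q.DescendsAlong (@Surjective ⊓ @Flat ⊓ @QuasiCompact)] {S₁ S₂ : Scheme.{u}} (t : S₂ ⟶ S₁) [Flat t]
    [Surjective t] [QuasiCompact t] (s : S₁ ⟶ S) : Q (uS u (t ≫ s)) ↔ Q (uS u s) := by
  let c : pullback H.hom (t ≫ s) ⟶ pullback H.hom s :=
    pullback.map _ _ _ _ (𝟙 _) t (𝟙 _) (by simp) (by simp)
  let c' : pullback G.hom (t ≫ s) ⟶ pullback G.hom s :=
    pullback.map _ _ _ _ (𝟙 _) t (𝟙 _) (by simp) (by simp)
  have hc : IsPullback c (pullback.snd H.hom (t ≫ s)) (pullback.snd H.hom s) t := by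
    refine IsPullback.of_right ?_ (pullback.lift_snd _ _ _) (IsPullback.of_hasPullback H.hom s)
    rw [pullback.lift_fst, Category.comp_id]
    exact IsPullback.of_hasPullback H.hom (t ≫ s)
  have hc' : (@Surjective ⊓ @Flat ⊓ @QuasiCompact : MorphismProperty Scheme.{u}) c :=
    MorphismProperty.of_isPullback hc.flip ⟨⟨inferInstance, inferInstance⟩, inferInstance⟩
  have hsq : IsPullback c' (uS u (t ≫ s)) (uS u s) c := by
    refine IsPullback.of_right ?_ ?_ (isPullback_uS u s)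
    · rw [pullback.lift_fst, Category.comp_id, pullback.lift_fst, Category.comp_id]
      exact isPullback_uS u (t ≫ s)
    · apply pullback.hom_ext
      · rw [Category.assoc, Category.assoc, pullback.lift_fst (f := H.hom) (g := s), Category.comp_id,
          ← (isPullback_uS u s).w, ← Category.assoc, pullback.lift_fst, Category.comp_id]
        exact (isPullback_uS u (t ≫ s)).w
      · rw [Category.assoc, Category.assoc, pullback.lift_snd (f := H.hom) (g := s), ← Category.assoc (uS u (t ≫ s))]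
        rw [show uS u s ≫ pullback.snd H.hom s = pullback.snd G.hom s from pullback.lift_snd _ _ _,
          show uS u (t ≫ s) ≫ pullback.snd H.hom (t ≫ s) = pullback.snd G.hom (t ≫ s) from pullback.lift_snd _ _ _]
        exact pullback.lift_snd _ _ _
  exact ⟨fun h => MorphismProperty.of_isPullback_of_descendsAlong (Q := (@Surjective ⊓ @Flat ⊓ @QuasiCompact :
    MorphismProperty Scheme.{u})) hsq.flip hc' h, fun h => MorphismProperty.of_isPullback hsq h⟩

/-- trivialisations of `G` and `H` over the same scheme -/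
def Both (G H : Over S) [GrpObj G] [GrpObj H] (S' : Scheme.{u}) (f : S' ⟶ S) : Prop :=
  ∃ (U₁ U₂ : Scheme.{u}) (h₁ : U₁ ⟶ S) (h₂ : U₂ ⟶ S) (a₁ : S' ⟶ U₁) (a₂ : S' ⟶ U₂)
    (M : Type) (_ : AddCommGroup M) (M' : Type) (_ : AddCommGroup M'),
    a₁ ≫ h₁ = f ∧ a₂ ≫ h₂ = f ∧ AddGroup.FG M' ∧ Nonempty (Grp.mk (Red.bc h₁ G) ≅ Grp.mk (Red.DS U₁ M)) ∧
      Nonempty (Grp.mk (Red.bc h₂ H) ≅ Grp.mk (Red.DS U₂ M'))

theorem locally_both' (hG : TwC.Locally S TwC.Topology.fpqc (fun S' f => ∃ (M : Type) (_ : AddCommGroup M),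
      Nonempty (Grp.mk (Red.bc f G) ≅ Grp.mk (Red.DS S' M)))) (hH : SGA3x.IsMultTypeFT H) :
    TwC.Locally S TwC.Topology.fpqc (Both G H) := by
  obtain ⟨S₁, f₁, h11, h12, h13, h14⟩ := hG
  obtain ⟨S₂, f₂, h21, h22, h23, h24⟩ := hH
  refine ⟨pullback f₁ f₂, pullback.fst f₁ f₂ ≫ f₁, inferInstance, inferInstance, fun V hV => ?_, fun x => ?_⟩
  · obtain ⟨W₁, hW₁, hW₁V⟩ := h13 V hV
    obtain ⟨W₂, hW₂, hW₂V⟩ := h23 V hV
    have : CompactSpace (W₁ : Scheme.{u}) := isCompact_iff_compactSpace.1 hW₁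
    have : CompactSpace (W₂ : Scheme.{u}) := isCompact_iff_compactSpace.1 hW₂
    have : IsAffine (V : Scheme.{u}) := hV
    let g₁ : (W₁ : Scheme.{u}) ⟶ V := IsOpenImmersion.lift V.ι (W₁.ι ≫ f₁) (by
      rw [Scheme.Opens.range_ι]
      rintro _ ⟨w, rfl⟩
      exact hW₁V.le ⟨_, w.2, rfl⟩)
    let g₂ : (W₂ : Scheme.{u}) ⟶ V := IsOpenImmersion.lift V.ι (W₂.ι ≫ f₂) (by
      rw [Scheme.Opens.range_ι]
      rintro _ ⟨w, rfl⟩
      exact hW₂V.le ⟨_, w.2, rfl⟩)
    have : QuasiCompact g₁ := inferInstance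
    let m : pullback g₁ g₂ ⟶ pullback f₁ f₂ :=
      pullback.map g₁ g₂ f₁ f₂ W₁.ι W₂.ι V.ι (IsOpenImmersion.lift_fac _ _ _) (IsOpenImmersion.lift_fac _ _ _)
    have : IsOpenImmersion m := inferInstance
    have : CompactSpace (pullback g₁ g₂ : Scheme.{u}) :=
      QuasiCompact.compactSpace_of_compactSpace (pullback.snd g₁ g₂)
    refine ⟨m.opensRange, isCompact_range m.continuous, ?_⟩
    apply Set.Subset.antisymm
    · rintro _ ⟨_, ⟨w, rfl⟩, rfl⟩
      show (m ≫ pullback.fst f₁ f₂ ≫ f₁) w ∈ (V : Set S)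
      rw [pullback.lift_fst_assoc, Category.assoc,
        show W₁.ι ≫ f₁ = g₁ ≫ V.ι from (IsOpenImmersion.lift_fac _ _ _).symm]
      exact ((pullback.fst g₁ g₂ ≫ g₁) w).2
    · intro v hv
      obtain ⟨w₁, hw₁, hv₁⟩ := hW₁V.ge hv
      obtain ⟨w₂, hw₂, hv₂⟩ := hW₂V.ge hv
      obtain ⟨z, hz₁, -⟩ := Scheme.Pullback.exists_preimage_pullback (f := g₁) (g := g₂) ⟨w₁, hw₁⟩ ⟨w₂, hw₂⟩ (by
        apply V.ι.isOpenEmbedding.injective
        show (g₁ ≫ V.ι) _ = (g₂ ≫ V.ι) _
        rw [show g₁ ≫ V.ι = W₁.ι ≫ f₁ from IsOpenImmersion.lift_fac _ _ _,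
          show g₂ ≫ V.ι = W₂.ι ≫ f₂ from IsOpenImmersion.lift_fac _ _ _]
        exact hv₁.trans hv₂.symm)
      refine ⟨m z, ⟨z, rfl⟩, ?_⟩
      show (m ≫ pullback.fst f₁ f₂ ≫ f₁) z = v
      rw [pullback.lift_fst_assoc, Category.assoc, Scheme.Hom.comp_apply, hz₁]
      exact hv₁
  · obtain ⟨U₁, hx₁, M, iM, he₁⟩ := h14 (pullback.fst f₁ f₂ x)
    obtain ⟨U₂, hx₂, M', iM', hfg, he₂⟩ := h24 (pullback.snd f₁ f₂ x)
    refine ⟨pullback.fst f₁ f₂ ⁻¹ᵁ U₁ ⊓ pullback.snd f₁ f₂ ⁻¹ᵁ U₂, ⟨hx₁, hx₂⟩, U₁, U₂, U₁.ι ≫ f₁, U₂.ι ≫ f₂,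
      (pullback.fst f₁ f₂).resLE U₁ _ inf_le_left, (pullback.snd f₁ f₂).resLE U₂ _ inf_le_right,
      M, iM, M', iM', ?_, ?_, hfg, he₁, he₂⟩
    · rw [Scheme.Hom.resLE_comp_ι_assoc]
    · rw [Scheme.Hom.resLE_comp_ι_assoc, pullback.condition]

theorem locally_both (hG : SGA3x.IsMultTypeFT G) (hH : SGA3x.IsMultTypeFT H) :
    TwC.Locally S TwC.Topology.fpqc (Both G H) := by
  obtain ⟨S', f, h1, h2, h3, h4⟩ := hG
  exact locally_both' ⟨S', f, h1, h2, h3, fun s' => let ⟨U, hU, M, hM, _, he⟩ := h4 s'; ⟨U, hU, M, hM, he⟩⟩ hH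

theorem pt₀_left_congr {U : Scheme.{u}} {h : U ⟶ S} {M : Type} [AddCommGroup M] {G : Over S} [GrpObj G]
    (e : Grp.mk (Red.bc h G) ≅ Grp.mk (Red.DS U M)) {K : CommRingCat.{u}} {t t' : Spec K ⟶ U} (ht : t = t')
    (χ : Multiplicative M →* K) : (pt₀ h e t χ).left = (pt₀ h e t' χ).left := by
  subst ht
  rfl

theorem pt₀_comp_congr {U U' : Scheme.{u}} {h : U ⟶ S} {h' : U' ⟶ S} {M M' : Type} [AddCommGroup M]
    [AddCommGroup M'] (e : Grp.mk (Red.bc h G) ≅ Grp.mk (Red.DS U M))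
    (e' : Grp.mk (Red.bc h' H) ≅ Grp.mk (Red.DS U' M')) {K : CommRingCat.{u}} {t t₁ : Spec K ⟶ U}
    {t' t₁' : Spec K ⟶ U'} (ht : t = t₁) (ht' : t' = t₁') (χ : Multiplicative M →* K) (χ' : Multiplicative M' →* K)
    (hk : (pt₀ h e t χ).left ≫ u.left = (pt₀ h' e' t' χ').left) :
    (pt₀ h e t₁ χ).left ≫ u.left = (pt₀ h' e' t₁' χ').left := by
  subst ht ht'
  exact hk

/-- character points over a base mapping to a trivialising scheme -/
def pts {U : Scheme.{u}} {h : U ⟶ S} {M : Type} [AddCommGroup M] {G : Over S} [GrpObj G]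
    (e : Grp.mk (Red.bc h G) ≅ Grp.mk (Red.DS U M)) {K : Type u} [CommRing K] {s : Spec (CommRingCat.of K) ⟶ S}
    (sU : Spec (CommRingCat.of K) ⟶ U) (hs : sU ≫ h = s) : CharPts s M G :=
  hs ▸ charPts h e sU

theorem pts_inj {U : Scheme.{u}} {h : U ⟶ S} {M : Type} [AddCommGroup M] {G : Over S} [GrpObj G]
    (e : Grp.mk (Red.bc h G) ≅ Grp.mk (Red.DS U M)) {K : Type u} [CommRing K] {s : Spec (CommRingCat.of K) ⟶ S}
    (sU : Spec (CommRingCat.of K) ⟶ U) (hs : sU ≫ h = s) (L : Type u) [CommRing L] [Algebra K L] :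
    Function.Injective ((pts e sU hs).pt L : (Multiplicative M →* L) → _) := by
  subst hs
  exact fun χ χ' hh => FreeDiag.pt₀_injective h e _ ((cancel_epi (jIso h sU L).hom).1 hh)

theorem pts_left {U : Scheme.{u}} {h : U ⟶ S} {M : Type} [AddCommGroup M] {G : Over S} [GrpObj G]
    (e : Grp.mk (Red.bc h G) ≅ Grp.mk (Red.DS U M)) {K : Type u} [CommRing K] {s : Spec (CommRingCat.of K) ⟶ S}
    (sU : Spec (CommRingCat.of K) ⟶ U) (hs : sU ≫ h = s) (L : Type u) [CommRing L] [Algebra K L]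
    (χ : Multiplicative M →* L) : ((pts e sU hs).pt L χ).left =
      (pt₀ h e (K := CommRingCat.of L) (Spec.map (CommRingCat.ofHom (algebraMap K L)) ≫ sU) χ).left := by
  subst hs
  exact Category.id_comp _

theorem exists_char_S [IsMonHom u] {M M' : Type} [AddCommGroup M] [AddCommGroup M'] {K : Type u} [CommRing K]
    {s : Spec (CommRingCat.of K) ⟶ S} (P : CharPts s M G) (P' : CharPts s M' H)
    (hinj' : ∀ (L : Type u) [CommRing L] [Algebra K L], Function.Injective (P'.pt L : (Multiplicative M' →* L) → _)) :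
    ∃ g : Multiplicative M' →* MonoidAlgebra K (Multiplicative M), (∀ m, IsGL (g m)) ∧
      ∀ (L : Type u) [CommRing L] [Algebra K L] (χ : Multiplicative M →* L),
        P.pt L χ ≫ u = P'.pt L (((ev χ : MonoidAlgebra K (Multiplicative M) →ₐ[K] L) :
          MonoidAlgebra K (Multiplicative M) →* L).comp g) := by
  obtain ⟨g, hg⟩ := P'.pt_surjective _
    (P.pt (MonoidAlgebra K (Multiplicative M)) (MonoidAlgebra.of K (Multiplicative M)) ≫ u)
  have key : ∀ (L : Type u) [CommRing L] [Algebra K L] (χ : Multiplicative M →* L),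
      P.pt L χ ≫ u = P'.pt L (((ev χ : MonoidAlgebra K (Multiplicative M) →ₐ[K] L) :
          MonoidAlgebra K (Multiplicative M) →* L).comp g) := fun L _ _ χ => by
    conv_lhs => rw [← ev_comp_of (K := K) χ, ← P.pt_nat, Category.assoc, ← hg, P'.pt_nat]
  refine ⟨g, fun m => isGL_of_ev ?_ ?_, key⟩
  · have h := key K 1
    rw [P.pt_one, MonObj.one_comp, ← P'.pt_one] at h
    exact (DFunLike.congr_fun (hinj' K h) m).symm
  · have h := key _ (univ₁ (K := K) (M := Multiplicative M) * univ₂)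
    rw [← P.pt_mul, MonObj.mul_comp, key, key, P'.pt_mul] at h
    exact (DFunLike.congr_fun (hinj' _ h) m).symm

/-- In given trivialisations, `u` is locally `D(φ)`. -/
theorem exists_local_of [IsMonHom u] [IsAffineHom G.hom] [IsAffineHom H.hom] {S' U₁ U₂ : Scheme.{u}} {f : S' ⟶ S}
    {h₁ : U₁ ⟶ S} {h₂ : U₂ ⟶ S} {a₁ : S' ⟶ U₁} {a₂ : S' ⟶ U₂} (hf₁ : a₁ ≫ h₁ = f) (hf₂ : a₂ ≫ h₂ = f)
    {M M' : Type} [AddCommGroup M] [AddCommGroup M'] [hfg : AddGroup.FG M']
    (e₁ : Grp.mk (Red.bc h₁ G) ≅ Grp.mk (Red.DS U₁ M)) (e₂ : Grp.mk (Red.bc h₂ H) ≅ Grp.mk (Red.DS U₂ M'))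
    {K : Type u} [CommRing K] (b : Spec (CommRingCat.of K) ⟶ S') (p : Ideal K) [p.IsPrime] :
    ∃ (r : K) (φ : Multiplicative M' →* Multiplicative M), r ∉ p ∧
      ∀ (L : Type u) [CommRing L] [Algebra K L], IsUnit (algebraMap K L r) →
        ∀ (Q : MorphismProperty Scheme.{u}) [Q.RespectsIso],
          Q (uS u (Spec.map (CommRingCat.ofHom (algebraMap K L)) ≫ b ≫ f)) ↔ Q (dMap L φ).left := by
  have hs₁ : (b ≫ a₁) ≫ h₁ = b ≫ f := by rw [Category.assoc, hf₁]
  have hs₂ : (b ≫ a₂) ≫ h₂ = b ≫ f := by rw [Category.assoc, hf₂]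
  obtain ⟨g, hg, key⟩ := exists_char_S u (pts e₁ _ hs₁) (pts e₂ _ hs₂) (pts_inj e₂ _ hs₂)
  obtain ⟨r, φ, hr, hφ⟩ := exists_single_hom g hg p
  refine ⟨r, φ, hr, fun L _ _ hu Q _ => ?_⟩
  let sL := Spec.map (CommRingCat.ofHom (algebraMap K L)) ≫ b ≫ f
  have hL₁ : (Spec.map (CommRingCat.ofHom (algebraMap K L)) ≫ b ≫ a₁) ≫ h₁ = sL := by
    simp only [sL, Category.assoc, hf₁]
  have hL₂ : (Spec.map (CommRingCat.ofHom (algebraMap K L)) ≫ b ≫ a₂) ≫ h₂ = sL := by
    simp only [sL, Category.assoc, hf₂]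
  let P₁ := bcPts sL (pts e₁ _ hL₁)
  let P₂ := bcPts sL (pts e₂ _ hL₂)
  have : IsAffine (Red.bc sL G).left := by
    have : IsAffineHom (Red.bc sL G).hom := by
      show IsAffineHom (pullback.snd G.hom sL)
      infer_instance
    exact isAffine_of_isAffineHom (Red.bc sL G).hom
  have : IsAffine (Red.bc sL H).left := by
    have : IsAffineHom (Red.bc sL H).hom := by
      show IsAffineHom (pullback.snd H.hom sL)
      infer_instance
    exact isAffine_of_isAffineHom (Red.bc sL H).hom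
  obtain ⟨j₁, hj₁⟩ := exists_iso_diag P₁ (bcPts_inj _ _ (pts_inj e₁ _ hL₁))
  obtain ⟨j₂, hj₂⟩ := exists_iso_diag P₂ (bcPts_inj _ _ (pts_inj e₂ _ hL₂))
  have hsq : j₁.hom ≫ (Over.pullback sL).map u = dMap L φ ≫ j₂.hom := by
    refine pts_ext fun L' _ _ a => ?_
    obtain ⟨χ, rfl⟩ := diagPts.pt_surjective L' a
    rw [← Category.assoc, hj₁, ← Category.assoc (diagPts.pt L' χ), diagPts_comp_dMap, hj₂]
    show (Over.mapPullbackAdj sL).homEquiv _ _ _ ≫ _ = (Over.mapPullbackAdj sL).homEquiv _ _ _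
    rw [← Adjunction.homEquiv_naturality_right, Category.assoc]
    congr 2
    ext1
    rw [Over.comp_left, pts_left, pts_left]
    letI : Algebra K L' := ((algebraMap L L').comp (algebraMap K L)).toAlgebra
    have hK : ∀ (sU : Spec (CommRingCat.of K) ⟶ U₁), Spec.map (CommRingCat.ofHom (algebraMap K L')) ≫ sU =
        Spec.map (CommRingCat.ofHom (algebraMap L L')) ≫ Spec.map (CommRingCat.ofHom (algebraMap K L)) ≫ sU :=
      fun sU => by rw [← Category.assoc, ← Spec.map_comp]; rfl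
    have hK₂ : ∀ (sU : Spec (CommRingCat.of K) ⟶ U₂), Spec.map (CommRingCat.ofHom (algebraMap K L')) ≫ sU =
        Spec.map (CommRingCat.ofHom (algebraMap L L')) ≫ Spec.map (CommRingCat.ofHom (algebraMap K L)) ≫ sU :=
      fun sU => by rw [← Category.assoc, ← Spec.map_comp]; rfl
    have hkey := congrArg Over.Hom.left (key L' χ)
    rw [Over.comp_left, pts_left, pts_left] at hkey
    have hgφ : ((ev χ : MonoidAlgebra K (Multiplicative M) →ₐ[K] L') :
        MonoidAlgebra K (Multiplicative M) →* L').comp g = χ.comp φ := by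
      refine MonoidHom.ext fun m => ?_
      show ev χ (g m) = χ (φ m)
      have h1 : MonoidAlgebra.mapRingHom (Multiplicative M) (algebraMap K L') (g m) =
          MonoidAlgebra.single (φ m) 1 := hφ L' _ (by
        rw [show algebraMap K L' r = algebraMap L L' (algebraMap K L r) from rfl]
        exact hu.map _) m
      calc ev χ (g m) = MonoidAlgebra.lift L' L' (Multiplicative M) χ
            (MonoidAlgebra.mapRingHom (Multiplicative M) (algebraMap K L') (g m)) :=
          (MonoidAlgebra.lift_mapRingHom_algebraMap _ _).symm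
        _ = χ (φ m) := by rw [h1]; simp
    rw [hgφ] at hkey
    exact pt₀_comp_congr u e₁ e₂ (hK (b ≫ a₁)) (hK₂ (b ≫ a₂)) χ (χ.comp φ) hkey
  exact Q.arrow_mk_iso_iff (Arrow.isoMk ((Over.forget _).mapIso j₁) ((Over.forget _).mapIso j₂)
    (congrArg Over.Hom.left hsq)).symm

/-- Locally on a common trivialising scheme, `u` is `D(φ)`. -/
theorem exists_local [IsMonHom u] [IsAffineHom G.hom] [IsAffineHom H.hom] {S' : Scheme.{u}} {f : S' ⟶ S}
    (hb : Both G H S' f) {K : Type u} [CommRing K] (b : Spec (CommRingCat.of K) ⟶ S') (p : Ideal K) [p.IsPrime] :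
    ∃ (r : K) (M M' : Type) (_ : AddCommGroup M) (_ : AddCommGroup M')
      (φ : Multiplicative M' →* Multiplicative M), r ∉ p ∧
      ∀ (L : Type u) [CommRing L] [Algebra K L], IsUnit (algebraMap K L r) →
        ∀ (Q : MorphismProperty Scheme.{u}) [Q.RespectsIso],
          Q (uS u (Spec.map (CommRingCat.ofHom (algebraMap K L)) ≫ b ≫ f)) ↔ Q (dMap L φ).left := by
  obtain ⟨U₁, U₂, h₁, h₂, a₁, a₂, M, iM, M', iM', hf₁, hf₂, hfg, ⟨e₁⟩, ⟨e₂⟩⟩ := hb
  obtain ⟨r, φ, hr, h⟩ := exists_local_of u hf₁ hf₂ (hfg := hfg) e₁ e₂ b p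
  exact ⟨r, M, M', iM, iM', φ, hr, h⟩

/-- The locus where `u` has `Q` is open and closed, and `u` has `Q` above it. -/
theorem exists_locus' (hG : TwC.Locally S TwC.Topology.fpqc (fun S' f => ∃ (M : Type) (_ : AddCommGroup M),
      Nonempty (Grp.mk (Red.bc f G) ≅ Grp.mk (Red.DS S' M)))) (hH : SGA3x.IsMultTypeFT H) [IsMonHom u]
    (Q : MorphismProperty Scheme.{u}) [Q.IsStableUnderBaseChange] [IsZariskiLocalAtTarget Q]
    [Q.DescendsAlong (@Surjective ⊓ @Flat ⊓ @QuasiCompact)] (C : ∀ {A B : Type}, (A → B) → Prop)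
    (hQC : ∀ (L : Type u) [CommRing L] [Nontrivial L] {M M' : Type} [AddCommGroup M] [AddCommGroup M']
      (φ : Multiplicative M' →* Multiplicative M), Q (dMap L φ).left ↔ C φ) :
    ∃ U : S.Opens, IsClosed (U : Set S) ∧ (∀ x : S, x ∈ U ↔ Q (uS u (S.fromSpecResidueField x))) ∧
      Q (uS u U.ι) := by
  have : IsAffineHom G.hom := FreeDiag.isAffineHom_of_multType hG
  have : IsAffineHom H.hom := by
    obtain ⟨S', f, h1, h2, h3, h4⟩ := hH
    exact FreeDiag.isAffineHom_of_multType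
      ⟨S', f, h1, h2, h3, fun s' => let ⟨U, hU, M, hM, _, he⟩ := h4 s'; ⟨U, hU, M, hM, he⟩⟩
  have hb := locally_both' hG hH
  let U₀ : Set S := {x | Q (uS u (S.fromSpecResidueField x))}
  -- pointwise criterion
  have hfield : ∀ (L : Type u) [Field L] (y : Spec (CommRingCat.of L) ⟶ S) (q : ↥(Spec (CommRingCat.of L))),
      y q ∈ U₀ ↔ Q (uS u y) := by
    intro L _ y q
    obtain ⟨⟨x, ι₀⟩, hι⟩ := (S.SpecToEquivOfField L).symm.surjective y
    have hι' : Spec.map ι₀ ≫ S.fromSpecResidueField x = y := hι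
    subst hι'
    have hx : (Spec.map ι₀ ≫ S.fromSpecResidueField x) q = x := by
      rw [Scheme.Hom.comp_apply]
      exact Scheme.fromSpecResidueField_apply x _
    rw [hx]
    letI := ι₀.hom.toAlgebra
    have : Module.FaithfullyFlat (S.residueField x) L := inferInstance
    have h := RingHom.faithfullyFlat_algebraMap_iff.2 this
    have hflat := (flat_and_surjective_SpecMap_iff ι₀).2 h
    have := hflat.1
    have := hflat.2
    exact (uS_comp_iff u (Spec.map ι₀) _).symm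
  -- local constancy on a piece
  have hpiece : ∀ (S' : Scheme.{u}) (f : S' ⟶ S), Both G H S' f → ∀ (K : Type u) [CommRing K]
      (b : Spec (CommRingCat.of K) ⟶ S') (q : PrimeSpectrum K), ∃ (r : K) (c : Prop), r ∉ q.asIdeal ∧
        (∀ q' : PrimeSpectrum K, r ∉ q'.asIdeal → ((b ≫ f) q' ∈ U₀ ↔ c)) ∧
        (c → Q (uS u (Spec.map (CommRingCat.ofHom (algebraMap K (Localization.Away r))) ≫ b ≫ f))) := by
    intro S' f hS' K _ b q
    obtain ⟨r, M, M', _, _, φ, hr, hiff⟩ := exists_local u hS' b q.asIdeal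
    have hu : IsUnit (algebraMap K (Localization.Away r) r) := IsLocalization.Away.algebraMap_isUnit r
    refine ⟨r, C φ, hr, fun q' hq' => ?_, fun hc => ?_⟩
    · let L := q'.asIdeal.ResidueField
      have hq : Spec.map (CommRingCat.ofHom (algebraMap K L)) (⊥ : PrimeSpectrum L) = q' :=
        PrimeSpectrum.ext (Ideal.ker_algebraMap_residueField q'.asIdeal)
      have hu' : IsUnit (algebraMap K L r) :=
        isUnit_iff_ne_zero.2 fun h => hq' (Ideal.algebraMap_residueField_eq_zero.1 h)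
      rw [← hq, ← hQC L φ, ← hiff L hu' Q]
      exact hfield L (Spec.map (CommRingCat.ofHom (algebraMap K L)) ≫ b ≫ f) (⊥ : PrimeSpectrum L)
    · have : Nontrivial (Localization.Away r) :=
        (IsLocalization.Away.lift (S := Localization.Away r) r (g := algebraMap K q.asIdeal.ResidueField)
          (isUnit_iff_ne_zero.2 fun h => hr (Ideal.algebraMap_residueField_eq_zero.1 h))).domain_nontrivial
      exact (hiff _ hu Q).2 ((hQC _ φ).2 hc)
  -- open and closed
  have hclopen : IsClopen U₀ := by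
    suffices h : ∀ P : Prop → Prop, IsOpen {x : S | P (x ∈ U₀)} from
      ⟨⟨h Not⟩, h id⟩
    intro P
    rw [isOpen_iff_forall_mem_open]
    intro x hx
    obtain ⟨V, R', _, _, hff, hxV, hq⟩ := FpqcCover.exists_cover hb x
    let π := Spec.map (CommRingCat.ofHom (algebraMap Γ(S, V.1) R'))
    have hπ := (flat_and_surjective_SpecMap_iff (CommRingCat.ofHom (algebraMap Γ(S, V.1) R'))).2
      (RingHom.faithfullyFlat_algebraMap_iff.2 hff)
    have := hπ.1
    have := hπ.2
    have := V.2.isOpenImmersion_fromSpec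
    let Ws : Set (Spec Γ(S, V.1)) := {v | P (V.2.fromSpec v ∈ U₀)}
    refine ⟨V.2.fromSpec '' Ws, ?_, V.2.fromSpec.isOpenEmbedding.isOpenMap _ ?_, ?_⟩
    · rintro _ ⟨v, hv, rfl⟩
      exact hv
    · rw [← (Flat.isQuotientMap_of_surjective π).isOpen_preimage, isOpen_iff_forall_mem_open]
      intro q' hq'
      obtain ⟨Ri, _, _, _, hoi, S', f, U, a, ⟨q, hqq⟩, hP, ha⟩ := hq q'
      obtain ⟨r, c, hr, hc, -⟩ := hpiece _ _ hP Ri a q
      let ev := Spec.map (CommRingCat.ofHom (algebraMap R' Ri))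
      refine ⟨ev '' (PrimeSpectrum.basicOpen r : Set (PrimeSpectrum Ri)), ?_,
        ev.isOpenEmbedding.isOpenMap _ (PrimeSpectrum.basicOpen r).2, ⟨q, hr, hqq⟩⟩
      rintro _ ⟨q₁, hq₁, rfl⟩
      have h1 : ∀ z, (a ≫ U.ι ≫ f) z = V.2.fromSpec (π (ev z)) := fun z => by rw [ha]; rfl
      show P (V.2.fromSpec (π (ev q₁)) ∈ U₀)
      rw [← h1, propext ((hc q₁ hq₁).trans (hc q hr).symm), h1, hqq]
      exact hq'
    · obtain ⟨v, rfl⟩ := V.2.range_fromSpec.ge hxV
      exact ⟨v, hx, rfl⟩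
  refine ⟨⟨U₀, hclopen.2⟩, hclopen.1, fun x => Iff.rfl, ?_⟩
  let U : S.Opens := ⟨U₀, hclopen.2⟩
  refine FpqcCover.descend (Q := Q) hb (uS u U.ι) (pullback.snd H.hom U.ι ≫ U.ι) ?_
  intro S' f W hW R a
  let g := pullback.snd H.hom U.ι ≫ U.ι
  let z := pullback.fst g (a ≫ W.ι ≫ f)
  choose r c hr hc hQ using hpiece _ _ hW R a
  refine IsZariskiLocalAtTarget.of_forall_exists_morphismRestrict (P := Q) fun w => ?_
  let q : PrimeSpectrum R := pullback.snd g (a ≫ W.ι ≫ f) w
  let O : (pullback g (a ≫ W.ι ≫ f)).Opens := pullback.snd g (a ≫ W.ι ≫ f) ⁻¹ᵁ PrimeSpectrum.basicOpen (r q)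
  refine ⟨O, hr q, ?_⟩
  have hcq : c q := by
    refine (hc q q (hr q)).1 ?_
    show (a ≫ W.ι ≫ f) q ∈ U₀
    rw [show (a ≫ W.ι ≫ f) q = (z ≫ g) w from by
      rw [show z ≫ g = pullback.snd g (a ≫ W.ι ≫ f) ≫ a ≫ W.ι ≫ f from pullback.condition]; rfl]
    exact ((z ≫ pullback.snd H.hom U.ι) w).2
  let sL := Spec.map (CommRingCat.ofHom (algebraMap R (Localization.Away (r q)))) ≫ a ≫ W.ι ≫ f
  let ev := Spec.map (CommRingCat.ofHom (algebraMap R (Localization.Away (r q))))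
  have : IsOpenImmersion ev := IsOpenImmersion.of_isLocalization (r q)
  let t : (O : Scheme.{u}) ⟶ Spec (CommRingCat.of (Localization.Away (r q))) :=
    IsOpenImmersion.lift ev (O.ι ≫ pullback.snd g (a ≫ W.ι ≫ f)) (by
      rintro _ ⟨o, rfl⟩
      exact (PrimeSpectrum.localization_away_comap_range (Localization.Away (r q)) (r q)).ge o.2)
  let l : (O : Scheme.{u}) ⟶ pullback H.hom sL :=
    pullback.lift (O.ι ≫ z ≫ pullback.fst H.hom U.ι) t (by
      rw [show t ≫ sL = (t ≫ ev) ≫ a ≫ W.ι ≫ f from (Category.assoc _ _ _).symm,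
        show t ≫ ev = O.ι ≫ pullback.snd g (a ≫ W.ι ≫ f) from IsOpenImmersion.lift_fac _ _ _,
        Category.assoc, Category.assoc, Category.assoc, ← pullback.condition, pullback.condition])
  have h1 := (((isPullback_morphismRestrict (pullback.snd (uS u U.ι) z) O).flip.paste_horiz
    (IsPullback.of_hasPullback (uS u U.ι) z)).paste_horiz (isPullback_uS u U.ι))
  rw [Category.assoc O.ι, show O.ι ≫ z ≫ pullback.fst H.hom U.ι = l ≫ pullback.fst H.hom sL from
    (pullback.lift_fst _ _ _).symm] at h1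
  have hw := h1.w.trans (Category.assoc _ _ _).symm
  have h4 := IsPullback.of_right (h₁₁ := (isPullback_uS u sL).lift _ _ hw) (by
    rw [IsPullback.lift_fst]; exact h1) (IsPullback.lift_snd _ _ _ _) (isPullback_uS u sL)
  exact MorphismProperty.of_isPullback h4 (hQ q hcq)

/-- The locus where `u` has `Q` is open and closed, and `u` has `Q` above it. -/
theorem exists_locus (hG : SGA3x.IsMultTypeFT G) (hH : SGA3x.IsMultTypeFT H) [IsMonHom u]
    (Q : MorphismProperty Scheme.{u}) [Q.IsStableUnderBaseChange] [IsZariskiLocalAtTarget Q]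
    [Q.DescendsAlong (@Surjective ⊓ @Flat ⊓ @QuasiCompact)] (C : ∀ {A B : Type}, (A → B) → Prop)
    (hQC : ∀ (L : Type u) [CommRing L] [Nontrivial L] {M M' : Type} [AddCommGroup M] [AddCommGroup M']
      (φ : Multiplicative M' →* Multiplicative M), Q (dMap L φ).left ↔ C φ) :
    ∃ U : S.Opens, IsClosed (U : Set S) ∧ (∀ x : S, x ∈ U ↔ Q (uS u (S.fromSpecResidueField x))) ∧
      Q (uS u U.ι) := by
  obtain ⟨S', f, h1, h2, h3, h4⟩ := hG
  exact exists_locus' u ⟨S', f, h1, h2, h3, fun s' => let ⟨U, hU, M, hM, _, he⟩ := h4 s'; ⟨U, hU, M, hM, he⟩⟩ hH Q C hQC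

end Groth.Agent.HopfRep.HomLocus

end
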