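import Groth.Prelude.Def_Red2
import Groth.Agent.HopfRep.TrivLocus
import Groth.Agent.HopfRep.HomLocus
import Groth.Agent.HopfRep.FpqcBase
import Groth.Agent.HopfRep.EssFreeSGA
import Groth.Agent.HopfRep.CentralDescent

/-!
Groups of multiplicative type are commutative, and the centralizer of such a subgroup is open and closed in
its normalizer.
-/

universe u

open CategoryTheory MonoidalCategory CartesianMonoidalCategory MonObj AlgebraicGeometry Limits

set_option linter.unusedSimpArgs false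
set_option linter.style.haveILetI false
set_option backward.isDefEq.respectTransparency.types false

noncomputable section

namespace Groth.Agent.HopfRep.CentNorm

variable {S : Scheme.{u}}

/-- A group of multiplicative type is commutative. -/
theorem mul_comm_of_multTypeFT {H : Over S} [GrpObj H] (hH : SGA3x.IsMultTypeFT H) {X : Over S} (a b : X ⟶ H) :
    a * b = b * a := by
  obtain ⟨S', f, hf, hsurj, -, hloc⟩ := hH
  ext1
  let π := pullback.fst X.hom f
  have : Epi π := Flat.epi_of_flat_of_surjective π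
  rw [← cancel_epi π]
  refine Scheme.hom_ext_of_forall _ _ fun y => ?_
  obtain ⟨U, hyU, M, _, -, ⟨e⟩⟩ := hloc (pullback.snd X.hom f y)
  obtain ⟨_, ⟨W, hW, rfl⟩, hyW, hWsub⟩ := (pullback X.hom f).isBasis_affineOpens.exists_subset_of_mem_open
    (show y ∈ pullback.snd X.hom f ⁻¹ᵁ U from hyU) (pullback.snd X.hom f ⁻¹ᵁ U).2
  let W : (pullback X.hom f).Opens := W
  refine ⟨W, hyW, ?_⟩
  have hWa : IsAffineOpen W := hW
  let L := Γ(pullback X.hom f, W)
  let sU : Spec (CommRingCat.of L) ⟶ (U : Scheme.{u}) :=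
    IsOpenImmersion.lift U.ι (hWa.fromSpec ≫ pullback.snd X.hom f) (by
      rw [Scheme.Opens.range_ι]
      rintro _ ⟨q, rfl⟩
      exact hWsub (hWa.range_fromSpec.le ⟨q, rfl⟩))
  let s : Spec (CommRingCat.of L) ⟶ S := sU ≫ U.ι ≫ f
  let P := HomLocus.pts e sU (s := s) rfl
  let x : DiagRigid.T s L ⟶ X := Over.homMk (hWa.fromSpec ≫ π) (by
    show (_ ≫ _) ≫ X.hom = Spec.map (CommRingCat.ofHom (RingHom.id L)) ≫ s
    rw [show CommRingCat.ofHom (RingHom.id L) = 𝟙 (CommRingCat.of L) from rfl, Spec.map_id, Category.id_comp,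
      Category.assoc, pullback.condition]
    simp only [s, sU, IsOpenImmersion.lift_fac_assoc, Category.assoc])
  obtain ⟨χ, hχ⟩ := P.pt_surjective L (x ≫ a)
  obtain ⟨χ', hχ'⟩ := P.pt_surjective L (x ≫ b)
  have key : x ≫ (a * b) = x ≫ (b * a) := by
    rw [MonObj.comp_mul, MonObj.comp_mul, ← hχ, ← hχ', P.pt_mul, P.pt_mul, _root_.mul_comm χ]
  have key' : x.left ≫ (a * b).left = x.left ≫ (b * a).left := congrArg CommaMorphism.left key
  rw [← cancel_epi hWa.isoSpec.inv, IsAffineOpen.isoSpec_inv_ι_assoc, IsAffineOpen.isoSpec_inv_ι_assoc]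
  simpa [x, π] using key'

variable {H G Z N : Over S} [GrpObj H] [GrpObj G] [GrpObj Z] [GrpObj N]

theorem exists_clopenImmersion (hH : SGA3x.IsMultTypeFT H) (hG : LocallyOfFiniteType G.hom) [IsAffineHom H.hom]
    (i : H ⟶ G) [IsMonHom i] [Mono i]
    (j : Z ⟶ G) (k : N ⟶ G) (hj : Red.IsCentralizerOf i j) (hk : Red.IsNormalizerOf i k) :
    ∃ f : Z ⟶ N, f ≫ k = j ∧ IsOpenImmersion f.left ∧ IsClosedImmersion f.left := by
  obtain ⟨_, _, hj'⟩ := hj
  obtain ⟨_, _, hk'⟩ := hk
  have hcomm := fun {X : Over S} (a b : X ⟶ H) => mul_comm_of_multTypeFT hH a b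
  -- the conjugation family
  obtain ⟨⟨ψ, hψ⟩, -⟩ := (hk' N k).1 ⟨𝟙 N, Category.id_comp _⟩ (H ⊗ N) (snd H N) (fst H N)
  have hψ' : ∀ {X : Over S} (h : X ⟶ H) (n : X ⟶ N),
      (lift h n ≫ ψ) ≫ i = (n ≫ k) * (h ≫ i) * (n ≫ k)⁻¹ := fun h n => by
    rw [Category.assoc, ← hψ]
    simp [MonObj.comp_mul, GrpObj.comp_inv]
  have hψmul : ∀ {X : Over S} (h h' : X ⟶ H) (n : X ⟶ N),
      lift (h * h') n ≫ ψ = (lift h n ≫ ψ) * (lift h' n ≫ ψ) := fun h h' n => by
    rw [← cancel_mono i, MonObj.mul_comp, hψ', hψ', hψ', MonObj.mul_comp]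
    group
  let δ : H ⊗ N ⟶ H := ψ * (fst H N)⁻¹
  have hδ : ∀ {X : Over S} (h : X ⟶ H) (n : X ⟶ N), lift h n ≫ δ = (lift h n ≫ ψ) * h⁻¹ := fun h n => by
    simp [δ, MonObj.comp_mul, GrpObj.comp_inv]
  have hδmul : ∀ {X : Over S} (h h' : X ⟶ H) (n : X ⟶ N),
      lift (h * h') n ≫ δ = (lift h n ≫ δ) * (lift h' n ≫ δ) := fun h h' n => by
    rw [hδ, hδ, hδ, hψmul, mul_inv_rev]
    rw [hcomm h'⁻¹ h⁻¹, _root_.mul_assoc, _root_.mul_assoc, ← _root_.mul_assoc (lift h' n ≫ ψ) h⁻¹,
      hcomm (lift h' n ≫ ψ) h⁻¹, _root_.mul_assoc]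
  let HN := Red.bc N.hom H
  letI : GrpObj HN := inferInstanceAs (GrpObj (Red.bc N.hom H))
  let u : HN ⟶ HN := Over.homMk (pullback.lift δ.left (pullback.snd H.hom N.hom) (by
    rw [Over.w δ]
    exact (Over.w (snd H N)).symm)) (pullback.lift_snd _ _ _)
  have hu : ∀ {Y : Over N.left} (y : Y ⟶ HN),
      ((Over.mapPullbackAdj N.hom).homEquiv Y H).symm (y ≫ u) =
        lift (((Over.mapPullbackAdj N.hom).homEquiv Y H).symm y) (Over.homMk Y.hom rfl) ≫ δ := by
    intro Y y
    ext1
    rw [FpqcBase.homEquiv_symm_left, Over.comp_left, Over.comp_left]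
    show (y.left ≫ pullback.lift _ _ _) ≫ pullback.fst _ _ = _
    rw [Category.assoc, pullback.lift_fst]
    congr 1
    refine pullback.hom_ext (f := H.hom) (g := N.hom) ?_ ?_
    · show y.left ≫ (fst H N).left = _ ≫ (fst H N).left
      rw [← Over.comp_left, lift_fst, FpqcBase.homEquiv_symm_left]
      rfl
    · show y.left ≫ (snd H N).left = _ ≫ (snd H N).left
      rw [← Over.comp_left, lift_snd]
      exact Over.w y
  have : IsMonHom u := FpqcBase.isMonHom_of_forall_mul u fun {Y} a b => by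
    apply ((Over.mapPullbackAdj N.hom).homEquiv Y H).symm.injective
    rw [hu, CentralDescent.symm_mul, CentralDescent.symm_mul, hu, hu, hδmul]
  have hHN : SGA3x.IsMultTypeFT HN := FpqcBase.isMultTypeFT_bc H hH N.hom
  have : IsSeparated HN.hom := inferInstanceAs (IsSeparated (pullback.snd H.hom N.hom))
  have : LocallyOfFiniteType H.hom := EssFreeSGA.locallyOfFiniteType_of_multTypeFT hH
  have : LocallyOfFiniteType HN.hom := inferInstanceAs (LocallyOfFiniteType (pullback.snd H.hom N.hom))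
  obtain ⟨U, hUc, hUpt, hU⟩ := TrivLocus.exists_clopen u hHN (Or.inr ‹_›)
  -- triviality means centralizing
  have htriv : ∀ {Y : Over S} (n : Y ⟶ N), TrivLocus.Triv u n.left ↔
      ∀ (X' : Over S) (x : X' ⟶ Y) (h : X' ⟶ H), lift h (x ≫ n) ≫ δ = 1 := by
    intro Y n
    constructor
    · intro hT X' x h
      let X₁ : Over N.left := Over.mk (x ≫ n).left
      let a : (Over.map N.hom).obj X₁ ⟶ H := Over.homMk h.left (by
        show h.left ≫ H.hom = (x ≫ n).left ≫ N.hom
        rw [Over.w h, Over.w (x ≫ n)])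
      let t : (Over.map N.hom).obj X₁ ⟶ X' := Over.homMk (𝟙 _) (by
        show 𝟙 _ ≫ X'.hom = (x ≫ n).left ≫ N.hom
        rw [Category.id_comp, Over.w (x ≫ n)])
      have : IsIso t := by
        have : IsIso ((Over.forget S).map t) := inferInstanceAs (IsIso (𝟙 _))
        exact isIso_of_reflects_iso t (Over.forget S)
      have h1 := hT X₁ (Over.homMk x.left rfl) ((Over.mapPullbackAdj N.hom).homEquiv X₁ H a)
      have h2 := congrArg ((Over.mapPullbackAdj N.hom).homEquiv X₁ H).symm h1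
      rw [hu, Equiv.symm_apply_apply] at h2
      have h3 : ((Over.mapPullbackAdj N.hom).homEquiv X₁ H).symm (1 : X₁ ⟶ HN) = 1 := by
        have := CentralDescent.symm_mul H (1 : X₁ ⟶ HN) 1
        rw [_root_.one_mul] at this
        exact mul_eq_left.1 this.symm
      rw [h3] at h2
      rw [← cancel_epi t, MonObj.comp_one, comp_lift_assoc]
      have ea : t ≫ h = a := Over.OverMorphism.ext (Category.id_comp _)
      have en : t ≫ x ≫ n = Over.homMk X₁.hom rfl := Over.OverMorphism.ext (Category.id_comp _)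
      rw [ea, en]
      exact h2
    · intro hT X₁ q a
      apply ((Over.mapPullbackAdj N.hom).homEquiv X₁ H).symm.injective
      have h3 : ((Over.mapPullbackAdj N.hom).homEquiv X₁ H).symm (1 : X₁ ⟶ HN) = 1 := by
        have := CentralDescent.symm_mul H (1 : X₁ ⟶ HN) 1
        rw [_root_.one_mul] at this
        exact mul_eq_left.1 this.symm
      rw [h3, hu]
      let x : (Over.map N.hom).obj X₁ ⟶ Y := Over.homMk q.left (by
        show q.left ≫ Y.hom = X₁.hom ≫ N.hom
        rw [← Over.w q, Category.assoc]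
        exact congrArg (q.left ≫ ·) (Over.w n).symm)
      have e : Over.homMk X₁.hom rfl = x ≫ n := Over.OverMorphism.ext (Over.w q).symm
      rw [e]
      exact hT _ x _
  -- the centralizer factors through the locus
  have hcN : ∀ {X : Over S} (g : X ⟶ G), (∀ (X' : Over S) (x : X' ⟶ X) (h : X' ⟶ H),
      (x ≫ g) * (h ≫ i) = (h ≫ i) * (x ≫ g)) → ∃ n, n ≫ k = g := fun g hg => (hk' _ g).2 fun X' x h =>
    ⟨⟨h, by rw [hg, mul_inv_cancel_right]⟩, ⟨h, by rw [_root_.mul_assoc, ← hg, inv_mul_cancel_left]⟩⟩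
  obtain ⟨f, hf⟩ := hcN j ((hj' Z j).1 ⟨𝟙 Z, Category.id_comp _⟩)
  have hZtriv : TrivLocus.Triv u f.left := (htriv f).2 fun X' x h => by
    rw [← cancel_mono i, MonObj.one_comp, hδ, MonObj.mul_comp, hψ', GrpObj.inv_comp, Category.assoc, hf,
      (hj' Z j).1 ⟨𝟙 Z, Category.id_comp _⟩ X' x h]
    group
  have hrange : Set.range f.left ⊆ U := by
    rintro _ ⟨z, rfl⟩
    refine (hUpt (f.left z)).2 ?_
    let φ := Spec.map (f.left.residueFieldMap z)
    have hφ : φ ≫ N.left.fromSpecResidueField (f.left z) = Z.left.fromSpecResidueField z ≫ f.left :=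
      Scheme.Hom.SpecMap_residueFieldMap_fromSpecResidueField _ _
    have h1 : TrivLocus.Triv u (φ ≫ N.left.fromSpecResidueField (f.left z)) :=
      hZtriv.comp u (Z.left.fromSpecResidueField z) hφ.symm
    have : Surjective φ := ⟨fun q => ⟨IsLocalRing.closedPoint _, Subsingleton.elim (α := PrimeSpectrum _) _ _⟩⟩
    have : Flat φ := by
      rw [Flat.SpecMap_iff]
      algebraize [(f.left.residueFieldMap z).hom]
      exact RingHom.flat_algebraMap_iff.2 inferInstance
    intro Y q a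
    ext1
    have : Epi (pullback.fst q.left φ) := Flat.epi_of_flat_of_surjective _
    rw [← cancel_epi (pullback.fst q.left φ)]
    let Y' : Over N.left := Over.mk (pullback.snd q.left φ ≫ φ ≫ N.left.fromSpecResidueField (f.left z))
    let y' : Y' ⟶ Y := Over.homMk (pullback.fst q.left φ) (by
      show pullback.fst q.left φ ≫ Y.hom = pullback.snd q.left φ ≫ φ ≫ N.left.fromSpecResidueField (f.left z)
      rw [← Over.w q, pullback.condition_assoc]
      rfl)
    have h2 := h1 Y' (Over.homMk (pullback.snd q.left φ) rfl) (y' ≫ a)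
    have h4 : y' ≫ a ≫ u = y' ≫ 1 := by rw [← Category.assoc, h2, MonObj.comp_one]
    exact congrArg CommaMorphism.left h4
  let Uo : Over S := Over.mk (U.ι ≫ N.hom)
  let ιU : Uo ⟶ N := Over.homMk U.ι rfl
  obtain ⟨z₁, hz₁⟩ : ∃ z₁, z₁ ≫ j = ιU ≫ k := (hj' Uo (ιU ≫ k)).2 fun X' x h => by
    have h1 := (htriv ιU).1 hU X' x h
    rw [← cancel_mono i, MonObj.one_comp, hδ, MonObj.mul_comp, hψ', GrpObj.inv_comp, Category.assoc,
      mul_inv_eq_one, mul_inv_eq_iff_eq_mul] at h1
    exact h1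
  let f' : Z ⟶ Uo := Over.homMk (IsOpenImmersion.lift U.ι f.left (by rwa [Scheme.Opens.range_ι])) (by
    show _ ≫ U.ι ≫ N.hom = Z.hom
    rw [IsOpenImmersion.lift_fac_assoc, Over.w f])
  have hf' : f' ≫ ιU = f := Over.OverMorphism.ext (IsOpenImmersion.lift_fac _ _ _)
  have h1 : f' ≫ z₁ = 𝟙 Z := by
    rw [← cancel_mono j, Category.assoc, hz₁, reassoc_of% hf', hf, Category.id_comp]
  have h2 : z₁ ≫ f' = 𝟙 Uo := by
    have : Mono ιU := by
      have : Mono ((Over.forget S).map ιU) := inferInstanceAs (Mono U.ι)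
      exact (Over.forget S).mono_of_mono_map this
    rw [← cancel_mono ιU, Category.assoc, hf', ← cancel_mono k, Category.assoc, hf, hz₁, Category.id_comp]
  have : IsIso f'.left := ⟨z₁.left, congrArg CommaMorphism.left h1, congrArg CommaMorphism.left h2⟩
  have : IsClosedImmersion U.ι := IsClosedImmersion.of_isPreimmersion _ (by rw [Scheme.Opens.range_ι]; exact hUc)
  refine ⟨f, hf, ?_, ?_⟩
  · rw [← hf']
    show IsOpenImmersion (f'.left ≫ U.ι)
    infer_instance
  · rw [← hf']
    show IsClosedImmersion (f'.left ≫ U.ι)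
    infer_instance

end Groth.Agent.HopfRep.CentNorm

end
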