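import Groth.Agent.HopfRep.ProjComod
import Mathlib

/-!
A central `𝔾ₘ` in an affine group has a character of the group restricting to a positive power.
-/

universe u

open TensorProduct

noncomputable section

namespace Groth.Agent.HopfRep.CentralChar

variable {k : Type u} [Field k]

section Idem

variable {R : Type*} [CommRing R] {ι : Type*} [Fintype ι] [DecidableEq ι]

/-- `x` on the image of the idempotent `p`, the identity on its kernel -/
def mix (p x : Matrix ι ι R) : Matrix ι ι R := x * p + (1 - p)

theorem mix_mul {p x y : Matrix ι ι R} (hp : p * p = p) (hy : p * y = y * p) :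
    mix p (x * y) = mix p x * mix p y := by
  have h1 : p * (y * p) = y * p := by rw [← hy, ← mul_assoc, hp]
  have h2 : (1 - p) * (y * p) = 0 := by rw [sub_mul, one_mul, h1, sub_self]
  have h3 : p * (1 - p) = 0 := by rw [mul_sub, mul_one, hp, sub_self]
  have h4 : (1 - p) * (1 - p) = 1 - p := by rw [sub_mul, one_mul, h3, sub_zero]
  simp only [mix, add_mul, mul_add, h2, h4, zero_add, mul_assoc, h1, h3, mul_zero, add_zero]

theorem mix_one (p : Matrix ι ι R) : mix p 1 = 1 := by rw [mix, one_mul, add_sub_cancel]

theorem mix_map {S : Type*} [CommRing S] (φ : R →+* S) (p x : Matrix ι ι R) :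
    (mix p x).map φ = mix (p.map φ) (x.map φ) := by
  rw [mix, mix, Matrix.map_add φ (map_add φ), Matrix.map_mul, Matrix.map_sub φ (map_sub φ),
    Matrix.map_one φ (map_zero φ) (map_one φ)]

end Idem

/-- the Laurent polynomial ring -/
abbrev B (k : Type u) [Field k] : Type u := MonoidAlgebra k (Multiplicative ℤ)

/-- coefficient functional -/
def cf (m : Multiplicative ℤ) : B k →ₗ[k] k :=
  { toFun := fun z => z.coeff m
    map_add' := fun _ _ => rfl
    map_smul' := fun _ _ => rfl }

theorem cf_apply (m : Multiplicative ℤ) (z : B k) : cf m z = z.coeff m := rfl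

theorem cf_cf_comul (a b : Multiplicative ℤ) (z : B k) :
    TensorProduct.lid k k (TensorProduct.map (cf a) (cf b) (Coalgebra.comul (R := k) z)) =
      if a = b then cf a z else 0 := by
  induction z using MonoidAlgebra.induction_linear with
  | zero => simp
  | add z z' hz hz' => rw [map_add, map_add, map_add, hz, hz', map_add]; split_ifs <;> simp
  | single m t =>
    simp only [MonoidAlgebra.comul_single, CommSemiring.comul_apply, TensorProduct.map_tmul, LinearMap.coe_comp,
      Function.comp_apply, MonoidAlgebra.lsingle_apply, TensorProduct.lid_tmul, cf_apply, MonoidAlgebra.coeff_single,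
      Finsupp.single_apply, smul_eq_mul]
    by_cases ha : m = a <;> by_cases hb : m = b <;> simp_all
    exact fun h => absurd h.symm ha

variable [IsAlgClosed k] {A : Type u} [CommRing A] [HopfAlgebra k A]

theorem exists_groupLike (π : A →ₐ[k] B k)
    (hπc : ∀ a, Coalgebra.comul (R := k) (π a) = Algebra.TensorProduct.map π π (Coalgebra.comul (R := k) a))
    (hπe : ∀ a, Coalgebra.counit (R := k) (π a) = Coalgebra.counit (R := k) a)
    (hcent : ∀ a, π.toLinearMap.rTensor A (Coalgebra.comul (R := k) a) =
      π.toLinearMap.rTensor A (TensorProduct.comm k A A (Coalgebra.comul (R := k) a)))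
    (n₀ : ℤ) (hn₀ : n₀ ≠ 0) (a₀ : A) (ha₀ : cf (Multiplicative.ofAdd n₀) (π a₀) ≠ 0) :
    ∃ (g : A) (n : ℕ), 1 ≤ n ∧ IsGroupLikeElem k g ∧
      π g = MonoidAlgebra.single (Multiplicative.ofAdd (n : ℤ)) 1 := by
  classical
  have hdim : ringKrullDim k ≤ 2 := by rw [ringKrullDim_eq_zero_of_field]; norm_num
  obtain ⟨d, c, hc1, hc2, hc3⟩ := ProjComod.exists_corep (R := k) hdim {a₀}
  let m₀ := Multiplicative.ofAdd n₀
  let P : Matrix (Fin d) (Fin d) k := Matrix.of fun i j => cf m₀ (π (c i j))
  -- some entry has a nonzero coefficient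
  have hP0 : P ≠ 0 := by
    intro h
    apply ha₀
    have : Submodule.span k (Set.range fun p : Fin d × Fin d => c p.1 p.2) ≤
        LinearMap.ker (cf m₀ ∘ₗ π.toLinearMap) := by
      rw [Submodule.span_le]
      rintro _ ⟨⟨i, j⟩, rfl⟩
      exact congrFun (congrFun h i) j
    exact this (hc3 (by simp))
  have hPP : ∀ a i j, ∑ l, cf a (π (c i l)) * P l j = if a = m₀ then cf a (π (c i j)) else 0 := by
    intro a i j
    rw [← cf_cf_comul, hπc, hc1]
    simp only [map_sum, Algebra.TensorProduct.map_tmul, TensorProduct.map_tmul, TensorProduct.lid_tmul]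
    exact Finset.sum_congr rfl fun l _ => by simp [P]
  have hPidem : P * P = P := Matrix.ext fun i j => by
    rw [Matrix.mul_apply]
    exact (hPP m₀ i j).trans (by simp [P])
  have hPc : P.map (algebraMap k A) * c = c * P.map (algebraMap k A) := Matrix.ext fun i j => by
    simp only [Matrix.mul_apply, Matrix.map_apply]
    have h := congrArg (fun z => TensorProduct.lid k A ((cf m₀).rTensor A z)) (hcent (c i j))
    simp only [hc1, map_sum, TensorProduct.comm_tmul, LinearMap.rTensor_tmul, TensorProduct.lid_tmul,
      AlgHom.toLinearMap_apply, Algebra.smul_def] at h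
    refine Eq.trans ?_ (h.trans ?_)
    · exact Finset.sum_congr rfl fun l _ => rfl
    · exact Finset.sum_congr rfl fun l _ => mul_comm _ _
  let g : A := (mix (P.map (algebraMap k A)) c).det
  have hP2 : ∀ {R : Type u} [CommRing R] [Algebra k R],
      P.map (algebraMap k R) * P.map (algebraMap k R) = P.map (algebraMap k R) := by
    intro R _ _
    rw [← Matrix.map_mul, hPidem]
  have hPmap : ∀ {R S : Type u} [CommRing R] [Algebra k R] [CommRing S] [Algebra k S] (φ : R →ₐ[k] S),
      (P.map (algebraMap k R)).map φ.toRingHom = P.map (algebraMap k S) := by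
    intro R S _ _ _ _ φ
    ext i j
    exact φ.commutes _
  have hdet : ∀ {R : Type u} [CommRing R] [Algebra k R] (φ : A →ₐ[k] R),
      φ g = (mix (P.map (algebraMap k R)) (c.map φ)).det := by
    intro R _ _ φ
    show φ.toRingHom g = _
    rw [RingHom.map_det, RingHom.mapMatrix_apply, mix_map, hPmap]
    rfl
  have hgl : IsGroupLikeElem k g := by
    refine ⟨?_, ?_⟩
    · have h := hdet (Bialgebra.counitAlgHom k A)
      rw [show c.map (Bialgebra.counitAlgHom k A) = 1 from Matrix.ext fun i j => by
        simp [hc2, Matrix.one_apply], mix_one, Matrix.det_one] at h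
      exact h
    · have h := hdet (Bialgebra.comulAlgHom k A)
      let inl : A →ₐ[k] A ⊗[k] A := Algebra.TensorProduct.includeLeft
      let inr : A →ₐ[k] A ⊗[k] A := Algebra.TensorProduct.includeRight
      rw [show c.map (Bialgebra.comulAlgHom k A) = c.map inl * c.map inr from Matrix.ext fun i j => by
        simp [hc1, Matrix.mul_apply, inl, inr],
        mix_mul hP2, Matrix.det_mul, ← hdet inl, ← hdet inr] at h
      · simpa [inl, inr] using h
      · have h' := congrArg (fun M : Matrix (Fin d) (Fin d) A => M.map inr.toRingHom) hPc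
        simp only [Matrix.map_mul] at h'
        rwa [hPmap] at h'
  have hπg : IsGroupLikeElem k (π g) := by
    refine ⟨(hπe g).trans hgl.counit_eq_one, ?_⟩
    rw [hπc, hgl.comul_eq_tmul_self, Algebra.TensorProduct.map_tmul]
  obtain ⟨m, hm⟩ := MonoidAlgebra.isGroupLikeElem_iff_mem_range_single_one.1 hπg
  have hTP : c.map π * P.map (algebraMap k (B k)) =
      MonoidAlgebra.single m₀ (1 : k) • P.map (algebraMap k (B k)) := Matrix.ext fun i j => by
    refine MonoidAlgebra.ext (Finsupp.ext fun a => ?_)
    simp only [Matrix.mul_apply, Matrix.map_apply, Matrix.smul_apply, smul_eq_mul, MonoidAlgebra.coe_algebraMap,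
      Function.comp_apply, Algebra.algebraMap_self, RingHom.id_apply, MonoidAlgebra.single_mul_single, one_mul,
      mul_one, MonoidAlgebra.coeff_sum, Finsupp.finsetSum_apply]
    have : ∀ (z : B k) (r : k), (z * MonoidAlgebra.single 1 r).coeff a = cf a z * r := fun z r => by
      simp [cf_apply]
    simp only [this]
    rw [hPP a i j, MonoidAlgebra.coeff_single, Finsupp.single_apply]
    by_cases ha : a = m₀
    · simp [ha, P]
    · rw [if_neg ha, if_neg (Ne.symm ha)]
  have hm0 : Multiplicative.toAdd m ≠ 0 := by
    intro h0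
    have hm1 : m = 1 := h0
    -- evaluate at every nonzero scalar
    have hev : ∀ w : k, w ≠ 0 → (w • P + (1 - P)).det = 1 := by
      intro w hw
      obtain ⟨u, hu⟩ : ∃ u : kˣ, (u : k) ^ n₀ = w := by
        obtain ⟨z, hz⟩ := IsAlgClosed.exists_pow_nat_eq w (Int.natAbs_pos.2 hn₀)
        have hz0 : z ≠ 0 := fun h => hw (by rw [← hz, h, zero_pow (Int.natAbs_ne_zero.2 hn₀)])
        rcases Int.natAbs_eq n₀ with h | h
        · exact ⟨Units.mk0 z hz0, by rw [h, Units.val_mk0, zpow_natCast, hz]⟩
        · exact ⟨(Units.mk0 z hz0)⁻¹, by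
            rw [h, Units.val_inv_eq_inv_val, Units.val_mk0, zpow_neg, zpow_natCast, inv_pow, inv_inv, hz]⟩
      let χ : Multiplicative ℤ →* k := (Units.coeHom k).comp (zpowersHom kˣ u)
      let ev : B k →ₐ[k] k := MonoidAlgebra.lift k k (Multiplicative ℤ) χ
      have h := hdet (ev.comp π)
      rw [AlgHom.comp_apply, ← hm, hm1] at h
      have hmap : mix (P.map (algebraMap k k)) (c.map (ev.comp π)) = w • P + (1 - P) := by
        have h2 := congrArg (fun M : Matrix (Fin d) (Fin d) (B k) => M.map ev.toRingHom) hTP
        simp only [Matrix.map_mul, hPmap, Matrix.map_map] at h2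
        rw [mix, show c.map (ev.comp π) = c.map (ev.toRingHom ∘ π) from rfl, h2]
        ext i j
        simp [ev, χ, m₀, hu, mul_comm]
      rw [hmap] at h
      simpa [ev] using h.symm
    let q : Polynomial k := ((Polynomial.X : Polynomial k) • P.map Polynomial.C + (1 - P.map Polynomial.C)).det - 1
    have hq : ∀ w : k, q.eval w = (w • P + (1 - P)).det - 1 := fun w => by
      show (Polynomial.evalRingHom w) q = _
      rw [map_sub, map_one, RingHom.map_det, RingHom.mapMatrix_apply]
      congr 2
      ext i j
      simp [Matrix.one_apply, apply_ite (Polynomial.eval w)]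
      ring
    have hq0 : q = 0 := q.eq_zero_of_infinite_isRoot ((Set.finite_singleton (0 : k)).infinite_compl.mono
      fun w hw => by rw [Set.mem_ofPred_eq, Polynomial.IsRoot, hq, hev w hw, sub_self])
    have h1 : (1 - P).det = 1 := by
      have := hq 0
      rw [hq0, Polynomial.eval_zero, zero_smul, zero_add] at this
      exact sub_eq_zero.1 this.symm
    have hu : IsUnit (1 - P) := (Matrix.isUnit_iff_isUnit_det _).2 (by rw [h1]; exact isUnit_one)
    refine hP0 (hu.mul_right_eq_zero.1 ?_)
    rw [sub_mul, one_mul, hPidem, sub_self]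
  rcases Int.natAbs_eq (Multiplicative.toAdd m) with h | h
  · exact ⟨g, (Multiplicative.toAdd m).natAbs, by omega, hgl, by rw [← hm, ← h, ofAdd_toAdd]⟩
  · refine ⟨HopfAlgebraStruct.antipode (R := k) g, (Multiplicative.toAdd m).natAbs, by omega, hgl.antipode, ?_⟩
    have h1 := congrArg π hgl.mul_antipode_cancel
    rw [map_mul, ← hm, map_one] at h1
    have h2 : MonoidAlgebra.single (Multiplicative.ofAdd ((Multiplicative.toAdd m).natAbs : ℤ)) (1 : k) *
        MonoidAlgebra.single m 1 = 1 := by
      rw [MonoidAlgebra.single_mul_single, one_mul, MonoidAlgebra.one_def]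
      congr 1
      apply Multiplicative.toAdd.injective
      rw [toAdd_mul, toAdd_ofAdd, toAdd_one]
      omega
    exact (left_inv_eq_right_inv h2 h1).symm

end Groth.Agent.HopfRep.CentralChar

end
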