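import Groth.Agent.HopfRep.CharHom
import Groth.Agent.HopfRep.TrivLocus

/-!
Subgroups of multiplicative type, one of them central, which agree modulo a nilpotent ideal are equal.
-/

universe u

open CategoryTheory MonoidalCategory CartesianMonoidalCategory MonObj AlgebraicGeometry Limits

set_option linter.style.haveILetI false

noncomputable section

namespace Groth.Agent.HopfRep.CentralEq

open DiagRigid CharHom

theorem exists_charPts {S U : Scheme.{u}} {h : U ⟶ S} {G : Over S} [GrpObj G] {M : Type} [AddCommGroup M]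
    (e : Grp.mk (Red.bc h G) ≅ Grp.mk (Red.DS U M)) {K : Type u} [CommRing K]
    {s : Spec (CommRingCat.of K) ⟶ S} (sU : Spec (CommRingCat.of K) ⟶ U) (hs : sU ≫ h = s) :
    ∃ P : CharPts (𝟙 (Spec (CommRingCat.of K))) M (Red.bc s G), Inj P := by
  subst hs
  refine ⟨bcPts _ (charPts h e sU), bcPts_inj _ _ fun L _ _ χ χ' hh => ?_⟩
  exact FreeDiag.pt₀_injective h e _ ((cancel_epi (jIso h sU L).hom).1 hh)

theorem exists_factor_of_bc {S S' : Scheme.{u}} (f : S' ⟶ S) {H H' G : Over S} (i : H ⟶ G) (i' : H' ⟶ G)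
    (ψ : Red.bc f H ⟶ Red.bc f H') (hψ : ψ ≫ (Over.pullback f).map i' = (Over.pullback f).map i)
    (Y : Over S) (q : Y ⟶ Over.mk f) (a : Y ⟶ H) : ∃ a', a' ≫ i' = a ≫ i := by
  let Y' : Over S' := Over.mk q.left
  let j : (Over.map f).obj Y' ⟶ Y := Over.homMk (𝟙 _) (by simpa [Y'] using (Over.w q).symm)
  have : IsIso j := by
    have : IsIso ((Over.forget S).map j) := inferInstanceAs (IsIso (𝟙 _))
    exact isIso_of_reflects_iso j (Over.forget S)
  let φ := fun (Z : Over S) => (Over.mapPullbackAdj f).homEquiv Y' Z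
  refine ⟨inv j ≫ (φ H').symm (φ H (j ≫ a) ≫ ψ), ?_⟩
  rw [Category.assoc, ← Adjunction.homEquiv_naturality_right_symm, Category.assoc, hψ,
    Adjunction.homEquiv_naturality_right_symm, Equiv.symm_apply_apply, Category.assoc, IsIso.inv_hom_id_assoc]

/-- `i` factors through `i'` if it does modulo a nilpotent ideal and the images commute. -/
theorem exists_factor {R : Type u} [CommRing R] (J : Ideal R) (hJ : IsNilpotent J)
    {G H H' : Over (Spec (CommRingCat.of R))} [GrpObj G] [GrpObj H] [GrpObj H']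
    (hH : TwC.Locally (Spec (CommRingCat.of R)) TwC.Topology.fpqc (fun S' f => ∃ (M : Type) (_ : AddCommGroup M), Nonempty (Grp.mk (Red.bc f H) ≅ Grp.mk (Red.DS S' M))))
    (hH' : TwC.Locally (Spec (CommRingCat.of R)) TwC.Topology.fpqc (fun S' f => ∃ (M : Type) (_ : AddCommGroup M), Nonempty (Grp.mk (Red.bc f H') ≅ Grp.mk (Red.DS S' M))))
    (i : H ⟶ G) [IsMonHom i] (i' : H' ⟶ G) [IsMonHom i'] [Mono i'.left]
    (hc : ∀ (Y : Over (Spec (CommRingCat.of R))) (h' : Y ⟶ H') (h : Y ⟶ H),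
      (h' ≫ i') * (h ≫ i) = (h ≫ i) * (h' ≫ i'))
    (h0 : ∀ (Y : Over (Spec (CommRingCat.of R))) (_ : Y ⟶ Over.mk (Spec.map (CommRingCat.ofHom (Ideal.Quotient.mk J))))
      (a : Y ⟶ H), ∃ a', a' ≫ i' = a ≫ i) :
    ∃ v : H ⟶ H', v ≫ i' = i := by
  have : Mono i' := Over.mono_of_mono_left i'
  let φ := pullback.fst i.left i'.left
  have hiso : ∀ {Z : Scheme.{u}} (z : Z ⟶ H.left), (∃ l, l ≫ i'.left = z ≫ i.left) → IsIso (pullback.snd φ z) := by
    rintro Z z ⟨l, hl⟩
    refine ⟨pullback.lift (pullback.lift z l hl.symm) (𝟙 _) (by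
      show pullback.lift z l hl.symm ≫ pullback.fst _ _ = 𝟙 _ ≫ z
      rw [pullback.lift_fst, Category.id_comp]), ?_, pullback.lift_snd _ _ _⟩
    exact (cancel_mono (pullback.snd φ z)).1
      (by rw [Category.assoc, pullback.lift_snd, Category.comp_id, Category.id_comp])
  have main : IsIso φ := by
    refine FpqcCover.descend (Q := MorphismProperty.isomorphisms Scheme.{u}) hH φ H.hom ?_
    intro S₁ f₁ U₁ hU₁ R₁ a₁
    obtain ⟨M, _, ⟨e⟩⟩ := hU₁
    let z₁ := pullback.fst H.hom (a₁ ≫ U₁.ι ≫ f₁)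
    refine FpqcCover.descend (Q := MorphismProperty.isomorphisms Scheme.{u}) hH' (pullback.snd φ z₁) (z₁ ≫ H.hom) ?_
    intro S₂ f₂ U₂ hU₂ R₂ a₂
    obtain ⟨M', _, ⟨e'⟩⟩ := hU₂
    let z₂ := pullback.fst (z₁ ≫ H.hom) (a₂ ≫ U₂.ι ≫ f₂)
    show IsIso (pullback.snd (pullback.snd φ z₁) z₂)
    suffices IsIso (pullback.snd φ (z₂ ≫ z₁)) by
      rw [← pullbackLeftPullbackSndIso_hom_snd]
      infer_instance
    apply hiso
    let Z : Over (Spec (CommRingCat.of R)) := Over.mk ((z₂ ≫ z₁) ≫ H.hom)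
    let a : Z ⟶ H := Over.homMk (z₂ ≫ z₁) rfl
    suffices ∀ (j : Z.left.affineOpenCover.openCover.I₀), ∃ l : Z.left.affineOpenCover.openCover.X j ⟶ H'.left,
        l ≫ i'.left = Z.left.affineOpenCover.openCover.f j ≫ a.left ≫ i.left by
      choose l hl using this
      refine ⟨Z.left.affineOpenCover.openCover.glueMorphisms l fun j k => ?_, ?_⟩
      · rw [← cancel_mono i'.left, Category.assoc, Category.assoc, hl, hl, pullback.condition_assoc]
      · refine Z.left.affineOpenCover.openCover.hom_ext _ _ fun j => ?_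
        rw [← Category.assoc, Scheme.Cover.ι_glueMorphisms]
        exact hl j
    intro j
    let L : Type u := Z.left.affineOpenCover.X j
    let zj : Spec (CommRingCat.of L) ⟶ Z.left := Z.left.affineOpenCover.f j
    let s : Spec (CommRingCat.of L) ⟶ Spec (CommRingCat.of R) := zj ≫ Z.hom
    obtain ⟨P, hP⟩ := exists_charPts e (s := s) (zj ≫ z₂ ≫ pullback.snd H.hom (a₁ ≫ U₁.ι ≫ f₁) ≫ a₁) (by
      show _ = zj ≫ (z₂ ≫ z₁) ≫ H.hom
      simp only [Category.assoc]
      rw [show z₁ ≫ H.hom = pullback.snd H.hom (a₁ ≫ U₁.ι ≫ f₁) ≫ a₁ ≫ U₁.ι ≫ f₁ from pullback.condition])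
    obtain ⟨P', hP'⟩ := exists_charPts e' (s := s) (zj ≫ pullback.snd (z₁ ≫ H.hom) (a₂ ≫ U₂.ι ≫ f₂) ≫ a₂) (by
      show _ = zj ≫ (z₂ ≫ z₁) ≫ H.hom
      simp only [Category.assoc]
      rw [show z₂ ≫ z₁ ≫ H.hom = pullback.snd (z₁ ≫ H.hom) (a₂ ≫ U₂.ι ≫ f₂) ≫ a₂ ≫ U₂.ι ≫ f₂ from
        pullback.condition])
    have : IsAffineHom H.hom := FreeDiag.isAffineHom_of_multType hH
    have : IsAffine (Red.bc s H).left := by
      have : IsAffineHom (Red.bc s H).hom := by
        show IsAffineHom (pullback.snd H.hom s)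
        infer_instance
      exact isAffine_of_isAffineHom (Red.bc s H).hom
    have : Mono ((Over.pullback s).map i') :=
      have := (Over.mapPullbackAdj s).rightAdjoint_preservesLimits
      inferInstance
    let adj := Over.mapPullbackAdj s
    have hc' : ∀ (Y : Over (Spec (CommRingCat.of L))) (h' : Y ⟶ Red.bc s H') (h : Y ⟶ Red.bc s H),
        (h' ≫ (Over.pullback s).map i') * (h ≫ (Over.pullback s).map i) =
          (h ≫ (Over.pullback s).map i) * (h' ≫ (Over.pullback s).map i') := by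
      intro Y h' h
      obtain ⟨b', rfl⟩ := (adj.homEquiv Y H').surjective h'
      obtain ⟨b, rfl⟩ := (adj.homEquiv Y H).surjective h
      rw [← adj.homEquiv_naturality_right, ← adj.homEquiv_naturality_right, ← homEquiv_mul', ← homEquiv_mul', hc]
    obtain ⟨n, hn⟩ := hJ
    have hJL : IsNilpotent (J.map (Spec.preimage s).hom) :=
      ⟨n, by rw [← Ideal.map_pow, hn, Ideal.zero_eq_bot, Ideal.map_bot, Ideal.zero_eq_bot]⟩
    obtain ⟨v, hv⟩ := CharHom.exists_factor P P' hP hP' ((Over.pullback s).map i) ((Over.pullback s).map i') hc' hJL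
      (fun L' _ _ hL' b => by
        let θ : R →+* L' := (algebraMap L L').comp (Spec.preimage s).hom
        let θ₀ : R ⧸ J →+* L' := Ideal.Quotient.lift J θ fun r hr => by
          rw [← Ideal.mem_bot (R := L'), ← hL']
          exact Ideal.mem_map_of_mem _ (Ideal.mem_map_of_mem _ hr)
        have hθ : CommRingCat.ofHom (Ideal.Quotient.mk J) ≫ CommRingCat.ofHom θ₀ =
            Spec.preimage s ≫ CommRingCat.ofHom (algebraMap L L') := by
          ext r
          rfl
        obtain ⟨a', ha'⟩ := h0 ((Over.map s).obj (Tp (K := L) L'))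
          (Over.homMk (Spec.map (CommRingCat.ofHom θ₀)) (by
            show _ ≫ Spec.map _ = (Spec.map _ ≫ 𝟙 _) ≫ s
            rw [← Spec.map_comp, hθ, Spec.map_comp, Category.comp_id, Spec.map_preimage]))
          ((adj.homEquiv _ _).symm b)
        refine ⟨adj.homEquiv _ _ a', ?_⟩
        rw [← adj.homEquiv_naturality_right, ha', adj.homEquiv_naturality_right, Equiv.apply_symm_apply])
    let d : Over.mk (𝟙 (Spec (CommRingCat.of L))) ⟶ Red.bc s H :=
      adj.homEquiv _ _ (Over.homMk (zj ≫ a.left) (by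
        show (_ ≫ _) ≫ _ = 𝟙 _ ≫ s
        rw [Category.id_comp]
        exact (Category.assoc _ _ _).trans (congrArg (zj ≫ ·) (Over.w a))))
    refine ⟨((adj.homEquiv _ _).symm (d ≫ v)).left, ?_⟩
    have h1 : (adj.homEquiv _ _).symm (d ≫ v) ≫ i' = (adj.homEquiv _ _).symm d ≫ i := by
      rw [← adj.homEquiv_naturality_right_symm, Category.assoc, hv, adj.homEquiv_naturality_right_symm]
    refine (congrArg Over.Hom.left h1).trans ?_
    rw [Equiv.symm_apply_apply]
    exact Category.assoc _ _ _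
  refine ⟨Over.homMk (inv φ ≫ pullback.snd i.left i'.left) ?_, ?_⟩
  · rw [← Over.w i', Category.assoc, ← pullback.condition_assoc, IsIso.inv_hom_id_assoc, Over.w i]
  · ext1
    show (_ ≫ _) ≫ _ = _
    rw [Category.assoc, ← pullback.condition, IsIso.inv_hom_id_assoc]

end Groth.Agent.HopfRep.CentralEq

end
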