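import Groth.Agent.HopfRep.DiagRigid
import Groth.Agent.HopfRep.FpqcCover
import Groth.Agent.HopfRep.EssFreeSGA
import Groth.Agent.Fpqc.Descent
import Mathlib.RingTheory.Ideal.Quotient.Operations
import Mathlib.GroupTheory.QuotientGroup.Defs
import Mathlib.Order.Zorn

/-!
The graph of a free action of a group of multiplicative type on an affine scheme is a closed immersion.
Algebraically: for every `m` the homogeneous elements of degree `m` generate the unit ideal, because a maximal
proper homogeneous ideal has a group as support, and freeness forces that group to be everything.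
-/

universe u

open CategoryTheory MonoidalCategory CartesianMonoidalCategory MonObj AlgebraicGeometry Limits
open scoped TensorProduct

set_option linter.style.haveILetI false

noncomputable section

namespace Groth.Agent.HopfRep.FreeDiag

open DiagRigid Misc9.MagnetPts

section Graded

variable {R A : Type u} [CommRing R] [CommRing A] [Algebra R A] {M : Type} [AddCommGroup M]
  (ρ : A →ₐ[R] MonoidAlgebra A (Multiplicative M))

/-- homogeneous elements -/
def homog (n : Multiplicative M) : Set A := {c | ρ c = MonoidAlgebra.single n c}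

/-- all homogeneous elements -/
def allHomog : Set A := {c | ∃ n, c ∈ homog ρ n}

theorem coeff_mul_mem {T : Set A} (hT : T ⊆ allHomog ρ) {t : A} (ht : t ∈ Ideal.span T) (k : Multiplicative M) :
    (ρ t).coeff k ∈ Ideal.span T := by
  induction ht using Submodule.span_induction generalizing k with
  | mem x hx =>
    obtain ⟨n, hn⟩ := hT hx
    rw [show ρ x = MonoidAlgebra.single n x from hn]
    by_cases h : n = k
    · subst h; simp only [MonoidAlgebra.coeff_single, Finsupp.single_eq_same]; exact Ideal.subset_span hx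
    · simp [h, Ne.symm h]
  | zero => simp
  | add x y _ _ hx hy => simpa using Ideal.add_mem _ (hx k) (hy k)
  | smul r x _ hx =>
    rw [smul_eq_mul, map_mul]
    have key : ∀ z : MonoidAlgebra A (Multiplicative M), ∀ k, (z * ρ x).coeff k ∈ Ideal.span T := by
      intro z
      induction z using MonoidAlgebra.induction_linear with
      | zero => intro k; simp
      | add u v hu hv => intro k; simpa [add_mul] using Ideal.add_mem _ (hu k) (hv k)
      | single n d =>
        intro k
        rw [MonoidAlgebra.coeff_single_mul_apply]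
        exact Ideal.mul_mem_left _ _ (hx _)
    exact key (ρ r) k

/-- The homogeneous elements of each degree generate the unit ideal. -/
theorem span_homog_eq_top
    (hassoc : ∀ c m, ρ ((ρ c).coeff m) = MonoidAlgebra.single m ((ρ c).coeff m))
    (hone : ∀ c, evMap (1 : Multiplicative M →* A) (AlgHom.id R A) (ρ c) = c)
    (hfree : ∀ (K : Type u) [CommRing K] [Algebra R K] (χ : Multiplicative M →* K) (α : A →ₐ[R] K),
      (∀ c, evMap χ α (ρ c) = α c) → χ = 1)
    (m : Multiplicative M) : Ideal.span (homog ρ m) = ⊤ := by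
  classical
  by_contra hm
  let P : Set (Ideal A) := {q | q ≠ ⊤ ∧ q = Ideal.span ((q : Set A) ∩ allHomog ρ)}
  have hI : Ideal.span (homog ρ m) ∈ P := ⟨hm, le_antisymm
    (Ideal.span_mono fun c hc => Set.mem_inter (Ideal.subset_span hc) ⟨m, hc⟩)
    (Ideal.span_le.2 Set.inter_subset_left)⟩
  obtain ⟨q, hIq, hq⟩ := zorn_le_nonempty₀ P (fun C hC hchain y hy => by
    refine ⟨sSup C, ⟨?_, le_antisymm ?_ (Ideal.span_le.2 Set.inter_subset_left)⟩, fun z hz => le_sSup hz⟩
    · intro htop
      have h1 : (1 : A) ∈ sSup C := by rw [htop]; trivial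
      obtain ⟨z, hz, h1z⟩ := (Submodule.mem_sSup_of_directed ⟨y, hy⟩ hchain.directedOn).1 h1
      exact (hC hz).1 ((Ideal.eq_top_iff_one z).2 h1z)
    · refine sSup_le fun z hz => ?_
      rw [(hC hz).2]
      exact Ideal.span_mono (Set.inter_subset_inter_left _ (SetLike.coe_subset_coe.2 (le_sSup hz)))) _ hI
  have hqP : q ∈ P := hq.1
  have hqtop : q ≠ ⊤ := hqP.1
  have hqspan := hqP.2
  have hcoeff : ∀ t ∈ q, ∀ k, (ρ t).coeff k ∈ q := by
    intro t ht k
    rw [hqspan] at ht ⊢
    exact coeff_mul_mem ρ Set.inter_subset_right ht k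
  -- homogeneous elements outside `q` are invertible modulo `q`
  have hinv : ∀ n, ∀ x ∈ homog ρ n, x ∉ q → ∃ y ∈ homog ρ n⁻¹, 1 - y * x ∈ q := by
    intro n x hx hxq
    have htop : q ⊔ Ideal.span {x} = ⊤ := by
      by_contra h
      have hmem : q ⊔ Ideal.span {x} ∈ P := ⟨h, le_antisymm (sup_le
        (hqspan.le.trans (Ideal.span_mono (Set.inter_subset_inter_left _ (SetLike.coe_subset_coe.2 le_sup_left))))
        (Ideal.span_mono (Set.singleton_subset_iff.2 ⟨Ideal.mem_sup_right (Ideal.subset_span rfl), n, hx⟩)))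
        (Ideal.span_le.2 Set.inter_subset_left)⟩
      exact hxq (hq.2 hmem le_sup_left (Ideal.mem_sup_right (Ideal.subset_span rfl)))
    obtain ⟨t, ht, _, hu, htu⟩ := Submodule.mem_sup.1 ((Ideal.eq_top_iff_one _).1 htop)
    obtain ⟨r, rfl⟩ := Ideal.mem_span_singleton'.1 hu
    refine ⟨(ρ r).coeff n⁻¹, hassoc r _, ?_⟩
    have h1 := congrArg (fun z : MonoidAlgebra A (Multiplicative M) => z.coeff 1) (congrArg ρ htu)
    simp only [map_add, map_mul, map_one, show ρ x = MonoidAlgebra.single n x from hx, MonoidAlgebra.coeff_add,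
      Finsupp.add_apply, MonoidAlgebra.coeff_mul_single_apply, _root_.one_mul, MonoidAlgebra.one_def,
      MonoidAlgebra.coeff_single, Finsupp.single_eq_same] at h1
    rw [← h1, add_sub_cancel_right]
    exact hcoeff t ht 1
  let N : Subgroup (Multiplicative M) :=
    { carrier := {n | ∃ x ∈ homog ρ n, x ∉ q}
      mul_mem' := by
        rintro n n' ⟨x, hx, hxq⟩ ⟨x', hx', hxq'⟩
        refine ⟨x * x', ?_, fun h => hxq' ?_⟩
        · show ρ _ = _
          rw [map_mul, show ρ x = _ from hx, show ρ x' = _ from hx', MonoidAlgebra.single_mul_single]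
        · obtain ⟨y, -, hy⟩ := hinv n x hx hxq
          have : x' = (1 - y * x) * x' + y * (x * x') := by ring
          rw [this]
          exact Ideal.add_mem _ (Ideal.mul_mem_right _ _ hy) (Ideal.mul_mem_left _ _ h)
      one_mem' := ⟨1, by show ρ 1 = _; rw [map_one]; rfl, fun h => hqtop ((Ideal.eq_top_iff_one q).2 h)⟩
      inv_mem' := by
        rintro n ⟨x, hx, hxq⟩
        obtain ⟨y, hy, hyq⟩ := hinv n x hx hxq
        refine ⟨y, hy, fun h => hqtop ((Ideal.eq_top_iff_one q).2 ?_)⟩
        have : (1 : A) = (1 - y * x) + y * x := by ring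
        rw [this]
        exact Ideal.add_mem _ hyq (Ideal.mul_mem_right _ _ h) }
  have hmN : m ∉ N := fun ⟨x, hx, hxq⟩ => hxq (hIq (Ideal.subset_span hx))
  let K := MonoidAlgebra (A ⧸ q) (Multiplicative M ⧸ N)
  let qr : A →ₐ[R] A ⧸ q := Ideal.Quotient.mkₐ R q
  let α : A →ₐ[R] K := (incl : (A ⧸ q) →ₐ[R] MonoidAlgebra (A ⧸ q) (Multiplicative M)).comp qr |>
    (MonoidAlgebra.mapDomainAlgHom R (A ⧸ q) (QuotientGroup.mk' N)).comp
  let χ : Multiplicative M →* K := (MonoidAlgebra.of (A ⧸ q) (Multiplicative M ⧸ N)).comp (QuotientGroup.mk' N)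
  have hα : ∀ c, α c = MonoidAlgebra.single (1 : Multiplicative M ⧸ N) (qr c) := by
    intro c
    show MonoidAlgebra.mapDomainAlgHom R (A ⧸ q) (QuotientGroup.mk' N) (MonoidAlgebra.single 1 (qr c)) = _
    simp
  have hfix : ∀ c, evMap χ α (ρ c) = α c := by
    intro c
    conv_rhs => rw [← hone c]
    have key : ∀ z : MonoidAlgebra A (Multiplicative M), (∀ n, ρ (z.coeff n) = MonoidAlgebra.single n (z.coeff n)) →
        evMap χ α z = α (evMap (1 : Multiplicative M →* A) (AlgHom.id R A) z) := by
      intro z hz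
      conv_lhs => rw [← MonoidAlgebra.sum_coeff_single z]
      conv_rhs => rw [← MonoidAlgebra.sum_coeff_single z]
      simp only [Finsupp.sum, map_sum, evMap_single]
      refine Finset.sum_congr rfl fun n _ => ?_
      simp only [MonoidHom.one_apply, _root_.mul_one, AlgHom.id_apply, hα, χ, MonoidHom.comp_apply,
        MonoidAlgebra.of_apply, MonoidAlgebra.single_mul_single, _root_.one_mul]
      by_cases hn : n ∈ N
      · rw [show (QuotientGroup.mk' N) n = 1 from (QuotientGroup.eq_one_iff n).2 hn]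
        exact (MonoidAlgebra.single_mul_single ..).trans (by rw [_root_.one_mul, _root_.mul_one])
      · have h0 : qr (z.coeff n) = 0 :=
          Ideal.Quotient.eq_zero_iff_mem.2 (by by_contra h; exact hn ⟨_, hz n, h⟩)
        simp [h0]
    exact key (ρ c) fun n => hassoc c n
  have h1 := DFunLike.congr_fun (hfree K χ α hfix) m
  have : Nontrivial (A ⧸ q) := Ideal.Quotient.nontrivial_iff.2 hqtop
  have h2 : MonoidAlgebra.single ((QuotientGroup.mk' N) m) (1 : A ⧸ q) = MonoidAlgebra.single 1 1 := h1
  exact hmN ((QuotientGroup.eq_one_iff m).1 ((MonoidAlgebra.single_left_inj one_ne_zero).1 h2))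

/-- The map `A ⊗ A → A[M]`, `c ⊗ d ↦ ρ c * d`. -/
def graphMap : A ⊗[R] A →ₐ[R] MonoidAlgebra A (Multiplicative M) :=
  Algebra.TensorProduct.lift ρ incl fun _ _ => Commute.all _ _

theorem graphMap_surjective
    (hspan : ∀ m, Ideal.span (homog ρ m) = ⊤) : Function.Surjective (graphMap ρ) := by
  intro z
  induction z using MonoidAlgebra.induction_linear with
  | zero => exact ⟨0, map_zero _⟩
  | add x y hx hy =>
    obtain ⟨a, rfl⟩ := hx
    obtain ⟨b, rfl⟩ := hy
    exact ⟨a + b, map_add _ _ _⟩
  | single m d =>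
    have hd : d ∈ Ideal.span (homog ρ m) := by rw [hspan]; trivial
    induction hd using Submodule.span_induction with
    | mem x hx =>
      refine ⟨x ⊗ₜ 1, ?_⟩
      rw [graphMap, Algebra.TensorProduct.lift_tmul, map_one, _root_.mul_one]
      exact hx
    | zero => exact ⟨0, by rw [map_zero, MonoidAlgebra.single_zero]⟩
    | add x y _ _ hx hy =>
      obtain ⟨a, ha⟩ := hx
      obtain ⟨b, hb⟩ := hy
      exact ⟨a + b, by rw [map_add, ha, hb, MonoidAlgebra.single_add]⟩
    | smul r x _ hx =>
      obtain ⟨a, ha⟩ := hx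
      refine ⟨a * (1 ⊗ₜ r), ?_⟩
      rw [map_mul, ha, graphMap, Algebra.TensorProduct.lift_tmul, map_one, _root_.one_mul, incl_apply,
        MonoidAlgebra.single_mul_single, _root_.mul_one, smul_eq_mul, mul_comm]

end Graded

theorem spec_lift_pullback {R A B : Type u} [CommRing R] [CommRing A] [CommRing B] [Algebra R A] [Algebra R B]
    {Z : Scheme.{u}} (x y : Z ⟶ Spec (CommRingCat.of A))
    (h : x ≫ Spec.map (CommRingCat.ofHom (algebraMap R A)) = y ≫ Spec.map (CommRingCat.ofHom (algebraMap R A)))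
    (m : Spec (CommRingCat.of B) ⟶ Z) (φ ψ : A →ₐ[R] B)
    (hx : m ≫ x = Spec.map (CommRingCat.ofHom φ.toRingHom)) (hy : m ≫ y = Spec.map (CommRingCat.ofHom ψ.toRingHom)) :
    m ≫ pullback.lift x y h ≫ (pullbackSpecIso R A A).hom =
      Spec.map (CommRingCat.ofHom (Algebra.TensorProduct.lift φ ψ fun _ _ => Commute.all _ _).toRingHom) := by
  rw [← Category.assoc, ← Iso.eq_comp_inv]
  apply pullback.hom_ext
  · rw [Category.assoc, pullback.lift_fst, hx, Category.assoc]
    erw [pullbackSpecIso_inv_fst]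
    rw [← Spec.map_comp, ← CommRingCat.ofHom_comp]
    congr 2
    ext c
    simp [Algebra.TensorProduct.algebraMap_apply]
  · rw [Category.assoc, pullback.lift_snd, hy, Category.assoc]
    erw [pullbackSpecIso_inv_snd]
    rw [← Spec.map_comp, ← CommRingCat.ofHom_comp]
    congr 2
    ext c
    simp

theorem chiPt_injective {S : Scheme.{u}} {N : Type} [AddCommMonoid N] {K : CommRingCat.{u}} (s : Spec K ⟶ S) :
    Function.Injective (chiPt (N := N) s) := by
  intro χ χ' h
  have h1 := congrArg (fun g => Over.Hom.left g ≫ pullback.fst _ _) h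
  erw [chiPt_left_fst, chiPt_left_fst] at h1
  refine MonoidHom.ext fun n => ?_
  have h2 := RingHom.congr_fun (congrArg CommRingCat.Hom.hom (Spec.map_injective h1)) (MonoidAlgebra.single n 1)
  simpa [ev_single] using h2

theorem pt₀_injective {S U : Scheme.{u}} (h : U ⟶ S) {G : Over S} [GrpObj G] {M : Type} [AddCommGroup M]
    (e : Grp.mk (Red.bc h G) ≅ Grp.mk (Red.DS U M)) {K : CommRingCat.{u}} (t : Spec K ⟶ U) :
    Function.Injective (pt₀ h e t : (Multiplicative M →* K) → _) := by
  intro χ χ' hh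
  apply chiPt_injective t
  have h1 := ((Over.mapPullbackAdj h).homEquiv (Over.mk t) G).symm.injective hh
  have : Mono e.inv.hom.hom := inferInstanceAs (Mono ((Grp.forget _).mapIso e).inv)
  exact (cancel_mono e.inv.hom.hom).1 h1

set_option backward.isDefEq.respectTransparency.types false in
/-- Groups of multiplicative type are affine. -/
theorem isAffineHom_of_multType {S : Scheme.{u}} {G : Over S} [GrpObj G]
    (hG : TwC.Locally S TwC.Topology.fpqc
      (fun S' f => ∃ (M : Type) (_ : AddCommGroup M), Nonempty (Grp.mk (Red.bc f G) ≅ Grp.mk (Red.DS S' M)))) :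
    IsAffineHom G.hom := by
  have := Fpqc.Descent.isAffineHom.{u}
  refine FpqcCover.descend (Q := @IsAffineHom) hG G.hom (𝟙 S) ?_
  intro S' f U hU R b
  obtain ⟨M, _, ⟨e⟩⟩ := hU
  obtain ⟨_, π, h4⟩ := EssFreeSGA.exists_isPullback_multType G f U M e b
  have : IsAffineHom (Red.diag (ULift.{u} ℤ) M).hom :=
    inferInstanceAs (IsAffineHom (Spec.map (CommRingCat.ofHom (algebraMap (ULift.{u} ℤ) (MonoidAlgebra (ULift.{u} ℤ) (Multiplicative M))))))
  have h5 : IsAffineHom (pullback.snd G.hom (b ≫ U.ι ≫ f)) :=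
    MorphismProperty.of_isPullback (P := @IsAffineHom) h4 inferInstance
  have h6 : pullback.fst (𝟙 S) (b ≫ U.ι ≫ f) = pullback.snd (𝟙 S) (b ≫ U.ι ≫ f) ≫ b ≫ U.ι ≫ f := by
    rw [← pullback.condition, Category.comp_id]
  have h7 : IsAffineHom (pullback.snd G.hom (pullback.snd (𝟙 S) (b ≫ U.ι ≫ f) ≫ b ≫ U.ι ≫ f)) := by
    rw [← MorphismProperty.cancel_left_of_respectsIso @IsAffineHom
      (pullbackLeftPullbackSndIso G.hom (b ≫ U.ι ≫ f) (pullback.snd (𝟙 S) (b ≫ U.ι ≫ f))).hom,
      pullbackLeftPullbackSndIso_hom_snd]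
    exact MorphismProperty.pullback_snd _ _ h5
  exact h6.symm ▸ h7

set_option backward.isDefEq.respectTransparency.types false in
theorem graph_closedImmersion {S : Scheme.{u}} (G X : Over S) [GrpObj G]
    (hG : TwC.Locally S TwC.Topology.fpqc
      (fun S' f => ∃ (M : Type) (_ : AddCommGroup M), Nonempty (Grp.mk (Red.bc f G) ≅ Grp.mk (Red.DS S' M))))
    [IsAffineHom X.hom] (a : AlgGrp.Action G X)
    (hfree : ∀ (Y : Over S) (g : Y ⟶ G) (x : Y ⟶ X), lift g x ≫ a.act = x → g = 1) :
    IsClosedImmersion (lift a.act (snd G X)).left := by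
  have := Fpqc.Descent.isClosedImmersion.{u}
  refine FpqcCover.descend (Q := @IsClosedImmersion) hG (lift a.act (snd G X)).left (X ⊗ X).hom ?_
  intro S' f U hU R b
  obtain ⟨M, _, ⟨e⟩⟩ := hU
  -- the base
  let s : Spec (CommRingCat.of R) ⟶ S := b ≫ U.ι ≫ f
  let F := pullback (X ⊗ X).hom s
  let E := pullback (lift a.act (snd G X)).left (pullback.fst (X ⊗ X).hom s)
  let P := pullback X.hom s
  have : IsAffine P := isAffine_of_isAffineHom (pullback.snd X.hom s)
  let A : Type u := Γ(P, ⊤)
  let κ : R ⟶ Γ(P, ⊤) := Spec.preimage (P.isoSpec.inv ≫ pullback.snd X.hom s)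
  letI : Algebra R A := κ.hom.toAlgebra
  let w : Spec (CommRingCat.of A) ⟶ P := P.isoSpec.inv
  have hw : w ≫ pullback.snd X.hom s = Spec.map (CommRingCat.ofHom (algebraMap R A)) := (Spec.map_preimage _).symm
  have hxpt : ∀ (K : Type u) [CommRing K] [Algebra R K] (x : T s K ⟶ X), ∃ α : A →ₐ[R] K, xpt s hw α = x :=
    fun K _ _ x => exists_xpt s hw x fun z _ => by
      have : Surjective w := inferInstance
      exact w.surjective z
  -- the coaction
  let Pt := charPts (U.ι ≫ f) e b
  let χ₀ : Multiplicative M →* MonoidAlgebra A (Multiplicative M) := MonoidAlgebra.of A (Multiplicative M)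
  let ι' : A →ₐ[R] MonoidAlgebra A (Multiplicative M) := incl
  obtain ⟨ρ, hρ⟩ := hxpt (MonoidAlgebra A (Multiplicative M)) (lift (Pt.pt _ χ₀) (xpt s hw ι') ≫ a.act)
  have hev : ∀ (K : Type u) [CommRing K] [Algebra R K] (χ : Multiplicative M →* K) (α : A →ₐ[R] K),
      xpt s hw ((evMap χ α).comp ρ) = lift (Pt.pt K χ) (xpt s hw α) ≫ a.act := by
    intro K _ _ χ α
    rw [← Tmap_xpt, hρ, ← Category.assoc, comp_lift, Pt.pt_nat, Tmap_xpt]
    congr 4
    · ext m
      simp [χ₀, evMap_single]
    · ext c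
      simp [ι', incl_apply, evMap_single]
  have hassoc := coeff_assoc s a hw Pt ρ hev
  have hone : ∀ c, evMap (1 : Multiplicative M →* A) (AlgHom.id R A) (ρ c) = c := by
    have h1 : xpt s hw ((evMap (1 : Multiplicative M →* A) (AlgHom.id R A)).comp ρ) = xpt s hw (AlgHom.id R A) := by
      rw [hev, Pt.pt_one, DiagRigid.lift_one_act]
    exact fun c => AlgHom.congr_fun (xpt_injective s hw h1) c
  have hfree' : ∀ (K : Type u) [CommRing K] [Algebra R K] (χ : Multiplicative M →* K) (α : A →ₐ[R] K),
      (∀ c, evMap χ α (ρ c) = α c) → χ = 1 := by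
    intro K _ _ χ α hc
    have h1 : lift (Pt.pt K χ) (xpt s hw α) ≫ a.act = xpt s hw α := by
      rw [← hev]
      exact congrArg (xpt s hw) (AlgHom.ext hc)
    have h2 : Pt.pt K χ = Pt.pt K 1 := (hfree _ _ _ h1).trans (CharPts.pt_one _ Pt K).symm
    exact pt₀_injective (U.ι ≫ f) e _ ((cancel_epi (jIso (U.ι ≫ f) b K).hom).1 h2)
  have hsurj := graphMap_surjective ρ (span_homog_eq_top ρ hassoc hone hfree')
  -- the comparison with `Spec A[M]`
  let u : E ⟶ F := pullback.snd _ _
  let AM := MonoidAlgebra A (Multiplicative M)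
  let z₀ : T s AM ⟶ G ⊗ X := lift (Pt.pt _ χ₀) (xpt s hw ι')
  let v : Spec (CommRingCat.of AM) ⟶ E := pullback.lift z₀.left
    (pullback.lift (z₀ ≫ lift a.act (snd G X)).left (Spec.map (CommRingCat.ofHom (algebraMap R AM))) (Over.w _))
    (pullback.lift_fst _ _ _).symm
  let p₁ : F ⟶ P := pullback.lift (pullback.fst _ _ ≫ (fst X X).left) (pullback.snd _ _)
    (by rw [Category.assoc, Over.w, pullback.condition])
  let p₂ : F ⟶ P := pullback.lift (pullback.fst _ _ ≫ (snd X X).left) (pullback.snd _ _)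
    (by rw [Category.assoc, Over.w, pullback.condition])
  have : IsAffineHom (X ⊗ X).hom := by
    show IsAffineHom (pullback.fst X.hom X.hom ≫ X.hom)
    have : IsAffineHom (pullback.fst X.hom X.hom) := MorphismProperty.pullback_fst _ _ inferInstance
    exact MorphismProperty.comp_mem _ _ _ this inferInstance
  have : IsAffine F := isAffine_of_isAffineHom (pullback.snd (X ⊗ X).hom s)
  let j : F ⟶ Spec (CommRingCat.of (A ⊗[R] A)) :=
    pullback.lift (p₁ ≫ P.isoSpec.hom) (p₂ ≫ P.isoSpec.hom) (by
      rw [← hw]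
      simp [w, p₁, p₂]
      erw [pullback.lift_snd, pullback.lift_snd]) ≫ (pullbackSpecIso R A A).hom
  have hvuF : v ≫ u = pullback.lift (z₀ ≫ lift a.act (snd G X)).left
      (Spec.map (CommRingCat.ofHom (algebraMap R AM))) (Over.w _) := pullback.lift_snd _ _ _
  have hp₁ : v ≫ u ≫ p₁ = Spec.map (CommRingCat.ofHom ρ.toRingHom) ≫ w := by
    rw [← Category.assoc, hvuF]
    apply pullback.hom_ext
    · rw [Category.assoc, pullback.lift_fst, pullback.lift_fst_assoc, ← Over.comp_left, Category.assoc, lift_fst,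
        show z₀ ≫ a.act = xpt s hw ρ from hρ.symm, Category.assoc]
      rfl
    · rw [Category.assoc, pullback.lift_snd, pullback.lift_snd, Category.assoc, hw, ← Spec.map_comp,
        ← CommRingCat.ofHom_comp]
      congr 2
      exact ρ.comp_algebraMap.symm
  have hp₂ : v ≫ u ≫ p₂ = Spec.map (CommRingCat.ofHom ι'.toRingHom) ≫ w := by
    rw [← Category.assoc, hvuF]
    apply pullback.hom_ext
    · rw [Category.assoc, pullback.lift_fst, pullback.lift_fst_assoc, ← Over.comp_left, Category.assoc, lift_snd,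
        show z₀ ≫ snd G X = xpt s hw ι' from lift_snd _ _, Category.assoc]
      rfl
    · rw [Category.assoc, pullback.lift_snd, pullback.lift_snd, Category.assoc, hw, ← Spec.map_comp,
        ← CommRingCat.ofHom_comp]
      congr 2
  have hcancel : ∀ (q : F ⟶ P) (φ : A →ₐ[R] AM), v ≫ u ≫ q = Spec.map (CommRingCat.ofHom φ.toRingHom) ≫ w →
      (v ≫ u) ≫ q ≫ P.isoSpec.hom = Spec.map (CommRingCat.ofHom φ.toRingHom) := by
    intro q φ hq
    rw [← Category.assoc, Category.assoc v u q, hq, Category.assoc]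
    exact (congrArg (_ ≫ ·) P.isoSpec.inv_hom_id).trans (Category.comp_id _)
  have hvu : (v ≫ u) ≫ j = Spec.map (CommRingCat.ofHom (graphMap ρ).toRingHom) :=
    spec_lift_pullback _ _ _ (v ≫ u) ρ ι' (hcancel p₁ ρ hp₁) (hcancel p₂ ι' hp₂)
  have hci : IsClosedImmersion (v ≫ u) := by
    have : IsClosedImmersion ((v ≫ u) ≫ j) := by
      rw [hvu]
      exact IsClosedImmersion.spec_of_surjective _ hsurj
    exact IsClosedImmersion.of_comp (v ≫ u) j
  -- `v` has a section
  have : IsAffineHom G.hom := isAffineHom_of_multType hG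
  have : IsAffineHom (G ⊗ X).hom := by
    show IsAffineHom (pullback.fst G.hom X.hom ≫ G.hom)
    have : IsAffineHom (pullback.fst G.hom X.hom) := MorphismProperty.pullback_fst _ _ inferInstance
    exact MorphismProperty.comp_mem _ _ _ this inferInstance
  let tE : E ⟶ Spec (CommRingCat.of R) := u ≫ pullback.snd _ _
  have hE : IsPullback (pullback.fst (lift a.act (snd G X)).left (pullback.fst (X ⊗ X).hom s)) tE (G ⊗ X).hom s := by
    have := (IsPullback.of_hasPullback (lift a.act (snd G X)).left (pullback.fst (X ⊗ X).hom s)).paste_vert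
      (IsPullback.of_hasPullback (X ⊗ X).hom s)
    rwa [Over.w] at this
  have : IsAffineHom tE := MorphismProperty.of_isPullback (P := @IsAffineHom) hE inferInstance
  have : IsAffine E := isAffine_of_isAffineHom tE
  let K : Type u := Γ(E, ⊤)
  letI : Algebra R K := (Spec.preimage (E.isoSpec.inv ≫ tE)).hom.toAlgebra
  have hK : Spec.map (CommRingCat.ofHom (algebraMap R K)) = E.isoSpec.inv ≫ tE := Spec.map_preimage _
  let y : T s K ⟶ G ⊗ X := Over.homMk (E.isoSpec.inv ≫ pullback.fst _ _) (by
    show _ = Spec.map _ ≫ s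
    rw [hK, Category.assoc, hE.w]
    simp [tE]
    exact Category.assoc _ _ _)
  obtain ⟨χ, hχ⟩ := Pt.pt_surjective K (y ≫ fst G X)
  obtain ⟨α, hα⟩ := hxpt K (y ≫ snd G X)
  have hy : Tmap s (evMap χ α) ≫ z₀ = y := by
    show Tmap s (evMap χ α) ≫ lift _ _ = y
    rw [comp_lift, Pt.pt_nat, Tmap_xpt]
    apply CartesianMonoidalCategory.hom_ext
    · rw [lift_fst, ← hχ]
      congr 1
      ext m
      simp [χ₀, evMap_single]
    · rw [lift_snd, ← hα]
      congr 1
      ext c
      simp [ι', incl_apply, evMap_single]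
  let r : E ⟶ Spec (CommRingCat.of AM) :=
    E.isoSpec.hom ≫ Spec.map (CommRingCat.ofHom (evMap χ α).toRingHom)
  have hrv : r ≫ v = 𝟙 E := by
    apply hE.hom_ext
    · rw [Category.assoc, pullback.lift_fst, Category.id_comp, Category.assoc]
      have h1 := congrArg (fun g : T s K ⟶ G ⊗ X => E.isoSpec.hom ≫ g.left) hy
      exact h1.trans (Iso.hom_inv_id_assoc _ _)
    · simp only [tE, u, Category.id_comp, Category.assoc]
      rw [pullback.lift_snd_assoc, pullback.lift_snd]
      show (E.isoSpec.hom ≫ Spec.map _) ≫ Spec.map _ = _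
      rw [Category.assoc, ← Spec.map_comp, ← CommRingCat.ofHom_comp]
      have h2 : (evMap χ α).toRingHom.comp (algebraMap R AM) = algebraMap R K := (evMap χ α).comp_algebraMap
      rw [show Spec.map (CommRingCat.ofHom ((evMap χ α).toRingHom.comp (algebraMap R AM))) = _ from
        congrArg (fun φ => Spec.map (CommRingCat.ofHom φ)) h2, hK]
      exact Iso.hom_inv_id_assoc _ _
  have : IsClosedImmersion r := by
    have : IsClosedImmersion (r ≫ v) := by rw [hrv]; infer_instance
    exact IsClosedImmersion.of_comp r v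
  have : IsClosedImmersion (r ≫ v ≫ u) := inferInstance
  rw [← Category.assoc, hrv, Category.id_comp] at this
  exact this

/-- The orbit map of a free action is a closed immersion. -/
theorem orbitMap_closedImmersion {S : Scheme.{u}} {G X : Over S} [GrpObj G] [IsSeparated X.hom]
    (a : AlgGrp.Action G X) [IsClosedImmersion (lift a.act (snd G X)).left] (σ : 𝟙_ (Over S) ⟶ X) :
    IsClosedImmersion (a.orbitMap σ).left := by
  have h1 : a.orbitMap σ ≫ lift (𝟙 X) (toUnit X ≫ σ) = lift (𝟙 G) (toUnit G ≫ σ) ≫ lift a.act (snd G X) := by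
    apply CartesianMonoidalCategory.hom_ext <;> simp [AlgGrp.Action.orbitMap]
  have h2 : IsClosedImmersion (lift (𝟙 G) (toUnit G ≫ σ)).left := by
    have hsq : IsPullback (toUnit G) (lift (𝟙 G) (toUnit G ≫ σ)) σ (snd G X) :=
      IsPullback.of_isLimit' ⟨by simp⟩ (PullbackCone.IsLimit.mk _ (fun c => c.snd ≫ fst G X)
        (fun c => toUnit_unique _ _) (fun c => by
          apply CartesianMonoidalCategory.hom_ext
          · simp
          · rw [Category.assoc, lift_snd, ← Category.assoc, toUnit_unique (_ ≫ toUnit G) c.fst]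
            exact c.condition)
        (fun c m _ h2 => by rw [← h2]; simp))
    have hσ : IsClosedImmersion σ.left := by
      have : IsClosedImmersion (σ.left ≫ X.hom) := by
        rw [Over.w σ]
        show IsClosedImmersion (𝟙 S)
        infer_instance
      exact IsClosedImmersion.of_comp σ.left X.hom
    exact MorphismProperty.of_isPullback (P := @IsClosedImmersion) (hsq.map (Over.forget S)) hσ
  have : IsClosedImmersion ((a.orbitMap σ).left ≫ (lift (𝟙 X) (toUnit X ≫ σ)).left) := by
    rw [← Over.comp_left, h1, Over.comp_left]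
    infer_instance
  have : IsSeparated (lift (𝟙 X) (toUnit X ≫ σ)).left := by
    have : IsSeparated ((lift (𝟙 X) (toUnit X ≫ σ)).left ≫ (fst X X).left) := by
      rw [← Over.comp_left, lift_fst]
      show IsSeparated (𝟙 _)
      infer_instance
    exact IsSeparated.of_comp _ (fst X X).left
  exact IsClosedImmersion.of_comp _ (lift (𝟙 X) (toUnit X ≫ σ)).left

end Groth.Agent.HopfRep.FreeDiag

end
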