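import Mathlib.Algebra.MonoidAlgebra.Basic
import Mathlib.RingTheory.Idempotents
import Mathlib.RingTheory.Ideal.Maps
import Mathlib.RingTheory.Nilpotent.Basic

/-!
Group-like elements of a monoid algebra `K[M]` over an arbitrary commutative ring, as families of orthogonal
idempotents summing to one; their local constancy and their unique lifting along nilpotent thickenings.
-/

universe u v w

noncomputable section

namespace Groth.Agent.HopfRep.GroupLike

open MonoidAlgebra

variable {K : Type u} [CommRing K] {M : Type v} [CommMonoid M]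

/-- orthogonal idempotent coefficients with sum one -/
def IsGL (x : MonoidAlgebra K M) : Prop :=
  (∀ m n, m ≠ n → x.coeff m * x.coeff n = 0) ∧ x.coeff.sum (fun _ c => c) = 1

/-- evaluation at a character -/
abbrev ev {L : Type w} [CommRing L] [Algebra K L] (χ : M →* L) : MonoidAlgebra K M →ₐ[K] L :=
  MonoidAlgebra.lift K L M χ

theorem ev_apply {L : Type w} [CommRing L] [Algebra K L] (χ : M →* L) (x : MonoidAlgebra K M) :
    ev χ x = ∑ m ∈ x.coeff.support, algebraMap K L (x.coeff m) * χ m := by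
  rw [ev, MonoidAlgebra.lift_apply, Finsupp.sum]
  simp [Algebra.smul_def]

theorem IsGL.idem {x : MonoidAlgebra K M} (h : IsGL x) (m : M) : IsIdempotentElem (x.coeff m) := by
  classical
  have h1 : x.coeff m * x.coeff.sum (fun _ c => c) = x.coeff m := by rw [h.2, mul_one]
  rw [Finsupp.sum, Finset.mul_sum, Finset.sum_eq_single m (fun n _ hn => h.1 m n (Ne.symm hn))
    (fun hm => by rw [Finsupp.notMem_support_iff.1 hm, mul_zero])] at h1
  exact h1

theorem IsGL.ev_one {x : MonoidAlgebra K M} (h : IsGL x) {L : Type w} [CommRing L] [Algebra K L] :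
    ev (1 : M →* L) x = 1 := by
  rw [ev_apply]
  simp only [MonoidHom.one_apply, mul_one]
  rw [← map_sum]
  exact (congrArg _ h.2).trans (map_one _)

theorem IsGL.ev_mul {x : MonoidAlgebra K M} (h : IsGL x) {L : Type w} [CommRing L] [Algebra K L]
    (χ χ' : M →* L) : ev (χ * χ') x = ev χ x * ev χ' x := by
  classical
  rw [ev_apply, ev_apply, ev_apply, Finset.sum_mul_sum]
  refine Finset.sum_congr rfl fun m hm => ?_
  rw [Finset.sum_eq_single m]
  · have h1 : algebraMap K L (x.coeff m) * algebraMap K L (x.coeff m) = algebraMap K L (x.coeff m) := by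
      rw [← map_mul, (h.idem m).eq]
    rw [MonoidHom.mul_apply]
    linear_combination (-(χ m * χ' m)) * h1
  · intro n _ hn
    have h1 : algebraMap K L (x.coeff m) * algebraMap K L (x.coeff n) = 0 := by
      rw [← map_mul, h.1 m n (Ne.symm hn), map_zero]
    linear_combination (χ m * χ' n) * h1
  · exact fun h' => absurd hm h'

/-- the first and second universal characters -/
abbrev univ₁ : M →* MonoidAlgebra K (M × M) := (MonoidAlgebra.of K (M × M)).comp (MonoidHom.inl M M)

abbrev univ₂ : M →* MonoidAlgebra K (M × M) := (MonoidAlgebra.of K (M × M)).comp (MonoidHom.inr M M)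

theorem isGL_of_ev {x : MonoidAlgebra K M} (h1 : ev (1 : M →* K) x = 1)
    (h2 : ev (univ₁ (K := K) (M := M) * univ₂) x = ev univ₁ x * ev univ₂ x) : IsGL x := by
  classical
  constructor
  · intro m n hmn
    have h3 := congrArg (fun z : MonoidAlgebra K (M × M) => z.coeff (m, n)) h2
    simp only [ev_apply, Finset.sum_mul_sum] at h3
    simp only [univ₁, univ₂, MonoidHom.mul_apply, MonoidHom.comp_apply, MonoidHom.inl_apply, MonoidHom.inr_apply,
      MonoidAlgebra.of_apply, MonoidAlgebra.coe_algebraMap, Function.comp_apply, MonoidAlgebra.single_mul_single,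
      Prod.mk_mul_mk, one_mul, mul_one, Algebra.algebraMap_self, RingHom.id_apply, MonoidAlgebra.coeff_sum,
      Finsupp.coe_finsetSum, Finset.sum_apply, MonoidAlgebra.coeff_single, Finsupp.single_apply, Prod.mk.injEq] at h3
    rw [Finset.sum_eq_zero (fun k _ => if_neg fun hk => hmn (hk.1.symm.trans hk.2))] at h3
    rw [h3]
    rw [Finset.sum_eq_single m (fun k _ hk => Finset.sum_eq_zero fun j _ => if_neg fun hj => hk hj.1)
      (fun hm => Finset.sum_eq_zero fun j _ => by simp [Finsupp.notMem_support_iff.1 hm])]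
    rw [Finset.sum_eq_single n (fun k _ hk => if_neg fun hj => hk hj.2)
      (fun hn => by simp [Finsupp.notMem_support_iff.1 hn]), if_pos ⟨rfl, rfl⟩]
  · rw [ev_apply] at h1
    simpa [Finsupp.sum] using h1

theorem isGL_iff {x : MonoidAlgebra K M} :
    IsGL x ↔ ev (1 : M →* K) x = 1 ∧ ev (univ₁ (K := K) (M := M) * univ₂) x = ev univ₁ x * ev univ₂ x :=
  ⟨fun h => ⟨h.ev_one, h.ev_mul _ _⟩, fun h => isGL_of_ev h.1 h.2⟩

theorem IsGL.one : IsGL (1 : MonoidAlgebra K M) := isGL_of_ev (by simp) (by simp)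

theorem IsGL.mul {x y : MonoidAlgebra K M} (hx : IsGL x) (hy : IsGL y) : IsGL (x * y) := by
  refine isGL_of_ev (by rw [map_mul, hx.ev_one, hy.ev_one, one_mul]) ?_
  rw [map_mul, map_mul, map_mul, hx.ev_mul, hy.ev_mul]
  ring

theorem IsGL.single (m : M) : IsGL (MonoidAlgebra.single m (1 : K)) :=
  isGL_of_ev (by simp [ev]) (by simp [ev])

/-- near a prime, one coefficient is one and the others vanish -/
theorem IsGL.exists_single {x : MonoidAlgebra K M} (h : IsGL x) (p : Ideal K) [p.IsPrime] :
    ∃ m, x.coeff m ∉ p ∧ ∀ {L : Type u} [CommRing L] (φ : K →+* L), IsUnit (φ (x.coeff m)) →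
      MonoidAlgebra.mapRingHom M φ x = MonoidAlgebra.single m 1 := by
  classical
  obtain ⟨m, hm⟩ : ∃ m, x.coeff m ∉ p := by
    by_contra hc
    push Not at hc
    refine (Ideal.ne_top_iff_one p).1 (Ideal.IsPrime.ne_top ‹_›) ?_
    rw [← h.2]
    exact sum_mem fun m _ => hc m
  refine ⟨m, hm, fun {L} _ φ hu => MonoidAlgebra.ext (Finsupp.ext fun n => ?_)⟩
  have he : φ (x.coeff m) = 1 := by
    obtain ⟨c, hc⟩ := hu.exists_left_inv
    calc φ (x.coeff m) = c * φ (x.coeff m) * φ (x.coeff m) := by rw [hc, one_mul]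
      _ = c * φ (x.coeff m * x.coeff m) := by rw [map_mul, mul_assoc]
      _ = 1 := by rw [(h.idem m).eq, hc]
  by_cases hn : n = m
  · subst hn; simp [he]
  · have h1 : φ (x.coeff m) * φ (x.coeff n) = 0 := by rw [← map_mul, h.1 m n (Ne.symm hn), map_zero]
    rw [he, one_mul] at h1
    simp [h1, Ne.symm hn]

variable {K₀ : Type u} [CommRing K₀] (π : K →+* K₀) (hπ : Function.Surjective π)
  (hnil : ∀ x ∈ RingHom.ker π, IsNilpotent x)

include hnil in
theorem IsGL.eq_of_map {x y : MonoidAlgebra K M} (hx : IsGL x) (hy : IsGL y)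
    (h : MonoidAlgebra.mapRingHom M π x = MonoidAlgebra.mapRingHom M π y) : x = y := by
  refine MonoidAlgebra.ext (Finsupp.ext fun m => ?_)
  refine eq_of_isNilpotent_sub_of_isIdempotentElem (hx.idem m) (hy.idem m) (hnil _ ?_)
  rw [RingHom.mem_ker, map_sub, sub_eq_zero]
  simpa using congrArg (fun z : MonoidAlgebra K₀ M => z.coeff m) h

include hπ hnil in
theorem exists_lift {x₀ : MonoidAlgebra K₀ M} (h : IsGL x₀) :
    ∃ x : MonoidAlgebra K M, IsGL x ∧ MonoidAlgebra.mapRingHom M π x = x₀ := by
  classical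
  have hex := fun m => (existsUnique_isIdempotentElem_eq_of_ker_isNilpotent π hnil (x₀.coeff m)
    (RingHom.mem_range.2 (hπ _)) (h.idem m)).exists
  choose e he hπe using hex
  let x : MonoidAlgebra K M := ∑ m ∈ x₀.coeff.support, MonoidAlgebra.single m (e m)
  have hc : ∀ m, x.coeff m = if m ∈ x₀.coeff.support then e m else 0 := fun m => by
    simp [x, Finsupp.single_apply]
  have hx : ∀ m, π (x.coeff m) = x₀.coeff m := fun m => by
    rw [hc]
    split_ifs with hm
    · exact hπe m
    · rw [map_zero, Finsupp.notMem_support_iff.1 hm]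
  have hidem : ∀ m, IsIdempotentElem (x.coeff m) := fun m => by
    rw [hc]
    split_ifs
    · exact he m
    · exact IsIdempotentElem.zero
  have hzero : ∀ z, IsIdempotentElem z → π z = 0 → z = 0 := fun z hz h0 =>
    hz.eq_zero_of_isNilpotent (hnil z h0)
  have horth : ∀ m n, m ≠ n → x.coeff m * x.coeff n = 0 := fun m n hmn =>
    hzero _ ((hidem m).mul (hidem n)) (by rw [map_mul, hx, hx, h.1 m n hmn])
  refine ⟨x, ⟨horth, ?_⟩, MonoidAlgebra.ext (Finsupp.ext fun m => by simpa using hx m)⟩
  rw [Finsupp.sum_of_support_subset x.coeff (s := x₀.coeff.support) (fun m hm => by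
    by_contra hn
    exact Finsupp.mem_support_iff.1 hm (by rw [hc, if_neg hn])) _ (fun _ _ => rfl)]
  have hsum : IsIdempotentElem (∑ m ∈ x₀.coeff.support, x.coeff m) := by
    show _ * _ = _
    rw [Finset.sum_mul_sum]
    refine Finset.sum_congr rfl fun m hm => ?_
    rw [Finset.sum_eq_single m (fun n _ hn => horth m n (Ne.symm hn)) (fun h' => absurd hm h'), (hidem m).eq]
  refine eq_of_isNilpotent_sub_of_isIdempotentElem hsum IsIdempotentElem.one (hnil _ ?_)
  rw [RingHom.mem_ker, map_sub, map_one, sub_eq_zero, map_sum]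
  simp only [hx]
  exact h.2

variable {M' : Type w} [CommMonoid M']

include hπ hnil in
/-- Group-like valued homomorphisms lift uniquely. -/
theorem exists_lift_hom (g₀ : M' →* MonoidAlgebra K₀ M) (h : ∀ m, IsGL (g₀ m)) :
    ∃ g : M' →* MonoidAlgebra K M, (∀ m, IsGL (g m)) ∧ ∀ m, MonoidAlgebra.mapRingHom M π (g m) = g₀ m := by
  choose g hg hg₀ using fun m => exists_lift π hπ hnil (h m)
  refine ⟨{ toFun := g, map_one' := ?_, map_mul' := fun a b => ?_ }, hg, hg₀⟩
  · exact (hg 1).eq_of_map π hnil IsGL.one (by rw [hg₀, map_one, map_one])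
  · exact (hg _).eq_of_map π hnil ((hg a).mul (hg b)) (by rw [hg₀, map_mul, map_mul, hg₀, hg₀])

end Groth.Agent.HopfRep.GroupLike

end
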