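import Groth.Agent.HopfRep.DiagRigid
import Groth.Agent.HopfRep.FreeDiag
import Groth.Agent.HopfRep.GroupLike
import Groth.Prelude.Def_CoactBr

/-!
Groups over an affine base whose points are characters (`CharPts`): homomorphisms between them as group-like
valued maps, rigidity of homomorphisms modulo a nilpotent ideal, and lifting of factorisations.
-/

universe u

open CategoryTheory MonoidalCategory CartesianMonoidalCategory MonObj AlgebraicGeometry Limits

set_option linter.style.haveILetI false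

noncomputable section

namespace Groth.Agent.HopfRep.CharHom

open DiagRigid GroupLike

variable {K : Type u} [CommRing K]

/-- test schemes over `Spec K` -/
abbrev Tp (L : Type u) [CommRing L] [Algebra K L] : Over (Spec (CommRingCat.of K)) :=
  T (𝟙 (Spec (CommRingCat.of K))) L

theorem pts_ext {Y X : Over (Spec (CommRingCat.of K))} {u v : Y ⟶ X}
    (h : ∀ (L : Type u) [CommRing L] [Algebra K L] (a : Tp (K := K) L ⟶ Y), a ≫ u = a ≫ v) : u = v := by
  ext1
  refine Y.left.affineOpenCover.openCover.hom_ext _ _ fun j => ?_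
  let φ : CommRingCat.of K ⟶ Y.left.affineOpenCover.X j := Spec.preimage (Y.left.affineOpenCover.f j ≫ Y.hom)
  letI : Algebra K (Y.left.affineOpenCover.X j) := φ.hom.toAlgebra
  let a : Tp (K := K) (Y.left.affineOpenCover.X j) ⟶ Y := Over.homMk (Y.left.affineOpenCover.f j) (by
    show _ = Spec.map φ ≫ 𝟙 _
    rw [Category.comp_id, Spec.map_preimage])
  exact congrArg Over.Hom.left (h _ a)

variable {M : Type} [AddCommGroup M] {H : Over (Spec (CommRingCat.of K))} [GrpObj H]
  (P : CharPts (𝟙 (Spec (CommRingCat.of K))) M H)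

/-- points determine characters -/
def Inj : Prop :=
  ∀ (L : Type u) [CommRing L] [Algebra K L], Function.Injective (P.pt L : (Multiplicative M →* L) → _)

/-- Natural multiplicative families on characters are homomorphisms. -/
theorem exists_hom [IsAffine H.left] (hinj : Inj P) {X : Over (Spec (CommRingCat.of K))} [GrpObj X]
    (F : ∀ (L : Type u) [CommRing L] [Algebra K L], (Multiplicative M →* L) → (Tp (K := K) L ⟶ X))
    (hnat : ∀ (L L' : Type u) [CommRing L] [Algebra K L] [CommRing L'] [Algebra K L'] (φ : L →ₐ[K] L')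
      (χ : Multiplicative M →* L), Tmap _ φ ≫ F L χ = F L' ((φ : L →* L').comp χ))
    (hmul : ∀ (L : Type u) [CommRing L] [Algebra K L] (χ χ' : Multiplicative M →* L),
      F L (χ * χ') = F L χ * F L χ') :
    ∃ v : H ⟶ X, IsMonHom v ∧ ∀ (L : Type u) [CommRing L] [Algebra K L] (χ : Multiplicative M →* L),
      P.pt L χ ≫ v = F L χ := by
  let L₀ : Type u := Γ(H.left, ⊤)
  let φ₀ := Spec.preimage (H.left.isoSpec.inv ≫ H.hom)
  letI : Algebra K L₀ := φ₀.hom.toAlgebra
  let σ : Tp (K := K) L₀ ⟶ H := Over.homMk H.left.isoSpec.inv (by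
    show _ = Spec.map φ₀ ≫ 𝟙 _
    rw [Category.comp_id, Spec.map_preimage])
  have : IsIso σ := by
    have : IsIso ((Over.forget _).map σ) := inferInstanceAs (IsIso H.left.isoSpec.inv)
    exact isIso_of_reflects_iso σ (Over.forget _)
  obtain ⟨χu, hχu⟩ := P.pt_surjective L₀ σ
  have hpt : ∀ (L : Type u) [CommRing L] [Algebra K L] (χ : Multiplicative M →* L),
      P.pt L χ ≫ inv σ ≫ F L₀ χu = F L χ := by
    intro L _ _ χ
    let ψ := Spec.preimage (P.pt L χ ≫ inv σ).left
    have hψ : CommRingCat.ofHom (algebraMap K L₀) ≫ ψ = CommRingCat.ofHom (algebraMap K L) := by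
      apply Spec.map_injective
      rw [Spec.map_comp, Spec.map_preimage]
      have := Over.w (P.pt L χ ≫ inv σ)
      simpa using this
    let ψ' : L₀ →ₐ[K] L := ⟨ψ.hom, fun r => RingHom.congr_fun (congrArg CommRingCat.Hom.hom hψ) r⟩
    have h1 : P.pt L χ ≫ inv σ = Tmap _ ψ' := by
      ext1
      rw [Tmap_left]
      exact (Spec.map_preimage _).symm
    have h2 : χ = (ψ' : L₀ →* L).comp χu := by
      apply hinj L
      rw [← P.pt_nat, hχu, ← h1, Category.assoc, IsIso.inv_hom_id, Category.comp_id]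
    rw [← Category.assoc, h1, hnat, ← h2]
  have h1 : ∀ (L : Type u) [CommRing L] [Algebra K L], F L 1 = 1 := fun L _ _ => by
    have := hmul L 1 1
    rw [_root_.one_mul] at this
    exact mul_eq_left.1 this.symm
  refine ⟨inv σ ≫ F L₀ χu, ⟨?_, ?_⟩, hpt⟩
  · refine pts_ext fun L _ _ a => ?_
    have e1 : a ≫ η[H] = P.pt L 1 := by
      rw [P.pt_one, Hom.one_def, toUnit_unique a (toUnit _)]
    have e2 : a ≫ η[X] = 1 := by rw [Hom.one_def, toUnit_unique a (toUnit _)]
    rw [← Category.assoc, e1, hpt, h1, e2]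
  · refine pts_ext fun L _ _ a => ?_
    obtain ⟨χ₁, hχ₁⟩ := P.pt_surjective L (a ≫ fst H H)
    obtain ⟨χ₂, hχ₂⟩ := P.pt_surjective L (a ≫ snd H H)
    have ha : a = lift (P.pt L χ₁) (P.pt L χ₂) := by rw [hχ₁, hχ₂, ← comp_lift, lift_fst_snd, Category.comp_id]
    rw [ha, ← Category.assoc, ← Hom.mul_def, P.pt_mul, hpt, hmul, lift_map_assoc, hpt, hpt, ← Hom.mul_def]

theorem ev_comp_of {N : Type} [CommMonoid N] {L : Type u} [CommRing L] [Algebra K L] (χ : N →* L) :
    ((ev χ : MonoidAlgebra K N →ₐ[K] L) : MonoidAlgebra K N →* L).comp (MonoidAlgebra.of K N) = χ :=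
  MonoidHom.ext fun m => by simp [ev]

theorem comp_ev {N : Type} [CommMonoid N] {L L' : Type u} [CommRing L] [Algebra K L] [CommRing L'] [Algebra K L']
    (φ : L →ₐ[K] L') (χ : N →* L) : φ.comp (ev χ) = ev ((φ : L →* L').comp χ) :=
  MonoidAlgebra.algHom_ext (fun m => by simp [ev]) (Subsingleton.elim _ _)

variable {M' : Type} [AddCommGroup M'] {H' : Over (Spec (CommRingCat.of K))} [GrpObj H']
  (P' : CharPts (𝟙 (Spec (CommRingCat.of K))) M' H')

/-- Homomorphisms are given by group-like valued maps. -/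
theorem exists_char (hinj' : Inj P') (u : H ⟶ H') [IsMonHom u] :
    ∃ g : Multiplicative M' →* MonoidAlgebra K (Multiplicative M), (∀ m, IsGL (g m)) ∧
      ∀ (L : Type u) [CommRing L] [Algebra K L] (χ : Multiplicative M →* L),
        P.pt L χ ≫ u = P'.pt L (((ev χ : MonoidAlgebra K (Multiplicative M) →ₐ[K] L) :
          MonoidAlgebra K (Multiplicative M) →* L).comp g) := by
  obtain ⟨g, hg⟩ := P'.pt_surjective _
    (P.pt (MonoidAlgebra K (Multiplicative M)) (MonoidAlgebra.of K (Multiplicative M)) ≫ u)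
  have key : ∀ (L : Type u) [CommRing L] [Algebra K L] (χ : Multiplicative M →* L),
      P.pt L χ ≫ u = P'.pt L (((ev χ : MonoidAlgebra K (Multiplicative M) →ₐ[K] L) :
          MonoidAlgebra K (Multiplicative M) →* L).comp g) := fun L _ _ χ => by
    conv_lhs => rw [← ev_comp_of (K := K) χ, ← P.pt_nat, Category.assoc, ← hg, P'.pt_nat]
  refine ⟨g, fun m => isGL_of_ev ?_ ?_, key⟩
  · have h := key K 1
    rw [P.pt_one, MonObj.one_comp, ← P'.pt_one] at h
    exact (DFunLike.congr_fun (hinj' K h) m).symm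
  · have h := key _ (univ₁ (K := K) (M := Multiplicative M) * univ₂)
    rw [← P.pt_mul, MonObj.mul_comp, key, key, P'.pt_mul] at h
    exact (DFunLike.congr_fun (hinj' _ h) m).symm

/-- A group-like valued map gives a homomorphism. -/
theorem exists_hom_of_char [IsAffine H.left] (hinj : Inj P)
    (g : Multiplicative M' →* MonoidAlgebra K (Multiplicative M)) (hg : ∀ m, IsGL (g m)) :
    ∃ v : H ⟶ H', IsMonHom v ∧ ∀ (L : Type u) [CommRing L] [Algebra K L] (χ : Multiplicative M →* L),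
      P.pt L χ ≫ v = P'.pt L (((ev χ : MonoidAlgebra K (Multiplicative M) →ₐ[K] L) :
          MonoidAlgebra K (Multiplicative M) →* L).comp g) := by
  refine exists_hom P hinj _ (fun L L' _ _ _ _ φ χ => ?_) (fun L _ _ χ χ' => ?_)
  · rw [P'.pt_nat, ← comp_ev]
    rfl
  · rw [P'.pt_mul]
    congr 1
    exact MonoidHom.ext fun m => (hg m).ev_mul χ χ'

/-- A homomorphism which is trivial modulo a nilpotent ideal is trivial. -/
theorem hom_eq_one {X : Over (Spec (CommRingCat.of K))} [GrpObj X] (P : CharPts (𝟙 (Spec (CommRingCat.of K))) M H)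
    (u : H ⟶ X) [IsMonHom u] {J : Ideal K} (hJ : IsNilpotent J)
    (h0 : ∀ (L : Type u) [CommRing L] [Algebra K L], J.map (algebraMap K L) = ⊥ →
      ∀ a : Tp (K := K) L ⟶ H, a ≫ u = 1) : u = 1 := by
  refine pts_ext fun L _ _ a => ?_
  rw [MonObj.comp_one]
  let c : AlgGrp.Action H X :=
    { act := (fst H X ≫ u) * snd H X
      one_act := by
        have h1 : fst (𝟙_ (Over (Spec (CommRingCat.of K)))) X ≫ η[X] = 1 := by
          rw [Hom.one_def]
          congr 1
        simp [MonObj.comp_mul, leftUnitor_hom, h1]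
      mul_act := by
        have hμ : μ[H] ≫ u = (fst H H ≫ u) * (snd H H ≫ u) := by
          rw [← MonObj.mul_comp, Hom.mul_def, lift_fst_snd, Category.id_comp]
        simp [-IsMonHom.mul_hom, MonObj.comp_mul, hμ, _root_.mul_assoc] }
  have hc : ∀ (Y : Over (Spec (CommRingCat.of K))) (g : Y ⟶ H) (x : Y ⟶ X), lift g x ≫ c.act = (g ≫ u) * x :=
    fun Y g x => by
      show lift g x ≫ ((fst H X ≫ u) * snd H X) = _
      simp only [MonObj.comp_mul, lift_fst_assoc, lift_snd]
  ext1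
  refine Scheme.hom_ext_of_forall _ _ fun q => ?_
  let x₀ : Tp (K := K) L ⟶ X := 1
  obtain ⟨_, ⟨V, hV, rfl⟩, hqV, -⟩ := X.left.isBasis_affineOpens.exists_subset_of_mem_open
    (Set.mem_univ (x₀.left q)) isOpen_univ
  have hVa : IsAffineOpen V := hV
  obtain ⟨_, ⟨r, rfl⟩, hqr, hrV⟩ := PrimeSpectrum.isTopologicalBasis_basic_opens.exists_subset_of_mem_open
    (show q ∈ x₀.left ⁻¹ᵁ V from hqV) (x₀.left ⁻¹ᵁ V).2
  let Lr := Localization.Away r
  let j := Tmap (𝟙 (Spec (CommRingCat.of K))) (IsScalarTower.toAlgHom K L Lr)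
  have : IsOpenImmersion j.left :=
    IsOpenImmersion.of_isLocalization (R := CommRingCat.of L) (S := Lr) r
  have hjr : Set.range j.left = (PrimeSpectrum.basicOpen r : Set (PrimeSpectrum L)) := PrimeSpectrum.localization_away_comap_range Lr r
  refine ⟨j.left.opensRange, hjr.ge hqr, ?_⟩
  let φA := Spec.preimage (hVa.fromSpec ≫ X.hom)
  letI : Algebra K Γ(X.left, V) := φA.hom.toAlgebra
  let w : Spec Γ(X.left, V) ⟶ pullback X.hom (𝟙 (Spec (CommRingCat.of K))) :=
    hVa.fromSpec ≫ inv (pullback.fst X.hom (𝟙 _))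
  have := hVa.isOpenImmersion_fromSpec
  have hw : w ≫ pullback.snd X.hom (𝟙 _) = Spec.map (CommRingCat.ofHom (algebraMap K Γ(X.left, V))) := by
    rw [← Category.comp_id (pullback.snd X.hom (𝟙 _)), ← pullback.condition, Category.assoc, IsIso.inv_hom_id_assoc]
    exact (Spec.map_preimage _).symm
  obtain ⟨χ, hχ⟩ := P.pt_surjective Lr (j ≫ a)
  obtain ⟨α, hα⟩ := exists_xpt _ hw (1 : Tp (K := K) Lr ⟶ X) (by
    rintro _ ⟨p, rfl⟩
    have hp : (j ≫ x₀).left p ∈ V := hrV (hjr.le ⟨p, rfl⟩)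
    rw [MonObj.comp_one] at hp
    obtain ⟨z, hz⟩ := hVa.range_fromSpec.ge hp
    refine ⟨z, ?_⟩
    apply (pullback.fst X.hom (𝟙 (Spec (CommRingCat.of K)))).injective
    rw [← Scheme.Hom.comp_apply, Category.assoc, IsIso.inv_hom_id, Category.comp_id, hz,
      ← Scheme.Hom.comp_apply, pullback.lift_fst])
  have h1 := act_eq (𝟙 _) c hw hJ (fun L' _ _ hL g x => by rw [hc, h0 L' hL g, _root_.one_mul]) P Lr χ α
  rw [hα, hc, _root_.mul_one, hχ, Category.assoc] at h1
  have h2 := congrArg Over.Hom.left (h1.trans (MonObj.comp_one j).symm)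
  rw [← cancel_epi j.left.isoOpensRange.hom]
  simp only [Scheme.Hom.isoOpensRange_hom_ι_assoc]
  exact h2

/-- Factorisations of a central homomorphism modulo a nilpotent ideal lift. -/
theorem exists_factor [IsAffine H.left] (hinj : Inj P) (hinj' : Inj P')
    {X : Over (Spec (CommRingCat.of K))} [GrpObj X] (i : H ⟶ X) [IsMonHom i] (i' : H' ⟶ X) [IsMonHom i'] [Mono i']
    (hc : ∀ (Y : Over (Spec (CommRingCat.of K))) (h' : Y ⟶ H') (h : Y ⟶ H),
      (h' ≫ i') * (h ≫ i) = (h ≫ i) * (h' ≫ i'))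
    {J : Ideal K} (hJ : IsNilpotent J)
    (h0 : ∀ (L : Type u) [CommRing L] [Algebra K L], J.map (algebraMap K L) = ⊥ →
      ∀ a : Tp (K := K) L ⟶ H, ∃ a', a' ≫ i' = a ≫ i) :
    ∃ v : H ⟶ H', v ≫ i' = i := by
  let K₀ := K ⧸ J
  let A₀ := MonoidAlgebra K₀ (Multiplicative M)
  have hbot : ∀ (L : Type u) [CommRing L] [Algebra K₀ L] [Algebra K L] [IsScalarTower K K₀ L],
      J.map (algebraMap K L) = ⊥ := fun L _ _ _ _ => by
    rw [eq_bot_iff, Ideal.map_le_iff_le_comap]
    intro r hr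
    rw [Ideal.mem_comap, Ideal.mem_bot, IsScalarTower.algebraMap_apply K K₀ L,
      show algebraMap K K₀ r = 0 from Ideal.Quotient.eq_zero_iff_mem.2 hr, map_zero]
  let χ₀ : Multiplicative M →* A₀ := MonoidAlgebra.of K₀ (Multiplicative M)
  obtain ⟨a', ha'⟩ := h0 A₀ (hbot A₀) (P.pt A₀ χ₀)
  obtain ⟨g₀, hg₀⟩ := P'.pt_surjective A₀ a'
  have key : ∀ (L : Type u) [CommRing L] [Algebra K₀ L] [Algebra K L] [IsScalarTower K K₀ L]
      (χ : Multiplicative M →* L), P.pt L χ ≫ i =
        P'.pt L (((ev χ : A₀ →ₐ[K₀] L) : A₀ →* L).comp g₀) ≫ i' := by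
    intro L _ _ _ _ χ
    have h1 : P.pt L χ = Tmap _ ((ev χ : A₀ →ₐ[K₀] L).restrictScalars K) ≫ P.pt A₀ χ₀ := by
      rw [P.pt_nat]
      congr 1
      exact (ev_comp_of (K := K₀) χ).symm
    rw [h1, Category.assoc, ← ha', ← hg₀, ← Category.assoc, P'.pt_nat]
    rfl
  have hgl : ∀ m, IsGL (g₀ m) := by
    intro m
    refine isGL_of_ev ?_ ?_
    · have h := key K₀ 1
      rw [P.pt_one, MonObj.one_comp] at h
      have h' : P'.pt K₀ 1 ≫ i' = 1 := by rw [P'.pt_one, MonObj.one_comp]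
      exact (DFunLike.congr_fun (hinj' K₀ ((cancel_mono i').1 (h'.trans h))) m).symm
    · have h := key _ (univ₁ (K := K₀) (M := Multiplicative M) * univ₂)
      rw [← P.pt_mul, MonObj.mul_comp, key, key, ← MonObj.mul_comp, P'.pt_mul] at h
      exact (DFunLike.congr_fun (hinj' _ ((cancel_mono i').1 h)) m).symm
  obtain ⟨g, hg, hgg₀⟩ := exists_lift_hom (Ideal.Quotient.mk J) Ideal.Quotient.mk_surjective (fun x hx => by
    obtain ⟨n, hn⟩ := hJ
    refine ⟨n, ?_⟩
    have h1 := Ideal.pow_mem_pow (Ideal.mk_ker.le hx) n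
    rwa [hn] at h1) g₀ hgl
  obtain ⟨v, hv, hvpt⟩ := exists_hom_of_char P P' hinj g hg
  refine ⟨v, ?_⟩
  -- the difference
  let d : H ⟶ X := (v ≫ i') * i⁻¹
  have hd : ∀ {Y : Over (Spec (CommRingCat.of K))} (a : Y ⟶ H), a ≫ d = (a ≫ v ≫ i') * (a ≫ i)⁻¹ := fun a => by
    show a ≫ ((v ≫ i') * i⁻¹) = _
    rw [MonObj.comp_mul, GrpObj.comp_inv]
  have hcomm : ∀ {Y : Over (Spec (CommRingCat.of K))} (b : Y ⟶ H) (g : Y ⟶ H'),
      (g ≫ i') * (b ≫ i)⁻¹ = (b ≫ i)⁻¹ * (g ≫ i') :=
    fun b g => (Commute.inv_right (hc _ g b : Commute (g ≫ i') (b ≫ i))).eq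
  have hHcomm : ∀ {Y : Over (Spec (CommRingCat.of K))} (a b : Y ⟶ H), a * b = b * a := fun {Y} a b => by
    have h := fun (L : Type u) [CommRing L] [Algebra K L] (c : Tp (K := K) L ⟶ Y) => show c ≫ (a * b) = c ≫ (b * a) by
      obtain ⟨χ, hχ⟩ := P.pt_surjective L (c ≫ a)
      obtain ⟨χ', hχ'⟩ := P.pt_surjective L (c ≫ b)
      rw [MonObj.comp_mul, MonObj.comp_mul, ← hχ, ← hχ', P.pt_mul, P.pt_mul, _root_.mul_comm]
    exact pts_ext h
  have hdmon : IsMonHom d := by
    have hmul : ∀ {Y : Over (Spec (CommRingCat.of K))} (a b : Y ⟶ H), (a * b) ≫ d = (a ≫ d) * (b ≫ d) := fun a b => by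
      rw [hd, hd, hd, MonObj.mul_comp, hHcomm a b, MonObj.mul_comp, mul_inv_rev]
      have h1 := hcomm a (b ≫ v)
      rw [Category.assoc] at h1
      simp only [_root_.mul_assoc]
      rw [← _root_.mul_assoc (b ≫ v ≫ i'), h1, _root_.mul_assoc]
    constructor
    · have := hmul (1 : 𝟙_ (Over (Spec (CommRingCat.of K))) ⟶ H) 1
      rw [_root_.one_mul] at this
      have h2 : (1 : 𝟙_ (Over (Spec (CommRingCat.of K))) ⟶ H) = η[H] := by
        rw [Hom.one_def, toUnit_unique (toUnit _) (𝟙 _), Category.id_comp]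
      have h3 : (1 : 𝟙_ (Over (Spec (CommRingCat.of K))) ⟶ X) = η[X] := by
        rw [Hom.one_def, toUnit_unique (toUnit _) (𝟙 _), Category.id_comp]
      rw [← h2, ← h3]
      exact mul_eq_left.1 this.symm
    · have := hmul (fst H H) (snd H H)
      rw [Hom.mul_def, lift_fst_snd, Category.id_comp, Hom.mul_def] at this
      rw [this, ← lift_map, lift_fst_snd, Category.id_comp]
  have hd1 : d = 1 := hom_eq_one P d hJ fun L _ _ hL a => by
    letI : Algebra K₀ L := (Ideal.Quotient.lift J (algebraMap K L) fun r hr =>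
      Ideal.mem_bot.1 (hL ▸ Ideal.mem_map_of_mem _ hr)).toAlgebra
    haveI : IsScalarTower K K₀ L := IsScalarTower.of_algebraMap_eq fun r => (Ideal.Quotient.lift_mk _ _ _).symm
    obtain ⟨χ, rfl⟩ := P.pt_surjective L a
    rw [hd, ← Category.assoc, hvpt, key L χ, mul_inv_eq_one]
    congr 2
    refine MonoidHom.ext fun m => ?_
    show ev χ (g m) = (ev χ : A₀ →ₐ[K₀] L) (g₀ m)
    rw [← hgg₀]
    generalize g m = z
    induction z using MonoidAlgebra.induction_linear with
    | zero => simp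
    | add x y hx hy => simp [hx, hy]
    | single n c =>
      simp [ev, Algebra.smul_def, IsScalarTower.algebraMap_apply K K₀ L]
      rfl
  have h1 := hd (𝟙 H)
  rw [Category.id_comp, hd1, Category.id_comp, Category.id_comp] at h1
  exact mul_inv_eq_one.1 h1.symm

/-- change of base for character points -/
def bcPts {S : Scheme.{u}} {G : Over S} [GrpObj G] (s : Spec (CommRingCat.of K) ⟶ S) (P : CharPts s M G) :
    CharPts (𝟙 (Spec (CommRingCat.of K))) M (Red.bc s G) where
  pt L _ _ χ := (Over.mapPullbackAdj s).homEquiv (Tp (K := K) L) G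
    ((Over.isoMk (Iso.refl _) (by simp) : (Over.map s).obj (Tp (K := K) L) ≅ T s L).hom ≫ P.pt L χ)
  pt_mul L _ _ χ χ' := by rw [← homEquiv_mul', ← MonObj.comp_mul, P.pt_mul]
  pt_nat L L' _ _ _ _ φ χ := by
    rw [← Adjunction.homEquiv_naturality_left, ← P.pt_nat L L' φ χ, ← Category.assoc, ← Category.assoc]
    congr 2
  pt_surjective L _ _ g := by
    obtain ⟨χ, hχ⟩ := P.pt_surjective L ((Over.isoMk (Iso.refl _) (by simp) : (Over.map s).obj (Tp (K := K) L) ≅ T s L).inv ≫
      ((Over.mapPullbackAdj s).homEquiv (Tp (K := K) L) G).symm g)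
    exact ⟨χ, by rw [hχ, Iso.hom_inv_id_assoc, Equiv.apply_symm_apply]⟩

theorem bcPts_inj {S : Scheme.{u}} {G : Over S} [GrpObj G] (s : Spec (CommRingCat.of K) ⟶ S) (P : CharPts s M G)
    (h : ∀ (L : Type u) [CommRing L] [Algebra K L], Function.Injective (P.pt L : (Multiplicative M →* L) → _)) :
    Inj (bcPts s P) := fun L _ _ χ χ' e => by
  refine h L ?_
  exact (cancel_epi _).1 (((Over.mapPullbackAdj s).homEquiv (Tp (K := K) L) G).injective e)

/-- the points of `D(M)` over `Spec K` -/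
def diagPts : CharPts (𝟙 (Spec (CommRingCat.of K))) M (Red.diag K M) where
  pt L _ _ χ := (Over.homMk (𝟙 _) ((Category.id_comp _).trans (Category.comp_id _).symm) : Tp (K := K) L ⟶ CoactBr.sp K L) ≫ CoactBr.pt (ev χ)
  pt_mul L _ _ χ χ' := by
    rw [← MonObj.comp_mul, CoactBr.pt_mul_pt]
    congr 2
    refine MonoidAlgebra.algHom_ext (fun n => ?_) (Subsingleton.elim _ _)
    simp [ev]
  pt_nat L L' _ _ _ _ φ χ := by
    rw [← comp_ev, CoactBr.pt_comp]
    ext1
    show Spec.map (CommRingCat.ofHom φ.toRingHom) ≫ 𝟙 _ ≫ _ = 𝟙 _ ≫ _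
    exact (congrArg (Spec.map (CommRingCat.ofHom φ.toRingHom) ≫ ·) (Category.id_comp _)).trans
      (Category.id_comp (Spec.map (CommRingCat.ofHom φ.toRingHom) ≫ (CoactBr.pt (ev χ)).left)).symm
  pt_surjective L _ _ g := by
    let ψ := Spec.preimage g.left
    have hψ : CommRingCat.ofHom (algebraMap K (MonoidAlgebra K (Multiplicative M))) ≫ ψ =
        CommRingCat.ofHom (algebraMap K L) := by
      apply Spec.map_injective
      rw [Spec.map_comp, show Spec.map ψ = g.left from Spec.map_preimage _]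
      exact (Over.w g).trans (Category.comp_id _)
    let ψ' : MonoidAlgebra K (Multiplicative M) →ₐ[K] L :=
      ⟨ψ.hom, fun r => RingHom.congr_fun (congrArg CommRingCat.Hom.hom hψ) r⟩
    refine ⟨(ψ' : MonoidAlgebra K (Multiplicative M) →* L).comp (MonoidAlgebra.of K _), ?_⟩
    rw [show ev ((ψ' : MonoidAlgebra K (Multiplicative M) →* L).comp (MonoidAlgebra.of K _)) = ψ' from
      (MonoidAlgebra.lift K L _).apply_symm_apply ψ']
    ext1
    exact (Category.id_comp _).trans (Spec.map_preimage _)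

end Groth.Agent.HopfRep.CharHom

end
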