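import Groth.Agent.HopfRep.Flag
import Groth.Agent.HopfRep.Bridge

/-!
Subcoalgebras, translations, socle of the regular comodule.
-/

universe u v w w'

open TensorProduct

noncomputable section

namespace Groth.Agent.HopfRep.Coalg

open _root_.HopfRep Groth.Agent.HopfRep.Slice Groth.Agent.HopfRep.Flag

variable (k : Type u) [Field k] {C : Type v} [AddCommGroup C] [Module k C] [Coalgebra k C]

/-- Subcoalgebra. -/
def IsSubcoalg (B : Submodule k C) : Prop :=
  ∀ b ∈ B, CoalgebraStruct.comul (R := k) b ∈ LinearMap.range (TensorProduct.map B.subtype B.subtype)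

/-- Left translation. -/
def lt (φ : C →ₗ[k] k) : C →ₗ[k] C := dcontr C φ ∘ₗ Coalgebra.comul (R := k) (A := C)

/-- An atom in the lattice of subcomodules. -/
def IsAtomSub {V : Type w} [AddCommGroup V] [Module k V] [Comod k C V] (S : Submodule k V) : Prop :=
  IsSubcomod (k := k) (A := C) S ∧ S ≠ ⊥ ∧
    ∀ X : Submodule k V, IsSubcomod (k := k) (A := C) X → X ≤ S → X = ⊥ ∨ X = S

variable {k}

theorem dcontr_lTensor {V : Type w} [AddCommGroup V] [Module k V] {X : Type w'} [AddCommGroup X] [Module k X]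
    {Y : Type*} [AddCommGroup Y] [Module k Y] (φ : V →ₗ[k] k) (f : X →ₗ[k] Y) (z : V ⊗[k] X) :
    dcontr Y φ (f.lTensor V z) = f (dcontr X φ z) := by
  induction z with
  | zero => simp
  | tmul p q => simp
  | add p q hp hq => simp only [map_add, hp, hq]

theorem dcontr_rTensor {V : Type w} [AddCommGroup V] [Module k V] {W : Type w'} [AddCommGroup W] [Module k W]
    {X : Type*} [AddCommGroup X] [Module k X] (φ : W →ₗ[k] k) (f : V →ₗ[k] W) (z : V ⊗[k] X) :
    dcontr X φ (f.rTensor X z) = dcontr X (φ ∘ₗ f) z := by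
  induction z with
  | zero => simp
  | tmul p q => simp
  | add p q hp hq => simp only [map_add, hp, hq]

/-- Membership in `V ⊗ D`. -/
theorem mem_range_lTensor_iff {V : Type w} [AddCommGroup V] [Module k V] (D : Submodule k C) (z : V ⊗[k] C) :
    z ∈ LinearMap.range (D.subtype.lTensor V) ↔ ∀ φ : V →ₗ[k] k, dcontr C φ z ∈ D := by
  constructor
  · rintro ⟨y, rfl⟩ φ
    rw [dcontr_lTensor]
    exact (dcontr D φ y).2
  · intro h
    classical
    let b := Module.Free.chooseBasis k V
    have hz := (TensorProduct.equivFinsuppOfBasisLeft (N := C) b).symm_apply_apply z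
    rw [TensorProduct.equivFinsuppOfBasisLeft_symm_apply] at hz
    rw [← hz]
    refine Submodule.sum_mem _ fun i _ => ?_
    have hm : (TensorProduct.equivFinsuppOfBasisLeft b) z i ∈ D := by
      rw [TensorProduct.equivFinsuppOfBasisLeft_apply]
      exact h (b.coord i)
    exact ⟨b i ⊗ₜ (⟨_, hm⟩ : D), by simp⟩

theorem isSubcoalg_iff {B : Submodule k C} :
    IsSubcoalg k B ↔ IsSubcomod (k := k) (A := C) B ∧ ∀ φ : C →ₗ[k] k, ∀ b ∈ B, lt k φ b ∈ B := by
  constructor
  · refine fun h => ⟨fun b hb => ?_, fun φ b hb => ?_⟩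
    · obtain ⟨y, hy⟩ := h b hb
      exact ⟨B.subtype.lTensor B y, (by
        rw [← LinearMap.comp_apply, LinearMap.rTensor_comp_lTensor]
        exact hy)⟩
    · obtain ⟨y, hy⟩ := h b hb
      show dcontr C φ (Coalgebra.comul (R := k) b) ∈ B
      rw [← hy, ← LinearMap.lTensor_comp_rTensor, LinearMap.comp_apply, dcontr_lTensor]
      exact (dcontr B φ _).2
  · rintro ⟨h1, h2⟩ b hb
    obtain ⟨y, hy⟩ := h1 b hb
    have hy2 : y ∈ LinearMap.range (B.subtype.lTensor B) := by
      refine (mem_range_lTensor_iff B y).2 fun φ => ?_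
      obtain ⟨φ', hφ'⟩ := LinearMap.exists_extend φ
      have := h2 φ' b hb
      change dcontr C φ' (Comod.coact (k := k) (A := C) b) ∈ B at this
      rwa [← hy, dcontr_rTensor, hφ'] at this
    obtain ⟨z, rfl⟩ := hy2
    refine ⟨z, ?_⟩
    rw [← LinearMap.rTensor_comp_lTensor, LinearMap.comp_apply]
    exact hy

theorem IsSubcoalg.isSubcomod {B : Submodule k C} (h : IsSubcoalg k B) : IsSubcomod (k := k) (A := C) B :=
  (isSubcoalg_iff.1 h).1

theorem isSubcoalg_inf {B B' : Submodule k C} (h : IsSubcoalg k B) (h' : IsSubcoalg k B') :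
    IsSubcoalg k (B ⊓ B') :=
  isSubcoalg_iff.2 ⟨isSubcomod_inf h.isSubcomod h'.isSubcomod, fun φ b hb =>
    ⟨(isSubcoalg_iff.1 h).2 φ b hb.1, (isSubcoalg_iff.1 h').2 φ b hb.2⟩⟩

theorem isSubcoalg_iSup {ι : Sort*} {B : ι → Submodule k C} (h : ∀ i, IsSubcoalg k (B i)) :
    IsSubcoalg k (⨆ i, B i) :=
  isSubcoalg_iff.2 ⟨isSubcomod_iSup fun i => (h i).isSubcomod, fun φ b hb => by
    have : (⨆ i, B i) ≤ (⨆ i, B i).comap (lt k φ) :=
      iSup_le fun i x hx => Submodule.mem_iSup_of_mem i ((isSubcoalg_iff.1 (h i)).2 φ x hx)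
    exact this hb⟩

section hom

variable {W : Type w} [AddCommGroup W] [Module k W] [Comod k C W]

theorem isComodHom_coeff (φ : W →ₗ[k] k) :
    Hoch.IsComodHom C (dcontr C φ ∘ₗ Comod.coact (k := k) (A := C) : W →ₗ[k] C) := by
  refine isComodHom_of_slice fun g v => ?_
  show dcontr C φ (Comod.coact (k := k) (A := C) (slice k W g v)) = _
  rw [coact_slice, dcontr_lTensor]
  rfl

theorem eq_coeff {g : W →ₗ[k] C} (hg : Hoch.IsComodHom C g) :
    g = dcontr C (Coalgebra.counit ∘ₗ g) ∘ₗ Comod.coact (k := k) (A := C) := by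
  refine LinearMap.ext fun w => ?_
  rw [LinearMap.comp_apply, ← dcontr_rTensor, ← LinearMap.comp_apply (f := g.rTensor C), ← hg,
    LinearMap.comp_apply]
  show g w = dcontr C _ (Coalgebra.comul (R := k) (g w))
  simp [dcontr]

theorem coeff_injective {φ : W →ₗ[k] k} (h : IsSimpleComod k C W) (hφ : φ ≠ 0) :
    Function.Injective (dcontr C φ ∘ₗ Comod.coact (k := k) (A := C) : W →ₗ[k] C) := by
  rcases h.2 _ (isSubcomod_ker (isComodHom_coeff φ)) with h1 | h1
  · exact LinearMap.ker_eq_bot.1 h1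
  · refine absurd (LinearMap.ext fun w => ?_) hφ
    have h2 : (dcontr C φ ∘ₗ Comod.coact (k := k) (A := C) : W →ₗ[k] C) w = 0 :=
      LinearMap.mem_ker.1 (h1 ▸ Submodule.mem_top)
    have := congrArg (Coalgebra.counit (R := k) (A := C)) h2
    rw [LinearMap.comp_apply, contr_dcontr, ← slice_apply, slice_counit, map_zero] at this
    exact this

theorem atom_map {V : Type w'} [AddCommGroup V] [Module k V] [Comod k C V] {g : W →ₗ[k] V}
    (hg : Hoch.IsComodHom C g) {S : Submodule k W} (hS : IsAtomSub k (C := C) S) :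
    S.map g = ⊥ ∨ IsAtomSub k (C := C) (S.map g) := by
  by_cases h0 : S.map g = ⊥
  · exact Or.inl h0
  refine Or.inr ⟨isSubcomod_map hg hS.1, h0, fun X hX hle => ?_⟩
  rcases hS.2.2 _ (isSubcomod_inf hS.1 (isSubcomod_comap hg hX)) inf_le_left with h | h
  · refine Or.inl ((Submodule.eq_bot_iff _).2 fun x hx => ?_)
    obtain ⟨s, hs, rfl⟩ := hle hx
    rw [(Submodule.eq_bot_iff _).1 h s ⟨hs, hx⟩, map_zero]
  · exact Or.inr (le_antisymm hle (Submodule.map_le_iff_le_comap.2 (inf_eq_left.1 h)))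

theorem exists_atom_le {U : Submodule k W} (hU : IsSubcomod (k := k) (A := C) U) (h0 : U ≠ ⊥) :
    ∃ S, IsAtomSub k (C := C) S ∧ S ≤ U := by
  obtain ⟨x, hx, hx0⟩ := (Submodule.ne_bot_iff _).1 h0
  have hg : gen k C x ≠ ⊥ := (Submodule.ne_bot_iff _).2 ⟨x, mem_gen_self x, hx0⟩
  obtain ⟨S, hS, hle, hS0, hsimp⟩ := exists_simple_le (gen k C x) (isSubcomod_gen x) hg
  refine ⟨S, ⟨hS, hS0, fun X hX hXS => ?_⟩, hle.trans (gen_le hU hx)⟩
  let _ := restrict S hS
  have hmap : (X.comap S.subtype).map S.subtype = X :=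
    Submodule.map_comap_eq_of_le (by rw [Submodule.range_subtype]; exact hXS)
  rcases hsimp.2 (X.comap S.subtype) (isSubcomod_comap (isComodHom_subtype S hS) hX) with h | h
  · exact Or.inl (by rw [← hmap, h, Submodule.map_bot])
  · exact Or.inr (by rw [← hmap, h, Submodule.map_subtype_top])

theorem isSemisimple_of_atoms (h : sSup {S : Submodule k W | IsAtomSub k (C := C) S} = ⊤) :
    IsSemisimpleComod k C W := by
  rw [Bridge.isSemisimple_iff]
  letI := Bridge.module k C W
  haveI := Bridge.scalarTower k C W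
  refine IsSemisimpleModule.of_sSup_simples_eq_top ?_
  rw [eq_top_iff]
  intro x _
  have hle : sSup {S : Submodule k W | IsAtomSub k (C := C) S} ≤
      (sSup {m : Submodule (Bridge.Opr k C) W | IsSimpleModule (Bridge.Opr k C) m}).restrictScalars k := by
    refine sSup_le fun S hS => ?_
    have ha : IsAtom (Bridge.toSub S hS.1) := (Bridge.isAtom_toSub_iff S hS.1).2 ⟨hS.2.1, hS.2.2⟩
    intro y hy
    exact le_sSup (a := Bridge.toSub S hS.1) (show IsSimpleModule _ _ from isSimpleModule_iff_isAtom.2 ha) hy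
  exact hle (h ▸ Submodule.mem_top)

theorem atoms_of_isSemisimple (h : IsSemisimpleComod k C W) :
    sSup {S : Submodule k W | IsAtomSub k (C := C) S} = ⊤ := by
  by_contra hne
  obtain ⟨U, hU, hc⟩ := h _ (isSubcomod_sSup (k := k) (A := C) (S := {S : Submodule k W | IsAtomSub k (C := C) S}) fun S hS => hS.1)
  have hU0 : U ≠ ⊥ := fun he => hne (by have := hc.sup_eq_top; rwa [he, sup_bot_eq] at this)
  obtain ⟨S, hS, hle⟩ := exists_atom_le hU hU0
  exact hS.2.1 ((Submodule.eq_bot_iff _).2 fun x hx => Submodule.disjoint_def.1 hc.disjoint x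
    (le_sSup (s := {S : Submodule k W | IsAtomSub k (C := C) S}) hS hx) (hle hx))

end hom

theorem isComodHom_lt (φ : C →ₗ[k] k) : Hoch.IsComodHom C (lt k φ) := isComodHom_coeff φ

theorem lt_counit : lt k (Coalgebra.counit (R := k) (A := C)) = LinearMap.id := by
  refine LinearMap.ext fun c => ?_
  simp [lt, dcontr]

theorem eq_lt {g : C →ₗ[k] C} (hg : Hoch.IsComodHom C g) : g = lt k (Coalgebra.counit ∘ₗ g) := eq_coeff hg

/-- Subcoalgebras absorb homomorphic images of their subcomodules. -/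
theorem hom_mem {B : Submodule k C} (hB : IsSubcoalg k B) {S : Submodule k C}
    (hS : IsSubcomod (k := k) (A := C) S) (hle : S ≤ B) (g : S →ₗ[k] C)
    (hg : letI := restrict S hS; Hoch.IsComodHom C g) (s : S) : g s ∈ B := by
  letI := restrict S hS
  obtain ⟨ψ, hψ⟩ := LinearMap.exists_extend (Coalgebra.counit ∘ₗ g)
  have h1 := LinearMap.congr_fun (eq_coeff hg) s
  rw [h1, LinearMap.comp_apply, ← hψ, ← dcontr_rTensor, ← LinearMap.comp_apply (f := S.subtype.rTensor C),
    ← isComodHom_subtype S hS, LinearMap.comp_apply]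
  exact (isSubcoalg_iff.1 hB).2 ψ _ (hle s.2)

/-- The smallest subcoalgebra containing a subcomodule. -/
def span2 (S : Submodule k C) : Submodule k C := ⨆ φ : C →ₗ[k] k, S.map (lt k φ)

theorem le_span2 (S : Submodule k C) : S ≤ span2 S :=
  le_iSup_of_le (Coalgebra.counit (R := k) (A := C)) (by rw [lt_counit, Submodule.map_id])

theorem isSubcoalg_span2 {S : Submodule k C} (hS : IsSubcomod (k := k) (A := C) S) : IsSubcoalg k (span2 S) := by
  refine isSubcoalg_iff.2 ⟨isSubcomod_iSup fun φ => isSubcomod_map (isComodHom_lt φ) hS, fun ψ b hb => ?_⟩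
  have : span2 S ≤ (span2 S).comap (lt k ψ) := by
    refine iSup_le fun φ => Submodule.map_le_iff_le_comap.2 fun s hs => ?_
    have hh : Hoch.IsComodHom C (lt k ψ ∘ₗ lt k φ) := by
      show _ ∘ₗ _ = _
      rw [← LinearMap.comp_assoc, isComodHom_lt ψ, LinearMap.comp_assoc, isComodHom_lt φ, ← LinearMap.comp_assoc,
        ← LinearMap.rTensor_comp]
    show lt k ψ (lt k φ s) ∈ span2 S
    rw [← LinearMap.comp_apply (f := lt k ψ), eq_lt hh]
    exact Submodule.mem_iSup_of_mem _ ⟨s, hs, rfl⟩
  exact this hb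

theorem span2_le {S B : Submodule k C} (hB : IsSubcoalg k B) (h : S ≤ B) : span2 S ≤ B :=
  iSup_le fun φ => Submodule.map_le_iff_le_comap.2 fun s hs => (isSubcoalg_iff.1 hB).2 φ s (h hs)

theorem exists_atom_le_subcoalg {B : Submodule k C} (hB : IsSubcoalg k B) (h0 : B ≠ ⊥) :
    ∃ S, IsAtomSub k (C := C) S ∧ S ≤ B :=
  exists_atom_le hB.isSubcomod h0

variable (k C) in
/-- The socle of the regular comodule. -/
def soc : Submodule k C := sSup {S : Submodule k C | IsAtomSub k (C := C) S}

theorem isSubcoalg_soc : IsSubcoalg k (soc k C) := by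
  refine isSubcoalg_iff.2 ⟨isSubcomod_sSup fun S hS => hS.1, fun φ b hb => ?_⟩
  have : soc k C ≤ (soc k C).comap (lt k φ) := by
    refine sSup_le fun S hS => Submodule.map_le_iff_le_comap.1 ?_
    rcases atom_map (isComodHom_lt φ) hS with h | h
    · rw [h]; exact bot_le
    · exact le_sSup h
  exact this hb

/-- A minimal nonzero subcoalgebra is semisimple as a comodule. -/
theorem le_soc {B : Submodule k C} (hB : IsSubcoalg k B) (h0 : B ≠ ⊥)
    (hmin : ∀ X : Submodule k C, X ≤ B → IsSubcoalg k X → X = ⊥ ∨ X = B) : B ≤ soc k C := by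
  obtain ⟨S, hS, hle⟩ := exists_atom_le_subcoalg hB h0
  rcases hmin _ inf_le_left (isSubcoalg_inf hB isSubcoalg_soc) with h | h
  · exact absurd ((Submodule.eq_bot_iff _).2 fun x hx => (Submodule.eq_bot_iff _).1 h x
      ⟨hle hx, le_sSup (s := {S : Submodule k C | IsAtomSub k (C := C) S}) hS hx⟩) hS.2.1
  · exact inf_eq_left.1 h

section semisimple

/-- A projection onto a subcomodule of a semisimple regular comodule. -/
theorem exists_proj (hC : IsSemisimpleComod k C C) {S : Submodule k C} (hS : IsSubcomod (k := k) (A := C) S) :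
    ∃ p : C →ₗ[k] C, Hoch.IsComodHom C p ∧ (∀ x, p x ∈ S) ∧ ∀ x ∈ S, p x = x := by
  obtain ⟨U, hU, hc⟩ := hC S hS
  exact ⟨_, isComodHom_projection hS hU hc, fun x => (S.projectionOnto U hc x).2, fun x hx => by
    show ((S.projectionOnto U hc x : S) : C) = x
    rw [Submodule.projectionOnto_apply_left hc ⟨x, hx⟩]⟩

/-- An atom that receives a nonzero map from another atom sends it back inside every subcoalgebra. -/
theorem atom_le_of_map {S S' : Submodule k C} (hS : IsAtomSub k (C := C) S) (hS' : IsAtomSub k (C := C) S')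
    {g : C →ₗ[k] C} (hg : Hoch.IsComodHom C g) (hgS : S.map g = S') {B : Submodule k C} (hB : IsSubcoalg k B)
    (hle : S' ≤ B) : S ≤ B := by
  letI i1 := restrict S hS.1
  letI i2 := restrict S' hS'.1
  let g0 : S →ₗ[k] S' := LinearMap.codRestrict S' (g ∘ₗ S.subtype) fun s => hgS.le ⟨s, s.2, rfl⟩
  have hinj : Function.Injective g0 := by
    rcases hS.2.2 _ (isSubcomod_inf hS.1 (isSubcomod_ker hg)) inf_le_left with h | h
    · refine (injective_iff_map_eq_zero g0).2 fun s hs => Subtype.ext ?_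
      exact (Submodule.eq_bot_iff _).1 h s ⟨s.2, congrArg Subtype.val hs⟩
    · refine absurd ?_ hS'.2.1
      rw [← hgS]
      refine (Submodule.eq_bot_iff _).2 ?_
      rintro _ ⟨s, hs, rfl⟩
      exact LinearMap.mem_ker.1 ((inf_eq_left.1 h) hs)
  have hsurj : Function.Surjective g0 := fun t => by
    obtain ⟨s, hs, hst⟩ := hgS.ge t.2
    exact ⟨⟨s, hs⟩, Subtype.ext hst⟩
  have hg0 : Hoch.IsComodHom C g0 := isComodHom_of_slice fun f s => Subtype.ext (by
    show g ((slice k S f s : S) : C) = _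
    rw [slice_coe S hS.1, map_slice hg, slice_coe S' hS'.1]
    rfl)
  let e := LinearEquiv.ofBijective g0 ⟨hinj, hsurj⟩
  have he : Hoch.IsComodHom C e.symm.toLinearMap := isComodHom_of_slice fun f t => by
    apply e.injective
    rw [LinearEquiv.coe_coe, LinearEquiv.apply_symm_apply]
    have := map_slice hg0 f (e.symm t)
    rw [show g0 (e.symm t) = t from e.apply_symm_apply t] at this
    exact this.symm
  intro s hs
  have hh : Hoch.IsComodHom C (S.subtype ∘ₗ e.symm.toLinearMap) := isComodHom_of_slice fun f t => by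
    rw [LinearMap.comp_apply, map_slice he, map_slice (isComodHom_subtype S hS.1), LinearMap.comp_apply]
  have := hom_mem hB hS'.1 hle _ hh (g0 ⟨s, hs⟩)
  rwa [LinearMap.comp_apply, LinearEquiv.coe_coe, show g0 ⟨s, hs⟩ = e ⟨s, hs⟩ from rfl,
    LinearEquiv.symm_apply_apply] at this

/-- If a subcomodule is covered by translates of atoms, every atom in it is the image of one of them. -/
theorem exists_map_eq (hC : IsSemisimpleComod k C C) {ι : Sort*} (X : ι → Submodule k C)
    {S' : Submodule k C} (hS' : IsAtomSub k (C := C) S') (hle : S' ≤ ⨆ i, X i)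
    (hX : ∀ i, IsSubcomod (k := k) (A := C) (X i)) :
    ∃ (i : ι) (p : C →ₗ[k] C), Hoch.IsComodHom C p ∧ (X i).map p = S' := by
  obtain ⟨p, hp, hpm, hpf⟩ := exists_proj hC hS'.1
  by_contra hno
  push Not at hno
  refine hS'.2.1 ((Submodule.eq_bot_iff _).2 fun x hx => ?_)
  have h0 : (⨆ i, X i) ≤ LinearMap.ker p := by
    refine iSup_le fun i y hy => ?_
    rcases hS'.2.2 _ (isSubcomod_map hp (hX i)) (by rintro _ ⟨z, -, rfl⟩; exact hpm z) with h | h
    · exact (Submodule.eq_bot_iff _).1 h _ ⟨y, hy, rfl⟩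
    · exact absurd h (hno i p hp)
  rw [← hpf x hx]
  exact h0 (hle hx)

theorem span2_min (hC : IsSemisimpleComod k C C) {S : Submodule k C} (hS : IsAtomSub k (C := C) S)
    {B : Submodule k C} (hle : B ≤ span2 S) (hB : IsSubcoalg k B) : B = ⊥ ∨ B = span2 S := by
  by_cases h0 : B = ⊥
  · exact Or.inl h0
  refine Or.inr (le_antisymm hle (span2_le hB ?_))
  obtain ⟨S', hS', hS'B⟩ := exists_atom_le_subcoalg hB h0
  obtain ⟨φ, p, hp, he⟩ := exists_map_eq hC (fun φ : C →ₗ[k] k => S.map (lt k φ)) hS' (hS'B.trans hle)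
    (fun φ => isSubcomod_map (isComodHom_lt φ) hS.1)
  have hh : Hoch.IsComodHom C (p ∘ₗ lt k φ) := isComodHom_of_slice fun f x => by
    rw [LinearMap.comp_apply, map_slice (isComodHom_lt φ), map_slice hp, LinearMap.comp_apply]
  exact atom_le_of_map hS hS' hh (by rw [Submodule.map_comp, he]) hB hS'B

end semisimple

/-- If the regular comodule is semisimple, every comodule is. -/
theorem isSemisimple_of_regular (hC : IsSemisimpleComod k C C) {W : Type w} [AddCommGroup W] [Module k W]
    [Comod k C W] : IsSemisimpleComod k C W := by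
  refine isSemisimpleComod_of_finite fun U hU hfin => ?_
  letI := restrict U hU
  rw [Bridge.isSemisimple_iff] at hC ⊢
  letI := Bridge.module k C U
  letI := Bridge.module k C C
  haveI := hC
  let b := Module.finBasis k U
  let F : U →ₗ[Bridge.Opr k C] (Fin (Module.finrank k U) → C) :=
    LinearMap.pi fun i => Bridge.toLin _ (isComodHom_coeff (W := U) (b.coord i))
  have hF : Function.Injective F := by
    refine (injective_iff_map_eq_zero F).2 fun x hx => b.repr.injective (Finsupp.ext fun i => ?_)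
    have h : dcontr C (b.coord i) (Comod.coact (k := k) (A := C) x) = 0 := congrFun hx i
    have h' := congrArg (Coalgebra.counit (R := k) (A := C)) h
    rw [contr_dcontr, ← slice_apply, slice_counit, map_zero] at h'
    simpa using h'
  exact (LinearEquiv.ofInjective F hF).isSemisimpleModule_iff.mpr inferInstance

end Groth.Agent.HopfRep.Coalg
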