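import Groth.Agent.HopfRep.Coalg
import Groth.Prelude.Def_SGA3y
import Mathlib.RingTheory.Coalgebra.Convolution
import Mathlib.RingTheory.Polynomial.Pochhammer
import Mathlib.Algebra.Polynomial.Roots
import Mathlib.Data.Nat.Choose.Cast
import Mathlib.Data.Nat.Choose.Sum

/-!
Connected cocommutative bialgebras in characteristic zero are generated by their primitive elements,
and ordered monomials in a basis of the primitive elements are independent.
-/

universe u v

open TensorProduct WithConv

noncomputable section

namespace Groth.Agent.HopfRep.ConnBialg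

open _root_.HopfRep Groth.Agent.HopfRep.Slice Groth.Agent.HopfRep.Flag

attribute [local instance 100] LieRing.ofAssociativeRing

variable {k : Type u} [Field k] {H : Type v} [Ring H] [Bialgebra k H]

theorem isSubcoalg_one : Coalg.IsSubcoalg k (Submodule.span k {(1 : H)}) := by
  intro b hb
  obtain ⟨c, rfl⟩ := Submodule.mem_span_singleton.1 hb
  rw [map_smul, Bialgebra.comul_one]
  refine Submodule.smul_mem _ _ ⟨⟨1, Submodule.mem_span_singleton_self 1⟩ ⊗ₜ[k]
    ⟨1, Submodule.mem_span_singleton_self 1⟩, ?_⟩
  simp [Algebra.TensorProduct.one_def]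

theorem eq_smul_one_of_coact {y : H} (h : Coalgebra.comul (R := k) y = y ⊗ₜ[k] (1 : H)) :
    y = Coalgebra.counit (R := k) y • (1 : H) := by
  have := congrArg (fun z => TensorProduct.lid k H ((Coalgebra.counit (R := k) (A := H)).rTensor H z)) h
  simpa using this

/-- Every atom of a comodule over a connected bialgebra consists of fixed vectors. -/
theorem atom_fixed (hc : SGA3y.IsConnectedCoalg k H) {V : Type*} [AddCommGroup V] [Module k V] [Comod k H V]
    {E : Submodule k V} (hE : Coalg.IsAtomSub k (C := H) E) {e : V} (he : e ∈ E) :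
    Comod.coact (k := k) (A := H) e = e ⊗ₜ[k] (1 : H) := by
  classical
  obtain ⟨x, hxE, hx⟩ := (Submodule.ne_bot_iff _).1 hE.2.1
  obtain ⟨b, hb⟩ : ∃ φ : V →ₗ[k] k, φ x ≠ 0 := by
    let B := Module.Free.chooseBasis k V
    have : B.repr x ≠ 0 := fun h => hx (B.repr.injective (by rw [h, map_zero]))
    obtain ⟨i, hi⟩ := Finsupp.support_nonempty_iff.2 this
    exact ⟨B.coord i, by simpa using hi⟩
  -- the coefficient image of the atom
  let g : V →ₗ[k] H := dcontr H b ∘ₗ Comod.coact (k := k) (A := H)
  have hg : Hoch.IsComodHom H g := Coalg.isComodHom_coeff b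
  have hgx : g x ≠ 0 := fun h => hb (by
    have := congrArg (Coalgebra.counit (R := k) (A := H)) h
    rwa [map_zero, LinearMap.comp_apply, contr_dcontr, ← slice_apply, slice_counit] at this)
  have hE' : Coalg.IsAtomSub k (C := H) (E.map g) :=
    (Coalg.atom_map hg hE).resolve_left fun h => hgx ((Submodule.eq_bot_iff _).1 h _ ⟨x, hxE, rfl⟩)
  have hinjE : ∀ y ∈ E, g y = 0 → y = 0 := by
    rcases hE.2.2 _ (isSubcomod_inf hE.1 (isSubcomod_ker hg)) inf_le_left with h | h
    · exact fun y hy h0 => (Submodule.eq_bot_iff _).1 h y ⟨hy, h0⟩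
    · exact absurd (LinearMap.mem_ker.1 ((inf_eq_left.1 h) hxE)) hgx
  have hone : (1 : H) ∈ Coalg.span2 (E.map g) := hc _ (Coalg.isSubcoalg_span2 hE'.1)
    fun h => hE'.2.1 (le_bot_iff.1 (h ▸ Coalg.le_span2 _))
  obtain ⟨s, hs⟩ := Submodule.exists_finset_of_mem_iSup _ hone
  obtain ⟨t, ht, hmin⟩ : ∃ t : Finset (H →ₗ[k] k), (1 : H) ∈ (⨆ φ ∈ t, (E.map g).map (Coalg.lt k φ)) ∧
      ∀ t' ⊂ t, (1 : H) ∉ (⨆ φ ∈ t', (E.map g).map (Coalg.lt k φ)) :=
    (s.strongInductionOn (p := fun s => (1 : H) ∈ (⨆ φ ∈ s, (E.map g).map (Coalg.lt k φ)) →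
      ∃ t : Finset (H →ₗ[k] k), (1 : H) ∈ (⨆ φ ∈ t, (E.map g).map (Coalg.lt k φ)) ∧
        ∀ t' ⊂ t, (1 : H) ∉ (⨆ φ ∈ t', (E.map g).map (Coalg.lt k φ))) (fun s ih hs => by
      by_cases h : ∃ t' ⊂ s, (1 : H) ∈ (⨆ φ ∈ t', (E.map g).map (Coalg.lt k φ))
      · obtain ⟨t', ht', h1⟩ := h
        exact ih t' ht' h1
      · exact ⟨s, hs, fun t' ht' h1 => h ⟨t', ht', h1⟩⟩)) hs
  rcases t.eq_empty_or_nonempty with h0 | ⟨φ, hφ⟩
  · subst h0
    have h1 : (1 : H) = 0 := by simpa using ht
    have := Bialgebra.counit_one (R := k) (A := H)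
    rw [h1, map_zero] at this
    exact absurd this zero_ne_one
  let F : Submodule k H := (E.map g).map (Coalg.lt k φ)
  let R : Submodule k H := ⨆ ψ ∈ t.erase φ, (E.map g).map (Coalg.lt k ψ)
  have hR : IsSubcomod (k := k) (A := H) R :=
    isSubcomod_iSup fun ψ => isSubcomod_iSup fun _ => isSubcomod_map (Coalg.isComodHom_lt ψ) hE'.1
  have hmem : (1 : H) ∈ F ⊔ R := by
    rw [← Finset.insert_erase hφ, Finset.iSup_insert] at ht
    exact ht
  have hnot : (1 : H) ∉ R := hmin _ (Finset.erase_ssubset hφ)
  obtain ⟨y, hy, z, hz, hyz⟩ := Submodule.mem_sup.1 hmem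
  have hF : Coalg.IsAtomSub k (C := H) F := by
    refine (Coalg.atom_map (Coalg.isComodHom_lt φ) hE').resolve_left fun h => hnot ?_
    rw [(Submodule.eq_bot_iff _).1 h y hy, zero_add] at hyz
    exact hyz ▸ hz
  have hdisj : F ⊓ R = ⊥ := by
    refine (hF.2.2 _ (isSubcomod_inf hF.1 hR) inf_le_left).resolve_right fun h => hnot ?_
    exact hyz ▸ add_mem ((inf_eq_left.1 h) hy) hz
  have hy0 : y ≠ 0 := fun h => hnot (by rw [h, zero_add] at hyz; exact hyz ▸ hz)
  have hyfix : Coalgebra.comul (R := k) y = y ⊗ₜ[k] (1 : H) := by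
    refine eq_of_contr fun f => ?_
    rw [contr_tmul]
    show slice k H f y = f 1 • y
    refine sub_eq_zero.1 ((Submodule.eq_bot_iff _).1 hdisj _ ⟨sub_mem (isSubcomod_iff.1 hF.1 f y hy)
      (Submodule.smul_mem _ _ hy), ?_⟩)
    have h1 : slice k H f (1 : H) = f 1 • (1 : H) := by
      rw [slice_apply]
      show contr k H f (Coalgebra.comul (R := k) (1 : H)) = _
      rw [Bialgebra.comul_one, Algebra.TensorProduct.one_def, contr_tmul]
    have h2 : slice k H f y - f 1 • y = f 1 • z - slice k H f z := by
      have h3 := congrArg (slice k H f) hyz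
      rw [map_add, h1] at h3
      have h4 : f 1 • (1 : H) = f 1 • y + f 1 • z := by rw [← smul_add, hyz]
      rw [sub_eq_sub_iff_add_eq_add, h3, h4]
      abel
    rw [h2]
    exact sub_mem (Submodule.smul_mem _ _ hz) (isSubcomod_iff.1 hR f z hz)
  have hline : IsSubcomod (k := k) (A := H) (Submodule.span k {y}) := by
    refine isSubcomod_iff.2 fun f w hw => ?_
    obtain ⟨c, rfl⟩ := Submodule.mem_span_singleton.1 hw
    rw [map_smul, slice_apply]
    show c • contr k H f (Coalgebra.comul (R := k) y) ∈ _
    rw [hyfix, contr_tmul]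
    exact Submodule.smul_mem _ _ (Submodule.smul_mem _ _ (Submodule.mem_span_singleton_self y))
  have hFy : F = Submodule.span k {y} :=
    ((hF.2.2 _ hline ((Submodule.span_singleton_le_iff_mem _ _).2 hy)).resolve_left
      (fun h => hy0 (Submodule.span_singleton_eq_bot.1 h))).symm
  -- transport back to `E` along the injective composite
  have hh : Hoch.IsComodHom H (Coalg.lt k φ ∘ₗ g) := isComodHom_of_slice fun f w => by
    simp only [LinearMap.comp_apply]
    rw [map_slice hg, map_slice (Coalg.isComodHom_lt φ)]
  have hinj2 : ∀ w ∈ E, Coalg.lt k φ (g w) = 0 → w = 0 := by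
    rcases hE.2.2 _ (isSubcomod_inf hE.1 (isSubcomod_ker hh)) inf_le_left with h | h
    · exact fun w hw h0 => (Submodule.eq_bot_iff _).1 h w ⟨hw, h0⟩
    · refine absurd ?_ hF.2.1
      refine (Submodule.eq_bot_iff _).2 ?_
      rintro _ ⟨_, ⟨w, hw, rfl⟩, rfl⟩
      exact LinearMap.mem_ker.1 ((inf_eq_left.1 h) hw)
  refine eq_of_contr fun f => ?_
  rw [contr_tmul, ← slice_apply]
  refine sub_eq_zero.1 (hinj2 _ (sub_mem (isSubcomod_iff.1 hE.1 f e he) (Submodule.smul_mem _ _ he)) ?_)
  obtain ⟨c, hc'⟩ := Submodule.mem_span_singleton.1 (hFy.le ⟨_, ⟨e, he, rfl⟩, rfl⟩)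
  rw [← LinearMap.comp_apply, map_sub, map_smul, map_slice hh, LinearMap.comp_apply, ← hc', map_smul]
  rw [slice_apply]
  show c • contr k H f (Coalgebra.comul (R := k) y) - _ = 0
  rw [hyfix, contr_tmul, smul_comm, sub_self]

variable (k H) in
/-- The ascending one-sided filtration. -/
def Lv : ℕ → Submodule k H
  | 0 => ⊥
  | n + 1 => LinearMap.ker ((Lv n).mkQ.rTensor H ∘ₗ
      (Coalgebra.comul (R := k) (A := H) - (TensorProduct.mk k H H).flip 1))

theorem mem_Lv_succ {n : ℕ} {h : H} :
    h ∈ Lv k H (n + 1) ↔ (Lv k H n).mkQ.rTensor H (Coalgebra.comul (R := k) h - h ⊗ₜ[k] (1 : H)) = 0 := by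
  simp [Lv]

theorem exists_decomp {n : ℕ} {h : H} (hh : h ∈ Lv k H (n + 1)) :
    ∃ z : (Lv k H n) ⊗[k] H,
      Coalgebra.comul (R := k) h = h ⊗ₜ[k] (1 : H) + (Lv k H n).subtype.rTensor H z := by
  obtain ⟨z, hz⟩ := mem_range_of_mkQ _ (mem_Lv_succ.1 hh)
  exact ⟨z, by rw [hz]; abel⟩

theorem exists_Lv (hc : SGA3y.IsConnectedCoalg k H) (h : H) : ∃ n, h ∈ Lv k H n := by
  classical
  let U := gen k H h
  have hU : IsSubcomod (k := k) (A := H) U := isSubcomod_gen h
  letI := restrict U hU
  obtain ⟨F, -, h0, htop, -, hP⟩ := exists_flag (A := H) U (fun X X' => ∀ v ∈ X',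
      Comod.coact (k := k) (A := H) v - v ⊗ₜ[k] (1 : H) ∈ LinearMap.range (X.subtype.rTensor H)) (by
    intro X (hX : IsSubcomod (k := k) (A := H) X) hne
    let _ := quot (A := H) X hX
    have : Nontrivial (U ⧸ X) := Submodule.Quotient.nontrivial_iff.2 hne
    obtain ⟨S, hS, -⟩ := Coalg.exists_atom_le (C := H) (U := (⊤ : Submodule k (U ⧸ X)))
      ((isSubcomod_iff (k := k) (A := H)).2 fun _ _ _ => Submodule.mem_top) top_ne_bot
    obtain ⟨q, hq, hq0⟩ := (Submodule.ne_bot_iff _).1 hS.2.1
    obtain ⟨v, rfl⟩ := Submodule.Quotient.mk_surjective X q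
    refine ⟨X ⊔ S.comap X.mkQ, isSubcomod_sup hX (isSubcomod_comap (isComodHom_mkQ X hX) hS.1),
      lt_of_le_of_ne le_sup_left fun he => hq0 ((Submodule.Quotient.mk_eq_zero X).2
        (he ▸ Submodule.mem_sup_right (show v ∈ S.comap X.mkQ from hq))), ?_⟩
    intro w hw
    refine mem_range_of_mkQ X ?_
    have hle : X ⊔ S.comap X.mkQ ≤ S.comap X.mkQ :=
      sup_le (fun y hy => by simp [(Submodule.Quotient.mk_eq_zero X).2 hy]) le_rfl
    have := atom_fixed hc hS (hle hw)
    rw [map_sub, LinearMap.rTensor_tmul, ← this]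
    exact sub_self _)
  refine ⟨Module.finrank k U, ?_⟩
  have key : ∀ i, ∀ v ∈ F i, (v : H) ∈ Lv k H i := by
    intro i
    induction i with
    | zero =>
      intro v hv
      rw [h0, Submodule.mem_bot] at hv
      simp [hv]
    | succ i ih =>
      intro v hv
      rw [mem_Lv_succ]
      have hy : Comod.coact (k := k) (A := H) v - v ⊗ₜ[k] (1 : H) ∈ LinearMap.range ((F i).subtype.rTensor H) := by
        by_cases hi : F i = ⊤
        · exact mem_range_of_mkQ _ (by
            have : (F i).mkQ = 0 := by ext x; simp [hi]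
            simp [this])
        · exact (hP i).2 hi v hv
      obtain ⟨y, hy⟩ := hy
      have e1 : Coalgebra.comul (R := k) (v : H) - (v : H) ⊗ₜ[k] (1 : H) =
          U.subtype.rTensor H ((F i).subtype.rTensor H y) := by
        rw [hy, map_sub, LinearMap.rTensor_tmul, Submodule.subtype_apply,
          ← LinearMap.comp_apply (f := U.subtype.rTensor H), ← isComodHom_subtype U hU]
        rfl
      have e2 : (Lv k H i).mkQ ∘ₗ U.subtype ∘ₗ (F i).subtype = 0 := LinearMap.ext fun w => by
        simp [(Submodule.Quotient.mk_eq_zero _).2 (ih w.1 w.2)]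
      rw [e1, ← LinearMap.rTensor_comp_apply, ← LinearMap.rTensor_comp_apply, LinearMap.comp_assoc, e2,
        LinearMap.rTensor_zero, LinearMap.zero_apply]
  exact key _ (⟨h, mem_gen_self h⟩ : U) (htop ▸ Submodule.mem_top)

variable (k H) in
/-- `id - ηε` in the convolution ring. -/
def uu : WithConv (H →ₗ[k] H) := toConv LinearMap.id - 1

theorem uu_apply (h : H) : (uu k H).ofConv h = h - Coalgebra.counit (R := k) h • (1 : H) := by
  simp [uu, LinearMap.convOne_def, Algebra.algebraMap_eq_smul_one]

theorem pow_one_zero : ∀ i : ℕ, i ≠ 0 → (uu k H ^ i).ofConv (1 : H) = 0 := by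
  intro i hi
  obtain ⟨j, rfl⟩ := Nat.exists_eq_succ_of_ne_zero hi
  rw [pow_succ, LinearMap.convMul_def, ofConv_toConv]
  simp [Algebra.TensorProduct.one_def, uu_apply, Bialgebra.counit_one]

theorem pow_comp_uu (i : ℕ) (hi : i ≠ 0) (h : H) :
    (uu k H ^ i).ofConv ((uu k H).ofConv h) = (uu k H ^ i).ofConv h := by
  rw [uu_apply, map_sub, map_smul, pow_one_zero i hi, smul_zero, sub_zero]

theorem pow_vanish : ∀ (n i : ℕ), n ≤ i → ∀ h ∈ Lv k H n, (uu k H ^ i).ofConv h = 0 := by
  intro n
  induction n with
  | zero => intro i _ h hh; simp [(Submodule.mem_bot k).1 (hh : h ∈ (⊥ : Submodule k H))]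
  | succ n ih =>
    intro i hi h hh
    obtain ⟨j, rfl⟩ := Nat.exists_eq_succ_of_ne_zero (by omega : i ≠ 0)
    obtain ⟨z, hz⟩ := exists_decomp hh
    rw [pow_succ, LinearMap.convMul_def, ofConv_toConv, LinearMap.comp_apply, LinearMap.comp_apply, hz,
      map_add, map_add, TensorProduct.map_tmul,
      show (uu k H).ofConv (1 : H) = 0 by simp [uu_apply, Bialgebra.counit_one], TensorProduct.tmul_zero,
      map_zero, zero_add]
    clear hz
    induction z with
    | zero => simp
    | add a b ha hb => rw [map_add, map_add, map_add, ha, hb, add_zero]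
    | tmul a b => simp [ih j (by omega) a a.2]

section binomial

variable (k) in
/-- `X.choose i` as a polynomial. -/
def binPoly (i : ℕ) : Polynomial k := Polynomial.C ((i.factorial : k)⁻¹) * descPochhammer k i

theorem binPoly_eval [CharZero k] (m i : ℕ) : (binPoly k i).eval (m : k) = (m.choose i : k) := by
  rw [binPoly, Polynomial.eval_mul, Polynomial.eval_C, descPochhammer_eval_eq_descFactorial,
    Nat.descFactorial_eq_factorial_mul_choose, Nat.cast_mul, ← mul_assoc,
    inv_mul_cancel₀ (Nat.cast_ne_zero.2 (Nat.factorial_ne_zero i)), one_mul]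

theorem binPoly_coeff_zero [CharZero k] (i : ℕ) : (binPoly k i).coeff 0 = if i = 0 then 1 else 0 := by
  rw [Polynomial.coeff_zero_eq_eval_zero, ← Nat.cast_zero (R := k), binPoly_eval]
  rcases i with _ | i <;> simp

theorem binPoly_one : (binPoly k 1).coeff 1 = 1 := by
  simp [binPoly]

/-- Linear coefficient of a binomial identity. -/
theorem linear_part [CharZero k] {M : Type*} [AddCommGroup M] [Module k M] (N : ℕ) (a : ℕ → M) (b : ℕ → ℕ → M)
    (h : ∀ m : ℕ, ∑ i ∈ Finset.range N, (m.choose i : k) • a i =
      ∑ i ∈ Finset.range N, ∑ j ∈ Finset.range N, ((m.choose i : k) * (m.choose j : k)) • b i j) :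
    ∑ i ∈ Finset.range N, (binPoly k i).coeff 1 • a i =
      ∑ i ∈ Finset.range N, ∑ j ∈ Finset.range N,
        ((binPoly k i * binPoly k j).coeff 1) • b i j := by
  classical
  refine (Module.Free.chooseBasis k M).ext_elem fun t => ?_
  let φ : M →ₗ[k] k := (Module.Free.chooseBasis k M).coord t
  let P : Polynomial k := ∑ i ∈ Finset.range N, Polynomial.C (φ (a i)) * binPoly k i -
    ∑ i ∈ Finset.range N, ∑ j ∈ Finset.range N, Polynomial.C (φ (b i j)) * (binPoly k i * binPoly k j)
  have hP : P = 0 := by
    refine Polynomial.eq_zero_of_infinite_isRoot P (Set.Infinite.mono ?_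
      (Set.infinite_range_of_injective (Nat.cast_injective (R := k))))
    rintro _ ⟨m, rfl⟩
    have := congrArg φ (h m)
    simp only [map_sum, map_smul, smul_eq_mul] at this
    simp only [Set.mem_setOf_eq, Polynomial.IsRoot, P, Polynomial.eval_sub, Polynomial.eval_finset_sum,
      Polynomial.eval_mul, Polynomial.eval_C, binPoly_eval, sub_eq_zero]
    simpa [mul_comm] using this
  have := congrArg (Polynomial.coeff · 1) hP
  simp only [P, Polynomial.coeff_sub, Polynomial.finset_sum_coeff, Polynomial.coeff_C_mul,
    Polynomial.coeff_zero, sub_eq_zero] at this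
  show φ _ = φ _
  simpa [map_sum, mul_comm] using this

end binomial

section cocomm

variable [Coalgebra.IsCocomm k H]

variable (k H) in
/-- `h ↦ uu h ⊗ 1`. -/
def U₁ : WithConv (H →ₗ[k] H ⊗[k] H) :=
  toConv ((Algebra.TensorProduct.includeLeft : H →ₐ[k] H ⊗[k] H).toLinearMap ∘ₗ (uu k H).ofConv)

variable (k H) in
/-- `h ↦ 1 ⊗ uu h`. -/
def U₂ : WithConv (H →ₗ[k] H ⊗[k] H) :=
  toConv ((Algebra.TensorProduct.includeRight : H →ₐ[k] H ⊗[k] H).toLinearMap ∘ₗ (uu k H).ofConv)

omit [Coalgebra.IsCocomm k H] in
theorem comp_pow {A : Type*} [Ring A] [Algebra k A] (f : H →ₐ[k] A) (i : ℕ) :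
    (toConv (f.toLinearMap ∘ₗ (uu k H).ofConv) : WithConv (H →ₗ[k] A)) ^ i =
      toConv (f.toLinearMap ∘ₗ (uu k H ^ i).ofConv) := by
  induction i with
  | zero =>
    rw [pow_zero, pow_zero]
    refine WithConv.ofConv_injective (LinearMap.ext fun h => ?_)
    simp [LinearMap.convOne_def]
  | succ i ih =>
    rw [pow_succ, ih, pow_succ]
    refine WithConv.ofConv_injective ?_
    rw [ofConv_toConv, LinearMap.algHom_comp_convMul_distrib]

theorem commute_U : Commute (U₁ k H) (U₂ k H) := by
  refine WithConv.ofConv_injective (LinearMap.ext fun h => ?_)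
  simp only [LinearMap.convMul_def, ofConv_toConv, LinearMap.comp_apply]
  conv_rhs => rw [← Coalgebra.comm_comul k h]
  generalize Coalgebra.comul (R := k) h = z
  induction z with
  | zero => simp
  | add a b ha hb => simp only [map_add, ha, hb]
  | tmul a b => simp [U₁, U₂, Algebra.TensorProduct.tmul_mul_tmul]

theorem one_add_comul : 1 + toConv ((Bialgebra.comulAlgHom k H).toLinearMap ∘ₗ (uu k H).ofConv) =
    (1 + U₁ k H) * (1 + U₂ k H) := by
  refine WithConv.ofConv_injective (LinearMap.ext fun h => ?_)
  have hA : ∀ f : H →ₐ[k] H ⊗[k] H, ∀ x : H,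
      (1 + toConv (f.toLinearMap ∘ₗ (uu k H).ofConv) : WithConv (H →ₗ[k] H ⊗[k] H)).ofConv x = f x := by
    intro f x
    simp [LinearMap.convOne_def, uu_apply, Algebra.algebraMap_eq_smul_one]
  rw [hA, LinearMap.convMul_def, ofConv_toConv, LinearMap.comp_apply, LinearMap.comp_apply]
  show Coalgebra.comul (R := k) h = _
  generalize Coalgebra.comul (R := k) h = z
  induction z with
  | zero => simp
  | add a b ha hb => simp only [map_add, ← ha, ← hb]
  | tmul a b =>
    rw [TensorProduct.map_tmul, LinearMap.mul'_apply, U₁, U₂, hA, hA]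
    simp [Algebra.TensorProduct.tmul_mul_tmul]

theorem mul_pow_apply (i j : ℕ) (h : H) :
    (U₁ k H ^ i * U₂ k H ^ j).ofConv h =
      TensorProduct.map (uu k H ^ i).ofConv (uu k H ^ j).ofConv (Coalgebra.comul (R := k) h) := by
  rw [U₁, U₂, comp_pow, comp_pow, LinearMap.convMul_def, ofConv_toConv, LinearMap.comp_apply,
    LinearMap.comp_apply]
  generalize Coalgebra.comul (R := k) h = z
  induction z with
  | zero => simp
  | add a b ha hb => simp only [map_add, ha, hb]
  | tmul a b => simp [Algebra.TensorProduct.tmul_mul_tmul]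

theorem mul_pow_vanish {n : ℕ} {h : H} (hh : h ∈ Lv k H n) (i j : ℕ) (hij : n ≤ i ∨ n ≤ j) :
    (U₁ k H ^ i * U₂ k H ^ j).ofConv h = 0 := by
  suffices H1 : ∀ i j : ℕ, n ≤ i → (U₁ k H ^ i * U₂ k H ^ j).ofConv h = 0 by
    rcases hij with hi | hj
    · exact H1 i j hi
    · rw [mul_pow_apply, ← Coalgebra.comm_comul k h, TensorProduct.map_comm, ← mul_pow_apply, H1 j i hj,
        map_zero]
  intro i j hi
  rcases n with _ | n
  · simp [(Submodule.mem_bot k).1 (hh : h ∈ (⊥ : Submodule k H))]
  obtain ⟨z, hz⟩ := exists_decomp hh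
  rw [mul_pow_apply, hz, map_add, TensorProduct.map_tmul, pow_vanish (n + 1) i hi h hh, TensorProduct.zero_tmul,
    zero_add]
  clear hz
  induction z with
  | zero => simp
  | add a b ha hb => rw [map_add, map_add, ha, hb, add_zero]
  | tmul a b => simp [pow_vanish (k := k) (H := H) n i (by omega) (a : H) a.2]

variable [CharZero k]

variable (k H) in
/-- The first Eulerian idempotent, truncated. -/
def eul (N : ℕ) (h : H) : H := ∑ i ∈ Finset.range N, (binPoly k i).coeff 1 • (uu k H ^ i).ofConv h

theorem eul_mem_prim {n : ℕ} {h : H} (hh : h ∈ Lv k H n) {N : ℕ} (hN : n ≤ N) :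
    eul k H N h ∈ SGA3y.primLie k H := by
  show Coalgebra.comul (R := k) (eul k H N h) = eul k H N h ⊗ₜ[k] (1 : H) + (1 : H) ⊗ₜ[k] eul k H N h
  let ev : WithConv (H →ₗ[k] H ⊗[k] H) →+ H ⊗[k] H :=
    { toFun := fun f => f.ofConv h, map_zero' := by simp, map_add' := fun f g => by simp }
  let X : WithConv (H →ₗ[k] H ⊗[k] H) := toConv ((Bialgebra.comulAlgHom k H).toLinearMap ∘ₗ (uu k H).ofConv)
  have hXv : ∀ i, N ≤ i → ev (X ^ i) = 0 := by
    intro i hi
    show (X ^ i).ofConv h = 0
    simp only [X]
    rw [comp_pow, ofConv_toConv, LinearMap.comp_apply, pow_vanish n i (hN.trans hi) h hh, map_zero]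
  have hUv : ∀ i j, N ≤ i ∨ N ≤ j → ev (U₁ k H ^ i * U₂ k H ^ j) = 0 := fun i j hij =>
    mul_pow_vanish hh i j (hij.imp hN.trans hN.trans)
  have hcast : ∀ (c : ℕ) (f : WithConv (H →ₗ[k] H ⊗[k] H)), ev (f * (c : WithConv (H →ₗ[k] H ⊗[k] H))) = (c : k) • ev f := by
    intro c f
    rw [← nsmul_eq_mul', map_nsmul, Nat.cast_smul_eq_nsmul]
  have key : ∀ m : ℕ, ∑ i ∈ Finset.range N, (m.choose i : k) • ev (X ^ i) =
      ∑ i ∈ Finset.range N, ∑ j ∈ Finset.range N,
        ((m.choose i : k) * (m.choose j : k)) • ev (U₁ k H ^ i * U₂ k H ^ j) := by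
    intro m
    have hpow : ∀ f : WithConv (H →ₗ[k] H ⊗[k] H), (1 + f) ^ m =
        ∑ i ∈ Finset.range (m + 1), f ^ i * (m.choose i : WithConv (H →ₗ[k] H ⊗[k] H)) := by
      intro f
      rw [add_comm, (Commute.one_right f).add_pow]
      simp
    have hsub : ∀ {M : Type v} [AddCommGroup M] [Module k M] (g : ℕ → M), (∀ i, N ≤ i → g i = 0) →
        ∑ i ∈ Finset.range (m + 1), (m.choose i : k) • g i = ∑ i ∈ Finset.range N, (m.choose i : k) • g i := by
      intro M _ _ g hg
      rw [Finset.sum_subset (Finset.subset_union_left (s₁ := Finset.range (m + 1)) (s₂ := Finset.range N)) (fun i hi hi' => by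
          have : m < i := by simpa using hi'
          simp [Nat.choose_eq_zero_of_lt this]),
        Finset.sum_subset (Finset.subset_union_right (s₁ := Finset.range (m + 1)) (s₂ := Finset.range N))
          (fun i hi hi' => by
            have : N ≤ i := by simpa using hi'
            simp [hg i this])]
    have h1 : ev ((1 + X) ^ m) = ∑ i ∈ Finset.range N, (m.choose i : k) • ev (X ^ i) := by
      rw [hpow, map_sum]
      simp only [hcast]
      exact hsub _ hXv
    have h2 : ev ((1 + U₁ k H) ^ m * (1 + U₂ k H) ^ m) = ∑ i ∈ Finset.range N, ∑ j ∈ Finset.range N,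
        ((m.choose i : k) * (m.choose j : k)) • ev (U₁ k H ^ i * U₂ k H ^ j) := by
      rw [hpow, hpow, Finset.sum_mul, map_sum]
      have h3 : ∀ i, ev (U₁ k H ^ i * (m.choose i : WithConv (H →ₗ[k] H ⊗[k] H)) *
          ∑ j ∈ Finset.range (m + 1), U₂ k H ^ j * (m.choose j : WithConv (H →ₗ[k] H ⊗[k] H))) =
          (m.choose i : k) • ∑ j ∈ Finset.range N, (m.choose j : k) • ev (U₁ k H ^ i * U₂ k H ^ j) := by
        intro i
        rw [(Nat.cast_commute (m.choose i) (U₁ k H ^ i)).symm.eq, mul_assoc,
          (Nat.cast_commute (m.choose i) _).eq, hcast, Finset.mul_sum, map_sum]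
        congr 1
        rw [← hsub (fun j => ev (U₁ k H ^ i * U₂ k H ^ j)) (fun j hj => hUv i j (Or.inr hj))]
        refine Finset.sum_congr rfl fun j _ => ?_
        rw [← mul_assoc, hcast]
      simp only [h3]
      rw [hsub (fun i => ∑ j ∈ Finset.range N, (m.choose j : k) • ev (U₁ k H ^ i * U₂ k H ^ j))
        (fun i hi => Finset.sum_eq_zero fun j _ => by simp [hUv i j (Or.inl hi)])]
      simp only [Finset.smul_sum, smul_smul]
    rw [← h1, ← h2, one_add_comul, Commute.mul_pow]
    exact (Commute.one_left _).add_left ((Commute.one_right _).add_right (commute_U (k := k) (H := H)))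
  have hlin := linear_part N (fun i => ev (X ^ i)) (fun i j => ev (U₁ k H ^ i * U₂ k H ^ j)) key
  have hL : ∑ i ∈ Finset.range N, (binPoly k i).coeff 1 • ev (X ^ i) = Coalgebra.comul (R := k) (eul k H N h) := by
    rw [eul, map_sum]
    refine Finset.sum_congr rfl fun i _ => ?_
    rw [map_smul]
    congr 1
    show (X ^ i).ofConv h = _
    simp only [X]
    rw [comp_pow, ofConv_toConv]
    rfl
  have hev1 : ∀ i, ev (U₁ k H ^ i * U₂ k H ^ 0) = (uu k H ^ i).ofConv h ⊗ₜ[k] (1 : H) := by
    intro i
    show (U₁ k H ^ i * U₂ k H ^ 0).ofConv h = _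
    rw [pow_zero, mul_one, U₁, comp_pow, ofConv_toConv]
    rfl
  have hev2 : ∀ j, ev (U₁ k H ^ 0 * U₂ k H ^ j) = (1 : H) ⊗ₜ[k] (uu k H ^ j).ofConv h := by
    intro j
    show (U₁ k H ^ 0 * U₂ k H ^ j).ofConv h = _
    rw [pow_zero, one_mul, U₂, comp_pow, ofConv_toConv]
    rfl
  rw [← hL, hlin]
  have hsplit : ∀ i j, (binPoly k i * binPoly k j).coeff 1 • ev (U₁ k H ^ i * U₂ k H ^ j) =
      (if j = 0 then (binPoly k i).coeff 1 • ((uu k H ^ i).ofConv h ⊗ₜ[k] (1 : H)) else 0) +
      (if i = 0 then (binPoly k j).coeff 1 • ((1 : H) ⊗ₜ[k] (uu k H ^ j).ofConv h) else 0) := by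
    intro i j
    rw [Polynomial.mul_coeff_one, binPoly_coeff_zero, binPoly_coeff_zero, add_comm, add_smul]
    congr 1
    · by_cases hj : j = 0
      · subst hj; simp [← hev1]
      · simp [hj]
    · by_cases hi : i = 0
      · subst hi; simp [← hev2]
      · simp [hi]
  simp only [hsplit, Finset.sum_add_distrib, eul, TensorProduct.sum_tmul, TensorProduct.tmul_sum,
    TensorProduct.tmul_smul, ← TensorProduct.smul_tmul', Finset.sum_ite_eq', Finset.mem_range]
  rw [Finset.sum_comm (f := fun i j => if i = 0 then _ else _)]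
  rcases Nat.eq_zero_or_pos N with hN0 | hN0
  · subst hN0; simp
  · simp [Finset.sum_ite_eq', hN0]

theorem mem_range_both {B : Submodule k H} {z : H ⊗[k] H} (h1 : z ∈ LinearMap.range (B.subtype.rTensor H))
    (h2 : z ∈ LinearMap.range (B.subtype.lTensor H)) : z ∈ LinearMap.range (TensorProduct.map B.subtype B.subtype) := by
  obtain ⟨y, rfl⟩ := h1
  have hy2 : y ∈ LinearMap.range (B.subtype.lTensor B) := by
    refine (Coalg.mem_range_lTensor_iff B y).2 fun φ => ?_
    obtain ⟨φ', hφ'⟩ := LinearMap.exists_extend φ
    have := (Coalg.mem_range_lTensor_iff B _).1 h2 φ'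
    rwa [Coalg.dcontr_rTensor, hφ'] at this
  obtain ⟨z, rfl⟩ := hy2
  refine ⟨z, ?_⟩
  rw [← LinearMap.rTensor_comp_lTensor, LinearMap.comp_apply]

theorem pow_mem_adjoin : ∀ n : ℕ, ∀ i : ℕ, ∀ h ∈ Lv k H n,
    (uu k H ^ i).ofConv h ∈ Algebra.adjoin k (SGA3y.primLie k H : Set H) := by
  intro n
  induction n with
  | zero => intro i h hh; simp [(Submodule.mem_bot k).1 (hh : h ∈ (⊥ : Submodule k H))]
  | succ n ih =>
    intro i h hh
    let S := Algebra.adjoin k (SGA3y.primLie k H : Set H)
    have h2 : ∀ i, 2 ≤ i → (uu k H ^ i).ofConv h ∈ S := by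
      intro i hi
      obtain ⟨j, rfl⟩ : ∃ j, i = j + 1 := ⟨i - 1, by omega⟩
      let w := TensorProduct.map (uu k H).ofConv (uu k H).ofConv (Coalgebra.comul (R := k) h)
      let B : Submodule k H := (Lv k H n).map (uu k H).ofConv
      have hw1 : w ∈ LinearMap.range (B.subtype.rTensor H) := by
        obtain ⟨z, hz⟩ := exists_decomp hh
        refine (mem_range_iff B w).2 fun f => ?_
        simp only [w]
        rw [hz, map_add, TensorProduct.map_tmul,
          show (uu k H).ofConv (1 : H) = 0 by simp [uu_apply, Bialgebra.counit_one], TensorProduct.tmul_zero,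
          zero_add]
        clear hz
        induction z with
        | zero => simp
        | add a b ha hb => rw [map_add, map_add, map_add]; exact add_mem ha hb
        | tmul a b =>
          simp only [LinearMap.rTensor_tmul, TensorProduct.map_tmul, contr_tmul, Submodule.subtype_apply]
          exact B.smul_mem _ ⟨a, a.2, rfl⟩
      have hw2 : w ∈ LinearMap.range (B.subtype.lTensor H) := by
        obtain ⟨y, hy⟩ := hw1
        refine ⟨TensorProduct.comm k B H y, ?_⟩
        have hsym : TensorProduct.comm k H H w = w := by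
          simp only [w]
          conv_lhs => rw [← TensorProduct.map_comm, Coalgebra.comm_comul k h]
        rw [← hsym, ← hy]
        clear hy hsym
        induction y with
        | zero => simp
        | add a b ha hb => simp only [map_add, ha, hb]
        | tmul a b => simp
      obtain ⟨y, hy⟩ := mem_range_both hw1 hw2
      have : (uu k H ^ (j + 1)).ofConv h = LinearMap.mul' k H ((uu k H ^ j).ofConv.rTensor H w) := by
        rw [pow_succ, LinearMap.convMul_def, ofConv_toConv, LinearMap.comp_apply, LinearMap.comp_apply]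
        simp only [w]
        generalize Coalgebra.comul (R := k) h = z
        induction z with
        | zero => simp
        | add a b ha hb => simp only [map_add, ha, hb]
        | tmul a b => simp [pow_comp_uu j (by omega)]
      rw [this, ← hy]
      clear hy this
      induction y with
      | zero => simp
      | add a b ha hb => rw [map_add, map_add, map_add]; exact add_mem ha hb
      | tmul a b =>
        obtain ⟨a, a', ha', rfl⟩ := a
        obtain ⟨b, b', hb', rfl⟩ := b
        simp only [TensorProduct.map_tmul, Submodule.subtype_apply, LinearMap.rTensor_tmul, LinearMap.mul'_apply,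
          pow_comp_uu j (by omega)]
        exact mul_mem (ih j a' ha') (by simpa using ih 1 b' hb')
    rcases lt_or_ge i 2 with hi | hi
    · have hone : (uu k H ^ 1).ofConv h ∈ S := by
        have he : eul k H (n + 3) h ∈ S := Algebra.subset_adjoin (eul_mem_prim hh (by omega))
        have hsplit : eul k H (n + 3) h = (uu k H ^ 1).ofConv h +
            ∑ i ∈ (Finset.range (n + 3)).erase 1, (binPoly k i).coeff 1 • (uu k H ^ i).ofConv h := by
          rw [eul, ← Finset.add_sum_erase _ _ (Finset.mem_range.2 (show 1 < n + 3 by omega)), binPoly_one, one_smul]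
        rw [hsplit] at he
        refine (S.toSubmodule.add_mem_iff_left (Submodule.sum_mem _ fun i hi => ?_)).1 he
        rcases Nat.eq_zero_or_pos i with h0 | h0
        · subst h0
          simp [binPoly, Polynomial.coeff_one]
        · exact S.toSubmodule.smul_mem _ (h2 i (by have := (Finset.mem_erase.1 hi).1; omega))
      interval_cases i
      · rw [pow_zero, LinearMap.convOne_def, ofConv_toConv, LinearMap.comp_apply, Algebra.linearMap_apply]
        exact Subalgebra.algebraMap_mem S _
      · exact hone
    · exact h2 i hi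

theorem adjoin_prim_eq_top (hc : SGA3y.IsConnectedCoalg k H) :
    Algebra.adjoin k (SGA3y.primLie k H : Set H) = ⊤ := by
  refine eq_top_iff.2 fun h _ => ?_
  obtain ⟨n, hn⟩ := exists_Lv hc h
  have h1 := pow_mem_adjoin n 1 h hn
  rw [pow_one, uu_apply] at h1
  have := add_mem h1 (Subalgebra.smul_mem _ (one_mem _) (Coalgebra.counit (R := k) h))
  rwa [sub_add_cancel] at this

end cocomm

section pbw

variable {ι : Type*} [LinearOrder ι] (x : ι → H)

/-- The ordered monomial. -/
def z (l : List ι) : H := (l.map x).prod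

/-- The linear part of the comultiplication of a monomial. -/
def T : List ι → H ⊗[k] H
  | [] => 0
  | a :: l => x a ⊗ₜ[k] z x l + ((1 : H) ⊗ₜ[k] x a) * T l

variable (k) in
/-- Higher terms of the comultiplication of a monomial. -/
def Hi (l : List ι) : Submodule k (H ⊗[k] H) :=
  Submodule.span k {w | ∃ A B : List ι, A.Sublist l ∧ B.Sublist l ∧ 2 ≤ A.length ∧
    A.length + B.length = l.length ∧ w = z x A ⊗ₜ[k] z x B}

variable {x}

theorem comul_z (hx : ∀ i, Coalgebra.comul (R := k) (x i) = x i ⊗ₜ[k] 1 + 1 ⊗ₜ[k] x i) (l : List ι) :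
    Coalgebra.comul (R := k) (z x l) - (1 : H) ⊗ₜ[k] z x l - T x l ∈ Hi k x l := by
  induction l with
  | nil => simp [z, T, Algebra.TensorProduct.one_def]
  | cons a l ih =>
    have hl : ∀ w ∈ Hi k x l, (x a ⊗ₜ[k] (1 : H)) * w ∈ Hi k x (a :: l) ∧ ((1 : H) ⊗ₜ[k] x a) * w ∈ Hi k x (a :: l) := by
      intro w hw
      induction hw using Submodule.span_induction with
      | mem w hw =>
        obtain ⟨A, B, hA, hB, hA2, hlen, rfl⟩ := hw
        refine ⟨Submodule.subset_span ⟨a :: A, B, hA.cons_cons a, hB.cons a, by simp; omega, by simp; omega, ?_⟩,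
          Submodule.subset_span ⟨A, a :: B, hA.cons a, hB.cons_cons a, hA2, by simp; omega, ?_⟩⟩ <;>
        simp [z, Algebra.TensorProduct.tmul_mul_tmul]
      | zero => simp
      | add p q _ _ hp hq => rw [mul_add, mul_add]; exact ⟨add_mem hp.1 hq.1, add_mem hp.2 hq.2⟩
      | smul c p _ hp =>
        rw [mul_smul_comm, mul_smul_comm]; exact ⟨Submodule.smul_mem _ c hp.1, Submodule.smul_mem _ c hp.2⟩
    have hT : ∀ m : List ι, m.Sublist l → (x a ⊗ₜ[k] (1 : H)) * T x m ∈
        Submodule.span k {w | ∃ p B, [a, p].Sublist (a :: l) ∧ B.Sublist m ∧ B.length + 1 = m.length ∧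
          w = z x [a, p] ⊗ₜ[k] z x B} := by
      intro m hm
      induction m with
      | nil => simp [T]
      | cons c m ihm =>
        rw [T, mul_add]
        refine add_mem (Submodule.subset_span ⟨c, m, ?_, List.sublist_cons_self c m, by simp, ?_⟩) ?_
        · exact List.Sublist.cons_cons a (List.singleton_sublist.2 (hm.subset (List.mem_cons_self ..)))
        · simp [z, Algebra.TensorProduct.tmul_mul_tmul]
        · rw [← mul_assoc, show (x a ⊗ₜ[k] (1 : H)) * ((1 : H) ⊗ₜ[k] x c) = ((1 : H) ⊗ₜ[k] x c) * (x a ⊗ₜ[k] (1 : H)) by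
            simp [Algebra.TensorProduct.tmul_mul_tmul], mul_assoc]
          have h' := ihm ((List.sublist_cons_self c m).trans hm)
          generalize (x a ⊗ₜ[k] (1 : H)) * T x m = w at h'
          induction h' using Submodule.span_induction with
          | mem w hw =>
            obtain ⟨p, B, hp, hB, hlen, rfl⟩ := hw
            exact Submodule.subset_span ⟨p, c :: B, hp, hB.cons_cons c, by simp; omega,
              by simp [z, Algebra.TensorProduct.tmul_mul_tmul]⟩
          | zero => simp
          | add p q _ _ hp hq => rw [mul_add]; exact add_mem hp hq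
          | smul e p _ hp => rw [mul_smul_comm]; exact Submodule.smul_mem _ e hp
    have hT' : (x a ⊗ₜ[k] (1 : H)) * T x l ∈ Hi k x (a :: l) := by
      refine Submodule.span_le.2 ?_ (hT l (List.Sublist.refl l))
      rintro _ ⟨p, B, hp, hB, hlen, rfl⟩
      exact Submodule.subset_span ⟨[a, p], B, hp, hB.cons a, by simp, by simp; omega, rfl⟩
    have e : Coalgebra.comul (R := k) (z x (a :: l)) - (1 : H) ⊗ₜ[k] z x (a :: l) - T x (a :: l) =
        (x a ⊗ₜ[k] (1 : H)) * (Coalgebra.comul (R := k) (z x l) - (1 : H) ⊗ₜ[k] z x l - T x l) +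
        ((1 : H) ⊗ₜ[k] x a) * (Coalgebra.comul (R := k) (z x l) - (1 : H) ⊗ₜ[k] z x l - T x l) +
        (x a ⊗ₜ[k] (1 : H)) * T x l := by
      have : z x (a :: l) = x a * z x l := by simp [z]
      rw [this, Bialgebra.comul_mul, hx, T]
      simp only [add_mul, mul_sub, Algebra.TensorProduct.tmul_mul_tmul, mul_one, one_mul]
      abel
    rw [e]
    exact add_mem (add_mem (hl _ ih).1 (hl _ ih).2) hT'

theorem dcontr_T (φ : H →ₗ[k] k) (i : ι) (hφ : ∀ j, φ (x j) = if j = i then 1 else 0) (h1 : φ 1 = 0)
    (l : List ι) (hl : l.SortedLE) : dcontr H φ (T x l) = (l.count i : k) • z x (l.erase i) := by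
  induction l with
  | nil => simp [T]
  | cons a l ih =>
    have hp := List.pairwise_cons.1 hl.pairwise
    have hmul : ∀ w : H ⊗[k] H, dcontr H φ (((1 : H) ⊗ₜ[k] x a) * w) = x a * dcontr H φ w := by
      intro w
      induction w with
      | zero => simp
      | add p q hp hq => simp only [mul_add, map_add, hp, hq]
      | tmul p q => simp [Algebra.TensorProduct.tmul_mul_tmul]
    rw [T, map_add, dcontr_tmul, hmul, ih hp.2.sortedLE, hφ, mul_smul_comm]
    by_cases hai : a = i
    · subst hai
      rw [if_pos rfl, one_smul, List.erase_cons_head, List.count_cons_self, Nat.cast_succ, add_smul, one_smul]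
      by_cases hmem : a ∈ l
      · have : x a * z x (l.erase a) = z x l := by
          rcases l with _ | ⟨c, l⟩
          · simp at hmem
          · have hc : c = a := by
              refine le_antisymm ?_ (hp.1 c (List.mem_cons_self ..))
              rcases List.mem_cons.1 hmem with h | h
              · exact h.ge
              · exact (List.pairwise_cons.1 hp.2).1 a h
            subst hc
            simp [z]
        rw [this]
        abel
      · simp [List.count_eq_zero.2 hmem]
    · rw [if_neg hai, zero_smul, zero_add, List.count_cons_of_ne hai, List.erase_cons_tail (by simpa using hai)]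
      simp [z]

theorem linearIndependent_z [CharZero k] (hx : ∀ i, Coalgebra.comul (R := k) (x i) = x i ⊗ₜ[k] 1 + 1 ⊗ₜ[k] x i)
    (hli : LinearIndependent k x) :
    LinearIndependent k (fun M : {l : List ι // l.SortedLE} => z x M.1) := by
  classical
  have hε : ∀ i, Coalgebra.counit (R := k) (x i) = 0 := by
    intro i
    have := congrArg (fun w => TensorProduct.lid k H ((Coalgebra.counit (R := k) (A := H)).rTensor H w)) (hx i)
    simp only [map_add, Coalgebra.rTensor_counit_comul, TensorProduct.lid_tmul, LinearMap.rTensor_tmul,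
      Bialgebra.counit_one, one_smul] at this
    have h2 : Coalgebra.counit (R := k) (x i) • (1 : H) = 0 := by simpa using this
    have h3 := congrArg (Coalgebra.counit (R := k) (A := H)) h2
    simpa [Bialgebra.counit_one] using h3
  rw [linearIndependent_iff]
  have key : ∀ (n : ℕ) (c : {l : List ι // l.SortedLE} →₀ k), (∀ M ∈ c.support, M.1.length ≤ n) →
      Finsupp.linearCombination k (fun M : {l : List ι // l.SortedLE} => z x M.1) c = 0 → c = 0 := by
    intro n
    induction n with
    | zero =>
      intro c hc h0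
      ext M
      by_contra hM
      have hMs : M ∈ c.support := Finsupp.mem_support_iff.2 hM
      have hM0 : M.1 = [] := List.length_eq_zero_iff.1 (Nat.le_zero.1 (hc M hMs))
      have := congrArg (Coalgebra.counit (R := k) (A := H)) h0
      rw [Finsupp.linearCombination_apply, map_zero, Finsupp.sum, map_sum, Finset.sum_eq_single M] at this
      · rw [map_smul, hM0] at this
        simp [z, Bialgebra.counit_one] at this
        exact hM this
      · intro N hN hne
        exact absurd (Subtype.ext ((List.length_eq_zero_iff.1 (Nat.le_zero.1 (hc N hN))).trans hM0.symm)) hne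
      · exact fun h => absurd hMs h
    | succ n ih =>
      intro c hc h0
      have hless : ∀ M ∈ c.support, M.1.length ≤ n := by
        intro M hM
        by_contra hlen
        have hlen' : M.1.length = n + 1 := le_antisymm (hc M hM) (by omega)
        rcases Nat.eq_zero_or_pos n with hn | hn
        · -- degree one
          subst hn
          obtain ⟨i, hi⟩ := List.length_eq_one_iff.1 hlen'
          have h1 : LinearIndependent k (fun o : Option ι => Option.casesOn' o (1 : H) x) := by
            rw [linearIndependent_option']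
            refine ⟨hli, fun hmem => ?_⟩
            have h2 : Submodule.span k (Set.range x) ≤ LinearMap.ker (Coalgebra.counit (R := k) (A := H)) :=
              Submodule.span_le.2 (by rintro _ ⟨j, rfl⟩; exact hε j)
            exact one_ne_zero ((Bialgebra.counit_one (R := k) (A := H)).symm.trans (LinearMap.mem_ker.1 (h2 hmem)))
          let e : {l : List ι // l.SortedLE} → Option ι := fun N => N.1.head?
          have hz : ∀ N ∈ c.support, z x N.1 = Option.casesOn' (e N) (1 : H) x := by
            intro N hN
            rcases hl : N.1 with _ | ⟨a, l⟩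
            · simp [z, e, hl]
            · have : l = [] := by
                have := hc N hN
                rw [hl] at this
                simpa using this
              simp [z, e, hl, this]
          have he : Set.InjOn e c.support := by
            intro N hN N' hN' heq
            apply Subtype.ext
            have h1 := hc N hN
            have h2 := hc N' hN'
            rcases hl : N.1 with _ | ⟨a, _ | ⟨a2, l⟩⟩ <;> rcases hl' : N'.1 with _ | ⟨b, _ | ⟨b2, l'⟩⟩ <;>
              simp_all [e]
          have h3 := h0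
          rw [Finsupp.linearCombination_apply, Finsupp.sum] at h3
          rw [Finset.sum_congr rfl (fun N hN => by rw [hz N hN])] at h3
          have h4 : ∑ o ∈ c.support.image e, (∑ N ∈ c.support with e N = o, c N) • (Option.casesOn' o (1 : H) x) = 0 := by
            rw [← h3, ← Finset.sum_fiberwise_of_maps_to (g := e) (t := c.support.image e) (fun N hN => Finset.mem_image_of_mem e hN)]
            refine Finset.sum_congr rfl fun o _ => ?_
            rw [Finset.sum_smul]
            exact Finset.sum_congr rfl fun N hN => by rw [(Finset.mem_filter.1 hN).2]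
          have h5 := linearIndependent_iff'.1 h1 _ _ h4 (e M) (Finset.mem_image_of_mem e hM)
          rw [Finset.sum_eq_single M] at h5
          · exact Finsupp.mem_support_iff.1 hM h5
          · intro N hN hne
            exact absurd (he (Finset.mem_filter.1 hN).1 hM (Finset.mem_filter.1 hN).2) hne
          · intro h
            exact (h (Finset.mem_filter.2 ⟨hM, rfl⟩)).elim
        · -- degree at least two
          have hliN : LinearIndependent k (fun N : {N : {l : List ι // l.SortedLE} // N.1.length ≤ n} => z x N.1.1) := by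
            rw [linearIndependent_iff]
            intro d hd
            apply Finsupp.mapDomain_injective Subtype.val_injective
            rw [Finsupp.mapDomain_zero]
            refine ih _ (fun N hN => ?_) ?_
            · obtain ⟨N', _, rfl⟩ := Finset.mem_image.1 (Finsupp.mapDomain_support hN)
              exact N'.2
            · rw [Finsupp.linearCombination_mapDomain]
              exact hd
          obtain ⟨i, hiM⟩ : ∃ i, i ∈ M.1 := List.exists_mem_of_length_pos (by omega)
          let sing : {N : {l : List ι // l.SortedLE} // N.1.length ≤ n} :=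
            ⟨⟨[i], (List.pairwise_singleton _ i).sortedLE⟩, by simp; omega⟩
          obtain ⟨φ, hφ⟩ := LinearMap.exists_extend (Finsupp.lapply sing ∘ₗ hliN.repr)
          have hφz : ∀ (N : List ι) (hN : N.SortedLE), N.length ≤ n → φ (z x N) = if N = [i] then 1 else 0 := by
            intro N hN hNl
            have := LinearMap.congr_fun hφ ⟨z x N, Submodule.subset_span ⟨⟨⟨N, hN⟩, hNl⟩, rfl⟩⟩
            simp only [LinearMap.comp_apply, Submodule.subtype_apply, Finsupp.lapply_apply] at this
            rw [this, hliN.repr_eq_single ⟨⟨N, hN⟩, hNl⟩ _ rfl, Finsupp.single_apply]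
            simp [sing, Subtype.ext_iff]
          have hφx : ∀ j, φ (x j) = if j = i then 1 else 0 := by
            intro j
            have := hφz [j] (List.pairwise_singleton _ j).sortedLE (by simp; omega)
            simpa [z] using this
          have hφ1 : φ 1 = 0 := by
            have := hφz [] (List.Pairwise.nil).sortedLE (by simp)
            simpa [z] using this
          let D : H →ₗ[k] H := dcontr H φ ∘ₗ Coalgebra.comul (R := k) (A := H)
          have hD : ∀ N ∈ c.support, D (z x N.1) - (N.1.count i : k) • z x (N.1.erase i) ∈ Submodule.span k {(1 : H)} := by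
            intro N hN
            have h1 := comul_z hx N.1
            have h2 : ∀ w ∈ Hi k x N.1, dcontr H φ w ∈ Submodule.span k {(1 : H)} := by
              intro w hw
              induction hw using Submodule.span_induction with
              | mem w hw =>
                obtain ⟨A, B, hA, -, hA2, hAB, rfl⟩ := hw
                rw [dcontr_tmul]
                by_cases hAn : A.length ≤ n
                · rw [hφz A ((N.2.pairwise.sublist hA).sortedLE) hAn, if_neg (by rintro rfl; simp at hA2)]
                  simp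
                · have : B = [] := List.length_eq_zero_iff.1 (by have := hc N hN; omega)
                  subst this
                  exact Submodule.smul_mem _ _ (by simp [z, Submodule.mem_span_singleton_self])
              | zero => simp
              | add p q _ _ hp hq => rw [map_add]; exact add_mem hp hq
              | smul e p _ hp => rw [map_smul]; exact Submodule.smul_mem _ e hp
            have h3 := h2 _ h1
            rw [map_sub, map_sub, dcontr_tmul, hφ1, zero_smul, sub_zero, dcontr_T φ i hφx hφ1 N.1 N.2] at h3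
            exact h3
          have hsum : ∑ N ∈ c.support, c N • ((N.1.count i : k) • z x (N.1.erase i)) ∈ Submodule.span k {(1 : H)} := by
            have h := congrArg D h0
            rw [map_zero, Finsupp.linearCombination_apply, Finsupp.sum, map_sum] at h
            have : ∑ N ∈ c.support, c N • ((N.1.count i : k) • z x (N.1.erase i)) =
                - ∑ N ∈ c.support, c N • (D (z x N.1) - (N.1.count i : k) • z x (N.1.erase i)) := by
              simp only [smul_sub, Finset.sum_sub_distrib, ← map_smul]
              rw [h, zero_sub, neg_neg]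
            rw [this]
            exact neg_mem (Submodule.sum_mem _ fun N hN => Submodule.smul_mem _ _ (hD N hN))
          obtain ⟨e, he⟩ := Submodule.mem_span_singleton.1 hsum
          let er : {l : List ι // l.SortedLE} → {l : List ι // l.SortedLE} := fun N =>
            ⟨N.1.erase i, (N.2.pairwise.sublist List.erase_sublist).sortedLE⟩
          let d : {l : List ι // l.SortedLE} →₀ k :=
            ∑ N ∈ c.support.filter (fun N => i ∈ N.1), Finsupp.single (er N) (c N * (N.1.count i : k)) -
              Finsupp.single ⟨[], (List.Pairwise.nil).sortedLE⟩ e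
          have hd : Finsupp.linearCombination k (fun M : {l : List ι // l.SortedLE} => z x M.1) d = 0 := by
            simp only [d, map_sub, map_sum, Finsupp.linearCombination_single, er, sub_eq_zero, ← smul_smul]
            rw [show z x [] = (1 : H) from rfl, he, Finset.sum_filter]
            refine Finset.sum_congr rfl fun N _ => ?_
            by_cases h : i ∈ N.1
            · rw [if_pos h]
            · simp [if_neg h, List.count_eq_zero.2 h]
          have hd0 : d = 0 := by
            refine ih d (fun N hN => ?_) hd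
            by_contra hlen2
            refine Finsupp.mem_support_iff.1 hN ?_
            simp only [d, Finsupp.sub_apply, Finsupp.finset_sum_apply]
            rw [Finset.sum_eq_zero, Finsupp.single_eq_of_ne (by intro h; rw [h] at hlen2; simp at hlen2), sub_zero]
            intro N' hN'
            refine Finsupp.single_eq_of_ne fun h => hlen2 ?_
            rw [h]
            have := hc N' (Finset.mem_filter.1 hN').1
            simp only [er, List.length_erase_of_mem (Finset.mem_filter.1 hN').2]
            omega
          have := DFunLike.congr_fun hd0 (er M)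
          simp only [d, Finsupp.sub_apply, Finsupp.finset_sum_apply, Finsupp.zero_apply] at this
          rw [Finset.sum_eq_single M, Finsupp.single_eq_same, Finsupp.single_eq_of_ne, sub_zero] at this
          · rcases mul_eq_zero.1 this with h | h
            · exact Finsupp.mem_support_iff.1 hM h
            · exact absurd (Nat.cast_eq_zero.1 h) (List.count_pos_iff.2 hiM).ne'
          · intro h
            have := congrArg (fun N : {l : List ι // l.SortedLE} => N.1.length) h
            simp only [er, List.length_erase_of_mem hiM, List.length_nil] at this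
            omega
          · intro N hN hne
            refine Finsupp.single_eq_of_ne fun h => hne (Subtype.ext ?_)
            have hiN := (Finset.mem_filter.1 hN).2
            have h' : M.1.erase i = N.1.erase i := congrArg Subtype.val h
            refine List.Perm.eq_of_pairwise (fun _ _ _ _ => le_antisymm) N.2.pairwise M.2.pairwise ?_
            exact (List.perm_cons_erase hiN).trans (((List.Perm.of_eq h'.symm).cons i).trans (List.perm_cons_erase hiM).symm)
          · intro h
            exact absurd (Finset.mem_filter.2 ⟨hM, hiM⟩) h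
      exact ih c hless h0
  intro c hc
  exact key (c.support.sup fun M => M.1.length) c (fun M hM => Finset.le_sup (f := fun M => M.1.length) hM) hc

end pbw

end Groth.Agent.HopfRep.ConnBialg
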