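import Groth.Agent.HopfRep.TransSep

/-!
A universally open group scheme with connected fibres is separated and quasi-compact.
-/

universe u

open CategoryTheory MonoidalCategory CartesianMonoidalCategory MonObj AlgebraicGeometry Limits

noncomputable section

set_option backward.isDefEq.respectTransparency.types false

namespace Groth.Agent.HopfRep.ConnSep

variable {S : Scheme.{u}}

/-- a group acting on itself by left translations -/
def regular (G : Over S) [GrpObj G] : AlgGrp.Action G G where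
  act := μ[G]
  one_act := MonObj.one_mul G
  mul_act := MonObj.mul_assoc G

theorem surjective_shear (G : Over S) [GrpObj G] : Surjective (lift (regular G).act (snd G G)).left := by
  let Φ : G ⊗ G ⟶ G ⊗ G := lift (regular G).act (snd G G)
  let Ψ : G ⊗ G ⟶ G ⊗ G := lift (fst G G * (snd G G)⁻¹) (snd G G)
  have h : Ψ ≫ Φ = 𝟙 _ := by
    apply CartesianMonoidalCategory.hom_ext
    · show (Ψ ≫ Φ) ≫ fst G G = _
      simp only [Φ, Category.assoc, lift_fst, regular, Category.id_comp]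
      rw [show Ψ ≫ μ[G] = (fst G G * (snd G G)⁻¹) * snd G G from rfl, inv_mul_cancel_right]
    · simp [Ψ, Φ]
  refine ⟨fun z => ⟨Ψ.left z, ?_⟩⟩
  rw [← Scheme.Hom.comp_apply, ← Over.comp_left, h]
  rfl

theorem quasiCompact {G : Over S} [GrpObj G] [LocallyOfFiniteType G.hom]
    (hconn : ∀ s : S, ConnectedSpace (G.hom.fiber s)) : QuasiCompact G.hom := by
  let π := G.hom
  suffices h : ∀ t : S, ∃ V : S.Opens, t ∈ V ∧ IsCompact (π ⁻¹ᵁ V : Set G.left) ∧ IsAffineOpen V by
    choose V htV hV hVa using h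
    have hsup : ⨆ t, V t = ⊤ := top_unique fun t _ => TopologicalSpace.Opens.mem_iSup.2 ⟨t, htV t⟩
    refine IsZariskiLocalAtTarget.of_iSup_eq_top (P := @QuasiCompact) V hsup fun t => ?_
    have : IsAffine (V t) := hVa t
    exact (quasiCompact_iff_compactSpace _).2 (isCompact_iff_compactSpace.1 (hV t))
  intro t
  obtain ⟨_, ⟨V₀, hV₀, rfl⟩, htV₀, -⟩ := S.isBasis_affineOpens.exists_subset_of_mem_open (Set.mem_univ t) isOpen_univ
  let e₀ : S ⟶ G.left := η[G].left
  have he₀ : ∀ s : S, π (e₀ s) = s := fun s => by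
    rw [← Scheme.Hom.comp_apply]
    have : e₀ ≫ π = 𝟙 S := Over.w η[G]
    rw [this]
    rfl
  obtain ⟨_, ⟨U, hU, rfl⟩, htU, hUsub⟩ := G.left.isBasis_affineOpens.exists_subset_of_mem_open
    (show e₀ t ∈ π ⁻¹ᵁ V₀ by show π (e₀ t) ∈ V₀; rw [he₀]; exact htV₀) (π ⁻¹ᵁ V₀).isOpen
  let U : G.left.Opens := U
  obtain ⟨r, hr, htr⟩ := hV₀.exists_basicOpen_le (V := e₀ ⁻¹ᵁ U) ⟨t, htU⟩ htV₀
  let V := S.basicOpen r
  have eU : U ≤ π ⁻¹ᵁ V₀ := hUsub
  let UV : G.left.Opens := U ⊓ π ⁻¹ᵁ V
  have hUV : IsAffineOpen UV := by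
    have : UV = G.left.basicOpen (π.appLE V₀ U eU r) := (Scheme.basicOpen_appLE π U V₀ eU r).symm
    rw [this]
    exact hU.basicOpen _
  have hVa : IsAffineOpen V := hV₀.basicOpen r
  refine ⟨V, htr, ?_, hVa⟩
  let K : Set (G ⊗ G).left := (fst G G).left ⁻¹' UV ∩ (snd G G).left ⁻¹' UV
  have hK : IsCompact K := by
    have : IsAffine UV := hUV
    have : IsAffine V := hVa
    let g : (UV : Scheme.{u}) ⟶ V := IsOpenImmersion.lift V.ι (UV.ι ≫ π) (by
      rintro _ ⟨x, rfl⟩
      rw [Scheme.Opens.range_ι]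
      exact x.2.2)
    have hg : g ≫ V.ι = UV.ι ≫ π := IsOpenImmersion.lift_fac _ _ _
    have hr := Scheme.Pullback.range_map g g π π UV.ι UV.ι V.ι hg hg
    rw [Scheme.Opens.range_ι] at hr
    show IsCompact (pullback.fst π π ⁻¹' UV ∩ pullback.snd π π ⁻¹' UV)
    rw [← hr]
    exact isCompact_range (Scheme.Hom.continuous _)
  suffices h : (π ⁻¹ᵁ V : Set G.left) = μ[G].left '' K by
    rw [h]; exact hK.image μ[G].left.continuous
  apply subset_antisymm
  · intro y hy
    let T : Over S := Over.mk (G.left.fromSpecResidueField y ≫ π)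
    let yT : T ⟶ G := Over.homMk (G.left.fromSpecResidueField y) rfl
    let pt : T.left := IsLocalRing.closedPoint (G.left.residueField y)
    have hyT : yT.left pt = y := G.left.fromSpecResidueField_apply y pt
    have hT : ∀ {W : Over S} (w : W ⟶ T) (z : W.left), w.left z = pt := fun w z =>
      Subsingleton.elim (α := PrimeSpectrum (G.left.residueField y)) _ _
    have hone : (1 : T ⟶ G).left pt ∈ UV := by
      have e1 : ((1 : T ⟶ G)).left = T.hom ≫ e₀ := by
        rw [Hom.one_def, Over.comp_left]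
        rfl
      have h2 : (1 : T ⟶ G).left pt = e₀ (π y) := by
        rw [e1, Scheme.Hom.comp_apply, show T.hom pt = π (G.left.fromSpecResidueField y pt) from
          Scheme.Hom.comp_apply _ _ _, Scheme.fromSpecResidueField_apply]
      rw [h2]
      exact ⟨(hr hy : π y ∈ e₀ ⁻¹ᵁ U), show π (e₀ (π y)) ∈ V by rw [he₀]; exact hy⟩
    let a : G ⊗ T ⟶ G := fst G T
    let b : G ⊗ T ⟶ G := (fst G T)⁻¹ * (snd G T ≫ yT)
    let e₁ : T ⟶ G ⊗ T := lift 1 (𝟙 T)
    let e₂ : T ⟶ G ⊗ T := lift yT (𝟙 T)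
    have hirr := TransSep.isIrreducible_preimage hconn T pt
    obtain ⟨p, -, hp1, hp2⟩ := hirr.2 (a.left ⁻¹' UV) (b.left ⁻¹' UV) (UV.2.preimage a.left.continuous)
      (UV.2.preimage b.left.continuous) ⟨e₁.left pt, hT _ _, by
        rw [Set.mem_preimage, ← Scheme.Hom.comp_apply, ← Over.comp_left, show e₁ ≫ a = 1 from lift_fst _ _]
        exact hone⟩ ⟨e₂.left pt, hT _ _, by
        rw [Set.mem_preimage, ← Scheme.Hom.comp_apply, ← Over.comp_left,
          show e₂ ≫ b = 1 by simp [e₂, b, MonObj.comp_mul, GrpObj.comp_inv]]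
        exact hone⟩
    refine ⟨(lift a b).left p, ⟨?_, ?_⟩, ?_⟩
    · rw [Set.mem_preimage, ← Scheme.Hom.comp_apply, ← Over.comp_left, lift_fst]; exact hp1
    · rw [Set.mem_preimage, ← Scheme.Hom.comp_apply, ← Over.comp_left, lift_snd]; exact hp2
    · have e : lift a b ≫ μ[G] = snd G T ≫ yT := by
        rw [show lift a b ≫ μ[G] = a * b from rfl]
        exact mul_inv_cancel_left _ _
      rw [← Scheme.Hom.comp_apply, ← Over.comp_left, e, Over.comp_left, Scheme.Hom.comp_apply, hT (snd G T) p]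
      exact hyT
  · rintro _ ⟨z, hz, rfl⟩
    show π (μ[G].left z) ∈ V
    have h1 : μ[G].left ≫ π = (fst G G).left ≫ π := (Over.w μ[G]).trans (Over.w (fst G G)).symm
    rw [← Scheme.Hom.comp_apply, h1, Scheme.Hom.comp_apply]
    exact hz.1.2

end Groth.Agent.HopfRep.ConnSep

end
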