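import Groth.Agent.HopfRep.Slice
import Mathlib.RingTheory.HopfAlgebra.Convolution
import Mathlib.LinearAlgebra.Matrix.ToLin
import Mathlib.LinearAlgebra.Matrix.Kronecker
import Mathlib.LinearAlgebra.Dimension.Free
import Mathlib.Algebra.Module.Shrink

/-!
Comodules in coordinates: matrices `C` with `Δ C = C ⊗ C` and `ε C = 1`, the Hom
corepresentation, and the criterion for semisimplicity by fixed vectors.
-/

universe u v w w'

open TensorProduct

noncomputable section

namespace Groth.Agent.HopfRep.Corep

open _root_.HopfRep Groth.Agent.HopfRep.Slice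

variable (k : Type u) [Field k] {A : Type v} [CommRing A] [HopfAlgebra k A]

section Antipode

open WithConv

theorem antipode_antipode (a : A) :
    HopfAlgebraStruct.antipode (R := k) (HopfAlgebraStruct.antipode (R := k) a) = a := by
  have h : (toConv (HopfAlgebra.antipodeAlgHom k A))⁻¹ = toConv (AlgHom.id k A) :=
    inv_eq_of_mul_eq_one_right (AlgHom.antipode_id_cancel (R := k) (A := A))
  exact congrArg (fun f : WithConv (A →ₐ[k] A) => f.ofConv a) h

theorem antipode_injective : Function.Injective (HopfAlgebraStruct.antipode (R := k) (A := A)) :=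
  Function.LeftInverse.injective (antipode_antipode k)

theorem comul_antipode (a : A) :
    Coalgebra.comul (R := k) (HopfAlgebraStruct.antipode (R := k) a) =
      TensorProduct.comm k A A (TensorProduct.map (HopfAlgebraStruct.antipode (R := k))
        (HopfAlgebraStruct.antipode (R := k)) (Coalgebra.comul (R := k) a)) := by
  let i₁ : WithConv (A →ₐ[k] A ⊗[k] A) := toConv Algebra.TensorProduct.includeLeft
  let i₂ : WithConv (A →ₐ[k] A ⊗[k] A) := toConv Algebra.TensorProduct.includeRight
  have h : toConv (Bialgebra.comulAlgHom k A) = i₁ * i₂ := by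
    apply WithConv.ofConv_injective
    refine AlgHom.ext fun x => ?_
    rw [AlgHom.convMul_apply]
    simp only [i₁, i₂, ofConv_toConv, Bialgebra.comulAlgHom_apply]
    generalize Coalgebra.comul (R := k) x = y
    induction y with
    | zero => simp
    | tmul b c => simp
    | add b c hb hc => simp [← hb, ← hc]
  have e := congrArg (fun f : WithConv (A →ₐ[k] A ⊗[k] A) => f⁻¹.ofConv a) h
  rw [_root_.mul_inv_rev i₁ i₂, AlgHom.convMul_apply] at e
  refine e.trans ?_
  simp only [i₁, i₂]
  generalize Coalgebra.comul (R := k) a = y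
  induction y with
  | zero => simp
  | add b c hb hc => simp only [map_add, hb, hc]
  | tmul b c =>
    simp [Inv.inv, HopfAlgebra.antipodeAlgHom_apply]

end Antipode

variable {k}
variable {ι κ : Type*} [Fintype ι] [DecidableEq ι] [Fintype κ] [DecidableEq κ]

variable (k) in
/-- `C` is the matrix of a corepresentation. -/
structure IsCorep (C : Matrix ι ι A) : Prop where
  comul : ∀ i j, Coalgebra.comul (R := k) (C i j) = ∑ l, C i l ⊗ₜ[k] C l j
  counit : ∀ i j, Coalgebra.counit (R := k) (C i j) = if i = j then 1 else 0

variable {V : Type w} [AddCommGroup V] [Module k V] {W : Type w'} [AddCommGroup W] [Module k W]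

/-- Coordinates of an element of `V ⊗ M` in a basis of `V`. -/
def coordA {M : Type*} [AddCommGroup M] [Module k M] (b : Module.Basis ι k V) (i : ι) :
    V ⊗[k] M →ₗ[k] M :=
  (TensorProduct.lid k M).toLinearMap ∘ₗ (b.coord i).rTensor M

theorem coordA_tmul {M : Type*} [AddCommGroup M] [Module k M] (b : Module.Basis ι k V) (i : ι) (x : V)
    (m : M) : coordA b i (x ⊗ₜ m) = b.repr x i • m := by
  simp [coordA]

theorem coordA_sum {M : Type*} [AddCommGroup M] [Module k M] (b : Module.Basis ι k V) (i : ι) (x : ι → M) :
    coordA b i (∑ l, b l ⊗ₜ[k] x l) = x i := by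
  rw [map_sum, Finset.sum_eq_single i]
  · simp [coordA_tmul]
  · intro l _ hl
    simp [coordA_tmul, hl]
  · simp

theorem sum_coordA {M : Type*} [AddCommGroup M] [Module k M] (b : Module.Basis ι k V) (x : V ⊗[k] M) :
    ∑ l, b l ⊗ₜ[k] coordA b l x = x := by
  induction x with
  | zero => simp
  | add x y hx hy => simp [TensorProduct.tmul_add, Finset.sum_add_distrib, hx, hy]
  | tmul x m =>
    simp only [coordA_tmul, TensorProduct.tmul_smul]
    simp_rw [TensorProduct.smul_tmul']
    rw [← TensorProduct.sum_tmul, b.sum_repr]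

/-- The matrix of a comodule in a basis: `ρ (b j) = ∑ b i ⊗ mat i j`. -/
def mat [Comod k A V] (b : Module.Basis ι k V) : Matrix ι ι A :=
  fun i j => coordA b i (Comod.coact (k := k) (A := A) (b j))

theorem coact_basis [Comod k A V] (b : Module.Basis ι k V) (j : ι) :
    Comod.coact (k := k) (A := A) (b j) = ∑ i, b i ⊗ₜ[k] mat b i j := (sum_coordA b _).symm

theorem coact_eq_sum [Comod k A V] (b : Module.Basis ι k V) (x : V) :
    Comod.coact (k := k) (A := A) x = ∑ i, b i ⊗ₜ[k] (∑ j, b.repr x j • mat (A := A) b i j) := by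
  conv_lhs => rw [← b.sum_repr x]
  simp only [map_sum, map_smul, coact_basis, Finset.smul_sum, TensorProduct.tmul_sum,
    TensorProduct.tmul_smul]
  exact Finset.sum_comm

theorem isCorep_mat [Comod k A V] (b : Module.Basis ι k V) : IsCorep k (mat (A := A) b) := by
  refine ⟨fun i j => ?_, fun i j => ?_⟩
  · have h := coassoc_apply (k := k) (A := A) (b j)
    rw [coact_basis] at h
    simp only [map_sum, LinearMap.rTensor_tmul, LinearMap.lTensor_tmul, coact_basis,
      TensorProduct.sum_tmul, TensorProduct.assoc_tmul] at h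
    rw [Finset.sum_comm] at h
    simp only [← TensorProduct.tmul_sum] at h
    have := congrArg (coordA b i) h
    rw [coordA_sum, coordA_sum] at this
    exact this.symm
  · have h := LinearMap.congr_fun (Comod.counit_comp (k := k) (A := A) (V := V)) (b j)
    simp only [LinearMap.comp_apply, coact_basis, map_sum, LinearMap.lTensor_tmul,
      LinearMap.flip_apply, TensorProduct.mk_apply] at h
    have := congrArg (coordA b i) h
    rw [coordA_sum, coordA_tmul] at this
    simpa [Finsupp.single_apply, eq_comm] using this

/-- The comodule given by a corepresentation matrix in a basis. -/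
@[reducible] def ofBasis (b : Module.Basis ι k V) (C : Matrix ι ι A) (hC : IsCorep k C) : Comod k A V where
  coact := b.constr k fun j => ∑ i, b i ⊗ₜ[k] C i j
  coassoc := by
    refine b.ext fun j => ?_
    simp only [LinearMap.comp_apply, LinearEquiv.coe_coe, Module.Basis.constr_basis, map_sum,
      LinearMap.rTensor_tmul, LinearMap.lTensor_tmul, TensorProduct.sum_tmul, TensorProduct.assoc_tmul,
      hC.comul, TensorProduct.tmul_sum]
    exact Finset.sum_comm
  counit_comp := by
    refine b.ext fun j => ?_
    simp only [LinearMap.comp_apply, Module.Basis.constr_basis, map_sum, LinearMap.lTensor_tmul, hC.counit,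
      LinearMap.flip_apply, TensorProduct.mk_apply]
    rw [Finset.sum_eq_single j (fun x _ hx => by simp [hx]) (by simp), if_pos rfl]

theorem mat_ofBasis (b : Module.Basis ι k V) (C : Matrix ι ι A) (hC : IsCorep k C) :
    (letI := ofBasis b C hC; mat b) = C := by
  ext i j
  letI := ofBasis b C hC
  show coordA b i (b.constr k _ (b j)) = _
  rw [Module.Basis.constr_basis, coordA_sum]

theorem mem_fixedPts_iff [Comod k A V] (b : Module.Basis ι k V) (x : V) :
    x ∈ fixedPts k A V ↔ ∀ i, ∑ j, b.repr x j • mat (A := A) b i j = b.repr x i • 1 := by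
  show Comod.coact (k := k) (A := A) x = x ⊗ₜ[k] (1 : A) ↔ _
  refine ⟨fun h i => ?_, fun h => ?_⟩
  · have := congrArg (coordA b i) h
    rw [coact_eq_sum b, coordA_sum, coordA_tmul] at this
    exact this
  · rw [coact_eq_sum b, ← sum_coordA b (x ⊗ₜ[k] (1 : A))]
    simp only [coordA_tmul, h]

/-- A matrix of scalars gives a comodule map exactly when it intertwines. -/
theorem isComodHom_of_mat [Comod k A V] [Comod k A W] (b : Module.Basis ι k V) (c : Module.Basis κ k W)
    (φ : V →ₗ[k] W) (F : Matrix κ ι k) (hF : ∀ j, φ (b j) = ∑ a, F a j • c a)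
    (h : mat (A := A) c * F.map (algebraMap k A) = F.map (algebraMap k A) * mat (A := A) b) :
    Hoch.IsComodHom A φ := by
  refine b.ext fun j => ?_
  simp only [LinearMap.comp_apply, hF, map_sum, map_smul, coact_basis, LinearMap.rTensor_tmul,
    TensorProduct.sum_tmul, Finset.smul_sum, ← TensorProduct.smul_tmul', ← TensorProduct.tmul_smul]
  rw [Finset.sum_comm]
  conv_rhs => rw [Finset.sum_comm]
  refine Finset.sum_congr rfl fun a _ => ?_
  rw [← TensorProduct.tmul_sum, ← TensorProduct.tmul_sum]
  congr 1
  have := congrFun (congrFun h a) j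
  simp only [Matrix.mul_apply, Matrix.map_apply] at this
  simp only [Algebra.smul_def]
  rw [show (∑ x, algebraMap k A (F x j) * mat c a x) = ∑ x, mat c a x * algebraMap k A (F x j) from
    Finset.sum_congr rfl fun _ _ => mul_comm _ _]
  exact this

theorem mat_mul_of_isComodHom [Comod k A V] [Comod k A W] (b : Module.Basis ι k V)
    (c : Module.Basis κ k W) (φ : V →ₗ[k] W) (hφ : Hoch.IsComodHom A φ) :
    mat (A := A) c * (Matrix.of fun a j => c.repr (φ (b j)) a).map (algebraMap k A) =
      (Matrix.of fun a j => c.repr (φ (b j)) a).map (algebraMap k A) * mat (A := A) b := by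
  ext a j
  have h := congrArg (coordA c a) (LinearMap.congr_fun hφ (b j))
  simp only [LinearMap.comp_apply, coact_eq_sum c, coordA_sum] at h
  simp only [coact_basis, map_sum, LinearMap.rTensor_tmul, coordA_tmul] at h
  simp only [Matrix.mul_apply, Matrix.map_apply, Matrix.of_apply]
  refine Eq.trans ?_ (h.trans ?_) <;> refine Finset.sum_congr rfl fun x _ => ?_
  · rw [Algebra.smul_def, mul_comm]
  · rw [Algebra.smul_def]

variable (k) in
/-- `Sᵀ C`: the contragredient corepresentation. -/
def dual (C : Matrix ι ι A) : Matrix ι ι A := fun i j => HopfAlgebraStruct.antipode (R := k) (C j i)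

theorem isCorep_dual {C : Matrix ι ι A} (hC : IsCorep k C) : IsCorep k (dual k C) := by
  refine ⟨fun i j => ?_, fun i j => ?_⟩
  · simp only [dual, comul_antipode, hC.comul, map_sum, TensorProduct.map_tmul, TensorProduct.comm_tmul]
  · rw [dual, HopfAlgebra.counit_antipode, hC.counit]
    simp [eq_comm]

theorem isCorep_kronecker {D : Matrix κ κ A} {C : Matrix ι ι A} (hD : IsCorep k D) (hC : IsCorep k C) :
    IsCorep k (Matrix.kroneckerMap (· * ·) D C) := by
  refine ⟨fun i j => ?_, fun i j => ?_⟩
  · simp only [Matrix.kroneckerMap_apply, Bialgebra.comul_mul, hD.comul, hC.comul, Finset.sum_mul_sum,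
      Algebra.TensorProduct.tmul_mul_tmul, Fintype.sum_prod_type]
  · simp only [Matrix.kroneckerMap_apply, Bialgebra.counit_mul, hD.counit, hC.counit, Prod.ext_iff]
    by_cases h1 : i.1 = j.1 <;> simp [h1]

theorem antipode_mul_self {C : Matrix ι ι A} (hC : IsCorep k C) :
    C.map (HopfAlgebraStruct.antipode (R := k)) * C = 1 := by
  ext i j
  have h := HopfAlgebra.mul_antipode_rTensor_comul_apply (R := k) (C i j)
  simp only [hC.comul, map_sum, LinearMap.rTensor_tmul, LinearMap.mul'_apply, hC.counit] at h
  rw [Matrix.mul_apply, Matrix.one_apply]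
  simp only [Matrix.map_apply, h]
  split_ifs <;> simp

theorem self_mul_antipode {C : Matrix ι ι A} (hC : IsCorep k C) :
    C * C.map (HopfAlgebraStruct.antipode (R := k)) = 1 := by
  ext i j
  have h := HopfAlgebra.mul_antipode_lTensor_comul_apply (R := k) (C i j)
  simp only [hC.comul, map_sum, LinearMap.lTensor_tmul, LinearMap.mul'_apply, hC.counit] at h
  rw [Matrix.mul_apply, Matrix.one_apply]
  simp only [Matrix.map_apply, h]
  split_ifs <;> simp

variable (k A) in
/-- Every nonzero invariant form of a corepresentation is nonzero on some fixed vector. -/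
def TrivCrit : Prop :=
  ∀ (n : ℕ) (C : Matrix (Fin n) (Fin n) A), IsCorep k C → ∀ r : Fin n → k,
    (∀ j, ∑ i, r i • C i j = r j • (1 : A)) → r ≠ 0 →
    ∃ x : Fin n → k, (∀ i, ∑ j, x j • C i j = x i • (1 : A)) ∧ ∑ i, r i * x i ≠ 0

theorem exists_fixed_lift (h : TrivCrit k A) [Comod k A V] [Module.Finite k V] [Comod k A W]
    (φ : V →ₗ[k] W) (hφ : Hoch.IsComodHom A φ) (w : W) (hw : w ∈ fixedPts k A W)
    (hr : w ∈ LinearMap.range φ) :
    ∃ v ∈ fixedPts k A V, φ v = w := by
  classical
  by_cases hw0 : w = 0
  · exact ⟨0, Submodule.zero_mem _, by simp [hw0]⟩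
  have hw' : Comod.coact (k := k) (A := A) w = w ⊗ₜ[k] (1 : A) := hw
  let L := Submodule.span k ({w} : Set W)
  have hL : IsSubcomod (k := k) (A := A) L := by
    refine isSubcomod_iff.2 fun f x hx => ?_
    obtain ⟨c, rfl⟩ := Submodule.mem_span_singleton.1 hx
    rw [map_smul, slice_apply, hw', contr_tmul, smul_smul]
    exact Submodule.smul_mem _ _ (Submodule.mem_span_singleton_self w)
  let V₀ := L.comap φ
  have hV₀ : IsSubcomod (k := k) (A := A) V₀ := isSubcomod_comap hφ hL
  letI := restrict V₀ hV₀
  have hι : Hoch.IsComodHom A V₀.subtype := isComodHom_subtype V₀ hV₀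
  let b := Module.finBasis k V₀
  choose r hr' using fun j => Submodule.mem_span_singleton.1 (show φ (b j : V) ∈ L from (b j).2)
  obtain ⟨f, hf⟩ : ∃ f : W →ₗ[k] k, f w = 1 := by
    obtain ⟨g, hg⟩ := (LinearMap.toSpanSingleton k W w).exists_leftInverse_of_injective
      (LinearMap.ker_eq_bot.2 (smul_left_injective k hw0))
    exact ⟨g, by simpa using LinearMap.congr_fun hg 1⟩
  have hker : ∀ j, ∑ i, r i • mat (A := A) b i j = r j • (1 : A) := by
    intro j
    have e := LinearMap.congr_fun hφ (b j : V)
    have e' := LinearMap.congr_fun hι (b j)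
    simp only [LinearMap.comp_apply, Submodule.subtype_apply] at e e'
    rw [e', coact_basis, ← hr', map_smul, hw'] at e
    simp only [map_sum, LinearMap.rTensor_tmul, Submodule.subtype_apply, ← hr'] at e
    have := congrArg (fun z => TensorProduct.lid k A (f.rTensor A z)) e
    simpa [hf, TensorProduct.smul_tmul', eq_comm] using this.symm
  have hr0 : r ≠ 0 := by
    obtain ⟨v, hv⟩ := hr
    intro h0
    have hv' : v ∈ V₀ := by
      show φ v ∈ L
      rw [hv]
      exact Submodule.mem_span_singleton_self w
    apply hw0
    rw [← hv]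
    have hz : φ ∘ₗ V₀.subtype = 0 := b.ext fun j => by simp [← hr', h0]
    exact LinearMap.congr_fun hz ⟨v, hv'⟩
  obtain ⟨x, hx, hx0⟩ := h _ (mat b) (isCorep_mat b) r hker hr0
  let v : V₀ := ∑ j, x j • b j
  have hv : v ∈ fixedPts k A V₀ := by
    have hrep : ∀ i, b.repr v i = x i := fun i => b.repr_sum_self x ▸ rfl
    rw [mem_fixedPts_iff b]
    intro i
    simp only [hrep, hx i]
  refine ⟨(∑ i, r i * x i)⁻¹ • (v : V), Submodule.smul_mem _ _ ?_, ?_⟩
  · show Comod.coact (k := k) (A := A) (v : V) = (v : V) ⊗ₜ[k] (1 : A)
    have e := LinearMap.congr_fun hι v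
    simp only [LinearMap.comp_apply, Submodule.subtype_apply] at e
    rw [e, show Comod.coact (k := k) (A := A) v = v ⊗ₜ[k] (1 : A) from hv]
    simp
  · have : φ (v : V) = (∑ i, r i * x i) • w := by
      simp only [v, Submodule.coe_sum, Submodule.coe_smul, map_sum, map_smul, ← hr', smul_smul,
        Finset.sum_smul, mul_comm]
    rw [map_smul, this, smul_smul, inv_mul_cancel₀ hx0, one_smul]

theorem isSemisimpleComod_of_trivCrit (h : TrivCrit k A) [Comod k A V] [Module.Finite k V] :
    IsSemisimpleComod k A V := by
  classical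
  intro U hU
  letI := restrict U hU
  have hι : Hoch.IsComodHom A U.subtype := isComodHom_subtype U hU
  let b := Module.finBasis k V
  let c := Module.finBasis k U
  obtain ⟨l, hl⟩ := U.subtype.exists_leftInverse_of_injective U.ker_subtype
  let J : Matrix (Fin (Module.finrank k V)) (Fin (Module.finrank k U)) k :=
    Matrix.of fun i a => b.repr (c a : V) i
  let L : Matrix (Fin (Module.finrank k U)) (Fin (Module.finrank k V)) k :=
    Matrix.of fun a i => c.repr (l (b i)) a
  have hLJ : L * J = 1 := by
    ext a a'
    have : ∑ i, b.repr (c a' : V) i • l (b i) = c a' := by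
      simp only [← map_smul, ← map_sum, b.sum_repr]
      exact LinearMap.congr_fun hl (c a')
    have := congrArg (fun z => c.repr z a) this
    simpa [Matrix.mul_apply, L, J, Matrix.one_apply, Finsupp.single_apply, eq_comm, mul_comm] using this
  let D := mat (A := A) c
  let C := mat (A := A) b
  let am := algebraMap k A
  have hCJ : C * J.map am = J.map am * D := mat_mul_of_isComodHom c b U.subtype hι
  have hD : IsCorep k D := isCorep_mat c
  have hC : IsCorep k C := isCorep_mat b
  have hSJ : C.map (HopfAlgebraStruct.antipode (R := k)) * J.map am =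
      J.map am * D.map (HopfAlgebraStruct.antipode (R := k)) := by
    calc C.map (HopfAlgebraStruct.antipode (R := k)) * J.map am
        = C.map (HopfAlgebraStruct.antipode (R := k)) *
            ((J.map am * D) * D.map (HopfAlgebraStruct.antipode (R := k))) := by
          rw [Matrix.mul_assoc (J.map am), self_mul_antipode hD, Matrix.mul_one]
      _ = J.map am * D.map (HopfAlgebraStruct.antipode (R := k)) := by
          rw [← hCJ, ← Matrix.mul_assoc, ← Matrix.mul_assoc, antipode_mul_self hC, Matrix.one_mul]
  let H := Matrix.kroneckerMap (· * ·) D (dual k C)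
  let H' := Matrix.kroneckerMap (· * ·) D (dual k D)
  have hH : IsCorep k H := isCorep_kronecker hD (isCorep_dual hC)
  have hH' : IsCorep k H' := isCorep_kronecker hD (isCorep_dual hD)
  let e : Module.Basis (Fin (Module.finrank k U) × Fin (Module.finrank k V)) k
      ((Fin (Module.finrank k U) × Fin (Module.finrank k V)) → k) := Pi.basisFun k _
  let e' : Module.Basis (Fin (Module.finrank k U) × Fin (Module.finrank k U)) k
      ((Fin (Module.finrank k U) × Fin (Module.finrank k U)) → k) := Pi.basisFun k _
  letI : Comod k A ((Fin (Module.finrank k U) × Fin (Module.finrank k V)) → k) := ofBasis e H hH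
  letI : Comod k A ((Fin (Module.finrank k U) × Fin (Module.finrank k U)) → k) := ofBasis e' H' hH'
  let R : Matrix (Fin (Module.finrank k U) × Fin (Module.finrank k U))
      (Fin (Module.finrank k U) × Fin (Module.finrank k V)) k :=
    Matrix.kroneckerMap (· * ·) (1 : Matrix (Fin (Module.finrank k U)) (Fin (Module.finrank k U)) k) J.transpose
  have hR : Hoch.IsComodHom A R.mulVecLin := by
    refine isComodHom_of_mat e e' _ R (fun j => ?_) ?_
    · funext q
      simp [e, e', Matrix.mulVec_single, Pi.single_apply, Finset.sum_apply]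
    · rw [mat_ofBasis e H hH, mat_ofBasis e' H' hH']
      have hRm : R.map am = Matrix.kroneckerMap (· * ·)
          (1 : Matrix (Fin (Module.finrank k U)) (Fin (Module.finrank k U)) A) (J.map am).transpose := by
        ext p q
        by_cases hp : p.1 = q.1 <;> simp [R, am, Matrix.one_apply, hp]
      have e1 : dual k D * (J.map am).transpose = (J.map am).transpose * dual k C := by
        have t := congrArg Matrix.transpose hSJ
        rw [Matrix.transpose_mul, Matrix.transpose_mul] at t
        exact t.symm
      show H' * R.map am = R.map am * H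
      rw [hRm, ← Matrix.mul_kronecker_mul, ← Matrix.mul_kronecker_mul, Matrix.mul_one, Matrix.one_mul, e1]
  let one' : (Fin (Module.finrank k U) × Fin (Module.finrank k U)) → k :=
    fun p => if p.1 = p.2 then 1 else 0
  have hone : one' ∈ fixedPts k A ((Fin (Module.finrank k U) × Fin (Module.finrank k U)) → k) := by
    rw [mem_fixedPts_iff e', mat_ofBasis e' H' hH']
    intro p
    have := congrFun (congrFun (self_mul_antipode hD) p.1) p.2
    simp only [Matrix.mul_apply, Matrix.map_apply, Matrix.one_apply] at this
    simpa [one', H', e', dual, Fintype.sum_prod_type, ite_smul] using this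
  have hrange : one' ∈ LinearMap.range R.mulVecLin := by
    refine ⟨fun p => L p.1 p.2, ?_⟩
    funext p
    have := congrFun (congrFun hLJ p.1) p.2
    simp only [Matrix.mul_apply, Matrix.one_apply] at this
    simpa [R, one', Matrix.mulVec, dotProduct, Fintype.sum_prod_type, Matrix.one_apply, mul_comm] using this
  obtain ⟨F, hF, hFR⟩ := exists_fixed_lift h R.mulVecLin hR one' hone hrange
  let G : Matrix (Fin (Module.finrank k U)) (Fin (Module.finrank k V)) k :=
    Matrix.of fun a i => F (a, i)
  have hG : D * G.map am * C.map (HopfAlgebraStruct.antipode (R := k)) = G.map am := by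
    ext a j
    have := (mem_fixedPts_iff e F).1 hF (a, j)
    rw [mat_ofBasis e H hH] at this
    simp only [e, Pi.basisFun_repr, H, Fintype.sum_prod_type, Matrix.kroneckerMap_apply, dual,
      Algebra.smul_def, mul_one] at this
    simp only [Matrix.mul_apply, Finset.sum_mul, Matrix.map_apply, Matrix.of_apply, G, am]
    rw [← this, Finset.sum_comm]
    refine Finset.sum_congr rfl fun x _ => Finset.sum_congr rfl fun y _ => ?_
    ring
  have hDG : D * G.map am = G.map am * C := by
    conv_rhs => rw [← hG, Matrix.mul_assoc, antipode_mul_self hC, Matrix.mul_one]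
  have hGJ : G * J = 1 := by
    ext a a'
    have := congrFun hFR (a, a')
    simpa [R, one', G, Matrix.mulVec, dotProduct, Fintype.sum_prod_type, Matrix.one_apply,
      Matrix.mul_apply, mul_comm] using this
  let p : V →ₗ[k] U := Matrix.toLin b c G
  have hp : Hoch.IsComodHom A p :=
    isComodHom_of_mat b c p G (fun j => Matrix.toLin_self b c G j) hDG
  have hpU : ∀ x : U, p (x : V) = x := by
    have : p ∘ₗ U.subtype = LinearMap.id := by
      refine c.ext fun a => ?_
      simp only [LinearMap.comp_apply, Submodule.subtype_apply, LinearMap.id_apply]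
      rw [← b.sum_repr (c a : V), map_sum]
      simp only [map_smul, p, Matrix.toLin_self, Finset.smul_sum, smul_smul]
      rw [Finset.sum_comm]
      simp only [← Finset.sum_smul]
      have h1 : ∀ a', ∑ i, b.repr (c a : V) i * G a' i = if a' = a then 1 else 0 := by
        intro a'
        have := congrFun (congrFun hGJ a') a
        simpa [Matrix.mul_apply, Matrix.one_apply, J, mul_comm] using this
      simp [h1]
    exact fun x => LinearMap.congr_fun this x
  exact ⟨LinearMap.ker p, isSubcomod_ker hp, LinearMap.isCompl_of_proj hpU⟩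

theorem trivCrit_of_exists_fixedPt
    (h : ∀ (V : Type v) [AddCommGroup V] [Module k V] [Comod k A V], Module.Finite k V →
     ∀ π : V →ₗ[k] k, Function.Surjective π →
     LinearMap.rTensor A π ∘ₗ Comod.coact (k := k) (A := A) (V := V) =
     (TensorProduct.mk k k A).flip (1 : A) ∘ₗ π →
     ∃ v ∈ fixedPts k A V, π v ≠ 0) : TrivCrit k A := by
  classical
  intro n C hC r hr hr0
  haveI : Nontrivial A := (Bialgebra.counitAlgHom k A).toRingHom.domain_nontrivial
  haveI : Small.{v} k := small_of_injective (algebraMap k A).injective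
  let b : Module.Basis (Fin n) k (Shrink.{v} (Fin n → k)) :=
    (Pi.basisFun k (Fin n)).map (Shrink.linearEquiv.{v} k (Fin n → k)).symm
  letI : Comod k A (Shrink.{v} (Fin n → k)) := ofBasis b C hC
  let π : Shrink.{v} (Fin n → k) →ₗ[k] k := b.constr k r
  obtain ⟨j, hj⟩ : ∃ j, r j ≠ 0 := by
    by_contra! h0
    exact hr0 (funext h0)
  have hπs : Function.Surjective π := fun c =>
    ⟨(c * (r j)⁻¹) • b j, by simp [π, Module.Basis.constr_basis, hj]⟩
  have hπ : LinearMap.rTensor A π ∘ₗ Comod.coact (k := k) (A := A) (V := Shrink.{v} (Fin n → k)) =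
      (TensorProduct.mk k k A).flip (1 : A) ∘ₗ π := by
    refine b.ext fun l => (TensorProduct.lid k A).injective ?_
    simp [coact_basis, mat_ofBasis b C hC, π, Module.Basis.constr_basis, hr l]
  obtain ⟨v, hv, hv0⟩ := h _ (Module.Finite.of_basis b) π hπs hπ
  refine ⟨fun i => b.repr v i, fun i => ?_, ?_⟩
  · have := (mem_fixedPts_iff b v).1 hv i
    rwa [mat_ofBasis b C hC] at this
  · simpa [π, Module.Basis.constr_apply_fintype, mul_comm] using hv0

end Groth.Agent.HopfRep.Corep
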