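import Groth.Agent.HopfRep.GeomReduced
import Mathlib.RingTheory.Nullstellensatz
import Mathlib.RingTheory.Jacobson.Ring
import Mathlib.RingTheory.TensorProduct.Maps
import Mathlib.RingTheory.Localization.Away.Basic

/-!
Restriction to the diagonal of `B_red ⊗ J → J` for an ideal `J` killed by the nilradical.
-/

universe u

open TensorProduct

noncomputable section

namespace Groth.Agent.HopfRep.DiagExt

variable (k : Type u) [Field k] (m : ℕ) {B C : Type u} [CommRing B] [Algebra k B] [CommRing C] [Algebra k C]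

variable (B) in
/-- The reduced quotient. -/
abbrev red := B ⧸ nilradical B

variable (B) in
/-- The power of the nilradical, as a `k`-subspace. -/
abbrev jet : Submodule k B := (nilradical B ^ m).restrictScalars k

theorem exists_point [IsAlgClosed k] [Algebra.FiniteType k B] (M : Ideal B) [M.IsMaximal] :
    ∃ χ : B →ₐ[k] k, RingHom.ker χ = M := by
  let := Ideal.Quotient.field M
  have : Algebra.FiniteType k (B ⧸ M) :=
    (inferInstance : Algebra.FiniteType k B).of_surjective (Ideal.Quotient.mkₐ k M) (Ideal.Quotient.mkₐ_surjective k M)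
  have := finite_of_finite_type_of_isJacobsonRing k (B ⧸ M)
  have hbij : Function.Bijective (algebraMap k (B ⧸ M)) :=
    IsAlgClosed.algebraMap_bijective_of_isIntegral
  let e := (AlgEquiv.ofBijective (Algebra.ofId k (B ⧸ M)) hbij).symm
  refine ⟨(e : (B ⧸ M) →ₐ[k] k).comp (Ideal.Quotient.mkₐ k M), ?_⟩
  ext x
  simp [RingHom.mem_ker, Ideal.Quotient.eq_zero_iff_mem]

theorem isReduced_tensor_red [IsAlgClosed k] (D : Type u) [CommRing D] [Algebra k D]
    [Algebra.FiniteType k D] [IsReduced D] : IsReduced (D ⊗[k] D) := by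
  have : IsJacobsonRing D := isJacobsonRing_of_finiteType (A := k)
  let pts := D →ₐ[k] k
  have hpts : ∀ d : D, (∀ χ : pts, χ d = 0) → d = 0 := by
    intro d hd
    have hj : (⊥ : Ideal D).jacobson = ⊥ := IsJacobsonRing.out inferInstance (Ideal.isRadical_bot_iff.2 inferInstance)
    rw [← Submodule.mem_bot D, ← hj, Ideal.jacobson, Submodule.mem_sInf]
    rintro M ⟨-, hM⟩
    obtain ⟨χ, rfl⟩ := exists_point (k := k) M
    exact hd χ
  refine ⟨fun x hx => GeomReduced.eq_zero_of_forall D (fun χ : pts => χ) hpts x fun χ => ?_⟩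
  have : IsReduced (D ⊗[k] k) := isReduced_of_injective _ (Algebra.TensorProduct.rid k k D).injective
  exact (hx.map _).eq_zero

theorem map_mem_nilradical {R S : Type*} [CommRing R] [CommRing S] (ψ : R →+* S) {x : R}
    (hx : x ∈ nilradical R) : ψ x ∈ nilradical S :=
  IsNilpotent.map (mem_nilradical.1 hx) ψ

theorem map_pow_nilradical_le {R S : Type*} [CommRing R] [CommRing S] (ψ : R →+* S) (n : ℕ) :
    (nilradical R ^ n).map ψ ≤ nilradical S ^ n := by
  rw [Ideal.map_pow]
  exact Ideal.pow_right_mono (Ideal.map_le_iff_le_comap.2 fun x hx => Ideal.mem_comap.2 (map_mem_nilradical ψ hx)) n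

theorem nilradical_le_map {R S : Type*} [CommRing R] [CommRing S] [Algebra R S] (h : R)
    [IsLocalization.Away h S] : nilradical S ≤ (nilradical R).map (algebraMap R S) := by
  intro x hx
  obtain ⟨⟨t, u⟩, hu⟩ := IsLocalization.surj (Submonoid.powers h) x
  obtain ⟨n, hn⟩ := mem_nilradical.1 hx
  have h1 : algebraMap R S (t ^ n) = 0 := by
    rw [map_pow, ← hu, mul_pow, hn, zero_mul]
  obtain ⟨v, hv⟩ := (IsLocalization.map_eq_zero_iff (Submonoid.powers h) S _).1 h1
  have h2 : (v : R) * t ∈ nilradical R := mem_nilradical.2 ⟨n + 1, by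
    rw [show ((v : R) * t) ^ (n + 1) = (v : R) ^ n * t * ((v : R) * t ^ n) by ring, hv, mul_zero]⟩
  have h3 : x = algebraMap R S ((v : R) * t) * (IsLocalization.mk' S 1 (v * u)) := by
    rw [← IsLocalization.mk'_eq_mul_mk'_one, IsLocalization.eq_mk'_iff_mul_eq, map_mul, ← hu]
    simp only [Submonoid.coe_mul, map_mul]
    ring
  rw [h3]
  exact Ideal.mul_mem_right _ _ (Ideal.mem_map_of_mem _ h2)

/-- Multiplication of the reduced ring on the top nilpotent power. -/
def act (hm : nilradical B ^ (m + 1) = ⊥) : red B ⊗[k] jet k m B →ₗ[k] B :=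
  TensorProduct.lift
    (((nilradical B).restrictScalars k).liftQ
      ((LinearMap.mul k B).compl₂ (jet k m B).subtype) (fun b hb => by
        ext j
        have h : b * (j : B) ∈ nilradical B ^ (m + 1) := by
          rw [pow_succ']; exact Ideal.mul_mem_mul hb j.2
        rw [hm] at h
        exact (Submodule.mem_bot B).1 h))

@[simp]
theorem act_tmul (hm : nilradical B ^ (m + 1) = ⊥) (b : B) (j : jet k m B) :
    act k m hm (Ideal.Quotient.mk _ b ⊗ₜ j) = b * j := rfl

variable (B) in
/-- The diagonal. -/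
def diag : red B ⊗[k] B →ₐ[k] red B :=
  Algebra.TensorProduct.lift (AlgHom.id k (red B)) (Ideal.Quotient.mkₐ k _) fun _ _ => Commute.all _ _

@[simp]
theorem diag_tmul (a : red B) (b : B) : diag k B (a ⊗ₜ b) = a * Ideal.Quotient.mk _ b := by
  simp [diag]

variable (B) in
/-- The inclusion into the ring. -/
abbrev incl : red B ⊗[k] jet k m B →ₗ[k] red B ⊗[k] B := (jet k m B).subtype.lTensor (red B)

theorem incl_injective : Function.Injective (incl k m B) :=
  Module.Flat.lTensor_preserves_injective_linearMap _ (jet k m B).injective_subtype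

theorem act_mem (hm : nilradical B ^ (m + 1) = ⊥) (z : red B ⊗[k] jet k m B) :
    act k m hm z ∈ nilradical B ^ m := by
  induction z using TensorProduct.induction_on with
  | zero => simp
  | tmul a j =>
    obtain ⟨b, rfl⟩ := Ideal.Quotient.mk_surjective a
    rw [act_tmul]; exact Ideal.mul_mem_left _ _ j.2
  | add x y hx hy => rw [map_add]; exact add_mem hx hy

theorem exists_smul (hm : nilradical B ^ (m + 1) = ⊥) (t : red B ⊗[k] B) (z : red B ⊗[k] jet k m B) :
    ∀ c : B, Ideal.Quotient.mk _ c = diag k B t →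
      ∃ z', incl k m B z' = t * incl k m B z ∧ act k m hm z' = c * act k m hm z := by
  have hc : ∀ c c' : B, Ideal.Quotient.mk (nilradical B) c = Ideal.Quotient.mk _ c' →
      c * act k m hm z = c' * act k m hm z := by
    intro c c' h
    have h1 : (c - c') * act k m hm z ∈ nilradical B ^ (m + 1) := by
      rw [pow_succ']; exact Ideal.mul_mem_mul (Ideal.Quotient.eq.1 h) (act_mem k m hm z)
    rwa [hm, Submodule.mem_bot, sub_mul, sub_eq_zero] at h1
  induction t using TensorProduct.induction_on with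
  | zero =>
    intro c h
    refine ⟨0, by simp, ?_⟩
    rw [hc c 0 (by simpa using h), zero_mul, map_zero]
  | add t₁ t₂ h₁ h₂ =>
    intro c h
    obtain ⟨c₁, e₁⟩ := Ideal.Quotient.mk_surjective (diag k B t₁)
    obtain ⟨c₂, e₂⟩ := Ideal.Quotient.mk_surjective (diag k B t₂)
    obtain ⟨z₁, a₁, b₁⟩ := h₁ c₁ e₁
    obtain ⟨z₂, a₂, b₂⟩ := h₂ c₂ e₂
    refine ⟨z₁ + z₂, by rw [map_add, a₁, a₂, add_mul], ?_⟩
    rw [hc c (c₁ + c₂) (by rw [h, map_add, map_add, e₁, e₂]), map_add, b₁, b₂, add_mul]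
  | tmul a b =>
    obtain ⟨a, rfl⟩ := Ideal.Quotient.mk_surjective a
    intro c h
    rw [diag_tmul, ← map_mul] at h
    rw [hc c (a * b) h]
    clear hc h
    induction z using TensorProduct.induction_on with
    | zero => exact ⟨0, by simp, by simp⟩
    | add x y hx hy =>
      obtain ⟨z₁, a₁, b₁⟩ := hx
      obtain ⟨z₂, a₂, b₂⟩ := hy
      exact ⟨z₁ + z₂, by rw [map_add, map_add, a₁, a₂, mul_add], by rw [map_add, map_add, b₁, b₂, mul_add]⟩
    | tmul a' j =>
      obtain ⟨a', rfl⟩ := Ideal.Quotient.mk_surjective a'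
      refine ⟨Ideal.Quotient.mk _ (a * a') ⊗ₜ ⟨b * j, Ideal.mul_mem_left _ _ j.2⟩, ?_, ?_⟩
      · simp [Algebra.TensorProduct.tmul_mul_tmul]
      · simp only [act_tmul]; ring

theorem act_eq_of_eq (hm : nilradical B ^ (m + 1) = ⊥) {t₁ t₂ : red B ⊗[k] B}
    (ht₁ : diag k B t₁ = 1) (ht₂ : diag k B t₂ = 1) {z₁ z₂ : red B ⊗[k] jet k m B}
    (h : t₁ * incl k m B z₁ = t₂ * incl k m B z₂) : act k m hm z₁ = act k m hm z₂ := by
  obtain ⟨y₁, a₁, b₁⟩ := exists_smul k m hm t₁ z₁ 1 (by simp [ht₁])
  obtain ⟨y₂, a₂, b₂⟩ := exists_smul k m hm t₂ z₂ 1 (by simp [ht₂])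
  rw [one_mul] at b₁ b₂
  rw [← b₁, ← b₂, incl_injective k m (a₁.trans (h.trans a₂.symm))]

/-- The functoriality of the reduced quotient. -/
def redMap (ψ : B →ₐ[k] C) : red B →ₐ[k] red C :=
  Ideal.Quotient.liftₐ _ ((Ideal.Quotient.mkₐ k _).comp ψ) fun x hx => by
    simpa using Ideal.Quotient.eq_zero_iff_mem.2 (map_mem_nilradical ψ.toRingHom hx)

@[simp]
theorem redMap_mk (ψ : B →ₐ[k] C) (b : B) : redMap k ψ (Ideal.Quotient.mk _ b) = Ideal.Quotient.mk _ (ψ b) := rfl

/-- The functoriality of the product ring. -/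
abbrev tMap (ψ : B →ₐ[k] C) : red B ⊗[k] B →ₐ[k] red C ⊗[k] C :=
  Algebra.TensorProduct.map (redMap k ψ) ψ

theorem diag_tMap (ψ : B →ₐ[k] C) (t : red B ⊗[k] B) : diag k C (tMap k ψ t) = redMap k ψ (diag k B t) := by
  induction t using TensorProduct.induction_on with
  | zero => simp
  | tmul a b => simp
  | add x y hx hy => simp only [map_add, hx, hy]

theorem exists_map (hm : nilradical B ^ (m + 1) = ⊥) (hm' : nilradical C ^ (m + 1) = ⊥)
    (ψ : B →ₐ[k] C) (z : red B ⊗[k] jet k m B) :
    ∃ z', incl k m C z' = tMap k ψ (incl k m B z) ∧ act k m hm' z' = ψ (act k m hm z) := by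
  induction z using TensorProduct.induction_on with
  | zero => exact ⟨0, by simp, by simp⟩
  | add x y hx hy =>
    obtain ⟨z₁, a₁, b₁⟩ := hx
    obtain ⟨z₂, a₂, b₂⟩ := hy
    exact ⟨z₁ + z₂, by simp [a₁, a₂], by simp [b₁, b₂]⟩
  | tmul a j =>
    obtain ⟨a, rfl⟩ := Ideal.Quotient.mk_surjective a
    exact ⟨Ideal.Quotient.mk _ (ψ a) ⊗ₜ ⟨ψ j, map_pow_nilradical_le ψ.toRingHom m (Ideal.mem_map_of_mem _ j.2)⟩,
      by simp, by simp⟩

/-- Top nilpotent powers of localisations of the product ring come from the jet. -/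
theorem exists_incl_eq [IsAlgClosed k] [Algebra.FiniteType k B] {S : Type u} [CommRing S]
    [Algebra (red B ⊗[k] B) S] (h : red B ⊗[k] B) [IsLocalization.Away h S] {x : S}
    (hx : x ∈ nilradical S ^ m) :
    ∃ (n : ℕ) (z : red B ⊗[k] jet k m B), x * algebraMap _ S (h ^ n) = algebraMap _ S (incl k m B z) := by
  let T := red B ⊗[k] B
  have : IsReduced (red B) := (Ideal.isRadical_iff_quotient_reduced _).1 (Ideal.radical_isRadical _)
  have := isReduced_tensor_red k (red B)
  have h1 : nilradical T ≤ (nilradical B).map (Algebra.TensorProduct.includeRight : B →ₐ[k] T) := by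
    intro t ht
    have hk := Algebra.TensorProduct.lTensor_ker (A := red B) (g := Ideal.Quotient.mkₐ k (nilradical B)) (Ideal.Quotient.mkₐ_surjective k _)
    have ht' : Algebra.TensorProduct.map (AlgHom.id k (red B)) (Ideal.Quotient.mkₐ k (nilradical B)) t = 0 :=
      (IsNilpotent.map (mem_nilradical.1 ht) _).eq_zero
    have ht'' := hk.le (RingHom.mem_ker.2 ht')
    have hker : RingHom.ker (Ideal.Quotient.mkₐ k (nilradical B)) = nilradical B := Ideal.Quotient.mkₐ_ker k _
    exact (congrArg (Ideal.map _) hker).le ht''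
  have h2 : x ∈ ((nilradical B ^ m).map (Algebra.TensorProduct.includeRight : B →ₐ[k] T)).map (algebraMap T S) := by
    refine ?_
    rw [Ideal.map_pow, Ideal.map_pow]
    exact Ideal.pow_right_mono ((nilradical_le_map h).trans (Ideal.map_mono h1)) m hx
  obtain ⟨⟨⟨y, hy⟩, ⟨_, n, rfl⟩⟩, he⟩ := (IsLocalization.mem_map_algebraMap_iff (Submonoid.powers h) S).1 h2
  have hy' := hy
  rw [← Submodule.restrictScalars_mem k, Ideal.map_includeRight_eq] at hy'
  obtain ⟨z, hz⟩ := hy'
  exact ⟨n, z, he.trans (congrArg _ hz.symm)⟩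

theorem act_sub_mem (hm : nilradical B ^ (m + 1) = ⊥) (χ : red B →ₐ[k] k) (z : red B ⊗[k] jet k m B) :
    act k m hm z -
      Algebra.TensorProduct.lift ((Algebra.ofId k B).comp χ) (AlgHom.id k B) (fun _ _ => Commute.all _ _)
        (incl k m B z) ∈ RingHom.ker (χ.comp (Ideal.Quotient.mkₐ k (nilradical B))) * nilradical B ^ m := by
  induction z using TensorProduct.induction_on with
  | zero => simp
  | tmul a j =>
    obtain ⟨a, rfl⟩ := Ideal.Quotient.mk_surjective a
    simp only [act_tmul, LinearMap.lTensor_tmul, Submodule.coe_subtype, Algebra.TensorProduct.lift_tmul,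
      AlgHom.comp_apply, AlgHom.id_apply, ← sub_mul]
    refine Ideal.mul_mem_mul ?_ j.2
    simp [RingHom.mem_ker, Algebra.ofId_apply, AlgHom.commutes, map_sub]
  | add x y hx hy =>
    simp only [map_add]
    rw [add_sub_add_comm]
    exact add_mem hx hy

end Groth.Agent.HopfRep.DiagExt

end
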