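import Groth.Agent.HopfRep.DiagRigidCore
import Mathlib.RingTheory.FiniteType
import Mathlib.RingTheory.Finiteness.Nakayama
import Mathlib.RingTheory.Localization.AtPrime.Basic
import Mathlib.RingTheory.LocalRing.ResidueField.Ideal
import Mathlib.Data.Finsupp.PWO
import Mathlib.Order.Antichain

/-!
Fibrewise rigidity of actions of diagonalisable groups, affine part: for a graded algebra `A` of finite type over
`R` the weight space `A_m` is a finite `A_0`-module (Dickson), so if `A_m` vanishes in all fibres it vanishes
by Nakayama.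
-/

universe u

open CategoryTheory MonoidalCategory CartesianMonoidalCategory MonObj AlgebraicGeometry Limits

set_option linter.style.haveILetI false

noncomputable section

namespace Groth.Agent.HopfRep.DiagFibre

open DiagRigid

variable {R : Type u} [CommRing R] {A : Type u} [CommRing A] [Algebra R A] {M : Type} [AddCommGroup M]

/-- If all fibres of a weight space of a finite type graded algebra vanish, the weight space vanishes. -/
theorem eq_zero_of_fibres [Algebra.FiniteType R A] (ρ : A →ₐ[R] MonoidAlgebra A (Multiplicative M))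
    (hassoc : ∀ c m, ρ ((ρ c).coeff m) = MonoidAlgebra.single m ((ρ c).coeff m))
    (hone : ∀ c, evMap (1 : Multiplicative M →* A) (AlgHom.id R A) (ρ c) = c)
    (m : Multiplicative M)
    (hfib : ∀ (p : Ideal R) [p.IsPrime] (c : A), ρ c = MonoidAlgebra.single m c →
      ∃ r ∉ p, r • c ∈ p • (⊤ : Submodule R A))
    (c : A) : (ρ c).coeff m = 0 := by
  classical
  -- homogeneous generators
  obtain ⟨G₀, hG₀⟩ := ‹Algebra.FiniteType R A›.out
  let I : Type u := {x : A × Multiplicative M // x.1 ∈ G₀ ∧ x.2 ∈ (ρ x.1).coeff.support}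
  have hI : Finite I := by
    refine Set.Finite.to_subtype (s := {x : A × Multiplicative M | x.1 ∈ G₀ ∧ x.2 ∈ (ρ x.1).coeff.support}) ?_
    refine Set.Finite.subset (G₀.finite_toSet.biUnion fun g _ =>
      ((ρ g).coeff.support.finite_toSet.image fun n => (g, n))) ?_
    rintro ⟨g, n⟩ ⟨hg, hn⟩
    exact Set.mem_iUnion₂.2 ⟨g, hg, n, hn, rfl⟩
  let y : I → A := fun i => (ρ i.1.1).coeff i.1.2
  let d : I → Multiplicative M := fun i => i.1.2
  have hy : ∀ i, ρ (y i) = MonoidAlgebra.single (d i) (y i) := fun i => hassoc _ _
  have hgen : Algebra.adjoin R (Set.range y) = ⊤ := by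
    rw [eq_top_iff, ← hG₀, Algebra.adjoin_le_iff]
    intro g hg
    rw [← hone g, ← MonoidAlgebra.sum_coeff_single (ρ g)]
    simp only [Finsupp.sum, map_sum, evMap_single, MonoidHom.one_apply, _root_.mul_one, AlgHom.id_apply]
    refine Subalgebra.sum_mem _ fun n hn => ?_
    exact Algebra.subset_adjoin ⟨⟨(g, n), hg, hn⟩, rfl⟩
  have : Fintype I := Fintype.ofFinite I
  let mon : (I →₀ ℕ) → A := fun e => ∏ i, y i ^ e i
  let deg : (I →₀ ℕ) → Multiplicative M := fun e => ∏ i, d i ^ e i
  have hmon : ∀ e, ρ (mon e) = MonoidAlgebra.single (deg e) (mon e) := by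
    intro e
    simp only [mon, deg, map_prod, map_pow, hy, MonoidAlgebra.single_pow]
    induction (Finset.univ : Finset I) using Finset.induction_on with
    | empty => simp [MonoidAlgebra.one_def]
    | insert i s hi ih =>
      rw [Finset.prod_insert hi, Finset.prod_insert hi, Finset.prod_insert hi, ih,
        MonoidAlgebra.single_mul_single]
  -- the degree zero part
  let B : Subalgebra R A := AlgHom.equalizer ρ incl
  have hmonB : ∀ e, deg e = 1 → mon e ∈ B := fun e he => by
    show ρ (mon e) = incl (mon e)
    rw [hmon, he, incl_apply]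
  -- the weight space
  let N : Submodule B A :=
    { carrier := {c | ρ c = MonoidAlgebra.single m c}
      add_mem' := fun {a b} ha hb => by
        show ρ (a + b) = _
        rw [map_add, show ρ a = _ from ha, show ρ b = _ from hb, MonoidAlgebra.single_add]
      zero_mem' := by
        show ρ 0 = _
        rw [map_zero, MonoidAlgebra.single_zero]
      smul_mem' := fun b a ha => by
        show ρ ((b : A) * a) = _
        rw [map_mul, show ρ a = _ from ha, show ρ (b : A) = incl (b : A) from b.2, incl_apply,
          MonoidAlgebra.single_mul_single, _root_.one_mul]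
        rfl }
  -- minimal monomials
  let D : Set (I →₀ ℕ) := {e | deg e = m}
  have hD : D.IsPWO := Set.isPWO_of_wellQuasiOrderedLE D
  have hmin : {e | Minimal (· ∈ D) e}.Finite :=
    (setOfPred_minimal_antichain (· ∈ D)).finite_of_partiallyWellOrderedOn
      (Set.isPWO_of_wellQuasiOrderedLE _)
  have hN : N = Submodule.span B (mon '' {e | Minimal (· ∈ D) e}) := by
    refine le_antisymm (fun a ha => ?_) (Submodule.span_le.2 ?_)
    · have key : ∀ z ∈ Algebra.adjoin R (Set.range y),
          (ρ z).coeff m ∈ Submodule.span B (mon '' {e | Minimal (· ∈ D) e}) := by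
        intro z hz
        rw [Algebra.adjoin_range_eq_range_aeval] at hz
        obtain ⟨P, rfl⟩ := hz
        induction P using MvPolynomial.induction_on' with
        | monomial e r =>
          have h1 : MvPolynomial.aeval y (MvPolynomial.monomial e r) = r • mon e := by
            rw [MvPolynomial.aeval_monomial, Algebra.smul_def, Finsupp.prod_fintype _ _ fun i => pow_zero _]
          show (ρ (MvPolynomial.aeval y (MvPolynomial.monomial e r))).coeff m ∈ _
          rw [h1, map_smul, hmon]
          by_cases he : deg e = m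
          · obtain ⟨e₀, he₀e, he₀⟩ := hD.exists_le_minimal (show e ∈ D from he)
            have h2 : mon e = mon (e - e₀) * mon e₀ := by
              simp only [mon, ← Finset.prod_mul_distrib, ← pow_add]
              refine Finset.prod_congr rfl fun i _ => ?_
              rw [Finsupp.tsub_apply, Nat.sub_add_cancel (he₀e i)]
            have h3 : deg (e - e₀) = 1 := by
              have h4 : deg e = deg (e - e₀) * deg e₀ := by
                simp only [deg, ← Finset.prod_mul_distrib, ← pow_add]
                refine Finset.prod_congr rfl fun i _ => ?_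
                rw [Finsupp.tsub_apply, Nat.sub_add_cancel (he₀e i)]
              rw [he, show deg e₀ = m from he₀.1] at h4
              exact mul_eq_right.1 h4.symm
            have h5 : r • mon e = (r • (⟨mon (e - e₀), hmonB _ h3⟩ : B)) • mon e₀ := by
              rw [h2]
              show r • (mon (e - e₀) * mon e₀) = (r • mon (e - e₀)) * mon e₀
              rw [smul_mul_assoc]
            simp only [he, MonoidAlgebra.smul_single, MonoidAlgebra.coeff_single, Finsupp.single_eq_same]
            rw [h5]
            exact Submodule.smul_mem _ _ (Submodule.subset_span ⟨e₀, he₀, rfl⟩)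
          · simp [MonoidAlgebra.smul_single, he, Ne.symm he]
        | add P Q hP hQ =>
          simp only [map_add, MonoidAlgebra.coeff_add, Finsupp.add_apply]
          exact Submodule.add_mem _ hP hQ
      have h := key a (hgen ▸ trivial)
      rw [show ρ a = MonoidAlgebra.single m a from ha] at h
      simpa using h
    · rintro _ ⟨e, he, rfl⟩
      show ρ (mon e) = _
      rw [hmon, show deg e = m from he.1]
  have hNfg : N.FG := hN ▸ Submodule.fg_span (hmin.image _)
  -- the projection
  let Pm : A →ₗ[R] A := (coeff m).comp ρ.toLinearMap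
  have hPm : ∀ a, Pm a ∈ N := fun a => hassoc a m
  have hle : ∀ q : Ideal B, q.IsMaximal → N ≤ q • N := by
    intro q hq a ha
    let p := q.comap (algebraMap R B)
    have : p.IsPrime := Ideal.IsPrime.comap _
    obtain ⟨r, hr, hra⟩ := hfib p a ha
    have h1 : r • a ∈ q • N := by
      have h2 := Submodule.mem_map_of_mem (f := Pm) hra
      rw [Submodule.map_smul''] at h2
      have h3 : Pm (r • a) = r • a := by
        rw [map_smul]
        show r • (ρ a).coeff m = _
        rw [show ρ a = MonoidAlgebra.single m a from ha]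
        simp
      rw [h3] at h2
      refine Submodule.smul_induction_on h2 (fun s hs z hz => ?_) (fun z w hz hw => Submodule.add_mem _ hz hw)
      obtain ⟨z', -, rfl⟩ := hz
      rw [← IsScalarTower.algebraMap_smul B s]
      exact Submodule.smul_mem_smul hs (hPm z')
    obtain ⟨b, i, hi, hbi⟩ := hq.exists_inv (show algebraMap R B r ∉ q from hr)
    have h4 : a = b • (r • a) + i • a := by
      rw [← IsScalarTower.algebraMap_smul B r a, smul_smul, ← add_smul, hbi, one_smul]
    rw [h4]
    exact Submodule.add_mem _ (Submodule.smul_mem _ _ h1) (Submodule.smul_mem_smul hi ha)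
  have hbot : ∀ a ∈ N, a = 0 := by
    intro a ha
    by_contra h0
    let J : Ideal B :=
      { carrier := {b | b • a = 0}
        add_mem' := fun {b b'} hb hb' => by
          show (b + b') • a = 0
          rw [add_smul, show b • a = 0 from hb, show b' • a = 0 from hb', add_zero]
        zero_mem' := zero_smul _ _
        smul_mem' := fun b b' hb' => by
          show (b * b') • a = 0
          rw [mul_smul, show b' • a = 0 from hb', smul_zero] }
    have hJ : J ≠ ⊤ := fun h => h0 (by
      have : (1 : B) ∈ J := h ▸ trivial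
      exact (one_smul B a).symm.trans this)
    obtain ⟨q, hq, hJq⟩ := Ideal.exists_le_maximal J hJ
    obtain ⟨t, ht, htN⟩ := Submodule.exists_sub_one_mem_and_smul_eq_zero_of_fg_of_le_smul q N hNfg (hle q hq)
    have : t ∈ q := hJq (htN a ha)
    exact hq.ne_top ((Ideal.eq_top_iff_one _).2 (by simpa using q.sub_mem this ht))
  exact hbot _ (hPm c)

section Core

variable {S : Scheme.{u}} (s : Spec (CommRingCat.of R) ⟶ S) {G X : Over S} [GrpObj G] (a : AlgGrp.Action G X)
  {w : Spec (CommRingCat.of A) ⟶ pullback X.hom s}
  (hw : w ≫ pullback.snd X.hom s = Spec.map (CommRingCat.ofHom (algebraMap R A)))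
  (h0 : ∀ (p : Ideal R) [p.IsPrime] (K : Type u) [CommRing K] [Algebra R K],
    p.map (algebraMap R K) = ⊥ → (∀ r ∉ p, IsUnit (algebraMap R K r)) →
    ∀ (g : T s K ⟶ G) (x : T s K ⟶ X), lift g x ≫ a.act = x)

include h0 in
/-- The action is trivial on the underlying sets. -/
theorem range_act_subset {K : Type u} [CommRing K] [Algebra R K] (g : T s K ⟶ G) (x : T s K ⟶ X)
    (Q : PrimeSpectrum K) :
    (pullback.lift (lift g x ≫ a.act).left (Spec.map (CommRingCat.ofHom (algebraMap R K))) (Over.w _) :
      Spec (CommRingCat.of K) ⟶ pullback X.hom s) Q =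
    (pullback.lift x.left (Spec.map (CommRingCat.ofHom (algebraMap R K))) (Over.w x) :
      Spec (CommRingCat.of K) ⟶ pullback X.hom s) Q := by
  let L := Q.asIdeal.ResidueField
  let ψ : K →ₐ[R] L := IsScalarTower.toAlgHom R K L
  have hp : (RingHom.ker (algebraMap R L)).IsPrime := RingHom.ker_isPrime _
  have h2 := h0 (RingHom.ker (algebraMap R L)) L (eq_bot_iff.2 (Ideal.map_le_iff_le_comap.2 fun r hr => hr))
    (fun r hr => isUnit_iff_ne_zero.2 hr) (Tmap s ψ ≫ g) (Tmap s ψ ≫ x)
  rw [← comp_lift, Category.assoc] at h2
  have h3 : Spec.map (CommRingCat.ofHom ψ.toRingHom) ≫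
      pullback.lift (lift g x ≫ a.act).left (Spec.map (CommRingCat.ofHom (algebraMap R K))) (Over.w _) =
      Spec.map (CommRingCat.ofHom ψ.toRingHom) ≫
      pullback.lift x.left (Spec.map (CommRingCat.ofHom (algebraMap R K))) (Over.w x) := by
    apply pullback.hom_ext
    · simp only [Category.assoc, pullback.lift_fst]
      exact congrArg Over.Hom.left h2
    · simp only [Category.assoc, pullback.lift_snd]
  have hQ : Spec.map (CommRingCat.ofHom ψ.toRingHom) (⊥ : PrimeSpectrum L) = Q := by
    refine PrimeSpectrum.ext ?_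
    show Ideal.comap (algebraMap K L) ⊥ = Q.asIdeal
    exact Ideal.ker_algebraMap_residueField Q.asIdeal
  rw [← hQ]
  exact congrArg (fun f : Spec (CommRingCat.of L) ⟶ pullback X.hom s => f (⊥ : PrimeSpectrum L)) h3

include h0 in
/-- The action is trivial on the chart. -/
theorem act_eq [IsOpenImmersion w] [Algebra.FiniteType R A] (P : CharPts s M G) (K : Type u) [CommRing K]
    [Algebra R K] (χ : Multiplicative M →* K) (α : A →ₐ[R] K) :
    lift (P.pt K χ) (xpt s hw α) ≫ a.act = xpt s hw α := by
  classical
  let AM := MonoidAlgebra A (Multiplicative M)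
  let inc : A →ₐ[R] AM := incl
  let χ₀ : Multiplicative M →* AM := MonoidAlgebra.of A (Multiplicative M)
  obtain ⟨ρ, hρ⟩ : ∃ ρ : A →ₐ[R] AM, xpt s hw ρ = lift (P.pt AM χ₀) (xpt s hw inc) ≫ a.act := by
    refine exists_xpt s hw _ ?_
    rintro _ ⟨Q, rfl⟩
    rw [show _ = _ from range_act_subset s a h0 (P.pt AM χ₀) (xpt s hw inc) Q]
    refine ⟨Spec.map (CommRingCat.ofHom inc.toRingHom) Q, ?_⟩
    have h : pullback.lift (xpt s hw inc).left (Spec.map (CommRingCat.ofHom (algebraMap R AM))) (Over.w _) =
        Spec.map (CommRingCat.ofHom inc.toRingHom) ≫ w := by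
      apply pullback.hom_ext
      · rw [pullback.lift_fst, Category.assoc]; rfl
      · rw [pullback.lift_snd, Category.assoc, hw, ← Spec.map_comp, ← CommRingCat.ofHom_comp]
        congr 2
    rw [h]
    rfl
  have hev : ∀ (K : Type u) [CommRing K] [Algebra R K] (χ : Multiplicative M →* K) (α : A →ₐ[R] K),
      xpt s hw ((evMap χ α).comp ρ) = lift (P.pt K χ) (xpt s hw α) ≫ a.act := by
    intro K _ _ χ α
    rw [← Tmap_xpt, hρ, ← Category.assoc, comp_lift, P.pt_nat, Tmap_xpt]
    congr 4
    · ext m
      simp [χ₀, evMap_single]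
    · ext c
      simp [inc, incl_apply, evMap_single]
  have hassoc := coeff_assoc s a hw P ρ hev
  have hone : ∀ c, evMap (1 : Multiplicative M →* A) (AlgHom.id R A) (ρ c) = c := by
    have h1 : xpt s hw ((evMap (1 : Multiplicative M →* A) (AlgHom.id R A)).comp ρ) = xpt s hw (AlgHom.id R A) := by
      rw [hev, P.pt_one, DiagRigid.lift_one_act]
    exact fun c => AlgHom.congr_fun (xpt_injective s hw h1) c
  have hzero : ∀ c m, m ≠ 1 → (ρ c).coeff m = 0 := by
    intro c m hm
    refine eq_zero_of_fibres ρ hassoc hone m (fun p _ a' ha' => ?_) c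
    let Q := AM ⧸ p.map (algebraMap R AM)
    let L := Localization (Algebra.algebraMapSubmonoid Q p.primeCompl)
    let q : AM →ₐ[R] L := (IsScalarTower.toAlgHom R Q L).comp (Ideal.Quotient.mkₐ R _)
    have hqp : p.map (algebraMap R L) = ⊥ := by
      rw [eq_bot_iff, Ideal.map_le_iff_le_comap]
      intro r hr
      show algebraMap R L r = 0
      rw [IsScalarTower.algebraMap_apply R Q L]
      have : algebraMap R Q r = 0 := Ideal.Quotient.eq_zero_iff_mem.2 (Ideal.mem_map_of_mem _ hr)
      rw [this, map_zero]
    have hqu : ∀ r ∉ p, IsUnit (algebraMap R L r) := by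
      intro r hr
      rw [IsScalarTower.algebraMap_apply R Q L]
      exact IsLocalization.map_units L (⟨_, r, hr, rfl⟩ : Algebra.algebraMapSubmonoid Q p.primeCompl)
    have h1 : xpt (K := L) s hw (q.comp ρ) = xpt (K := L) s hw (q.comp inc) := by
      rw [← Tmap_xpt, ← Tmap_xpt, hρ, ← Category.assoc, comp_lift]
      exact h0 p L hqp hqu _ _
    have h2 := AlgHom.congr_fun (xpt_injective s hw h1) a'
    obtain ⟨⟨_, r, hr, rfl⟩, hu⟩ := (IsLocalization.eq_iff_exists (Algebra.algebraMapSubmonoid Q p.primeCompl) L).1
      (show algebraMap Q L (Ideal.Quotient.mk _ (ρ a')) = algebraMap Q L (Ideal.Quotient.mk _ (inc a')) from h2)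
    have h3 : algebraMap R AM r * ρ a' - algebraMap R AM r * inc a' ∈ p.map (algebraMap R AM) := by
      refine Ideal.Quotient.eq.1 ?_
      rw [map_mul, map_mul]
      exact hu
    refine ⟨r, hr, ?_⟩
    have h4 := Submodule.mem_map_of_mem (f := coeff (R := R) m) (mem_smul_top_of_map h3)
    rw [Submodule.map_smul''] at h4
    have h5 : coeff (R := R) m (algebraMap R AM r * ρ a' - algebraMap R AM r * inc a') = r • a' := by
      rw [← Algebra.smul_def, ← Algebra.smul_def, map_sub, map_smul, map_smul]
      show r • (ρ a').coeff m - r • (MonoidAlgebra.single 1 a' : AM).coeff m = _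
      rw [ha']
      simp [Ne.symm hm]
    rw [h5] at h4
    exact Submodule.smul_mono le_rfl le_top h4
  have hρc : ∀ c, ρ c = MonoidAlgebra.single 1 ((ρ c).coeff 1) := by
    intro c
    refine MonoidAlgebra.ext (Finsupp.ext fun m => ?_)
    by_cases hm : m = 1
    · subst hm; simp
    · rw [hzero c m hm]; simp [Ne.symm hm]
  have hone' : ∀ c, (ρ c).coeff 1 = c := by
    intro c
    have h1 := hone c
    rw [hρc c, evMap_single] at h1
    simpa using h1
  rw [← hev K χ α]
  congr 1
  refine AlgHom.ext fun c => ?_
  rw [AlgHom.comp_apply, hρc c, hone' c, evMap_single, map_one, _root_.mul_one]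

end Core

end Groth.Agent.HopfRep.DiagFibre

end
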