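import Groth.Agent.HopfRep.DiagRigid
import Groth.Agent.HopfRep.DiagFibreCore
import Mathlib.AlgebraicGeometry.ResidueField
import Mathlib.AlgebraicGeometry.Morphisms.FiniteType

/-!
An action of a group of multiplicative type on a scheme locally of finite type is trivial if it is trivial on every
fibre.
-/

universe u

open CategoryTheory MonoidalCategory CartesianMonoidalCategory MonObj AlgebraicGeometry Limits

set_option linter.style.haveILetI false

noncomputable section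

namespace Groth.Agent.HopfRep.DiagFibre

open DiagRigid

set_option backward.isDefEq.respectTransparency.types false in
theorem action_trivial {S : Scheme.{u}} (G X : Over S) [GrpObj G] [LocallyOfFiniteType X.hom]
    (hG : TwC.Locally S TwC.Topology.fpqc
      (fun S' f => ∃ (M : Type) (_ : AddCommGroup M), Nonempty (Grp.mk (Red.bc f G) ≅ Grp.mk (Red.DS S' M))))
    (a : AlgGrp.Action G X)
    (h0 : ∀ (p : S) (Y : Over S) (_ : Y ⟶ Over.mk (S.fromSpecResidueField p)) (g : Y ⟶ G) (x : Y ⟶ X),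
      lift g x ≫ a.act = x) :
    ∀ (Y : Over S) (g : Y ⟶ G) (x : Y ⟶ X), lift g x ≫ a.act = x := by
  intro Y g x
  obtain ⟨S', f, hf, hsurj, -, hloc⟩ := hG
  ext1
  let π := pullback.fst Y.hom f
  have : Epi π := Flat.epi_of_flat_of_surjective π
  rw [← cancel_epi π]
  refine Scheme.hom_ext_of_forall _ _ fun y => ?_
  obtain ⟨U, hyU, M, _, ⟨e⟩⟩ := hloc (pullback.snd Y.hom f y)
  obtain ⟨_, ⟨W, hW, rfl⟩, hyW, hWsub⟩ := S'.isBasis_affineOpens.exists_subset_of_mem_open
    (show pullback.snd Y.hom f y ∈ U from hyU) U.2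
  have hWa : IsAffineOpen W := hW
  let hWU : W ≤ U := fun z hz => hWsub hz
  let sU : Spec Γ(S', W) ⟶ (U : Scheme.{u}) := hWa.isoSpec.inv ≫ S'.homOfLE hWU
  let s : Spec (CommRingCat.of Γ(S', W)) ⟶ S := sU ≫ U.ι ≫ f
  have hs : s = hWa.fromSpec ≫ f := by
    show (_ ≫ _) ≫ _ ≫ _ = _
    rw [Category.assoc, Scheme.homOfLE_ι_assoc, IsAffineOpen.isoSpec_inv_ι_assoc]
  have h0' : ∀ (p : Ideal Γ(S', W)) [p.IsPrime] (K : Type u) [CommRing K] [Algebra Γ(S', W) K],
      p.map (algebraMap Γ(S', W) K) = ⊥ → (∀ r ∉ p, IsUnit (algebraMap Γ(S', W) K r)) →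
      ∀ (g : T s K ⟶ G) (x : T s K ⟶ X), lift g x ≫ a.act = x := by
    intro p _ K _ _ hpK hu g x
    let L := p.ResidueField
    let φ₀ : Γ(S', W) ⧸ p →+* K := Ideal.Quotient.lift p (algebraMap Γ(S', W) K) (fun r hr => by
      have h1 : algebraMap Γ(S', W) K r ∈ p.map (algebraMap Γ(S', W) K) := Ideal.mem_map_of_mem _ hr
      rw [hpK] at h1
      exact h1)
    have hunit : ∀ r : nonZeroDivisors (Γ(S', W) ⧸ p), IsUnit (φ₀ r) := by
      rintro ⟨r, hr⟩
      obtain ⟨r, rfl⟩ := Ideal.Quotient.mk_surjective r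
      exact hu r fun h => nonZeroDivisors.ne_zero hr (Ideal.Quotient.eq_zero_iff_mem.2 h)
    let ψ : L →+* K := IsLocalization.lift hunit
    have hψ : CommRingCat.ofHom (algebraMap Γ(S', W) L) ≫ CommRingCat.ofHom ψ =
        CommRingCat.ofHom (algebraMap Γ(S', W) K) := by
      ext r
      show ψ (algebraMap _ _ r) = _
      rw [← Ideal.algebraMap_quotient_residueField_mk, IsLocalization.lift_eq]
      rfl
    obtain ⟨⟨s₀, ι₀⟩, hι⟩ := (S.SpecToEquivOfField L).symm.surjective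
      (Spec.map (CommRingCat.ofHom (algebraMap Γ(S', W) L)) ≫ s)
    refine h0 s₀ _ (Over.homMk (Spec.map (CommRingCat.ofHom ψ) ≫ Spec.map ι₀) ?_) g x
    show (_ ≫ _) ≫ S.fromSpecResidueField s₀ = _ ≫ s
    rw [Category.assoc, show Spec.map ι₀ ≫ S.fromSpecResidueField s₀ = _ from hι, ← Category.assoc, ← Spec.map_comp,
      hψ]
  -- the chart of `X`
  let O : (pullback Y.hom f).Opens := pullback.snd Y.hom f ⁻¹ᵁ W
  let l : (O : Scheme.{u}) ⟶ Spec Γ(S', W) :=
    IsOpenImmersion.lift hWa.fromSpec (O.ι ≫ pullback.snd Y.hom f) (by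
      rw [hWa.range_fromSpec]
      rintro _ ⟨z, rfl⟩
      exact z.2)
  have hl : l ≫ hWa.fromSpec = O.ι ≫ pullback.snd Y.hom f := IsOpenImmersion.lift_fac _ _ _
  let m : (O : Scheme.{u}) ⟶ pullback X.hom s := pullback.lift (O.ι ≫ π ≫ x.left) l (by
    rw [hs, reassoc_of% hl, Category.assoc, Category.assoc, Over.w x, pullback.condition])
  obtain ⟨_, ⟨V, hV, rfl⟩, hyV, -⟩ := (pullback X.hom s).isBasis_affineOpens.exists_subset_of_mem_open
    (Set.mem_univ (m ⟨y, hyW⟩)) isOpen_univ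
  have hVa : IsAffineOpen V := hV
  obtain ⟨_, ⟨O', hO', rfl⟩, hyO', hO'sub⟩ := (pullback Y.hom f).isBasis_affineOpens.exists_subset_of_mem_open
    (show y ∈ O.ι ''ᵁ (m ⁻¹ᵁ V) from ⟨⟨y, hyW⟩, hyV, rfl⟩) (O.ι ''ᵁ (m ⁻¹ᵁ V)).2
  have hO'a : IsAffineOpen O' := hO'
  refine ⟨O', hyO', ?_⟩
  rw [← cancel_epi hO'a.isoSpec.inv, IsAffineOpen.isoSpec_inv_ι_assoc,
    IsAffineOpen.isoSpec_inv_ι_assoc]
  have hle : O' ≤ O := fun z hz => by
    obtain ⟨z', -, rfl⟩ := hO'sub hz
    exact z'.2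
  let c : Spec Γ(pullback Y.hom f, O') ⟶ (O : Scheme.{u}) :=
    hO'a.isoSpec.inv ≫ (pullback Y.hom f).homOfLE hle
  have hc : c ≫ O.ι = hO'a.fromSpec := by
    show (_ ≫ _) ≫ _ = _
    rw [Category.assoc, Scheme.homOfLE_ι, IsAffineOpen.isoSpec_inv_ι]
  let κ : Γ(S', W) ⟶ Γ(pullback Y.hom f, O') := Spec.preimage (c ≫ l)
  letI : Algebra Γ(S', W) Γ(pullback Y.hom f, O') := κ.hom.toAlgebra
  have hκ : Spec.map (CommRingCat.ofHom (algebraMap Γ(S', W) Γ(pullback Y.hom f, O'))) = c ≫ l := Spec.map_preimage _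
  let p : T s Γ(pullback Y.hom f, O') ⟶ Y := Over.homMk (hO'a.fromSpec ≫ π) (by
    show (_ ≫ _) ≫ Y.hom = Spec.map _ ≫ s
    rw [hκ, hs, Category.assoc, Category.assoc, reassoc_of% hl, reassoc_of% hc]
    exact congrArg (hO'a.fromSpec ≫ ·) pullback.condition
    )
  let w : Spec Γ(pullback X.hom s, V) ⟶ pullback X.hom s := hVa.fromSpec
  let κ' : Γ(S', W) ⟶ Γ(pullback X.hom s, V) := Spec.preimage (w ≫ pullback.snd X.hom s)
  letI : Algebra Γ(S', W) Γ(pullback X.hom s, V) := κ'.hom.toAlgebra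
  have hw : w ≫ pullback.snd X.hom s =
      Spec.map (CommRingCat.ofHom (algebraMap Γ(S', W) Γ(pullback X.hom s, V))) := (Spec.map_preimage _).symm
  have hrange : Set.range (pullback.lift (p ≫ x).left
      (Spec.map (CommRingCat.ofHom (algebraMap Γ(S', W) Γ(pullback Y.hom f, O')))) (Over.w (p ≫ x)) :
      Spec Γ(pullback Y.hom f, O') ⟶ pullback X.hom s) ⊆ Set.range w := by
    have h1 : (pullback.lift (p ≫ x).left
      (Spec.map (CommRingCat.ofHom (algebraMap Γ(S', W) Γ(pullback Y.hom f, O')))) (Over.w (p ≫ x)) :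
      Spec Γ(pullback Y.hom f, O') ⟶ pullback X.hom s) = c ≫ m := by
      apply pullback.hom_ext
      · rw [pullback.lift_fst, Category.assoc, pullback.lift_fst, reassoc_of% hc]
        rfl
      · rw [pullback.lift_snd, Category.assoc, pullback.lift_snd, hκ]
    rw [h1, hVa.range_fromSpec]
    rintro _ ⟨z, rfl⟩
    obtain ⟨z', hz', hzz⟩ := hO'sub (hO'a.range_fromSpec.le ⟨z, rfl⟩)
    have h2 : c z = z' := by
      apply O.ι.isOpenEmbedding.injective
      refine Eq.trans ?_ hzz.symm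
      exact congrArg (fun q : Spec Γ(pullback Y.hom f, O') ⟶ pullback Y.hom f => q z) hc
    show m (c z) ∈ V
    rw [h2]
    exact hz'
  obtain ⟨α, hα⟩ := exists_xpt s hw (p ≫ x) hrange
  have : Algebra.FiniteType Γ(S', W) Γ(pullback X.hom s, V) := by
    rw [← RingHom.finiteType_algebraMap]
    have : LocallyOfFiniteType (w ≫ pullback.snd X.hom s) := by
      have := hVa.isOpenImmersion_fromSpec
      infer_instance
    rw [hw] at this
    exact (HasRingHomProperty.Spec_iff (P := @LocallyOfFiniteType)).1 this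
  let P := charPts (U.ι ≫ f) e sU
  obtain ⟨χ, hχ⟩ := P.pt_surjective _ (p ≫ g)
  have key := DiagFibre.act_eq s a hw h0' P _ χ α
  rw [hα, hχ, ← comp_lift, Category.assoc] at key
  have key' := congrArg Over.Hom.left key
  simp only [Over.comp_left, p, Over.homMk_left, Category.assoc] at key'
  exact key'

end Groth.Agent.HopfRep.DiagFibre

end
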