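import Groth.Agent.HopfRep.DiagRigidCore
import Groth.Agent.Misc9.MagnetPts
import Groth.Prelude.Def_TwC
import Mathlib.AlgebraicGeometry.Morphisms.Flat
import Mathlib.AlgebraicGeometry.Morphisms.ClosedImmersion
import Mathlib.AlgebraicGeometry.PullbackCarrier

/-!
Rigidity of actions of groups of multiplicative type: an action which is trivial modulo a locally
nilpotent ideal is trivial.
-/

universe u

open CategoryTheory MonoidalCategory CartesianMonoidalCategory MonObj AlgebraicGeometry Limits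

set_option linter.style.haveILetI false

noncomputable section

namespace Groth.Agent.HopfRep.DiagRigid

open Misc9.MagnetPts Magnet

/-- The adjunction bijection is multiplicative. -/
theorem homEquiv_mul' {S S' : Scheme.{u}} (f : S' ⟶ S) (G : Over S) [GrpObj G] (Y : Over S')
    (g h : (Over.map f).obj Y ⟶ G) :
    (Over.mapPullbackAdj f).homEquiv Y G (g * h) =
      (Over.mapPullbackAdj f).homEquiv Y G g * (Over.mapPullbackAdj f).homEquiv Y G h := by
  have e := MonAct.lift_homEquiv_bc_act f (MonAct.regular G) (T' := Y) g h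
  rw [MonAct.bc_regular, MonAct.lift_regular_act, MonAct.lift_regular_act] at e
  exact e.symm

theorem comp_chiPt' {S : Scheme.{u}} {N : Type} [AddCommMonoid N] {K L : CommRingCat.{u}} {s : Spec K ⟶ S}
    {s' : Spec L ⟶ S} (φ : Over.mk s' ⟶ Over.mk s) (ρ : K ⟶ L) (h : φ.left = Spec.map ρ)
    (χ : Multiplicative N →* K) : φ ≫ chiPt s χ = chiPt s' (ρ.hom.toMonoidHom.comp χ) := by
  have hw : s' = Spec.map ρ ≫ s := by rw [← h]; exact (Over.w φ).symm
  subst hw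
  obtain rfl : φ = Over.homMk (Spec.map ρ) rfl := Over.OverMorphism.ext h
  exact comp_chiPt s ρ χ

section CharPts

variable {S : Scheme.{u}} {U : Scheme.{u}} (h : U ⟶ S) {G : Over S} [GrpObj G] {M : Type} [AddCommGroup M]
  (e : Grp.mk (Red.bc h G) ≅ Grp.mk (Red.DS U M)) {R : Type u} [CommRing R] (sU : Spec (CommRingCat.of R) ⟶ U)

/-- the point of `G` given by a character -/
def pt₀ {K : CommRingCat.{u}} (t : Spec K ⟶ U) (χ : Multiplicative M →* K) : (Over.map h).obj (Over.mk t) ⟶ G :=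
  ((Over.mapPullbackAdj h).homEquiv (Over.mk t) G).symm
    ((chiPt t χ : Over.mk t ⟶ Red.DS U M) ≫ e.inv.hom.hom)

theorem pt₀_mul {K : CommRingCat.{u}} (t : Spec K ⟶ U) (χ χ' : Multiplicative M →* K) :
    pt₀ h e t χ * pt₀ h e t χ' = pt₀ h e t (χ * χ') := by
  apply ((Over.mapPullbackAdj h).homEquiv (Over.mk t) G).injective
  rw [pt₀, pt₀, pt₀, homEquiv_mul', Equiv.apply_symm_apply, Equiv.apply_symm_apply, Equiv.apply_symm_apply,
    ← MonObj.mul_comp]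
  exact congrArg (fun z : Over.mk t ⟶ Red.DS U M => z ≫ e.inv.hom.hom) (chiPt_mul t χ χ')

theorem pt₀_nat {K L : CommRingCat.{u}} {t : Spec K ⟶ U} {t' : Spec L ⟶ U} (ψ : Over.mk t' ⟶ Over.mk t)
    (ρ : K ⟶ L) (hψ : ψ.left = Spec.map ρ) (χ : Multiplicative M →* K) :
    (Over.map h).map ψ ≫ pt₀ h e t χ = pt₀ h e t' (ρ.hom.toMonoidHom.comp χ) := by
  rw [pt₀, pt₀, ← Adjunction.homEquiv_naturality_left_symm, ← Category.assoc]
  exact congrArg (fun z : Over.mk t' ⟶ Red.DS U M =>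
    ((Over.mapPullbackAdj h).homEquiv (Over.mk t') G).symm (z ≫ e.inv.hom.hom)) (comp_chiPt' ψ ρ hψ χ)

theorem pt₀_surjective {K : CommRingCat.{u}} (t : Spec K ⟶ U) (g : (Over.map h).obj (Over.mk t) ⟶ G) :
    ∃ χ : Multiplicative M →* K, pt₀ h e t χ = g := by
  obtain ⟨χ, hχ⟩ := chiPt_surjective (N := M) t
    (((Over.mapPullbackAdj h).homEquiv (Over.mk t) G) g ≫ e.hom.hom.hom)
  refine ⟨χ, ?_⟩
  rw [pt₀, Equiv.symm_apply_eq]
  refine (congrArg (fun z : Over.mk t ⟶ Red.DS U M => z ≫ e.inv.hom.hom) hχ).trans ?_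
  show (_ ≫ _) ≫ _ = _
  rw [Category.assoc]
  exact (congrArg (_ ≫ ·) ((Grp.forget _).mapIso e).hom_inv_id).trans (Category.comp_id _)

/-- change of base of the test scheme -/
def jIso (K : Type u) [CommRing K] [Algebra R K] : T (sU ≫ h) K ≅ (Over.map h).obj (T sU K) :=
  Over.isoMk (Iso.refl _) (by simp)

/-- the points of `G` given by characters -/
def charPts : CharPts (sU ≫ h) M G where
  pt K _ _ χ := (jIso h sU K).hom ≫ pt₀ h e _ χ
  pt_mul K _ _ χ χ' := by rw [← MonObj.comp_mul, pt₀_mul]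
  pt_nat K L _ _ _ _ φ χ := by
    have h1 : Tmap (sU ≫ h) φ ≫ (jIso h sU K).hom = (jIso h sU L).hom ≫ (Over.map h).map (Tmap sU φ) := by
      ext1
      show _ ≫ 𝟙 _ = 𝟙 _ ≫ _
      rw [Category.comp_id, Category.id_comp]
      rfl
    rw [← Category.assoc, h1, Category.assoc, pt₀_nat h e (Tmap sU φ) (CommRingCat.ofHom φ.toRingHom) rfl χ]
    rfl
  pt_surjective K _ _ g := by
    obtain ⟨χ, hχ⟩ := pt₀_surjective h e _ ((jIso h sU K).inv ≫ g)
    exact ⟨χ, by rw [hχ, Iso.hom_inv_id_assoc]⟩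

end CharPts

theorem action_trivial {S S₀ : Scheme.{u}} (i₀ : S₀ ⟶ S) [IsClosedImmersion i₀]
    (hnil : ∀ x : S, ∃ U : S.affineOpens, x ∈ (U : S.Opens) ∧ IsNilpotent (i₀.ker.ideal U))
    (G X : Over S) [GrpObj G]
    (hG : TwC.Locally S TwC.Topology.fpqc
      (fun S' f => ∃ (M : Type) (_ : AddCommGroup M), Nonempty (Grp.mk (Red.bc f G) ≅ Grp.mk (Red.DS S' M))))
    (a : AlgGrp.Action G X)
    (h0 : ∀ (Y : Over S) (_ : Y ⟶ Over.mk i₀) (g : Y ⟶ G) (x : Y ⟶ X), lift g x ≫ a.act = x) :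
    ∀ (Y : Over S) (g : Y ⟶ G) (x : Y ⟶ X), lift g x ≫ a.act = x := by
  intro Y g x
  obtain ⟨S', f, hf, hsurj, -, hloc⟩ := hG
  ext1
  let π := pullback.fst Y.hom f
  have : Epi π := Flat.epi_of_flat_of_surjective π
  rw [← cancel_epi π]
  refine Scheme.hom_ext_of_forall _ _ fun y => ?_
  obtain ⟨U, hyU, M, _, ⟨e⟩⟩ := hloc (pullback.snd Y.hom f y)
  obtain ⟨Ux, hxUx, hIx⟩ := hnil (f (pullback.snd Y.hom f y))
  obtain ⟨_, ⟨W, hW, rfl⟩, hyW, hWsub⟩ := S'.isBasis_affineOpens.exists_subset_of_mem_open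
    (show pullback.snd Y.hom f y ∈ U ⊓ f ⁻¹ᵁ Ux.1 from ⟨hyU, hxUx⟩) (U ⊓ f ⁻¹ᵁ Ux.1).2
  have hWa : IsAffineOpen W := hW
  let hWU : W ≤ U := fun z hz => (hWsub hz).1
  have hWUx : W ≤ f ⁻¹ᵁ Ux.1 := fun z hz => (hWsub hz).2
  let sU : Spec Γ(S', W) ⟶ (U : Scheme.{u}) := hWa.isoSpec.inv ≫ S'.homOfLE hWU
  let s : Spec (CommRingCat.of Γ(S', W)) ⟶ S := sU ≫ U.ι ≫ f
  have hs : s = hWa.fromSpec ≫ f := by
    show (_ ≫ _) ≫ _ ≫ _ = _
    rw [Category.assoc, Scheme.homOfLE_ι_assoc, IsAffineOpen.isoSpec_inv_ι_assoc]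
  -- the nilpotent ideal
  let φ := f.appLE Ux.1 W hWUx
  let J : Ideal Γ(S', W) := (i₀.ker.ideal Ux).map φ.hom
  have hJ : IsNilpotent J := by
    obtain ⟨n, hn⟩ := hIx
    exact ⟨n, by rw [← Ideal.map_pow, hn, Ideal.zero_eq_bot, Ideal.map_bot, Ideal.zero_eq_bot]⟩
  have h0' : ∀ (K : Type u) [CommRing K] [Algebra Γ(S', W) K], J.map (algebraMap Γ(S', W) K) = ⊥ →
      ∀ (g : T s K ⟶ G) (x : T s K ⟶ X), lift g x ≫ a.act = x := by
    intro K _ _ hK g x
    let θ : Γ(S, Ux.1) →+* K := (algebraMap Γ(S', W) K).comp φ.hom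
    have hs₀ : Function.Surjective (i₀.app Ux.1).hom := i₀.app_surjective Ux.1 Ux.2
    let ψ : Γ(S₀, i₀ ⁻¹ᵁ Ux.1) →+* K :=
      RingHom.liftOfSurjective (i₀.app Ux.1).hom hs₀ ⟨θ, by
        rw [← Scheme.Hom.ker_apply]
        intro r hr
        have h1 : algebraMap Γ(S', W) K (φ.hom r) ∈ J.map (algebraMap Γ(S', W) K) :=
          Ideal.mem_map_of_mem _ (Ideal.mem_map_of_mem _ hr)
        rw [hK] at h1
        exact h1⟩
    have hψ : (i₀.app Ux.1) ≫ CommRingCat.ofHom ψ = φ ≫ CommRingCat.ofHom (algebraMap Γ(S', W) K) := by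
      ext r
      show ψ ((i₀.app Ux.1).hom r) = θ r
      exact RingHom.liftOfRightInverse_comp_apply _ _ _ _ r
    have hU₀ : IsAffineOpen (i₀ ⁻¹ᵁ Ux.1) := Ux.2.preimage i₀
    refine h0 _ (Over.homMk (Spec.map (CommRingCat.ofHom ψ) ≫ hU₀.fromSpec) ?_) g x
    show (_ ≫ _) ≫ i₀ = _ ≫ s
    rw [hs, Category.assoc, ← IsAffineOpen.SpecMap_appLE_fromSpec i₀ Ux.2 hU₀ le_rfl,
      ← IsAffineOpen.SpecMap_appLE_fromSpec f Ux.2 hWa hWUx, ← Category.assoc, ← Spec.map_comp,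
      ← Category.assoc, ← Spec.map_comp, ← Scheme.Hom.app_eq_appLE, hψ]
  -- the chart of `X`
  let O : (pullback Y.hom f).Opens := pullback.snd Y.hom f ⁻¹ᵁ W
  let l : (O : Scheme.{u}) ⟶ Spec Γ(S', W) :=
    IsOpenImmersion.lift hWa.fromSpec (O.ι ≫ pullback.snd Y.hom f) (by
      rw [hWa.range_fromSpec]
      rintro _ ⟨z, rfl⟩
      exact z.2)
  have hl : l ≫ hWa.fromSpec = O.ι ≫ pullback.snd Y.hom f := IsOpenImmersion.lift_fac _ _ _
  let m : (O : Scheme.{u}) ⟶ pullback X.hom s := pullback.lift (O.ι ≫ π ≫ x.left) l (by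
    rw [hs, reassoc_of% hl, Category.assoc, Category.assoc, Over.w x, pullback.condition])
  obtain ⟨_, ⟨V, hV, rfl⟩, hyV, -⟩ := (pullback X.hom s).isBasis_affineOpens.exists_subset_of_mem_open
    (Set.mem_univ (m ⟨y, hyW⟩)) isOpen_univ
  have hVa : IsAffineOpen V := hV
  obtain ⟨_, ⟨O', hO', rfl⟩, hyO', hO'sub⟩ := (pullback Y.hom f).isBasis_affineOpens.exists_subset_of_mem_open
    (show y ∈ O.ι ''ᵁ (m ⁻¹ᵁ V) from ⟨⟨y, hyW⟩, hyV, rfl⟩) (O.ι ''ᵁ (m ⁻¹ᵁ V)).2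
  have hO'a : IsAffineOpen O' := hO'
  refine ⟨O', hyO', ?_⟩
  rw [← cancel_epi hO'a.isoSpec.inv, IsAffineOpen.isoSpec_inv_ι_assoc,
    IsAffineOpen.isoSpec_inv_ι_assoc]
  have hle : O' ≤ O := fun z hz => by
    obtain ⟨z', -, rfl⟩ := hO'sub hz
    exact z'.2
  let c : Spec Γ(pullback Y.hom f, O') ⟶ (O : Scheme.{u}) :=
    hO'a.isoSpec.inv ≫ (pullback Y.hom f).homOfLE hle
  have hc : c ≫ O.ι = hO'a.fromSpec := by
    show (_ ≫ _) ≫ _ = _
    rw [Category.assoc, Scheme.homOfLE_ι, IsAffineOpen.isoSpec_inv_ι]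
  let κ : Γ(S', W) ⟶ Γ(pullback Y.hom f, O') := Spec.preimage (c ≫ l)
  letI : Algebra Γ(S', W) Γ(pullback Y.hom f, O') := κ.hom.toAlgebra
  have hκ : Spec.map (CommRingCat.ofHom (algebraMap Γ(S', W) Γ(pullback Y.hom f, O'))) = c ≫ l := Spec.map_preimage _
  let p : T s Γ(pullback Y.hom f, O') ⟶ Y := Over.homMk (hO'a.fromSpec ≫ π) (by
    show (_ ≫ _) ≫ Y.hom = Spec.map _ ≫ s
    rw [hκ, hs, Category.assoc, Category.assoc, reassoc_of% hl, reassoc_of% hc]
    exact congrArg (hO'a.fromSpec ≫ ·) pullback.condition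
    )
  let w : Spec Γ(pullback X.hom s, V) ⟶ pullback X.hom s := hVa.fromSpec
  let κ' : Γ(S', W) ⟶ Γ(pullback X.hom s, V) := Spec.preimage (w ≫ pullback.snd X.hom s)
  letI : Algebra Γ(S', W) Γ(pullback X.hom s, V) := κ'.hom.toAlgebra
  have hw : w ≫ pullback.snd X.hom s =
      Spec.map (CommRingCat.ofHom (algebraMap Γ(S', W) Γ(pullback X.hom s, V))) := (Spec.map_preimage _).symm
  have hrange : Set.range (pullback.lift (p ≫ x).left
      (Spec.map (CommRingCat.ofHom (algebraMap Γ(S', W) Γ(pullback Y.hom f, O')))) (Over.w (p ≫ x)) :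
      Spec Γ(pullback Y.hom f, O') ⟶ pullback X.hom s) ⊆ Set.range w := by
    have h1 : (pullback.lift (p ≫ x).left
      (Spec.map (CommRingCat.ofHom (algebraMap Γ(S', W) Γ(pullback Y.hom f, O')))) (Over.w (p ≫ x)) :
      Spec Γ(pullback Y.hom f, O') ⟶ pullback X.hom s) = c ≫ m := by
      apply pullback.hom_ext
      · rw [pullback.lift_fst, Category.assoc, pullback.lift_fst, reassoc_of% hc]
        rfl
      · rw [pullback.lift_snd, Category.assoc, pullback.lift_snd, hκ]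
    rw [h1, hVa.range_fromSpec]
    rintro _ ⟨z, rfl⟩
    obtain ⟨z', hz', hzz⟩ := hO'sub (hO'a.range_fromSpec.le ⟨z, rfl⟩)
    have h2 : c z = z' := by
      apply O.ι.isOpenEmbedding.injective
      refine Eq.trans ?_ hzz.symm
      exact congrArg (fun q : Spec Γ(pullback Y.hom f, O') ⟶ pullback Y.hom f => q z) hc
    show m (c z) ∈ V
    rw [h2]
    exact hz'
  obtain ⟨α, hα⟩ := exists_xpt s hw (p ≫ x) hrange
  let P := charPts (U.ι ≫ f) e sU
  obtain ⟨χ, hχ⟩ := P.pt_surjective _ (p ≫ g)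
  have key := act_eq s a hw hJ h0' P _ χ α
  rw [hα, hχ, ← comp_lift, Category.assoc] at key
  have key' := congrArg Over.Hom.left key
  simp only [Over.comp_left, p, Over.homMk_left, Category.assoc] at key'
  exact key'

end Groth.Agent.HopfRep.DiagRigid

end
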