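import Groth.Prelude.Def_AlgGrp
import Mathlib.Algebra.MonoidAlgebra.Basic
import Mathlib.RingTheory.LocalRing.ResidueField.Ideal
import Mathlib.RingTheory.Ideal.Operations
import Mathlib.AlgebraicGeometry.OpenImmersion

/-!
Rigidity of actions of diagonalisable groups, affine part: an action of `D(M)` which is trivial modulo a
nilpotent ideal `J` is trivial, since the component `A_m` satisfies `A_m = J A_m` for `m ≠ 0`.
-/

universe u

open CategoryTheory MonoidalCategory CartesianMonoidalCategory MonObj AlgebraicGeometry Limits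

noncomputable section

namespace Groth.Agent.HopfRep.DiagRigid

variable {S : Scheme.{u}} {R : Type u} [CommRing R] (s : Spec (CommRingCat.of R) ⟶ S)

/-- an affine test scheme over `S` -/
abbrev T (K : Type u) [CommRing K] [Algebra R K] : Over S :=
  Over.mk (Spec.map (CommRingCat.ofHom (algebraMap R K)) ≫ s)

/-- a map of affine test schemes -/
def Tmap {K L : Type u} [CommRing K] [Algebra R K] [CommRing L] [Algebra R L] (φ : K →ₐ[R] L) : T s L ⟶ T s K :=
  Over.homMk (Spec.map (CommRingCat.ofHom φ.toRingHom)) (by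
    show Spec.map _ ≫ Spec.map _ ≫ s = Spec.map _ ≫ s
    rw [← Category.assoc, ← Spec.map_comp, ← CommRingCat.ofHom_comp]
    simp)

theorem Tmap_left {K L : Type u} [CommRing K] [Algebra R K] [CommRing L] [Algebra R L] (φ : K →ₐ[R] L) :
    (Tmap s φ).left = Spec.map (CommRingCat.ofHom φ.toRingHom) := rfl

variable {M : Type} [AddCommGroup M] {G X : Over S} [GrpObj G] (a : AlgGrp.Action G X)

theorem lift_one_act {T' : Over S} (x : T' ⟶ X) : lift (1 : T' ⟶ G) x ≫ a.act = x := by
  rw [Hom.one_def, ← lift_whiskerRight_assoc (toUnit T') x η[G], a.one_act, leftUnitor_hom, lift_snd]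

theorem lift_mul_act {T' : Over S} (g h : T' ⟶ G) (x : T' ⟶ X) :
    lift (g * h) x ≫ a.act = lift g (lift h x ≫ a.act) ≫ a.act := by
  rw [Hom.mul_def, ← lift_whiskerRight_assoc, a.mul_act, lift_lift_associator_hom_assoc, lift_whiskerLeft_assoc]

variable {A : Type u} [CommRing A] [Algebra R A] {w : Spec (CommRingCat.of A) ⟶ pullback X.hom s}
  (hw : w ≫ pullback.snd X.hom s = Spec.map (CommRingCat.ofHom (algebraMap R A)))

include hw in
/-- points of the chart -/
def xpt {K : Type u} [CommRing K] [Algebra R K] (α : A →ₐ[R] K) : T s K ⟶ X :=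
  Over.homMk (Spec.map (CommRingCat.ofHom α.toRingHom) ≫ w ≫ pullback.fst X.hom s) (by
    show (_ ≫ _ ≫ _) ≫ X.hom = Spec.map _ ≫ s
    rw [Category.assoc, Category.assoc, pullback.condition, reassoc_of% hw, ← Category.assoc, ← Spec.map_comp,
      ← CommRingCat.ofHom_comp]
    simp)

theorem Tmap_xpt {K L : Type u} [CommRing K] [Algebra R K] [CommRing L] [Algebra R L] (φ : K →ₐ[R] L)
    (α : A →ₐ[R] K) : Tmap s φ ≫ xpt s hw α = xpt s hw (φ.comp α) := by
  ext1
  show Spec.map _ ≫ Spec.map _ ≫ _ = Spec.map _ ≫ _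
  rw [← Category.assoc, ← Spec.map_comp]
  rfl

theorem xpt_injective [IsOpenImmersion w] {K : Type u} [CommRing K] [Algebra R K] {α β : A →ₐ[R] K}
    (h : xpt s hw α = xpt s hw β) : α = β := by
  have h1 : Spec.map (CommRingCat.ofHom α.toRingHom) ≫ w = Spec.map (CommRingCat.ofHom β.toRingHom) ≫ w := by
    apply pullback.hom_ext
    · have h2 := congrArg Over.Hom.left h
      simpa [xpt] using h2
    · rw [Category.assoc, Category.assoc, hw, ← Spec.map_comp, ← Spec.map_comp, ← CommRingCat.ofHom_comp,
        ← CommRingCat.ofHom_comp]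
      congr 2
      ext r
      simp
  rw [cancel_mono] at h1
  have h3 := congrArg CommRingCat.Hom.hom (Spec.map_injective h1)
  exact AlgHom.ext fun x => RingHom.congr_fun h3 x

theorem exists_xpt [IsOpenImmersion w] {K : Type u} [CommRing K] [Algebra R K] (x : T s K ⟶ X)
    (h : Set.range (pullback.lift x.left (Spec.map (CommRingCat.ofHom (algebraMap R K))) (Over.w x) :
      Spec (CommRingCat.of K) ⟶ pullback X.hom s) ⊆ Set.range w) :
    ∃ α : A →ₐ[R] K, xpt s hw α = x := by
  let l := IsOpenImmersion.lift w _ h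
  have hl : l ≫ w = pullback.lift x.left (Spec.map (CommRingCat.ofHom (algebraMap R K))) (Over.w x) :=
    IsOpenImmersion.lift_fac _ _ _
  obtain ⟨φ, hφ⟩ : ∃ φ, Spec.map φ = l := ⟨_, Spec.map_preimage _⟩
  have hc : CommRingCat.ofHom (algebraMap R A) ≫ φ = CommRingCat.ofHom (algebraMap R K) := by
    apply Spec.map_injective
    rw [Spec.map_comp, hφ, ← hw, ← Category.assoc, hl]
    exact pullback.lift_snd _ _ _
  refine ⟨⟨φ.hom, fun r => ?_⟩, ?_⟩
  · exact RingHom.congr_fun (congrArg CommRingCat.Hom.hom hc) r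
  · ext1
    show Spec.map φ ≫ w ≫ _ = _
    rw [hφ, ← Category.assoc, hl]
    exact pullback.lift_fst _ _ _

/-- the evaluation `A[M] → K` -/
def evMap {K : Type u} [CommRing K] [Algebra R K] (χ : Multiplicative M →* K) (α : A →ₐ[R] K) :
    MonoidAlgebra A (Multiplicative M) →ₐ[R] K :=
  { MonoidAlgebra.liftNCRingHom α.toRingHom χ (fun _ _ => Commute.all _ _) with
    commutes' := fun r => by
      show MonoidAlgebra.liftNC _ _ (algebraMap R (MonoidAlgebra A (Multiplicative M)) r) = _
      rw [MonoidAlgebra.coe_algebraMap, Function.comp_apply, MonoidAlgebra.liftNC_single, map_one,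
        _root_.mul_one]
      exact α.commutes r }

theorem evMap_single {K : Type u} [CommRing K] [Algebra R K] (χ : Multiplicative M →* K) (α : A →ₐ[R] K)
    (m : Multiplicative M) (c : A) : evMap χ α (MonoidAlgebra.single m c) = α c * χ m :=
  MonoidAlgebra.liftNC_single _ _ _ _

/-- the inclusion `A → A[M]` -/
def incl : A →ₐ[R] MonoidAlgebra A (Multiplicative M) :=
  { (MonoidAlgebra.singleOneRingHom : A →+* MonoidAlgebra A (Multiplicative M)) with
    commutes' := fun _ => rfl }

theorem incl_apply (c : A) :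
    (incl : A →ₐ[R] MonoidAlgebra A (Multiplicative M)) c = MonoidAlgebra.single 1 c := rfl

/-- `m`-th coefficient -/
def coeff (m : Multiplicative M) : MonoidAlgebra A (Multiplicative M) →ₗ[R] A :=
  { toFun := fun z => z.coeff m
    map_add' := fun _ _ => rfl
    map_smul' := fun _ _ => rfl }

theorem mem_smul_top_of_map {K : Type u} [CommRing K] [Algebra R K] {J : Ideal R} {z : K}
    (hz : z ∈ J.map (algebraMap R K)) : z ∈ J • (⊤ : Submodule R K) := by
  rw [Ideal.smul_top_eq_map]
  exact hz

/-- a family of points of `G` given by characters -/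
structure CharPts (M : Type) [AddCommGroup M] (G : Over S) [GrpObj G] where
  pt : ∀ (K : Type u) [CommRing K] [Algebra R K], (Multiplicative M →* K) → (T s K ⟶ G)
  pt_mul : ∀ (K : Type u) [CommRing K] [Algebra R K] (χ χ' : Multiplicative M →* K), pt K χ * pt K χ' = pt K (χ * χ')
  pt_nat : ∀ (K L : Type u) [CommRing K] [Algebra R K] [CommRing L] [Algebra R L] (φ : K →ₐ[R] L)
    (χ : Multiplicative M →* K), Tmap s φ ≫ pt K χ = pt L ((φ : K →* L).comp χ)
  pt_surjective : ∀ (K : Type u) [CommRing K] [Algebra R K] (g : T s K ⟶ G), ∃ χ, pt K χ = g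

theorem CharPts.pt_one (P : CharPts s M G) (K : Type u) [CommRing K] [Algebra R K] : P.pt K 1 = 1 := by
  obtain ⟨χ, hχ⟩ := P.pt_surjective K 1
  calc P.pt K 1 = P.pt K 1 * P.pt K χ := by rw [hχ, _root_.mul_one]
    _ = P.pt K χ := by rw [P.pt_mul, _root_.one_mul]
    _ = 1 := hχ

/-- Coefficients of a coaction are homogeneous. -/
theorem coeff_assoc [IsOpenImmersion w] (P : CharPts s M G) (ρ : A →ₐ[R] MonoidAlgebra A (Multiplicative M))
    (hev : ∀ (K : Type u) [CommRing K] [Algebra R K] (χ : Multiplicative M →* K) (α : A →ₐ[R] K),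
      xpt s hw ((evMap χ α).comp ρ) = lift (P.pt K χ) (xpt s hw α) ≫ a.act) (c : A) (m : Multiplicative M) :
    ρ ((ρ c).coeff m) = MonoidAlgebra.single m ((ρ c).coeff m) := by
  let AM := MonoidAlgebra A (Multiplicative M)
  let inc : A →ₐ[R] AM := incl
  let χ₀ : Multiplicative M →* AM := MonoidAlgebra.of A (Multiplicative M)
  let AMM := MonoidAlgebra AM (Multiplicative M)
  let inc₂ : AM →ₐ[R] AMM := incl
  let χ₁ : Multiplicative M →* AMM := MonoidAlgebra.of AM (Multiplicative M)
  let χ₂ : Multiplicative M →* AMM := (inc₂ : AM →* AMM).comp χ₀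
  let α₂ : A →ₐ[R] AMM := inc₂.comp inc
  have he : (evMap χ₂ α₂).comp ρ = inc₂.comp ρ := by
    congr 1
    refine AlgHom.ext fun z => ?_
    induction z using MonoidAlgebra.induction_linear with
    | zero => simp
    | add x y hx hy => simp [hx, hy]
    | single n d =>
      rw [evMap_single]
      show inc₂ (inc d) * inc₂ (χ₀ n) = inc₂ _
      rw [← map_mul]
      congr 1
      show MonoidAlgebra.single 1 d * MonoidAlgebra.single n 1 = _
      rw [MonoidAlgebra.single_mul_single, _root_.one_mul, _root_.mul_one]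
  have h1 : xpt s hw ((evMap χ₁ (inc₂.comp ρ)).comp ρ) = xpt s hw ((evMap (χ₁ * χ₂) α₂).comp ρ) := by
    rw [hev, hev, ← P.pt_mul, lift_mul_act, ← hev AMM χ₂ α₂, he]
  have h2 := AlgHom.congr_fun (xpt_injective s hw h1) c
  have hl : ∀ z : AM, (evMap χ₁ (inc₂.comp ρ) z).coeff m = ρ (z.coeff m) := by
    intro z
    induction z using MonoidAlgebra.induction_linear with
    | zero => rw [map_zero]; exact (map_zero ρ).symm
    | add x y hx hy =>
      rw [map_add]
      erw [MonoidAlgebra.coeff_add, Finsupp.add_apply, hx, hy]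
      exact (map_add ρ _ _).symm
    | single n d =>
      rw [evMap_single]
      show (MonoidAlgebra.single 1 (ρ d) * MonoidAlgebra.single n 1 : AMM).coeff m = _
      rw [MonoidAlgebra.single_mul_single, _root_.one_mul, _root_.mul_one]
      by_cases hn : n = m
      · subst hn; simp
      · simp [hn, Ne.symm hn]
  have hr : ∀ z : AM, (evMap (χ₁ * χ₂) α₂ z).coeff m = MonoidAlgebra.single m (z.coeff m) := by
    intro z
    induction z using MonoidAlgebra.induction_linear with
    | zero =>
      rw [map_zero]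
      show (0 : AM) = MonoidAlgebra.single m (0 : A)
      simp
    | add x y hx hy =>
      rw [map_add]
      erw [MonoidAlgebra.coeff_add, Finsupp.add_apply, hx, hy]
      exact (MonoidAlgebra.single_add m _ _).symm
    | single n d =>
      rw [evMap_single]
      show (MonoidAlgebra.single 1 (MonoidAlgebra.single 1 d) *
        (MonoidAlgebra.single n 1 * MonoidAlgebra.single 1 (MonoidAlgebra.single n (1 : A))) : AMM).coeff m = _
      rw [MonoidAlgebra.single_mul_single, MonoidAlgebra.single_mul_single, _root_.one_mul, _root_.mul_one,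
        _root_.one_mul, MonoidAlgebra.single_mul_single, _root_.one_mul, _root_.mul_one]
      by_cases hn : n = m
      · subst hn; simp
      · simp [hn, Ne.symm hn]
  rw [← hl, ← hr]
  exact congrArg (fun z : AMM => z.coeff m) h2

section Core

variable {J : Ideal R} (hJ : IsNilpotent J)
  (h0 : ∀ (K : Type u) [CommRing K] [Algebra R K], J.map (algebraMap R K) = ⊥ →
    ∀ (g : T s K ⟶ G) (x : T s K ⟶ X), lift g x ≫ a.act = x)

include hJ h0 in
theorem range_act_subset {K : Type u} [CommRing K] [Algebra R K] (g : T s K ⟶ G) (x : T s K ⟶ X)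
    (Q : PrimeSpectrum K) :
    (pullback.lift (lift g x ≫ a.act).left (Spec.map (CommRingCat.ofHom (algebraMap R K))) (Over.w _) :
      Spec (CommRingCat.of K) ⟶ pullback X.hom s) Q =
    (pullback.lift x.left (Spec.map (CommRingCat.ofHom (algebraMap R K))) (Over.w x) :
      Spec (CommRingCat.of K) ⟶ pullback X.hom s) Q := by
  let L := Q.asIdeal.ResidueField
  let ψ : K →ₐ[R] L := IsScalarTower.toAlgHom R K L
  have hL : J.map (algebraMap R L) = ⊥ := by
    obtain ⟨n, hn⟩ := hJ
    refine eq_bot_iff.2 (Ideal.map_le_iff_le_comap.2 fun r hr => ?_)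
    have h1 : r ^ n ∈ J ^ n := Ideal.pow_mem_pow hr n
    rw [hn] at h1
    have h2 : r ^ n = 0 := h1
    show algebraMap R L r = 0
    exact IsReduced.eq_zero _ ⟨n, by rw [← map_pow, h2, map_zero]⟩
  have h2 := h0 L hL (Tmap s ψ ≫ g) (Tmap s ψ ≫ x)
  rw [← comp_lift, Category.assoc] at h2
  have h3 : Spec.map (CommRingCat.ofHom ψ.toRingHom) ≫
      pullback.lift (lift g x ≫ a.act).left (Spec.map (CommRingCat.ofHom (algebraMap R K))) (Over.w _) =
      Spec.map (CommRingCat.ofHom ψ.toRingHom) ≫
      pullback.lift x.left (Spec.map (CommRingCat.ofHom (algebraMap R K))) (Over.w x) := by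
    apply pullback.hom_ext
    · simp only [Category.assoc, pullback.lift_fst]
      exact congrArg Over.Hom.left h2
    · simp only [Category.assoc, pullback.lift_snd]
  have hQ : Spec.map (CommRingCat.ofHom ψ.toRingHom) (⊥ : PrimeSpectrum L) = Q := by
    refine PrimeSpectrum.ext ?_
    show Ideal.comap (algebraMap K L) ⊥ = Q.asIdeal
    exact Ideal.ker_algebraMap_residueField Q.asIdeal
  rw [← hQ]
  exact congrArg (fun f : Spec (CommRingCat.of L) ⟶ pullback X.hom s => f (⊥ : PrimeSpectrum L)) h3

variable [IsOpenImmersion w] (P : CharPts s M G)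

include hJ h0 in
theorem exists_act_eq {K : Type u} [CommRing K] [Algebra R K] (χ : Multiplicative M →* K) (α : A →ₐ[R] K) :
    ∃ β : A →ₐ[R] K, xpt s hw β = lift (P.pt K χ) (xpt s hw α) ≫ a.act := by
  refine exists_xpt s hw _ ?_
  rintro _ ⟨Q, rfl⟩
  rw [show _ = _ from range_act_subset s a hJ h0 (P.pt K χ) (xpt s hw α) Q]
  refine ⟨Spec.map (CommRingCat.ofHom α.toRingHom) Q, ?_⟩
  have h : pullback.lift (xpt s hw α).left (Spec.map (CommRingCat.ofHom (algebraMap R K))) (Over.w _) =
      Spec.map (CommRingCat.ofHom α.toRingHom) ≫ w := by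
    apply pullback.hom_ext
    · rw [pullback.lift_fst, Category.assoc]; rfl
    · rw [pullback.lift_snd, Category.assoc, hw, ← Spec.map_comp, ← CommRingCat.ofHom_comp]
      congr 2
      ext r
      simp
  rw [h]
  rfl

include hJ h0 in
/-- The action is trivial on the chart. -/
theorem act_eq (K : Type u) [CommRing K] [Algebra R K] (χ : Multiplicative M →* K) (α : A →ₐ[R] K) :
    lift (P.pt K χ) (xpt s hw α) ≫ a.act = xpt s hw α := by
  let AM := MonoidAlgebra A (Multiplicative M)
  let inc : A →ₐ[R] AM := incl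
  let χ₀ : Multiplicative M →* AM := MonoidAlgebra.of A (Multiplicative M)
  obtain ⟨ρ, hρ⟩ := exists_act_eq s a hw hJ h0 P χ₀ inc
  have hev : ∀ (K : Type u) [CommRing K] [Algebra R K] (χ : Multiplicative M →* K) (α : A →ₐ[R] K),
      xpt s hw ((evMap χ α).comp ρ) = lift (P.pt K χ) (xpt s hw α) ≫ a.act := by
    intro K _ _ χ α
    rw [← Tmap_xpt, hρ, ← Category.assoc, comp_lift, P.pt_nat, Tmap_xpt]
    congr 4
    · ext m
      simp [χ₀, evMap_single]
    · ext c
      simp [inc, incl_apply, evMap_single]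
  -- modulo `J`
  have hmodJ : ∀ c, ρ c - inc c ∈ J.map (algebraMap R AM) := by
    intro c
    let q : AM →ₐ[R] AM ⧸ J.map (algebraMap R AM) := Ideal.Quotient.mkₐ R _
    have hq : J.map (algebraMap R (AM ⧸ J.map (algebraMap R AM))) = ⊥ := by
      rw [eq_bot_iff, Ideal.map_le_iff_le_comap]
      intro r hr
      show Ideal.Quotient.mk _ (algebraMap R AM r) = 0
      exact Ideal.Quotient.eq_zero_iff_mem.2 (Ideal.mem_map_of_mem _ hr)
    have h1 : xpt s hw (q.comp ρ) = xpt s hw (q.comp inc) := by
      rw [← Tmap_xpt, ← Tmap_xpt, hρ, ← Category.assoc, comp_lift]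
      exact h0 _ hq _ _
    have h2 := AlgHom.congr_fun (xpt_injective s hw h1) c
    exact Ideal.Quotient.eq.1 h2
  have hassoc := coeff_assoc s a hw P ρ hev
  -- the components of nonzero weight vanish
  have hzero : ∀ c m, m ≠ 1 → (ρ c).coeff m = 0 := by
    intro c m hm
    let Pm : A →ₗ[R] A := (coeff m).comp ρ.toLinearMap
    have hP : ∀ c, Pm (Pm c) = Pm c := fun c => by
      show (ρ ((ρ c).coeff m)).coeff m = (ρ c).coeff m
      rw [hassoc]
      simp
    have hsmall : ∀ c, Pm c ∈ J • (⊤ : Submodule R A) := fun c => by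
      have h1 : coeff (R := R) m (ρ c - inc c) ∈ J • (⊤ : Submodule R A) := by
        have h2 := Submodule.mem_map_of_mem (f := coeff (R := R) m) (mem_smul_top_of_map (hmodJ c))
        rw [Submodule.map_smul''] at h2
        exact Submodule.smul_mono le_rfl le_top h2
      rw [map_sub] at h1
      have h3 : coeff (R := R) m (inc c) = 0 := by
        show (MonoidAlgebra.single 1 c : AM).coeff m = 0
        simp [Ne.symm hm]
      rw [h3, sub_zero] at h1
      exact h1
    have hpow : ∀ k : ℕ, ∀ c, Pm c ∈ J ^ k • (⊤ : Submodule R A) := by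
      intro k
      induction k with
      | zero => intro c; rw [pow_zero, Ideal.one_eq_top, Submodule.top_smul]; trivial
      | succ k ih =>
        intro c
        rw [← hP c]
        have h1 := Submodule.mem_map_of_mem (f := Pm) (ih c)
        rw [Submodule.map_smul''] at h1
        refine SetLike.le_def.1 ?_ h1
        rw [pow_succ, Submodule.mul_smul]
        exact Submodule.smul_mono le_rfl (by rintro _ ⟨d, -, rfl⟩; exact hsmall d)
    obtain ⟨n, hn⟩ := hJ
    have h1 := hpow n c
    rw [hn, Submodule.zero_eq_bot, Submodule.bot_smul, Submodule.mem_bot] at h1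
    exact h1
  have hρc : ∀ c, ρ c = MonoidAlgebra.single 1 ((ρ c).coeff 1) := by
    intro c
    refine MonoidAlgebra.ext (Finsupp.ext fun m => ?_)
    by_cases hm : m = 1
    · subst hm; simp
    · rw [hzero c m hm]; simp [Ne.symm hm]
  -- counit
  have hone : ∀ c, (ρ c).coeff 1 = c := by
    intro c
    have h1 : xpt s hw ((evMap (1 : Multiplicative M →* A) (AlgHom.id R A)).comp ρ) = xpt s hw (AlgHom.id R A) := by
      rw [hev, P.pt_one, lift_one_act]
    have h2 := AlgHom.congr_fun (xpt_injective s hw h1) c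
    rw [AlgHom.comp_apply, hρc c, evMap_single] at h2
    simpa using h2
  rw [← hev K χ α]
  congr 1
  refine AlgHom.ext fun c => ?_
  rw [AlgHom.comp_apply, hρc c, hone c, evMap_single, map_one, _root_.mul_one]

end Core

end Groth.Agent.HopfRep.DiagRigid

end
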