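import Groth.Agent.HopfRep.DiagRigid

/-!
Relative form of the rigidity of actions of groups of multiplicative type: over a base change `T → S`, an action
which is trivial modulo a locally nilpotent ideal of `T` is trivial over `T`.
-/

universe u

open CategoryTheory MonoidalCategory CartesianMonoidalCategory MonObj AlgebraicGeometry Limits

set_option linter.style.haveILetI false

noncomputable section

namespace Groth.Agent.HopfRep.DiagRigid

set_option backward.isDefEq.respectTransparency.types false in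
theorem action_trivial_rel {S T₁ T₀ : Scheme.{u}} (τ : T₁ ⟶ S) (i₀ : T₀ ⟶ T₁) [IsClosedImmersion i₀]
    (hnil : ∀ x : T₁, ∃ U : T₁.affineOpens, x ∈ (U : T₁.Opens) ∧ IsNilpotent (i₀.ker.ideal U))
    (G X : Over S) [GrpObj G]
    (hG : TwC.Locally S TwC.Topology.fpqc
      (fun S' f => ∃ (M : Type) (_ : AddCommGroup M), Nonempty (Grp.mk (Red.bc f G) ≅ Grp.mk (Red.DS S' M))))
    (a : AlgGrp.Action G X)
    (h0 : ∀ (Y : Over S) (_ : Y ⟶ Over.mk (i₀ ≫ τ)) (g : Y ⟶ G) (x : Y ⟶ X), lift g x ≫ a.act = x) :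
    ∀ (Y : Over S) (_ : Y ⟶ Over.mk τ) (g : Y ⟶ G) (x : Y ⟶ X), lift g x ≫ a.act = x := by
  intro Y q₁ g x
  obtain ⟨S', f, hf, hsurj, -, hloc⟩ := hG
  ext1
  let π := pullback.fst Y.hom f
  have : Epi π := Flat.epi_of_flat_of_surjective π
  rw [← cancel_epi π]
  refine Scheme.hom_ext_of_forall _ _ fun y => ?_
  obtain ⟨U, hyU, M, _, ⟨e⟩⟩ := hloc (pullback.snd Y.hom f y)
  let nT : pullback Y.hom f ⟶ pullback τ f := pullback.lift (π ≫ q₁.left) (pullback.snd Y.hom f)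
    (by rw [Category.assoc, show q₁.left ≫ τ = Y.hom from Over.w q₁, pullback.condition])
  obtain ⟨Ux, hxUx, hIx⟩ := hnil (pullback.fst τ f (nT y))
  have hyU' : pullback.snd τ f (nT y) ∈ U := by
    rw [← Scheme.Hom.comp_apply, pullback.lift_snd]
    exact hyU
  obtain ⟨_, ⟨W, hW, rfl⟩, hyW, hWsub⟩ := (pullback τ f).isBasis_affineOpens.exists_subset_of_mem_open
    (show nT y ∈ pullback.snd τ f ⁻¹ᵁ U ⊓ pullback.fst τ f ⁻¹ᵁ Ux.1 from ⟨hyU', hxUx⟩)
    (pullback.snd τ f ⁻¹ᵁ U ⊓ pullback.fst τ f ⁻¹ᵁ Ux.1).2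
  have hWa : IsAffineOpen W := hW
  have hWUx : W ≤ pullback.fst τ f ⁻¹ᵁ Ux.1 := fun z hz => (hWsub hz).2
  let sU : Spec Γ(pullback τ f, W) ⟶ (U : Scheme.{u}) :=
    IsOpenImmersion.lift U.ι (hWa.fromSpec ≫ pullback.snd τ f) (by
      rw [Scheme.Opens.range_ι]
      rintro _ ⟨z, rfl⟩
      exact (hWsub (hWa.range_fromSpec.le ⟨z, rfl⟩)).1)
  let s : Spec (CommRingCat.of Γ(pullback τ f, W)) ⟶ S := sU ≫ U.ι ≫ f
  have hs : s = hWa.fromSpec ≫ pullback.fst τ f ≫ τ := by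
    show sU ≫ U.ι ≫ f = _
    rw [← Category.assoc, IsOpenImmersion.lift_fac, Category.assoc, ← pullback.condition]
  -- the nilpotent ideal
  let φ := (pullback.fst τ f).appLE Ux.1 W hWUx
  let J : Ideal Γ(pullback τ f, W) := (i₀.ker.ideal Ux).map φ.hom
  have hJ : IsNilpotent J := by
    obtain ⟨n, hn⟩ := hIx
    exact ⟨n, by rw [← Ideal.map_pow, hn, Ideal.zero_eq_bot, Ideal.map_bot, Ideal.zero_eq_bot]⟩
  have h0' : ∀ (K : Type u) [CommRing K] [Algebra Γ(pullback τ f, W) K], J.map (algebraMap Γ(pullback τ f, W) K) = ⊥ →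
      ∀ (g : T s K ⟶ G) (x : T s K ⟶ X), lift g x ≫ a.act = x := by
    intro K _ _ hK g x
    let θ : Γ(T₁, Ux.1) →+* K := (algebraMap Γ(pullback τ f, W) K).comp φ.hom
    have hs₀ : Function.Surjective (i₀.app Ux.1).hom := i₀.app_surjective Ux.1 Ux.2
    let ψ : Γ(T₀, i₀ ⁻¹ᵁ Ux.1) →+* K :=
      RingHom.liftOfSurjective (i₀.app Ux.1).hom hs₀ ⟨θ, by
        rw [← Scheme.Hom.ker_apply]
        intro r hr
        have h1 : algebraMap Γ(pullback τ f, W) K (φ.hom r) ∈ J.map (algebraMap Γ(pullback τ f, W) K) :=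
          Ideal.mem_map_of_mem _ (Ideal.mem_map_of_mem _ hr)
        rw [hK] at h1
        exact h1⟩
    have hψ : (i₀.app Ux.1) ≫ CommRingCat.ofHom ψ = φ ≫ CommRingCat.ofHom (algebraMap Γ(pullback τ f, W) K) := by
      ext r
      show ψ ((i₀.app Ux.1).hom r) = θ r
      exact RingHom.liftOfRightInverse_comp_apply _ _ _ _ r
    have hU₀ : IsAffineOpen (i₀ ⁻¹ᵁ Ux.1) := Ux.2.preimage i₀
    refine h0 _ (Over.homMk (Spec.map (CommRingCat.ofHom ψ) ≫ hU₀.fromSpec) ?_) g x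
    show (_ ≫ _) ≫ i₀ ≫ τ = _ ≫ s
    rw [hs, Category.assoc, ← IsAffineOpen.SpecMap_appLE_fromSpec_assoc i₀ Ux.2 hU₀ le_rfl,
      ← IsAffineOpen.SpecMap_appLE_fromSpec_assoc (pullback.fst τ f) Ux.2 hWa hWUx, ← Spec.map_comp_assoc,
      ← Spec.map_comp_assoc, ← Scheme.Hom.app_eq_appLE, hψ]
  -- the chart of `X`
  let O : (pullback Y.hom f).Opens := nT ⁻¹ᵁ W
  let l : (O : Scheme.{u}) ⟶ Spec Γ(pullback τ f, W) :=
    IsOpenImmersion.lift hWa.fromSpec (O.ι ≫ nT) (by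
      rw [hWa.range_fromSpec]
      rintro _ ⟨z, rfl⟩
      exact z.2)
  have hl : l ≫ hWa.fromSpec = O.ι ≫ nT := IsOpenImmersion.lift_fac _ _ _
  have hnT : nT ≫ pullback.fst τ f ≫ τ = π ≫ Y.hom := by
    rw [← Category.assoc, pullback.lift_fst, Category.assoc]
    exact congrArg (π ≫ ·) (Over.w q₁)
  let m : (O : Scheme.{u}) ⟶ pullback X.hom s := pullback.lift (O.ι ≫ π ≫ x.left) l (by
    rw [hs, reassoc_of% hl, hnT, Category.assoc, Category.assoc, Over.w x])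
  obtain ⟨_, ⟨V, hV, rfl⟩, hyV, -⟩ := (pullback X.hom s).isBasis_affineOpens.exists_subset_of_mem_open
    (Set.mem_univ (m ⟨y, hyW⟩)) isOpen_univ
  have hVa : IsAffineOpen V := hV
  obtain ⟨_, ⟨O', hO', rfl⟩, hyO', hO'sub⟩ := (pullback Y.hom f).isBasis_affineOpens.exists_subset_of_mem_open
    (show y ∈ O.ι ''ᵁ (m ⁻¹ᵁ V) from ⟨⟨y, hyW⟩, hyV, rfl⟩) (O.ι ''ᵁ (m ⁻¹ᵁ V)).2
  have hO'a : IsAffineOpen O' := hO'
  refine ⟨O', hyO', ?_⟩
  rw [← cancel_epi hO'a.isoSpec.inv, IsAffineOpen.isoSpec_inv_ι_assoc,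
    IsAffineOpen.isoSpec_inv_ι_assoc]
  have hle : O' ≤ O := fun z hz => by
    obtain ⟨z', -, rfl⟩ := hO'sub hz
    exact z'.2
  let c : Spec Γ(pullback Y.hom f, O') ⟶ (O : Scheme.{u}) :=
    hO'a.isoSpec.inv ≫ (pullback Y.hom f).homOfLE hle
  have hc : c ≫ O.ι = hO'a.fromSpec := by
    show (_ ≫ _) ≫ _ = _
    rw [Category.assoc, Scheme.homOfLE_ι, IsAffineOpen.isoSpec_inv_ι]
  let κ : Γ(pullback τ f, W) ⟶ Γ(pullback Y.hom f, O') := Spec.preimage (c ≫ l)
  letI : Algebra Γ(pullback τ f, W) Γ(pullback Y.hom f, O') := κ.hom.toAlgebra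
  have hκ : Spec.map (CommRingCat.ofHom (algebraMap Γ(pullback τ f, W) Γ(pullback Y.hom f, O'))) = c ≫ l := Spec.map_preimage _
  let p : T s Γ(pullback Y.hom f, O') ⟶ Y := Over.homMk (hO'a.fromSpec ≫ π) (by
    show (_ ≫ _) ≫ Y.hom = Spec.map _ ≫ s
    rw [hκ, hs, Category.assoc, Category.assoc, reassoc_of% hl, hnT, reassoc_of% hc]
    )
  let w : Spec Γ(pullback X.hom s, V) ⟶ pullback X.hom s := hVa.fromSpec
  let κ' : Γ(pullback τ f, W) ⟶ Γ(pullback X.hom s, V) := Spec.preimage (w ≫ pullback.snd X.hom s)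
  letI : Algebra Γ(pullback τ f, W) Γ(pullback X.hom s, V) := κ'.hom.toAlgebra
  have hw : w ≫ pullback.snd X.hom s =
      Spec.map (CommRingCat.ofHom (algebraMap Γ(pullback τ f, W) Γ(pullback X.hom s, V))) := (Spec.map_preimage _).symm
  have hrange : Set.range (pullback.lift (p ≫ x).left
      (Spec.map (CommRingCat.ofHom (algebraMap Γ(pullback τ f, W) Γ(pullback Y.hom f, O')))) (Over.w (p ≫ x)) :
      Spec Γ(pullback Y.hom f, O') ⟶ pullback X.hom s) ⊆ Set.range w := by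
    have h1 : (pullback.lift (p ≫ x).left
      (Spec.map (CommRingCat.ofHom (algebraMap Γ(pullback τ f, W) Γ(pullback Y.hom f, O')))) (Over.w (p ≫ x)) :
      Spec Γ(pullback Y.hom f, O') ⟶ pullback X.hom s) = c ≫ m := by
      apply pullback.hom_ext
      · rw [pullback.lift_fst, Category.assoc, pullback.lift_fst, reassoc_of% hc]
        rfl
      · rw [pullback.lift_snd, Category.assoc, pullback.lift_snd, hκ]
    rw [h1, hVa.range_fromSpec]
    rintro _ ⟨z, rfl⟩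
    obtain ⟨z', hz', hzz⟩ := hO'sub (hO'a.range_fromSpec.le ⟨z, rfl⟩)
    have h2 : c z = z' := by
      apply O.ι.isOpenEmbedding.injective
      refine Eq.trans ?_ hzz.symm
      exact congrArg (fun q : Spec Γ(pullback Y.hom f, O') ⟶ pullback Y.hom f => q z) hc
    show m (c z) ∈ V
    rw [h2]
    exact hz'
  obtain ⟨α, hα⟩ := exists_xpt s hw (p ≫ x) hrange
  let P := charPts (U.ι ≫ f) e sU
  obtain ⟨χ, hχ⟩ := P.pt_surjective _ (p ≫ g)
  have key := act_eq s a hw hJ h0' P _ χ α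
  rw [hα, hχ, ← comp_lift, Category.assoc] at key
  have key' := congrArg Over.Hom.left key
  simp only [Over.comp_left, p, Over.homMk_left, Category.assoc] at key'
  exact key'

/-- A homomorphism out of a group of multiplicative type which is trivial modulo a locally nilpotent ideal
is trivial. -/
theorem hom_trivial_rel {S T₁ T₀ : Scheme.{u}} (τ : T₁ ⟶ S) (i₀ : T₀ ⟶ T₁) [IsClosedImmersion i₀]
    (hnil : ∀ x : T₁, ∃ U : T₁.affineOpens, x ∈ (U : T₁.Opens) ∧ IsNilpotent (i₀.ker.ideal U))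
    (H G : Over S) [GrpObj H] [GrpObj G]
    (hH : TwC.Locally S TwC.Topology.fpqc
      (fun S' f => ∃ (M : Type) (_ : AddCommGroup M), Nonempty (Grp.mk (Red.bc f H) ≅ Grp.mk (Red.DS S' M))))
    (u : H ⟶ G) [IsMonHom u]
    (h0 : ∀ (Y : Over S) (_ : Y ⟶ Over.mk (i₀ ≫ τ)) (h : Y ⟶ H), h ≫ u = 1)
    (Y : Over S) (q : Y ⟶ Over.mk τ) (h : Y ⟶ H) : h ≫ u = 1 := by
  let c : AlgGrp.Action H G :=
    { act := (fst H G ≫ u) * snd H G
      one_act := by
        have h1 : fst (𝟙_ (Over S)) G ≫ η[G] = 1 := by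
          rw [Hom.one_def]
          congr 1
        simp [MonObj.comp_mul, leftUnitor_hom, h1]
      mul_act := by
        have hμ : μ[H] ≫ u = (fst H H ≫ u) * (snd H H ≫ u) := by
          rw [← MonObj.mul_comp, Hom.mul_def, lift_fst_snd, Category.id_comp]
        simp [-IsMonHom.mul_hom, MonObj.comp_mul, hμ, _root_.mul_assoc] }
  have key := action_trivial_rel τ i₀ hnil H G hH c (fun Y' p h' x => by
    show lift h' x ≫ ((fst H G ≫ u) * snd H G) = x
    simp only [MonObj.comp_mul, lift_fst_assoc, lift_snd]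
    rw [h0 Y' p h', _root_.one_mul]) Y q h 1
  change lift h (1 : Y ⟶ G) ≫ ((fst H G ≫ u) * snd H G) = 1 at key
  simpa [MonObj.comp_mul] using key

end Groth.Agent.HopfRep.DiagRigid

end
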