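import Groth.Agent.HopfRep.CentralEq
import Groth.Agent.HopfRep.HomLocus
import Groth.Agent.HopfRep.TrivLocus
import Groth.Agent.Mor.Cancel
import Mathlib.AlgebraicGeometry.Noetherian
import Mathlib.RingTheory.Ideal.IdempotentFG
import Mathlib.Data.Finset.Powerset

/-!
The locus where a homomorphism `i₁` out of a group of multiplicative type factors through a monomorphism `i₂` from
a group of multiplicative type is open and closed when the images commute: it is closed since, near a point, it is a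
finite union of closed sets indexed by partitions of the support of finitely many equations, and open by rigidity.
-/

universe u

open CategoryTheory MonoidalCategory CartesianMonoidalCategory MonObj AlgebraicGeometry Limits

set_option linter.style.haveILetI false

noncomputable section

namespace Groth.Agent.HopfRep.EqLocus

open DiagRigid GroupLike HomLocus CharHom

variable {S : Scheme.{u}} {H₁ H₂ G : Over S} [GrpObj H₁] [GrpObj H₂] [GrpObj G] (i₁ : H₁ ⟶ G) (i₂ : H₂ ⟶ G)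

/-- `i₁` factors through `i₂` on points over `τ` -/
def Fac {T : Scheme.{u}} (τ : T ⟶ S) : Prop :=
  ∀ (Y : Over S) (_ : Y ⟶ Over.mk τ) (a : Y ⟶ H₁), ∃ a', a' ≫ i₂ = a ≫ i₁

theorem Fac.comp {T T' : Scheme.{u}} {τ : T ⟶ S} (h : Fac i₁ i₂ τ) (j : T' ⟶ T) {τ' : T' ⟶ S} (hj : j ≫ τ = τ') :
    Fac i₁ i₂ τ' := fun Y q a => h Y (q ≫ (Over.homMk j hj : Over.mk τ' ⟶ Over.mk τ)) a

theorem exists_factor_of_cover [Mono i₂.left] {Y : Over S} (a : Y ⟶ H₁) (𝒰 : Y.left.OpenCover)
    (h : ∀ j, ∃ l : 𝒰.X j ⟶ H₂.left, l ≫ i₂.left = 𝒰.f j ≫ a.left ≫ i₁.left) :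
    ∃ a', a' ≫ i₂ = a ≫ i₁ := by
  choose l hl using h
  let g := 𝒰.glueMorphisms l fun j k => by
    rw [← cancel_mono i₂.left, Category.assoc, Category.assoc, hl, hl, pullback.condition_assoc]
  have hg : g ≫ i₂.left = a.left ≫ i₁.left := 𝒰.hom_ext _ _ fun j => by
    rw [← Category.assoc, Scheme.Cover.ι_glueMorphisms]
    exact hl j
  refine ⟨Over.homMk g ?_, Over.OverMorphism.ext hg⟩
  rw [← Over.w i₂, ← Category.assoc, hg, Category.assoc, Over.w i₁, Over.w a]

theorem Fac.of_cover [Mono i₂.left] {T : Scheme.{u}} {τ : T ⟶ S}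
    (h : ∀ x : T, ∃ O : T.Opens, x ∈ O ∧ Fac i₁ i₂ (O.ι ≫ τ)) : Fac i₁ i₂ τ := by
  intro Y q a
  choose O hxO hO using h
  let 𝒰 : Y.left.OpenCover := Scheme.Cover.mkOfCovers Y.left (fun y => ((q.left ⁻¹ᵁ O (q.left y)) : Scheme.{u}))
    (fun y => (q.left ⁻¹ᵁ O (q.left y)).ι) (fun y => ⟨y, ⟨y, hxO _⟩, rfl⟩) (fun y => inferInstance)
  refine exists_factor_of_cover i₁ i₂ a 𝒰 fun y => ?_
  let Y' : Over S := Over.mk ((q.left ⁻¹ᵁ O (q.left y)).ι ≫ Y.hom)
  let j : Y' ⟶ Y := Over.homMk (q.left ⁻¹ᵁ O (q.left y)).ι rfl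
  let q' : Y' ⟶ Over.mk ((O (q.left y)).ι ≫ τ) := Over.homMk (q.left ∣_ O (q.left y)) (by
    show (q.left ∣_ O (q.left y)) ≫ (O (q.left y)).ι ≫ τ = _ ≫ Y.hom
    rw [← Category.assoc, morphismRestrict_ι, Category.assoc]
    exact congrArg (_ ≫ ·) (Over.w q))
  obtain ⟨a', ha'⟩ := hO _ Y' q' (j ≫ a)
  exact ⟨a'.left, (congrArg Over.Hom.left ha').trans (Category.assoc _ _ _)⟩

/-- the fibre product of `i₁` and `i₂` -/
abbrev pb : Over S := Over.mk (pullback.fst i₁.left i₂.left ≫ H₁.hom)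

/-- its projection -/
abbrev ξ : pb i₁ i₂ ⟶ H₁ := Over.homMk (pullback.fst i₁.left i₂.left) rfl

omit [GrpObj H₁] [GrpObj H₂] [GrpObj G] in
theorem fac_iff [Mono i₂.left] {T : Scheme.{u}} (τ : T ⟶ S) :
    Fac i₁ i₂ τ ↔ IsIso (uS (ξ i₁ i₂) τ) := by
  let η₂ : pb i₁ i₂ ⟶ H₂ := Over.homMk (pullback.snd i₁.left i₂.left) (by
    show _ = pullback.fst i₁.left i₂.left ≫ H₁.hom
    rw [← Over.w i₂, ← Over.w i₁, ← pullback.condition_assoc])
  have hη : η₂ ≫ i₂ = ξ i₁ i₂ ≫ i₁ := Over.OverMorphism.ext pullback.condition.symm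
  constructor
  · intro h
    have : Mono (ξ i₁ i₂).left := inferInstanceAs (Mono (pullback.fst i₁.left i₂.left))
    have : Mono (ξ i₁ i₂) := Over.mono_of_mono_left _
    have : Mono ((Over.pullback τ).map (ξ i₁ i₂)) :=
      have := (Over.mapPullbackAdj τ).rightAdjoint_preservesLimits
      inferInstance
    let adj := Over.mapPullbackAdj τ
    let Z₀ := Red.bc τ H₁
    let a := (adj.homEquiv Z₀ H₁).symm (𝟙 Z₀)
    obtain ⟨a', ha'⟩ := h ((Over.map τ).obj Z₀) (Over.homMk Z₀.hom rfl) a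
    let l : (Over.map τ).obj Z₀ ⟶ pb i₁ i₂ :=
      Over.homMk (pullback.lift a.left a'.left (congrArg Over.Hom.left ha').symm) (by
        show pullback.lift _ _ _ ≫ pullback.fst _ _ ≫ H₁.hom = _
        rw [pullback.lift_fst_assoc, Over.w a])
    have hl : l ≫ ξ i₁ i₂ = a := Over.OverMorphism.ext (pullback.lift_fst _ _ _)
    have h1 : adj.homEquiv Z₀ _ l ≫ (Over.pullback τ).map (ξ i₁ i₂) = 𝟙 Z₀ := by
      rw [← adj.homEquiv_naturality_right, hl, Equiv.apply_symm_apply]
    have : IsSplitEpi ((Over.pullback τ).map (ξ i₁ i₂)) := IsSplitEpi.mk' ⟨_, h1⟩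
    have : IsIso ((Over.pullback τ).map (ξ i₁ i₂)) := isIso_of_mono_of_isSplitEpi _
    exact inferInstanceAs (IsIso ((Over.forget T).map ((Over.pullback τ).map (ξ i₁ i₂))))
  · intro h
    have : IsIso ((Over.pullback τ).map (ξ i₁ i₂)) := by
      have : IsIso ((Over.forget T).map ((Over.pullback τ).map (ξ i₁ i₂))) := h
      exact isIso_of_reflects_iso _ (Over.forget T)
    exact CentralEq.exists_factor_of_bc τ i₁ i₂ (inv ((Over.pullback τ).map (ξ i₁ i₂)) ≫ (Over.pullback τ).map η₂)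
      (by rw [Category.assoc, ← Functor.map_comp, hη, Functor.map_comp, IsIso.inv_hom_id_assoc])

theorem fac_comp_iff [Mono i₂.left] {T T' : Scheme.{u}} (t : T' ⟶ T) [Flat t] [Surjective t] [QuasiCompact t]
    (τ : T ⟶ S) : Fac i₁ i₂ (t ≫ τ) ↔ Fac i₁ i₂ τ := by
  rw [fac_iff, fac_iff]
  exact uS_comp_iff (Q := MorphismProperty.isomorphisms Scheme.{u}) (ξ i₁ i₂) t τ

theorem fac_point_iff [Mono i₂.left] (L : Type u) [Field L] (y : Spec (CommRingCat.of L) ⟶ S)
    (w : ↥(Spec (CommRingCat.of L))) : Fac i₁ i₂ y ↔ Fac i₁ i₂ (S.fromSpecResidueField (y w)) := by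
  obtain ⟨⟨x', ι₀⟩, hι⟩ := (S.SpecToEquivOfField L).symm.surjective y
  have hι' : Spec.map ι₀ ≫ S.fromSpecResidueField x' = y := hι
  subst hι'
  rw [show (Spec.map ι₀ ≫ S.fromSpecResidueField x') w = x' from by
    rw [Scheme.Hom.comp_apply]; exact Scheme.fromSpecResidueField_apply x' _]
  letI := ι₀.hom.toAlgebra
  have hflat := (flat_and_surjective_SpecMap_iff ι₀).2
    (RingHom.faithfullyFlat_algebraMap_iff.2 (inferInstance : Module.FaithfullyFlat (S.residueField x') L))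
  have := hflat.1
  have := hflat.2
  exact fac_comp_iff i₁ i₂ (Spec.map ι₀) _

/-- Factorisations lift along nilpotent thickenings of an affine base. -/
theorem fac_lift [IsMonHom i₁] [IsMonHom i₂] [Mono i₂.left] [IsAffineHom H₁.hom] {K : Type u} [CommRing K]
    {s : Spec (CommRingCat.of K) ⟶ S} {M M' : Type} [AddCommGroup M] [AddCommGroup M']
    (P : CharPts (𝟙 (Spec (CommRingCat.of K))) M (Red.bc s H₁)) (hP : Inj P)
    (P' : CharPts (𝟙 (Spec (CommRingCat.of K))) M' (Red.bc s H₂)) (hP' : Inj P')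
    (hc : ∀ (Y : Over S) (h' : Y ⟶ H₂) (h : Y ⟶ H₁), (h' ≫ i₂) * (h ≫ i₁) = (h ≫ i₁) * (h' ≫ i₂))
    {J : Ideal K} (hJ : IsNilpotent J)
    (h : Fac i₁ i₂ (Spec.map (CommRingCat.ofHom (Ideal.Quotient.mk J)) ≫ s)) : Fac i₁ i₂ s := by
  have : IsAffine (Red.bc s H₁).left := by
    have : IsAffineHom (Red.bc s H₁).hom := by
      show IsAffineHom (pullback.snd H₁.hom s)
      infer_instance
    exact isAffine_of_isAffineHom (Red.bc s H₁).hom
  have : Mono i₂ := Over.mono_of_mono_left i₂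
  have : Mono ((Over.pullback s).map i₂) :=
    have := (Over.mapPullbackAdj s).rightAdjoint_preservesLimits
    inferInstance
  let adj := Over.mapPullbackAdj s
  have hc' : ∀ (Y : Over (Spec (CommRingCat.of K))) (h' : Y ⟶ Red.bc s H₂) (h : Y ⟶ Red.bc s H₁),
      (h' ≫ (Over.pullback s).map i₂) * (h ≫ (Over.pullback s).map i₁) =
        (h ≫ (Over.pullback s).map i₁) * (h' ≫ (Over.pullback s).map i₂) := by
    intro Y h' h
    obtain ⟨b', rfl⟩ := (adj.homEquiv Y H₂).surjective h'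
    obtain ⟨b, rfl⟩ := (adj.homEquiv Y H₁).surjective h
    rw [← adj.homEquiv_naturality_right, ← adj.homEquiv_naturality_right, ← homEquiv_mul', ← homEquiv_mul', hc]
  obtain ⟨v, hv⟩ := CharHom.exists_factor P P' hP hP' ((Over.pullback s).map i₁) ((Over.pullback s).map i₂) hc' hJ
    (fun L _ _ hL b => by
      let θ : K ⧸ J →+* L := Ideal.Quotient.lift J (algebraMap K L) fun r hr => by
        rw [← Ideal.mem_bot (R := L), ← hL]
        exact Ideal.mem_map_of_mem _ hr
      obtain ⟨a', ha'⟩ := h ((Over.map s).obj (Tp (K := K) L))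
        (Over.homMk (Spec.map (CommRingCat.ofHom θ)) (by
          show _ ≫ Spec.map _ ≫ s = (Spec.map _ ≫ 𝟙 _) ≫ s
          rw [← Category.assoc, ← Spec.map_comp, Category.comp_id]
          rfl))
        ((adj.homEquiv _ _).symm b)
      refine ⟨adj.homEquiv _ _ a', ?_⟩
      rw [← adj.homEquiv_naturality_right, ha', adj.homEquiv_naturality_right, Equiv.apply_symm_apply])
  exact CentralEq.exists_factor_of_bc s i₁ i₂ v hv

/-- the difference of the two maps on `H₁ ⊗ H₂` -/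
abbrev diff : H₁ ⊗ H₂ ⟶ G := (fst H₁ H₂ ≫ i₁) * (snd H₁ H₂ ≫ i₂)⁻¹

/-- the closed subscheme where the two maps agree -/
abbrev agree : pullback (diff i₁ i₂).left (η[G]).left ⟶ (H₁ ⊗ H₂).left := pullback.fst _ _

omit [GrpObj H₁] [GrpObj H₂] in
theorem isClosedImmersion_one [IsSeparated G.hom] : IsClosedImmersion (η[G]).left := by
  have : IsIso ((η[G]).left ≫ G.hom) := by
    rw [Over.w η[G]]
    exact IsIso.id S
  have : IsClosedImmersion ((η[G]).left ≫ G.hom) := inferInstance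
  exact IsClosedImmersion.of_comp (η[G]).left G.hom

theorem locallyOfFinitePresentation_agree [IsSeparated G.hom] [LocallyOfFiniteType H₁.hom]
    [LocallyOfFiniteType H₂.hom] (hG : IsLocallyNoetherian S ∨ LocallyOfFiniteType G.hom) :
    LocallyOfFinitePresentation (agree i₁ i₂) := by
  have := isClosedImmersion_one (G := G)
  rcases hG with hS | hG
  · have : LocallyOfFiniteType (H₁ ⊗ H₂).hom := by
      show LocallyOfFiniteType (pullback.fst H₁.hom H₂.hom ≫ H₁.hom)
      infer_instance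
    have : IsLocallyNoetherian (H₁ ⊗ H₂).left := LocallyOfFiniteType.isLocallyNoetherian (H₁ ⊗ H₂).hom
    rw [HasRingHomProperty.iff_appLE (P := @LocallyOfFinitePresentation)]
    intro U V e
    have := IsLocallyNoetherian.component_noetherian (X := (H₁ ⊗ H₂).left) U
    exact RingHom.FinitePresentation.of_finiteType.1 (HasRingHomProperty.appLE @LocallyOfFiniteType _ inferInstance U V e)
  · have : LocallyOfFinitePresentation ((η[G]).left ≫ G.hom) := by
      have : IsIso ((η[G]).left ≫ G.hom) := by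
        rw [Over.w η[G]]
        exact IsIso.id S
      infer_instance
    have : LocallyOfFinitePresentation (η[G]).left := Mor.Cancel.locallyOfFinitePresentation_of_comp _ G.hom
    infer_instance

/-- equations for agreement of two points -/
theorem exists_pair_ideal [IsSeparated G.hom] [LocallyOfFinitePresentation (agree i₁ i₂)] {K : Type u} [CommRing K]
    {s : Spec (CommRingCat.of K) ⟶ S} {B : Type u} [CommRing B] [Algebra K B] (x : T s B ⟶ H₁) (y : T s B ⟶ H₂) :
    ∃ I : Ideal B, I.FG ∧ ∀ (L : Type u) [CommRing L] [Algebra K L] (φ : B →ₐ[K] L),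
      (∀ z ∈ I, φ z = 0) ↔ Tmap s φ ≫ x ≫ i₁ = Tmap s φ ≫ y ≫ i₂ := by
  have := isClosedImmersion_one (G := G)
  let a₀ : Spec (CommRingCat.of B) ⟶ (H₁ ⊗ H₂).left := (lift x y).left
  let z := pullback.snd (agree i₁ i₂) a₀
  obtain ⟨I, e, he⟩ := IsClosedImmersion.Spec_iff.1 (inferInstance : IsClosedImmersion z)
  have hfg : I.FG := by
    have h1 : LocallyOfFinitePresentation (Spec.map (CommRingCat.ofHom (Ideal.Quotient.mk I))) := by
      rw [show Spec.map (CommRingCat.ofHom (Ideal.Quotient.mk I)) = e.inv ≫ z by rw [he, Iso.inv_hom_id_assoc]]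
      infer_instance
    have h2 := (HasRingHomProperty.Spec_iff (P := @LocallyOfFinitePresentation)).1 h1
    have : Algebra.FinitePresentation B (B ⧸ I) := RingHom.finitePresentation_algebraMap.1 h2
    have h3 := Algebra.FinitePresentation.ker_fG_of_surjective (Ideal.Quotient.mkₐ B I) Ideal.Quotient.mk_surjective
    rwa [Ideal.Quotient.mkₐ_toRingHom, Ideal.mk_ker] at h3
  refine ⟨I, hfg, fun L _ _ φ => ?_⟩
  have h1 : (∀ r ∈ I, φ r = 0) ↔ ∃ l, l ≫ z = Spec.map (CommRingCat.ofHom φ.toRingHom) := by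
    constructor
    · intro h
      refine ⟨Spec.map (CommRingCat.ofHom (Ideal.Quotient.lift I φ.toRingHom h)) ≫ e.inv, ?_⟩
      rw [Category.assoc, he, Iso.inv_hom_id_assoc, ← Spec.map_comp]
      congr 1
    · rintro ⟨l, hl⟩ r hr
      rw [he, ← Category.assoc, ← Spec.map_preimage (l ≫ e.hom), ← Spec.map_comp] at hl
      show (CommRingCat.ofHom φ.toRingHom).hom r = 0
      rw [← Spec.map_injective hl]
      show (Spec.preimage (l ≫ e.hom)).hom (Ideal.Quotient.mk I r) = 0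
      rw [Ideal.Quotient.eq_zero_iff_mem.2 hr, map_zero]
  have h2 : Tmap s φ ≫ lift x y ≫ diff i₁ i₂ = (Tmap s φ ≫ x ≫ i₁) * (Tmap s φ ≫ y ≫ i₂)⁻¹ := by
    simp [MonObj.comp_mul, GrpObj.comp_inv]
  rw [h1, ← mul_inv_eq_one, ← h2]
  constructor
  · rintro ⟨l, hl⟩
    ext1
    let m := l ≫ pullback.fst (agree i₁ i₂) a₀ ≫ pullback.snd (diff i₁ i₂).left (η[G]).left
    have h3 : (Tmap s φ ≫ lift x y ≫ diff i₁ i₂).left = m ≫ (η[G]).left := by
      show Spec.map _ ≫ a₀ ≫ (diff i₁ i₂).left = _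
      rw [← hl]
      simp only [m, z, Category.assoc, ← pullback.condition]
      rw [← pullback.condition_assoc]
    have h4 : m = (T s L).hom := by
      rw [← Over.w (Tmap s φ ≫ lift x y ≫ diff i₁ i₂), h3, Category.assoc, Over.w η[G]]
      exact (Category.comp_id m).symm
    rw [h3, h4, Hom.one_def]
    rfl
  · intro h
    have h3 := congrArg Over.Hom.left h
    rw [Hom.one_def] at h3
    refine ⟨pullback.lift (pullback.lift (Spec.map (CommRingCat.ofHom φ.toRingHom) ≫ a₀) (T s L).hom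
      ((Category.assoc _ _ _).trans h3)) (Spec.map (CommRingCat.ofHom φ.toRingHom)) ?_, pullback.lift_snd _ _ _⟩
    exact pullback.lift_fst _ _ _

theorem ev_of {K L : Type u} [CommRing K] [CommRing L] [Algebra K L] {N : Type} [CommMonoid N]
    (z : MonoidAlgebra K N) : ev (MonoidAlgebra.of L N) z = MonoidAlgebra.mapRingHom N (algebraMap K L) z := by
  induction z using MonoidAlgebra.induction_linear with
  | zero => simp
  | add x y hx hy => simp [hx, hy]
  | single m c => simp [ev, Algebra.smul_def]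

/-- On a trivialised affine piece the factorisation locus is closed, and factorisation spreads out. -/
theorem piece [IsMonHom i₁] [IsMonHom i₂] [Mono i₂.left] [IsAffineHom H₁.hom] [IsSeparated G.hom]
    [LocallyOfFinitePresentation (agree i₁ i₂)]
    (hc : ∀ (Y : Over S) (h' : Y ⟶ H₂) (h : Y ⟶ H₁), (h' ≫ i₂) * (h ≫ i₁) = (h ≫ i₁) * (h' ≫ i₂))
    {S' : Scheme.{u}} {f : S' ⟶ S} (hb : Both H₁ H₂ S' f) {K : Type u} [CommRing K]
    (b : Spec (CommRingCat.of K) ⟶ S') :
    IsClosed {q : ↥(Spec (CommRingCat.of K)) | Fac i₁ i₂ (S.fromSpecResidueField ((b ≫ f) q))} ∧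
      ∀ q : PrimeSpectrum K, Fac i₁ i₂ (S.fromSpecResidueField ((b ≫ f) q)) →
        ∃ r : K, r ∉ q.asIdeal ∧
          Fac i₁ i₂ (Spec.map (CommRingCat.ofHom (algebraMap K (Localization.Away r))) ≫ b ≫ f) := by
  classical
  obtain ⟨U₁, U₂, h₁, h₂, a₁, a₂, M, iM, M', iM', hf₁, hf₂, hfg, ⟨e₁⟩, ⟨e₂⟩⟩ := hb
  have hs₁ : (b ≫ a₁) ≫ h₁ = b ≫ f := by rw [Category.assoc, hf₁]
  have hs₂ : (b ≫ a₂) ≫ h₂ = b ≫ f := by rw [Category.assoc, hf₂]
  let s := b ≫ f
  let P₁ : CharPts s M H₁ := pts e₁ _ hs₁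
  let P₂ : CharPts s M' H₂ := pts e₂ _ hs₂
  have hinj₂ := pts_inj e₂ _ hs₂
  have : Mono i₂ := Over.mono_of_mono_left i₂
  let N := Multiplicative M × Multiplicative M'
  let B := MonoidAlgebra K N
  obtain ⟨I, ⟨gens, hgens⟩, hI⟩ := exists_pair_ideal i₁ i₂
    (P₁.pt B ((MonoidAlgebra.of K N).comp (MonoidHom.inl _ _)))
    (P₂.pt B ((MonoidAlgebra.of K N).comp (MonoidHom.inr _ _)))
  have hpair : ∀ (L : Type u) [CommRing L] [Algebra K L] (χ : Multiplicative M →* L) (χ' : Multiplicative M' →* L),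
      (∀ z ∈ I, ev (χ.coprod χ') z = 0) ↔ P₁.pt L χ ≫ i₁ = P₂.pt L χ' ≫ i₂ := fun L _ _ χ χ' => by
    refine (hI L (ev (χ.coprod χ'))).trans ?_
    rw [← Category.assoc, P₁.pt_nat, ← Category.assoc, P₂.pt_nat, ← MonoidHom.comp_assoc, ev_comp_of,
      MonoidHom.coprod_comp_inl, ← MonoidHom.comp_assoc, ev_comp_of, MonoidHom.coprod_comp_inr]
  let E (φ : Multiplicative M' →* Multiplicative M) : N → Multiplicative M := fun σ => σ.1 * φ σ.2
  let D (φ : Multiplicative M' →* Multiplicative M) : B →ₐ[K] MonoidAlgebra K (Multiplicative M) :=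
    ev ((MonoidAlgebra.of K _).coprod ((MonoidAlgebra.of K _).comp φ))
  have hcop : ∀ φ (σ : N), (MonoidAlgebra.of K (Multiplicative M)).coprod ((MonoidAlgebra.of K _).comp φ) σ =
      MonoidAlgebra.single (σ.1 * φ σ.2) (1 : K) := fun φ σ => by
    show MonoidAlgebra.single σ.1 (1 : K) * MonoidAlgebra.single (φ σ.2) 1 = _
    rw [MonoidAlgebra.single_mul_single, _root_.one_mul]
  have hD : ∀ φ (z : B), D φ z = ∑ σ ∈ z.coeff.support, MonoidAlgebra.single (E φ σ) (z.coeff σ) := fun φ z => by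
    rw [show D φ z = _ from ev_apply _ z]
    refine Finset.sum_congr rfl fun σ _ => ?_
    simp [E, hcop]
  let Sg : Finset N := gens.biUnion fun z => z.coeff.support
  let Cof : Finset (N × N) → Ideal K := fun R => Ideal.span
    (⋃ z ∈ gens, Set.range fun σ₀ : (z : B).coeff.support => ∑ σ ∈ (z : B).coeff.support,
      if ((σ₀ : N), σ) ∈ R then (z : B).coeff σ else 0)
  let Pof (φ : Multiplicative M' →* Multiplicative M) : Finset (N × N) :=
    (Sg ×ˢ Sg).filter fun p => E φ p.1 = E φ p.2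
  have hCof : ∀ φ (L : Type u) [CommRing L] [Algebra K L],
      (∀ z ∈ gens, MonoidAlgebra.mapRingHom _ (algebraMap K L) (D φ z) = 0) ↔
        Cof (Pof φ) ≤ RingHom.ker (algebraMap K L) := by
    intro φ L _ _
    have hcoeff : ∀ (z : B) n, (D φ z).coeff n = ∑ σ ∈ z.coeff.support, if E φ σ = n then z.coeff σ else 0 :=
      fun z n => by
        rw [hD]
        simp [MonoidAlgebra.coeff_sum, Finsupp.single_apply]
    have hmem : ∀ z ∈ gens, ∀ σ₀ ∈ z.coeff.support, (∑ σ ∈ z.coeff.support,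
        if ((σ₀ : N), σ) ∈ Pof φ then z.coeff σ else 0) = (D φ z).coeff (E φ σ₀) := by
      intro z hz σ₀ h₀
      rw [hcoeff]
      refine Finset.sum_congr rfl fun σ hσ => ?_
      have h1 : σ₀ ∈ Sg := Finset.mem_biUnion.2 ⟨z, hz, h₀⟩
      have h2 : σ ∈ Sg := Finset.mem_biUnion.2 ⟨z, hz, hσ⟩
      simp [Pof, h1, h2, eq_comm]
    constructor
    · intro h
      rw [Ideal.span_le]
      intro c hc'
      obtain ⟨z, hz, ⟨σ₀, h₀⟩, rfl⟩ := Set.mem_iUnion₂.1 hc'
      show algebraMap K L _ = 0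
      dsimp only
      rw [hmem z hz σ₀ h₀]
      simpa using congrArg (fun w : MonoidAlgebra L (Multiplicative M) => w.coeff (E φ σ₀)) (h z hz)
    · intro h z hz
      refine MonoidAlgebra.ext (Finsupp.ext fun n => ?_)
      show (MonoidAlgebra.mapRingHom _ (algebraMap K L) (D φ z)).coeff n = _
      by_cases hn : ∃ σ₀ ∈ z.coeff.support, E φ σ₀ = n
      · obtain ⟨σ₀, h₀, rfl⟩ := hn
        have := h (Ideal.subset_span (Set.mem_iUnion₂.2 ⟨z, hz, ⟨σ₀, h₀⟩, rfl⟩))
        rw [RingHom.mem_ker] at this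
        dsimp only at this
        rw [hmem z hz σ₀ h₀] at this
        simpa using this
      · have h0 : (D φ z).coeff n = 0 := by
          rw [hcoeff]
          exact Finset.sum_eq_zero fun σ hσ => if_neg fun h' => hn ⟨σ, hσ, h'⟩
        simp [h0]
  -- killed equations give factorisation
  have hfac : ∀ φ (L : Type u) [CommRing L] [Algebra K L], Cof (Pof φ) ≤ RingHom.ker (algebraMap K L) →
      Fac i₁ i₂ (Spec.map (CommRingCat.ofHom (algebraMap K L)) ≫ s) := by
    intro φ L _ _ hL Y q a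
    refine exists_factor_of_cover i₁ i₂ a Y.left.affineOpenCover.openCover fun j => ?_
    let L' : Type u := Y.left.affineOpenCover.X j
    let fj : Spec (CommRingCat.of L') ⟶ Y.left := Y.left.affineOpenCover.f j
    let ψ := Spec.preimage (fj ≫ q.left)
    letI : Algebra K L' := (ψ.hom.comp (algebraMap K L)).toAlgebra
    let jY : T s L' ⟶ Y := Over.homMk fj (by
      show _ = Spec.map (CommRingCat.ofHom (ψ.hom.comp _)) ≫ s
      rw [CommRingCat.ofHom_comp, Spec.map_comp, show CommRingCat.ofHom ψ.hom = ψ from rfl, Spec.map_preimage]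
      simp only [Category.assoc]
      exact congrArg (fj ≫ ·) (Over.w q).symm)
    obtain ⟨χ, hχ⟩ := P₁.pt_surjective L' (jY ≫ a)
    refine ⟨(P₂.pt L' (χ.comp φ)).left, ?_⟩
    have h1 : P₁.pt L' χ ≫ i₁ = P₂.pt L' (χ.comp φ) ≫ i₂ := by
      refine (hpair L' χ _).1 fun z hz => ?_
      have h2 : ev (χ.coprod (χ.comp φ)) = (ev χ).comp (D φ) :=
        MonoidAlgebra.algHom_ext (fun σ => by simp [ev, D, hcop]) (Subsingleton.elim _ _)
      have h3 : ∀ g ∈ gens, (ev χ).comp (D φ) g = 0 := fun g hg => by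
        show ev χ (D φ g) = 0
        rw [← MonoidAlgebra.lift_mapRingHom_algebraMap (R := K) (S := L') χ]
        have h4 := ((hCof φ L).2 hL) g hg
        have h5 : MonoidAlgebra.mapRingHom (Multiplicative M) (algebraMap K L') (D φ g) = 0 :=
          (hCof φ L').2 (fun c hc' => by
            show ψ.hom (algebraMap K L c) = 0
            rw [show algebraMap K L c = 0 from hL hc', map_zero]) g hg
        rw [h5, map_zero]
      rw [h2]
      rw [← hgens] at hz
      have hle : Ideal.span (gens : Set B) ≤ RingHom.ker ((ev χ).comp (D φ)).toRingHom := Ideal.span_le.2 h3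
      exact hle hz
    have h6 := congrArg Over.Hom.left (h1.symm.trans (show P₁.pt L' χ ≫ i₁ = jY ≫ a ≫ i₁ by
      rw [hχ, Category.assoc]))
    exact h6
  -- universal factorisation is group-like
  have huniv : ∀ (L : Type u) [CommRing L] [Algebra K L],
      Fac i₁ i₂ (Spec.map (CommRingCat.ofHom (algebraMap K L)) ≫ s) →
      ∃ g : Multiplicative M' →* MonoidAlgebra L (Multiplicative M), (∀ m, IsGL (g m)) ∧
        P₁.pt (MonoidAlgebra L (Multiplicative M)) (MonoidAlgebra.of L _) ≫ i₁ =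
          P₂.pt (MonoidAlgebra L (Multiplicative M)) g ≫ i₂ := by
    intro L _ _ hF
    let A₀ := MonoidAlgebra L (Multiplicative M)
    obtain ⟨a', ha'⟩ := hF (T s A₀) (Over.homMk (Spec.map (CommRingCat.ofHom (algebraMap L A₀))) (by
      show Spec.map _ ≫ Spec.map _ ≫ s = Spec.map _ ≫ s
      rw [← Category.assoc, ← Spec.map_comp, ← CommRingCat.ofHom_comp, ← IsScalarTower.algebraMap_eq K L A₀]))
      (P₁.pt A₀ (MonoidAlgebra.of L _))
    obtain ⟨g, hg⟩ := P₂.pt_surjective A₀ a'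
    have key : ∀ (L' : Type u) [CommRing L'] [Algebra L L'] [Algebra K L'] [IsScalarTower K L L']
        (χ : Multiplicative M →* L'), P₁.pt L' χ ≫ i₁ =
          P₂.pt L' (((ev χ : A₀ →ₐ[L] L') : A₀ →* L').comp g) ≫ i₂ := by
      intro L' _ _ _ _ χ
      have h1 : P₁.pt L' χ = Tmap _ ((ev χ : A₀ →ₐ[L] L').restrictScalars K) ≫ P₁.pt A₀ (MonoidAlgebra.of L _) := by
        rw [P₁.pt_nat]
        congr 1
        exact (ev_comp_of (K := L) χ).symm
      rw [h1, Category.assoc, ← ha', ← hg, ← Category.assoc, P₂.pt_nat]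
      rfl
    refine ⟨g, fun m => isGL_of_ev ?_ ?_, (hg ▸ ha').symm⟩
    · have h := key L 1
      rw [P₁.pt_one, MonObj.one_comp] at h
      have h' : P₂.pt L 1 ≫ i₂ = 1 := by rw [P₂.pt_one, MonObj.one_comp]
      exact (DFunLike.congr_fun (hinj₂ L ((cancel_mono i₂).1 (h'.trans h))) m).symm
    · have h := key _ (univ₁ (K := L) (M := Multiplicative M) * univ₂)
      rw [← P₁.pt_mul, MonObj.mul_comp, key, key, ← MonObj.mul_comp, P₂.pt_mul] at h
      exact (DFunLike.congr_fun (hinj₂ _ ((cancel_mono i₂).1 h)) m).symm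
  -- a factorisation by `φ` kills the equations
  have hkill : ∀ φ (L : Type u) [CommRing L] [Algebra K L],
      P₁.pt (MonoidAlgebra L (Multiplicative M)) (MonoidAlgebra.of L _) ≫ i₁ =
        P₂.pt (MonoidAlgebra L (Multiplicative M)) ((MonoidAlgebra.of L _).comp φ) ≫ i₂ →
      Cof (Pof φ) ≤ RingHom.ker (algebraMap K L) := by
    intro φ L _ _ h
    refine (hCof φ L).1 fun z hz => ?_
    have h1 := (hpair _ _ _).2 h z (hgens ▸ Ideal.subset_span hz)
    have h2 : ev ((MonoidAlgebra.of L (Multiplicative M)).coprod ((MonoidAlgebra.of L _).comp φ)) =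
        (ev (MonoidAlgebra.of L (Multiplicative M)) : MonoidAlgebra K (Multiplicative M) →ₐ[K] _).comp (D φ) :=
      MonoidAlgebra.algHom_ext (fun σ => by simp [ev, D, hcop]) (Subsingleton.elim _ _)
    rw [h2, AlgHom.comp_apply, ev_of] at h1
    exact h1
  have hback : ∀ φ (L : Type u) [CommRing L] [Algebra K L], Cof (Pof φ) ≤ RingHom.ker (algebraMap K L) →
      P₁.pt (MonoidAlgebra L (Multiplicative M)) (MonoidAlgebra.of L _) ≫ i₁ =
        P₂.pt (MonoidAlgebra L (Multiplicative M)) ((MonoidAlgebra.of L _).comp φ) ≫ i₂ := by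
    intro φ L _ _ hL
    refine (hpair _ _ _).1 fun z hz => ?_
    have h2 : ev ((MonoidAlgebra.of L (Multiplicative M)).coprod ((MonoidAlgebra.of L _).comp φ)) =
        (ev (MonoidAlgebra.of L (Multiplicative M)) : MonoidAlgebra K (Multiplicative M) →ₐ[K] _).comp (D φ) :=
      MonoidAlgebra.algHom_ext (fun σ => by simp [ev, D, hcop]) (Subsingleton.elim _ _)
    rw [h2]
    rw [← hgens] at hz
    have hle : Ideal.span (gens : Set B) ≤ RingHom.ker ((ev (MonoidAlgebra.of L (Multiplicative M)) :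
        MonoidAlgebra K (Multiplicative M) →ₐ[K] _).comp (D φ)).toRingHom := Ideal.span_le.2 fun w hw => by
      show ev (MonoidAlgebra.of L (Multiplicative M)) (D φ w) = 0
      rw [ev_of]
      exact (hCof φ L).2 hL w hw
    exact hle hz
  have hpts : ∀ q : PrimeSpectrum K, Fac i₁ i₂ (S.fromSpecResidueField (s q)) ↔
      ∃ φ, Cof (Pof φ) ≤ q.asIdeal := by
    intro q
    let L := q.asIdeal.ResidueField
    have hq : Spec.map (CommRingCat.ofHom (algebraMap K L)) (⊥ : PrimeSpectrum L) = q :=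
      PrimeSpectrum.ext (Ideal.ker_algebraMap_residueField q.asIdeal)
    have h1 := fac_point_iff i₁ i₂ L (Spec.map (CommRingCat.ofHom (algebraMap K L)) ≫ s) (⊥ : PrimeSpectrum L)
    rw [show (Spec.map (CommRingCat.ofHom (algebraMap K L)) ≫ s) (⊥ : PrimeSpectrum L) = s q from
      congrArg (fun z => s z) hq] at h1
    rw [← h1]
    constructor
    · intro hF
      obtain ⟨g, hg, hgpt⟩ := huniv L hF
      choose φ₀ hφ₀ hsing using fun m => (hg m).exists_single (⊥ : Ideal L)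
      have hgs : ∀ m, g m = MonoidAlgebra.single (φ₀ m) 1 := fun m => by
        have := hsing m (RingHom.id L) (isUnit_iff_ne_zero.2 fun h => hφ₀ m (Ideal.mem_bot.2 h))
        simpa using this
      let φ : Multiplicative M' →* Multiplicative M := MonoidHom.mk' φ₀ fun x y => by
        apply MonoidAlgebra.single_left_injective (R := L) one_ne_zero
        show MonoidAlgebra.single (φ₀ (x * y)) (1 : L) = MonoidAlgebra.single (φ₀ x * φ₀ y) 1
        rw [← hgs, map_mul, hgs, hgs, MonoidAlgebra.single_mul_single, _root_.one_mul]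
      refine ⟨φ, (hkill φ L ?_).trans (Ideal.ker_algebraMap_residueField q.asIdeal).le⟩
      rwa [show g = (MonoidAlgebra.of L _).comp φ from MonoidHom.ext hgs] at hgpt
    · rintro ⟨φ, hφ⟩
      exact hfac φ L (hφ.trans (Ideal.ker_algebraMap_residueField q.asIdeal).ge)
  refine ⟨?_, fun q hq => ?_⟩
  · have hfin : {R : Finset (N × N) | ∃ φ, Pof φ = R}.Finite :=
      (Sg ×ˢ Sg).powerset.finite_toSet.subset fun R ⟨φ, hR⟩ => by
        subst hR
        exact Finset.mem_powerset.2 (Finset.filter_subset _ _)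
    have heq : {q : PrimeSpectrum K | Fac i₁ i₂ (S.fromSpecResidueField (s q))} =
        ⋃ R ∈ {R : Finset (N × N) | ∃ φ, Pof φ = R}, PrimeSpectrum.zeroLocus (Cof R : Set K) := by
      ext q
      rw [Set.mem_setOf_eq, hpts]
      simp [PrimeSpectrum.mem_zeroLocus]
    show IsClosed {q : PrimeSpectrum K | Fac i₁ i₂ (S.fromSpecResidueField (s q))}
    rw [heq]
    exact hfin.isClosed_biUnion fun R _ => PrimeSpectrum.isClosed_zeroLocus _
  · obtain ⟨φ, hφ⟩ := (hpts q).1 hq
    let C := Cof (Pof φ)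
    have hCfg : C.FG := by
      refine Submodule.fg_def.2 ⟨_, ?_, rfl⟩
      exact gens.finite_toSet.biUnion fun z _ => Set.finite_range _
    -- rigidity
    let K' := K ⧸ C * C
    let J : Ideal K' := C.map (Ideal.Quotient.mk (C * C))
    have hJ : IsNilpotent J := ⟨2, by
      rw [pow_two, ← Ideal.map_mul, Ideal.zero_eq_bot, Ideal.map_quotient_self]⟩
    let s' := Spec.map (CommRingCat.ofHom (algebraMap K K')) ≫ s
    obtain ⟨Q₁, hQ₁⟩ := CentralEq.exists_charPts e₁ (s := s') (Spec.map (CommRingCat.ofHom (algebraMap K K')) ≫ b ≫ a₁)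
      (by simp only [Category.assoc, hf₁]; rfl)
    obtain ⟨Q₂, hQ₂⟩ := CentralEq.exists_charPts e₂ (s := s') (Spec.map (CommRingCat.ofHom (algebraMap K K')) ≫ b ≫ a₂)
      (by simp only [Category.assoc, hf₂]; rfl)
    let K₀ := K' ⧸ J
    have hC₀ : C ≤ RingHom.ker (algebraMap K K₀) := fun c hc' =>
      Ideal.Quotient.eq_zero_iff_mem.2 (Ideal.mem_map_of_mem _ hc')
    have hF₀ := hfac φ K₀ hC₀
    have hF : Fac i₁ i₂ s' := fac_lift i₁ i₂ Q₁ hQ₁ Q₂ hQ₂ hc hJ (by
      refine hF₀.comp i₁ i₂ (𝟙 _) ?_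
      show 𝟙 _ ≫ Spec.map _ ≫ s = Spec.map _ ≫ Spec.map _ ≫ s
      rw [Category.id_comp, ← Category.assoc (Spec.map (CommRingCat.ofHom (Ideal.Quotient.mk J))), ← Spec.map_comp]
      rfl)
    obtain ⟨g, hg, hgpt⟩ := huniv K' hF
    have hgφ : g = (MonoidAlgebra.of K' _).comp φ := by
      refine MonoidHom.ext fun m => (hg m).eq_of_map (Ideal.Quotient.mk J) (fun x hx => ?_) (IsGL.single _) ?_
      · obtain ⟨n, hn⟩ := hJ
        refine ⟨n, ?_⟩
        have h1 := Ideal.pow_mem_pow (Ideal.mk_ker.le hx) n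
        rwa [hn] at h1
      · let π : MonoidAlgebra K' (Multiplicative M) →ₐ[K] MonoidAlgebra K₀ (Multiplicative M) :=
          MonoidAlgebra.mapAlgHom _ (Ideal.Quotient.mkₐ K J)
        have h1 := congrArg (Tmap (R := K) (K := MonoidAlgebra K' (Multiplicative M)) (L := MonoidAlgebra K₀ (Multiplicative M)) s π ≫ ·) hgpt
        simp only [← Category.assoc] at h1
        rw [P₁.pt_nat, P₂.pt_nat] at h1
        have h2 : (π : MonoidAlgebra K' (Multiplicative M) →* MonoidAlgebra K₀ (Multiplicative M)).comp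
            (MonoidAlgebra.of K' (Multiplicative M)) = MonoidAlgebra.of K₀ _ :=
          MonoidHom.ext fun x => by
            show π (MonoidAlgebra.single x 1) = MonoidAlgebra.single x 1
            simp [π]
        have h3 := hback φ K₀ hC₀
        rw [h2] at h1
        have h5 := DFunLike.congr_fun (hinj₂ _ ((cancel_mono i₂).1 (h1.symm.trans h3))) m
        show π (g m) = π (MonoidAlgebra.single (φ m) 1)
        refine h5.trans ?_
        exact (DFunLike.congr_fun h2 (φ m)).symm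
    have hCC : IsIdempotentElem C := by
      refine le_antisymm Ideal.mul_le_left fun c hc' => ?_
      rw [hgφ] at hgpt
      exact Ideal.Quotient.eq_zero_iff_mem.1 (hkill φ K' hgpt hc')
    obtain ⟨e, he, hCe⟩ := (Ideal.isIdempotentElem_iff_of_fg C hCfg).1 hCC
    refine ⟨1 - e, fun hmem => ?_, hfac φ _ ?_⟩
    · have heq : e ∈ q.asIdeal := hφ (show e ∈ C by rw [hCe]; exact Ideal.mem_span_singleton_self e)
      have := q.asIdeal.add_mem hmem heq
      rw [sub_add_cancel] at this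
      exact (Ideal.ne_top_iff_one _).1 q.2.ne_top this
    · show C ≤ _
      rw [hCe, Ideal.submodule_span_eq, Ideal.span_le, Set.singleton_subset_iff]
      show algebraMap K (Localization.Away (1 - e)) e = 0
      refine (IsLocalization.Away.algebraMap_isUnit (S := Localization.Away (1 - e)) (1 - e)).mul_right_eq_zero.1 ?_
      rw [← map_mul, sub_mul, _root_.one_mul, he.eq, sub_self, map_zero]

/-- The factorisation locus is open and closed, and `i₁` factors through `i₂` above it. -/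
theorem exists_clopen [IsMonHom i₁] [IsMonHom i₂] [Mono i₂.left] [IsSeparated G.hom]
    (h₁ : SGA3x.IsMultTypeFT H₁) (h₂ : SGA3x.IsMultTypeFT H₂)
    (hG : IsLocallyNoetherian S ∨ LocallyOfFiniteType G.hom)
    (hc : ∀ (Y : Over S) (h' : Y ⟶ H₂) (h : Y ⟶ H₁), (h' ≫ i₂) * (h ≫ i₁) = (h ≫ i₁) * (h' ≫ i₂)) :
    ∃ U : S.Opens, IsClosed (U : Set S) ∧ (∀ x : S, x ∈ U ↔ Fac i₁ i₂ (S.fromSpecResidueField x)) ∧
      Fac i₁ i₂ U.ι := by
  have : IsAffineHom H₁.hom := by
    obtain ⟨S', f, h1, h2, h3, h4⟩ := h₁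
    exact FreeDiag.isAffineHom_of_multType
      ⟨S', f, h1, h2, h3, fun s' => let ⟨U, hU, M, hM, _, he⟩ := h4 s'; ⟨U, hU, M, hM, he⟩⟩
  have := EssFreeSGA.locallyOfFiniteType_of_multTypeFT h₁
  have := EssFreeSGA.locallyOfFiniteType_of_multTypeFT h₂
  have := locallyOfFinitePresentation_agree i₁ i₂ hG
  have hb := locally_both h₁ h₂
  choose V R' _ _ hff hxV hq using fun x => FpqcCover.exists_cover hb x
  let U₀ : Set S := {x | Fac i₁ i₂ (S.fromSpecResidueField x)}
  let π := fun x => Spec.map (CommRingCat.ofHom (algebraMap Γ(S, (V x).1) (R' x)))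
  have hπ := fun x => (flat_and_surjective_SpecMap_iff (CommRingCat.ofHom (algebraMap Γ(S, (V x).1) (R' x)))).2
    (RingHom.faithfullyFlat_algebraMap_iff.2 (hff x))
  have := fun x => (hπ x).1
  have := fun x => (hπ x).2
  have := fun x => (V x).2.isOpenImmersion_fromSpec
  choose Ri _ _ _ hoi S' f W a hmem hP ha using hq
  let ev' := fun x q' => Spec.map (CommRingCat.ofHom (algebraMap (R' x) (Ri x q')))
  have hclopen : IsClopen U₀ := by
    suffices h : ∀ P : Prop → Prop, (∀ x q', IsOpen {q : PrimeSpectrum (Ri x q') | P ((a x q' ≫ (W x q').ι ≫ f x q') q ∈ U₀)}) →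
        IsOpen {x : S | P (x ∈ U₀)} by
      refine ⟨⟨h Not fun x q' => ?_⟩, h id fun x q' => ?_⟩
      · exact (piece i₁ i₂ hc (hP x q') (a x q')).1.isOpen_compl
      · refine isOpen_iff_forall_mem_open.2 fun q hq' => ?_
        obtain ⟨r, hr, hFr⟩ := (piece i₁ i₂ hc (hP x q') (a x q')).2 q hq'
        refine ⟨PrimeSpectrum.basicOpen r, fun q₁ hq₁ => ?_, (PrimeSpectrum.basicOpen r).2, hr⟩
        let L := q₁.asIdeal.ResidueField
        have hq : Spec.map (CommRingCat.ofHom (algebraMap _ L)) (⊥ : PrimeSpectrum L) = q₁ :=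
          PrimeSpectrum.ext (Ideal.ker_algebraMap_residueField q₁.asIdeal)
        have hu : IsUnit (algebraMap (Ri x q') L r) :=
          isUnit_iff_ne_zero.2 fun h0 => hq₁ (Ideal.algebraMap_residueField_eq_zero.1 h0)
        let θ : Localization.Away r →+* L := IsLocalization.Away.lift (S := Localization.Away r) r hu
        have hθ : θ.comp (algebraMap (Ri x q') (Localization.Away r)) = algebraMap (Ri x q') L :=
          IsLocalization.Away.lift_comp r hu
        have h1 := (fac_point_iff i₁ i₂ L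
          (Spec.map (CommRingCat.ofHom (algebraMap _ L)) ≫ a x q' ≫ (W x q').ι ≫ f x q') (⊥ : PrimeSpectrum L)).1
          (hFr.comp i₁ i₂ (Spec.map (CommRingCat.ofHom θ)) (by
            rw [← Category.assoc, ← Spec.map_comp]
            exact congrArg (fun g => Spec.map (CommRingCat.ofHom g) ≫ a x q' ≫ (W x q').ι ≫ f x q') hθ))
        show (a x q' ≫ (W x q').ι ≫ f x q') q₁ ∈ U₀
        rw [← hq]
        exact h1
    intro P hpieces
    rw [isOpen_iff_forall_mem_open]
    intro x hx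
    let Ws : Set (Spec Γ(S, (V x).1)) := {v | P ((V x).2.fromSpec v ∈ U₀)}
    refine ⟨(V x).2.fromSpec '' Ws, ?_, (V x).2.fromSpec.isOpenEmbedding.isOpenMap _ ?_, ?_⟩
    · rintro _ ⟨v, hv, rfl⟩
      exact hv
    · rw [← (Flat.isQuotientMap_of_surjective (π x)).isOpen_preimage, isOpen_iff_forall_mem_open]
      intro q' hq'
      obtain ⟨q, hqq⟩ := hmem x q'
      have := hoi x q'
      have h1 : ∀ z, (a x q' ≫ (W x q').ι ≫ f x q') z = (V x).2.fromSpec (π x (ev' x q' z)) := fun z => by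
        rw [ha]; rfl
      refine ⟨ev' x q' '' {z | P ((a x q' ≫ (W x q').ι ≫ f x q') z ∈ U₀)}, ?_,
        (ev' x q').isOpenEmbedding.isOpenMap _ (hpieces x q'), ⟨q, ?_, hqq⟩⟩
      · rintro _ ⟨z, hz, rfl⟩
        show P ((V x).2.fromSpec (π x (ev' x q' z)) ∈ U₀)
        rw [← h1]
        exact hz
      · show P (_ ∈ U₀)
        rw [h1, hqq]
        exact hq'
    · obtain ⟨v, hv⟩ := (V x).2.range_fromSpec.ge (hxV x)
      exact ⟨v, show P _ by rw [hv]; exact hx, hv⟩
  refine ⟨⟨U₀, hclopen.2⟩, hclopen.1, fun x => Iff.rfl, Fac.of_cover i₁ i₂ fun x => ?_⟩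
  let U : S.Opens := ⟨U₀, hclopen.2⟩
  let σ := (V x.1).2.fromSpec
  let W₀ := σ ⁻¹ᵁ U
  have hWfac : Fac i₁ i₂ (W₀.ι ≫ σ) := by
    have hsur : Surjective (π x.1 ∣_ W₀) := MorphismProperty.of_isPullback
      (isPullback_morphismRestrict (π x.1) W₀).flip inferInstance
    rw [← fac_comp_iff i₁ i₂ (π x.1 ∣_ W₀), ← Category.assoc, morphismRestrict_ι, Category.assoc]
    refine Fac.of_cover i₁ i₂ fun q' => ?_
    obtain ⟨q, hqq⟩ := hmem x.1 q'.1
    have hmemU : (a x.1 q'.1 ≫ (W x.1 q'.1).ι ≫ f x.1 q'.1) q ∈ U₀ := by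
      rw [ha]
      show σ (π x.1 (ev' x.1 q'.1 q)) ∈ U₀
      rw [hqq]
      exact q'.2
    obtain ⟨r, hr, hFr⟩ := (piece i₁ i₂ hc (hP x.1 q'.1) (a x.1 q'.1)).2 q hmemU
    let e' := Spec.map (CommRingCat.ofHom (algebraMap (Ri x.1 q'.1) (Localization.Away r))) ≫ ev' x.1 q'.1
    have := hoi x.1 q'.1
    have : IsOpenImmersion (Spec.map (CommRingCat.ofHom (algebraMap (Ri x.1 q'.1) (Localization.Away r)))) :=
      IsOpenImmersion.of_isLocalization r
    let O' : ((π x.1) ⁻¹ᵁ W₀ : Scheme.{u}).Opens := ((π x.1) ⁻¹ᵁ W₀).ι ⁻¹ᵁ e'.opensRange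
    refine ⟨O', ?_, ?_⟩
    · show q'.1 ∈ e'.opensRange
      obtain ⟨z, hz⟩ := (PrimeSpectrum.localization_away_comap_range (Localization.Away r) r).ge
        (show q ∈ (PrimeSpectrum.basicOpen r : Set (PrimeSpectrum (Ri x.1 q'.1))) from hr)
      exact ⟨z, (congrArg (fun t : ↥(Spec (CommRingCat.of (Ri x.1 q'.1))) => ev' x.1 q'.1 t) hz).trans hqq⟩
    · let j : (O' : Scheme.{u}) ⟶ Spec (CommRingCat.of (Localization.Away r)) :=
        IsOpenImmersion.lift e' (O'.ι ≫ ((π x.1) ⁻¹ᵁ W₀).ι) (by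
          rintro _ ⟨w, rfl⟩
          exact w.2)
      refine hFr.comp i₁ i₂ j ?_
      rw [ha, ← Category.assoc j, ← Category.assoc, ← Category.assoc]
      simp only [Category.assoc]
      rw [show j ≫ Spec.map _ ≫ ev' x.1 q'.1 ≫ π x.1 ≫ σ = (j ≫ e') ≫ π x.1 ≫ σ by simp [e'],
        show j ≫ e' = O'.ι ≫ ((π x.1) ⁻¹ᵁ W₀).ι from IsOpenImmersion.lift_fac _ _ _, Category.assoc]
  refine ⟨U.ι ⁻¹ᵁ (V x.1).1, hxV x.1, ?_⟩
  let k : (U.ι ⁻¹ᵁ (V x.1).1 : Scheme.{u}) ⟶ Spec Γ(S, (V x.1).1) :=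
    IsOpenImmersion.lift σ ((U.ι ⁻¹ᵁ (V x.1).1).ι ≫ U.ι) (by
      rw [(V x.1).2.range_fromSpec]
      rintro _ ⟨w, rfl⟩
      exact w.2)
  have hk : k ≫ σ = (U.ι ⁻¹ᵁ (V x.1).1).ι ≫ U.ι := IsOpenImmersion.lift_fac _ _ _
  refine hWfac.comp i₁ i₂ (IsOpenImmersion.lift W₀.ι k ?_) ?_
  · rw [Scheme.Opens.range_ι]
    rintro _ ⟨w, rfl⟩
    show σ (k w) ∈ U
    rw [← Scheme.Hom.comp_apply, hk]
    exact ((U.ι ⁻¹ᵁ (V x.1).1).ι w).2
  · rw [← Category.assoc, IsOpenImmersion.lift_fac, hk]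

/-- Factorisation in both directions is an isomorphism of the pullbacks compatible with the maps to `G`. -/
theorem fac_fac_iff [Mono i₁.left] [Mono i₂.left] {T : Scheme.{u}} (τ : T ⟶ S) :
    (Fac i₁ i₂ τ ∧ Fac i₂ i₁ τ) ↔
      ∃ ψ : Red.bc τ H₁ ≅ Red.bc τ H₂, ψ.hom ≫ (Over.pullback τ).map i₂ = (Over.pullback τ).map i₁ := by
  have key : ∀ {A B : Over S} (a : A ⟶ G) (b : B ⟶ G),
      (∀ (Y : Over S) (_ : Y ⟶ Over.mk τ) (y : Y ⟶ A), ∃ y', y' ≫ b = y ≫ a) →
        ∃ v : Red.bc τ A ⟶ Red.bc τ B, v ≫ (Over.pullback τ).map b = (Over.pullback τ).map a := by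
    intro A B a b h
    let adj := Over.mapPullbackAdj τ
    obtain ⟨a', ha'⟩ := h ((Over.map τ).obj (Red.bc τ A)) (Over.homMk (Red.bc τ A).hom rfl)
      ((adj.homEquiv _ A).symm (𝟙 _))
    refine ⟨adj.homEquiv _ _ a', ?_⟩
    rw [← adj.homEquiv_naturality_right, ha', adj.homEquiv_naturality_right, Equiv.apply_symm_apply]
    exact Category.id_comp _
  have : Mono i₁ := Over.mono_of_mono_left i₁
  have : Mono i₂ := Over.mono_of_mono_left i₂
  have := (Over.mapPullbackAdj τ).rightAdjoint_preservesLimits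
  constructor
  · rintro ⟨h, h'⟩
    obtain ⟨v, hv⟩ := key i₁ i₂ h
    obtain ⟨w, hw⟩ := key i₂ i₁ h'
    exact ⟨⟨v, w, (cancel_mono ((Over.pullback τ).map i₁)).1 (by simp [hv, hw]),
      (cancel_mono ((Over.pullback τ).map i₂)).1 (by simp [hv, hw])⟩, hv⟩
  · rintro ⟨ψ, hψ⟩
    exact ⟨CentralEq.exists_factor_of_bc τ i₁ i₂ ψ.hom hψ,
      CentralEq.exists_factor_of_bc τ i₂ i₁ ψ.inv (by rw [← hψ, Iso.inv_hom_id_assoc])⟩

end Groth.Agent.HopfRep.EqLocus

end
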