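import Groth.Agent.HopfRep.WeilClosedOver
import Mathlib.AlgebraicGeometry.Limits

/-!
Weil restriction of closed subschemes along morphisms that are fpqc locally covered by affine
schemes with projective rings of functions.
-/

universe u

open TensorProduct CategoryTheory MonoidalCategory CartesianMonoidalCategory AlgebraicGeometry Limits

set_option linter.style.haveILetI false

noncomputable section

namespace Groth.Agent.HopfRep.EssFree

open WeilClosed

/-- Covered by affine opens with projective rings of functions over the affine base. -/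
def PiecesOver {R : Type u} [CommRing R] {P₀ : Scheme.{u}} (p₀ : P₀ ⟶ Spec (CommRingCat.of R)) : Prop :=
  ∀ z : P₀, ∃ (B : Type u) (_ : CommRing B) (_ : Algebra R B) (w : Spec (CommRingCat.of B) ⟶ P₀),
    Module.Projective R B ∧ IsOpenImmersion w ∧ z ∈ Set.range w ∧
      w ≫ p₀ = Spec.map (CommRingCat.ofHom (algebraMap R B))

theorem PiecesOver.exists_ideal {R : Type u} [CommRing R] {P₀ E₀ : Scheme.{u}}
    {p₀ : P₀ ⟶ Spec (CommRingCat.of R)} (h : PiecesOver p₀) (j₀ : E₀ ⟶ P₀) [IsClosedImmersion j₀] :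
    ∃ J : Ideal R, (∀ {A : CommRingCat.{u}} (ψ : CommRingCat.of R ⟶ A),
      J ≤ RingHom.ker ψ.hom ↔ Cond p₀ j₀ (Spec.map ψ)) ∧
      (CompactSpace P₀ → LocallyOfFinitePresentation j₀ → J.FG) := by
  classical
  choose B hB hA w hproj hw hzw hwp using h
  choose s hs using fun z => Module.projective_def'.1 (hproj z)
  have gen : ∀ t : Set P₀, (∀ z, ∃ x ∈ t, z ∈ Set.range (w x)) → ∃ J : Ideal R,
      (∀ {A : CommRingCat.{u}} (ψ : CommRingCat.of R ⟶ A), J ≤ RingHom.ker ψ.hom ↔ Cond p₀ j₀ (Spec.map ψ)) ∧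
      (Finite t → LocallyOfFinitePresentation j₀ → J.FG) := fun t ht => by
    have := fun x : t => hw x.1
    exact ideal_of_pieces p₀ j₀ (fun x : t => B x.1) (fun x => w x.1) (fun x => hwp x.1)
      (fun z => by obtain ⟨x, hx, hz⟩ := ht z; exact ⟨⟨x, hx⟩, hz⟩)
      (fun x => id) (fun x => s x.1) (fun x b => DFunLike.congr_fun (hs x.1) b)
  obtain ⟨J, hJ, -⟩ := gen Set.univ fun z => ⟨z, trivial, hzw z⟩
  refine ⟨J, hJ, fun hc hj => ?_⟩
  obtain ⟨t, ht⟩ := isCompact_univ.elim_finite_subcover (fun z => Set.range (w z))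
    (fun z => (hw z).base_open.isOpen_range) (fun z _ => Set.mem_iUnion.2 ⟨z, hzw z⟩)
  obtain ⟨J', hJ', hfg⟩ := gen ↑t fun z => by
    obtain ⟨x, hx, hz⟩ := Set.mem_iUnion₂.1 (ht (Set.mem_univ z))
    exact ⟨x, hx, hz⟩
  have heq : J = J' := by
    have h1 := (hJ (CommRingCat.ofHom (Ideal.Quotient.mk J'))).2 ((hJ' _).1 Ideal.mk_ker.ge)
    have h2 := (hJ' (CommRingCat.ofHom (Ideal.Quotient.mk J))).2 ((hJ _).1 Ideal.mk_ker.ge)
    exact le_antisymm (h1.trans Ideal.mk_ker.le) (h2.trans Ideal.mk_ker.le)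
  exact heq ▸ hfg inferInstance hj

theorem PiecesOver.baseChange {R R₁ : Type u} [CommRing R] [CommRing R₁] [Algebra R R₁] {P₀ P₁ : Scheme.{u}}
    {p₀ : P₀ ⟶ Spec (CommRingCat.of R)} {p₁ : P₁ ⟶ Spec (CommRingCat.of R₁)} {π : P₁ ⟶ P₀}
    (H : IsPullback π p₁ p₀ (Spec.map (CommRingCat.ofHom (algebraMap R R₁)))) (h : PiecesOver p₀) :
    PiecesOver p₁ := by
  intro z
  obtain ⟨B, hB, hA, w, hproj, hw, ⟨y, hy⟩, hwp⟩ := h (π z)
  let inl : CommRingCat.of R₁ ⟶ CommRingCat.of (R₁ ⊗[R] B) := CommRingCat.ofHom (algebraMap R₁ (R₁ ⊗[R] B))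
  let inr : CommRingCat.of B ⟶ CommRingCat.of (R₁ ⊗[R] B) :=
    CommRingCat.ofHom (Algebra.TensorProduct.includeRight : B →ₐ[R] R₁ ⊗[R] B).toRingHom
  have hsq : IsPullback (Spec.map inr) (Spec.map inl) (Spec.map (CommRingCat.ofHom (algebraMap R B)))
      (Spec.map (CommRingCat.ofHom (algebraMap R R₁))) :=
    (isPullback_SpecMap_of_isPushout _ _ _ _ (CommRingCat.isPushout_tensorProduct R R₁ B)).flip
  let w' := H.lift (Spec.map inr ≫ w) (Spec.map inl) (by rw [Category.assoc, hwp]; exact hsq.w)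
  have hfst : w' ≫ π = Spec.map inr ≫ w := H.lift_fst _ _ _
  have hsnd : w' ≫ p₁ = Spec.map inl := H.lift_snd _ _ _
  have hleft : IsPullback (Spec.map inr) w' w π :=
    IsPullback.of_bot (by rw [hsnd, hwp]; exact hsq) hfst.symm H
  refine ⟨_, inferInstance, inferInstance, w', inferInstance,
    MorphismProperty.of_isPullback (P := @IsOpenImmersion) hleft hw, ?_, hsnd⟩
  obtain ⟨q, -, hq⟩ := Scheme.exists_preimage_of_isPullback hleft y z hy
  exact ⟨q, hq⟩

theorem PiecesOver.of_summand {R R₁ : Type u} [CommRing R] [CommRing R₁] [Algebra R R₁] [Module.Projective R R₁]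
    {P₁ : Scheme.{u}} {p₁ : P₁ ⟶ Spec (CommRingCat.of R₁)} (h : PiecesOver p₁) {P₀ : Scheme.{u}}
    {p₀ : P₀ ⟶ Spec (CommRingCat.of R)} (π : P₁ ⟶ P₀) [IsOpenImmersion π]
    (hπ : π ≫ p₀ = p₁ ≫ Spec.map (CommRingCat.ofHom (algebraMap R R₁))) (z : P₁) :
    ∃ (B : Type u) (_ : CommRing B) (_ : Algebra R B) (w : Spec (CommRingCat.of B) ⟶ P₀),
      Module.Projective R B ∧ IsOpenImmersion w ∧ π z ∈ Set.range w ∧
        w ≫ p₀ = Spec.map (CommRingCat.ofHom (algebraMap R B)) := by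
  obtain ⟨B, hB, hA, w, hproj, hw, ⟨y, hy⟩, hwp⟩ := h z
  letI : Algebra R B := ((algebraMap R₁ B).comp (algebraMap R R₁)).toAlgebra
  have : IsScalarTower R R₁ B := .of_algebraMap_eq' rfl
  refine ⟨B, hB, inferInstance, w ≫ π, ?_, inferInstance, ⟨y, ?_⟩, ?_⟩
  · obtain ⟨s, hs⟩ := Module.projective_def'.1 hproj
    classical
    have : Module.Projective R (B →₀ R₁) :=
      Module.Projective.of_equiv (finsuppLequivDFinsupp R).symm
    exact Module.Projective.of_split (s.restrictScalars R)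
      ((Finsupp.linearCombination R₁ (id : B → B)).restrictScalars R) (LinearMap.ext fun b => DFunLike.congr_fun hs b)
  · rw [Scheme.Hom.comp_apply, hy]
  · rw [Category.assoc, hπ, ← Category.assoc, hwp, ← Spec.map_comp]
    rfl

/-- fpqc locally on the base covered by affine schemes with projective rings of functions. -/
def IsEssFree {F S : Scheme.{u}} (f : F ⟶ S) : Prop :=
  ∀ s : S, ∃ (V : S.affineOpens) (R' : Type u) (_ : CommRing R') (_ : Algebra Γ(S, V.1) R'),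
    Module.FaithfullyFlat Γ(S, V.1) R' ∧ s ∈ V.1 ∧
      PiecesOver (pullback.snd f (Spec.map (CommRingCat.ofHom (algebraMap Γ(S, V.1) R')) ≫ V.2.fromSpec))

set_option backward.isDefEq.respectTransparency.types false in
/-- The Weil restriction of a closed subscheme along an essentially free morphism is closed. -/
theorem exists_closed {P X F S E : Scheme.{u}} {p : P ⟶ X} {q : P ⟶ F} {h : X ⟶ S} {f : F ⟶ S}
    (H : IsPullback q p f h) (hess : IsEssFree f) (j : E ⟶ P) [IsClosedImmersion j] :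
    ∃ (Z : Scheme.{u}) (z : Z ⟶ X), IsClosedImmersion z ∧
      (∀ {T : Scheme.{u}} (g : T ⟶ X), (∃ g' : T ⟶ Z, g' ≫ z = g) ↔ Cond p j g) ∧
      (QuasiCompact f → LocallyOfFinitePresentation j → LocallyOfFinitePresentation z) := by
  have main : ∀ x : X, ∃ U : X.affineOpens, x ∈ U.1 ∧ ∀ W : X.affineOpens, W.1 ≤ U.1 →
      ∃ J : Ideal Γ(X, W.1), (∀ {A : CommRingCat.{u}} (ψ : Γ(X, W.1) ⟶ A),
        J ≤ RingHom.ker ψ.hom ↔ Cond p j (Spec.map ψ ≫ W.2.fromSpec)) ∧
        (QuasiCompact f → LocallyOfFinitePresentation j → J.FG) := by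
    intro x
    obtain ⟨V, R', _, _, hff, hxV, hpieces⟩ := hess (h x)
    obtain ⟨_, ⟨U, hU, rfl⟩, hxU, hUV⟩ := X.isBasis_affineOpens.exists_subset_of_mem_open
      (show x ∈ h ⁻¹ᵁ V.1 from hxV) (h ⁻¹ᵁ V.1).2
    refine ⟨⟨U, hU⟩, hxU, fun W hW => ?_⟩
    have hWV : W.1 ≤ h ⁻¹ᵁ V.1 := fun a ha => hUV (hW ha)
    letI := (h.appLE V.1 W.1 hWV).hom.toAlgebra
    let R₁ := Γ(X, W.1) ⊗[Γ(S, V.1)] R'
    letI : Algebra R' R₁ := Algebra.TensorProduct.rightAlgebra
    let σ := Spec.map (CommRingCat.ofHom (algebraMap Γ(S, V.1) R')) ≫ V.2.fromSpec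
    let φ := Spec.map (CommRingCat.ofHom (algebraMap Γ(X, W.1) R₁)) ≫ W.2.fromSpec
    let b := Spec.map (CommRingCat.ofHom (algebraMap R' R₁))
    have hφ : φ ≫ h = b ≫ σ := by
      show (Spec.map _ ≫ W.2.fromSpec) ≫ h = Spec.map _ ≫ Spec.map _ ≫ V.2.fromSpec
      rw [Category.assoc, ← IsAffineOpen.SpecMap_appLE_fromSpec h V.2 W.2 hWV, ← Category.assoc, ← Category.assoc,
        ← Spec.map_comp, ← Spec.map_comp]
      congr 2
      ext r
      exact ((Algebra.TensorProduct.includeRight : R' →ₐ[Γ(S, V.1)] R₁).commutes r).symm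
    have Hp : IsPullback (pullback.fst p φ ≫ q) (pullback.snd p φ) f (φ ≫ h) :=
      (IsPullback.of_hasPullback p φ).paste_horiz H
    let π : pullback p φ ⟶ pullback f σ :=
      pullback.lift (pullback.fst p φ ≫ q) (pullback.snd p φ ≫ b)
        (Hp.w.trans ((congrArg (pullback.snd p φ ≫ ·) hφ).trans (Category.assoc _ _ _).symm))
    have Hπ : IsPullback π (pullback.snd p φ) (pullback.snd f σ) b := by
      refine IsPullback.of_right ?_ (pullback.lift_snd _ _ _) (IsPullback.of_hasPullback f σ)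
      rw [pullback.lift_fst]
      exact hφ ▸ Hp
    obtain ⟨J', hJ', hfg'⟩ := (hpieces.baseChange Hπ).exists_ideal (pullback.snd j (pullback.fst p φ))
    obtain ⟨J, hJ, hfg⟩ := hasIdeal_of_descent p j W R₁ J' fun {A} ψ =>
      (hJ' ψ).trans (cond_pullback p j φ (Spec.map ψ)).symm
    refine ⟨J, hJ, fun hf hj => hfg (hfg' ?_ inferInstance)⟩
    have : QuasiCompact (pullback.snd p φ) := MorphismProperty.of_isPullback (P := @QuasiCompact) Hp hf
    exact QuasiCompact.compactSpace_of_compactSpace (pullback.snd p φ)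
  obtain ⟨Z, z, hz, hg, hfp⟩ := exists_closed_of_hasIdeal p j fun x => by
    obtain ⟨U, hxU, hU⟩ := main x
    exact ⟨U, hxU, fun W hW => let ⟨J, hJ, _⟩ := hU W hW; ⟨J, hJ⟩⟩
  refine ⟨Z, z, hz, hg, fun hf hj => hfp fun x => ?_⟩
  obtain ⟨U, hxU, hU⟩ := main x
  refine ⟨U, hxU, fun W hW J hJ => ?_⟩
  obtain ⟨J', hJ', hfg'⟩ := hU W hW
  have heq : J = J' := by
    have h1 := (hJ (CommRingCat.ofHom (Ideal.Quotient.mk J'))).2 ((hJ' _).1 Ideal.mk_ker.ge)
    have h2 := (hJ' (CommRingCat.ofHom (Ideal.Quotient.mk J))).2 ((hJ _).1 Ideal.mk_ker.ge)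
    exact le_antisymm (h1.trans Ideal.mk_ker.le) (h2.trans Ideal.mk_ker.le)
  exact heq ▸ hfg' hf hj

variable {S : Scheme.{u}} {F X : Over S}

theorem exists_closed_over (hF : IsEssFree F.hom) {E : Over S} (j : E ⟶ X ⊗ F) [IsClosedImmersion j.left] :
    ∃ (Z : Over S) (z : Z ⟶ X), IsClosedImmersion z.left ∧ (∀ (T : Over S) (g : T ⟶ X),
      (∃ g' : T ⟶ Z, g' ≫ z = g) ↔
        ∀ (T' : Over S) (t : T' ⟶ T) (a : T' ⟶ F), ∃ e : T' ⟶ E, e ≫ j = lift (t ≫ g) a) ∧
      (QuasiCompact F.hom → LocallyOfFinitePresentation j.left → LocallyOfFinitePresentation z.left) := by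
  obtain ⟨Z, z, hz, h, hfp⟩ :=
    exists_closed (IsPullback.of_hasPullback X.hom F.hom).flip hF j.left
  refine ⟨Over.mk (z ≫ X.hom), Over.homMk z, hz, fun T g => ⟨?_, fun hg => ?_⟩, hfp⟩
  · rintro ⟨g', rfl⟩ T' t a
    obtain ⟨e, he⟩ := (h (g'.left ≫ z)).1 ⟨g'.left, rfl⟩ t.left (lift (t ≫ g' ≫ Over.homMk z) a).left (by
      show _ = (lift (t ≫ g' ≫ Over.homMk z) a).left ≫ (fst X F).left
      rw [← Over.comp_left (f := lift (t ≫ g' ≫ Over.homMk z) a), lift_fst]
      rfl)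
    refine ⟨Over.homMk e ?_, Over.OverMorphism.ext he⟩
    rw [← Over.w j, ← Category.assoc, he]
    exact Over.w _
  · obtain ⟨g', hg'⟩ := (h g.left).2 fun W t q hq => by
      let T' : Over S := Over.mk (t ≫ T.hom)
      let t' : T' ⟶ T := Over.homMk t
      replace hq : t ≫ g.left = q ≫ (fst X F).left := hq
      have hw : (q ≫ (snd X F).left) ≫ F.hom = t ≫ T.hom := by
        rw [Category.assoc, Over.w, ← Over.w (fst X F), ← Category.assoc, ← hq, Category.assoc, Over.w]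
      let a : T' ⟶ F := Over.homMk (q ≫ (snd X F).left) hw
      obtain ⟨e, he⟩ := hg T' t' a
      refine ⟨e.left, ?_⟩
      have hq' : (lift (t' ≫ g) a).left = q := by
        apply pullback.hom_ext
        · show (lift (t' ≫ g) a).left ≫ (fst X F).left = _
          rw [← Over.comp_left, lift_fst]
          exact hq
        · show (lift (t' ≫ g) a).left ≫ (snd X F).left = _
          rw [← Over.comp_left, lift_snd]
          rfl
      rw [← Over.comp_left, he, hq']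
    refine ⟨Over.homMk g' (by
      show g' ≫ z ≫ X.hom = T.hom
      rw [← Category.assoc, hg', Over.w]), Over.OverMorphism.ext hg'⟩

theorem exists_closed_eq (hF : IsEssFree F.hom) {Y : Over S} (u v : X ⊗ F ⟶ Y) (h : NearDiag u v) :
    ∃ (Z : Over S) (z : Z ⟶ X), IsClosedImmersion z.left ∧ (∀ (T : Over S) (g : T ⟶ X),
      (∃ g' : T ⟶ Z, g' ≫ z = g) ↔
        ∀ (T' : Over S) (t : T' ⟶ T) (a : T' ⟶ F), lift (t ≫ g) a ≫ u = lift (t ≫ g) a ≫ v) ∧
      (QuasiCompact F.hom → LocallyOfFiniteType Y.hom → LocallyOfFinitePresentation z.left) := by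
  obtain ⟨E, j, hj, hE, hjfp⟩ := exists_eqLocus' u v h
  obtain ⟨Z, z, hz, hZ, hfp⟩ := exists_closed_over hF j
  exact ⟨Z, z, hz, fun T g => (hZ T g).trans ⟨fun h T' t a => (hE _ _).1 (h T' t a),
    fun h T' t a => (hE _ _).2 (h T' t a)⟩, fun hq hY => hfp hq (hjfp hY)⟩

end Groth.Agent.HopfRep.EssFree

end
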