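import Groth.Agent.HopfRep.AntiAffine
import Groth.Agent.HopfRep.CentralDescent
import Groth.Agent.HopfRep.GrpTop
import Groth.Agent.HensPoint.GeomUniTop

/-!
Equivariant étale morphisms reflect fixed points of groups with connected fibres.
-/

universe u

open CategoryTheory MonoidalCategory CartesianMonoidalCategory MonObj AlgebraicGeometry Limits

noncomputable section

namespace Groth.Agent.HopfRep.EtaleFixed

/-- A group scheme with connected fibres has geometrically connected fibres. -/
theorem geometricallyConnected {S : Scheme.{u}} (G : Over S) [GrpObj G]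
    (hconn : ∀ s : S, ConnectedSpace (G.hom.fiber s)) : GeometricallyConnected G.hom := by
  refine CentralDescent.geometricallyConnected fun s => ?_
  let N : Over (Spec (CommRingCat.of (S.residueField s))) := Red.bc (S.fromSpecResidueField s) G
  have : ConnectedSpace N.left := hconn s
  have h1 := AntiAffine.connectedSpace_closure_tensor (N := N) η[N]
  let c := Spec.map (CommRingCat.ofHom (algebraMap (S.residueField s) (AlgebraicClosure (S.residueField s))))
  have h2 : ConnectedSpace ↥(pullback c (pullback.snd G.hom (S.fromSpecResidueField s))) := h1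
  exact ((pullbackSymmetry _ _ ≪≫ pullbackLeftPullbackSndIso G.hom (S.fromSpecResidueField s) c).hom.homeomorph.connectedSpace_iff).1 h2

/-- Equivariant étale morphisms reflect fixed points. -/
theorem fixed_of_etale {S : Scheme.{u}} {G X Y : Over S} [GrpObj G]
    (hconn : ∀ s : S, ConnectedSpace (G.hom.fiber s)) (a : AlgGrp.Action G X) (b : AlgGrp.Action G Y) (f : X ⟶ Y)
    [Etale f.left] (hf : a.act ≫ f = (G ◁ f) ≫ b.act) {T : Over S} (x : T ⟶ X)
    (hx : ∀ (T' : Over S) (t : T' ⟶ T) (g : T' ⟶ G), lift g (t ≫ x ≫ f) ≫ b.act = t ≫ x ≫ f) :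
    (G ◁ x) ≫ a.act = snd G T ≫ x := by
  let u1 := (G ◁ x) ≫ a.act
  let u2 := snd G T ≫ x
  have h0 : u1 ≫ f = u2 ≫ f := by
    show ((G ◁ x) ≫ a.act) ≫ f = (snd G T ≫ x) ≫ f
    rw [Category.assoc, hf, ← Category.assoc, ← MonoidalCategory.whiskerLeft_comp, Category.assoc,
      ← hx _ (snd G T) (fst G T)]
    congr 1
  let P := (G ⊗ T).left
  let w : P ⟶ pullback f.left f.left := pullback.lift u1.left u2.left (congrArg Over.Hom.left h0)
  let δ := pullback.diagonal f.left
  have : IsOpenImmersion δ := inferInstance
  suffices hr : ∀ p : P, w p ∈ Set.range δ by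
    let l := IsOpenImmersion.lift δ w (Set.range_subset_iff.2 hr)
    have hl : l ≫ δ = w := IsOpenImmersion.lift_fac _ _ _
    ext1
    show u1.left = u2.left
    have e1 : w ≫ pullback.fst _ _ = u1.left := pullback.lift_fst _ _ _
    have e2 : w ≫ pullback.snd _ _ = u2.left := pullback.lift_snd _ _ _
    rw [← e1, ← e2, ← hl, Category.assoc, Category.assoc, pullback.diagonal_fst, pullback.diagonal_snd]
  have := geometricallyConnected G hconn
  have : GeometricallyConnected (snd G T).left :=
    MorphismProperty.of_isPullback (P := @GeometricallyConnected) (Torsor.isPullback_fst G T) this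
  let e : T ⟶ G ⊗ T := lift (toUnit T ≫ η[G]) (𝟙 T)
  have he1 : e ≫ u1 = x := by
    show lift (toUnit T ≫ η[G]) (𝟙 T) ≫ (G ◁ x) ≫ a.act = x
    rw [← Category.assoc, lift_whiskerLeft, Category.id_comp]
    have h3 : lift (toUnit T ≫ η[G]) x = lift (toUnit T) x ≫ η[G] ▷ X := by simp
    rw [h3, Category.assoc, a.one_act]
    simp
  have he2 : e ≫ u2 = x := by simp [e, u2]
  have hew : e.left ≫ w = x.left ≫ δ := by
    apply pullback.hom_ext
    · rw [Category.assoc, Category.assoc, pullback.diagonal_fst, pullback.lift_fst, Category.comp_id,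
        ← Over.comp_left, he1]
    · rw [Category.assoc, Category.assoc, pullback.diagonal_snd, pullback.lift_snd, Category.comp_id,
        ← Over.comp_left, he2]
  let π : pullback f.left f.left ⟶ Y.left := pullback.fst _ _ ≫ f.left
  have hπ : w ≫ π = (snd G T).left ≫ (x ≫ f).left := by
    show w ≫ _ ≫ _ = _
    rw [← Category.assoc, pullback.lift_fst, ← Over.comp_left, h0, ← Over.comp_left]
    simp [u2]
  intro p
  let t := (snd G T).left p
  have hsub : ∀ q ∈ (snd G T).left ⁻¹' {t}, w q ∈ π ⁻¹' {(x ≫ f).left t} := by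
    intro q hq
    show π (w q) = _
    rw [← Scheme.Hom.comp_apply, hπ, Scheme.Hom.comp_apply, show (snd G T).left q = t from hq]
  have : LocallyQuasiFinite π := HensPoint.GeomUniTop.locallyQuasiFinite π
  have hd : _root_.IsDiscrete (π ⁻¹' {(x ≫ f).left t}) := π.isDiscrete_preimage_singleton _
  have hc := (snd G T).left.isConnected_preimage_singleton t
  have het : (snd G T).left (e.left t) = t := by
    rw [← Scheme.Hom.comp_apply, ← Over.comp_left, show e ≫ snd G T = 𝟙 T from lift_snd _ _]
    rfl
  have hp : w p = w (e.left t) :=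
    hc.isPreconnected.constant_of_mapsTo (f := w) hd w.continuous.continuousOn hsub rfl het
  exact ⟨x.left t, by rw [hp]; exact (congrArg (fun g : T.left ⟶ _ => g t) hew).symm⟩

end Groth.Agent.HopfRep.EtaleFixed

end
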