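import Groth.Agent.HopfRep.TraceEtale
import Groth.Agent.Flat.FibreScheme
import Mathlib.AlgebraicGeometry.Group.Affine
import Mathlib.AlgebraicGeometry.Morphisms.FlatRank
import Mathlib.AlgebraicGeometry.Morphisms.QuasiFinite

/-!
Finite (or quasi-finite) flat group schemes whose rank is invertible on the base are étale.
-/

universe u

open CategoryTheory CategoryTheory.Limits AlgebraicGeometry MonObj

noncomputable section

namespace Groth.Agent.HopfRep.EtaleRank

theorem respectsIso_etale : MorphismProperty.RespectsIso @Etale.{u} :=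
  MorphismProperty.IsStableUnderBaseChange.respectsIso

set_option backward.isDefEq.respectTransparency false in
theorem etale_field {K : Type u} [Field K] (G : Over (Spec (CommRingCat.of K))) [GrpObj G] [IsFinite G.hom]
    (x : ↥(Spec (CommRingCat.of K))) (h : (G.hom.finrank x : K) ≠ 0) : Etale G.hom := by
  letI : G.left.Over (Spec (CommRingCat.of K)) := ⟨G.hom⟩
  letI : GrpObj (G.left.asOver (Spec (CommRingCat.of K))) := ‹GrpObj G›
  haveI : IsAffine G.left := isAffine_of_isAffineHom G.hom
  let A := Γ(G.left, ⊤)
  letI : HopfAlgebra K A := instHopfAlgebraCarrierObjOppositeOpensCarrierCarrierCommRingCatPresheafOpOpensTopOfGrpObjOverSchemeSpecAsOverOfIsAffine (R := CommRingCat.of K) (G := G.left)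
  have e : G.hom = G.left.isoSpec.hom ≫ Spec.map (CommRingCat.ofHom (algebraMap K A)) := by
    rw [← Iso.inv_comp_eq]
    have hp := Spec.fullyFaithful.map_preimage (X := Opposite.op A) (Y := Opposite.op (CommRingCat.of K))
      (G.left.isoSpec.inv ≫ G.hom)
    exact hp.symm.trans rfl
  have hfin : Module.Finite K A := by
    have h1 : IsFinite (Spec.map (CommRingCat.ofHom (algebraMap K A))) :=
      (MorphismProperty.cancel_left_of_respectsIso @IsFinite G.left.isoSpec.hom _).1 (e ▸ ‹IsFinite G.hom›)
    rw [IsFinite.SpecMap_iff] at h1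
    exact RingHom.finite_algebraMap.1 h1
  have hr : G.hom.finrank x = Module.finrank K A := by
    haveI : IsFinite (Spec.map (CommRingCat.ofHom (algebraMap K A))) :=
      (IsFinite.SpecMap_iff _).2 (RingHom.finite_algebraMap.2 hfin)
    haveI : Flat (Spec.map (CommRingCat.ofHom (algebraMap K A))) :=
      Flat.SpecMap_iff.2 (RingHom.flat_algebraMap_iff.2 inferInstance)
    rw [e, Scheme.Hom.finrank_comp_left_of_isIso, Scheme.Hom.finrank_SpecMap_algebraMap,
      Module.rankAtStalk_eq_finrank_of_free]
    rfl
  have het : Algebra.Etale K A := TraceEtale.etale_of_finrank_ne_zero (by rwa [hr] at h)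
  rw [e]
  have := respectsIso_etale.{u}
  apply (MorphismProperty.cancel_left_of_respectsIso @Etale G.left.isoSpec.hom _).2
  rw [HasRingHomProperty.Spec_iff (P := @Etale)]
  exact RingHom.etale_algebraMap.2 het

set_option backward.isDefEq.respectTransparency.types false in
theorem etale_of_finite_fibres {S : Scheme.{u}} (G : Over S) [GrpObj G] [Flat G.hom]
    [LocallyOfFinitePresentation G.hom] (hf : ∀ s : S, IsFinite (pullback.snd G.hom (S.fromSpecResidueField s)))
    (h : ∀ s : S, ∃ x : ↥(Spec (S.residueField s)),
      ((pullback.snd G.hom (S.fromSpecResidueField s)).finrank x : S.residueField s) ≠ 0) :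
    Etale G.hom := by
  refine Flat.FibreScheme.etale_of_fibres (𝟙 S) G.hom G.hom (Category.comp_id _) fun s => ?_
  have h0 : Etale (pullback.snd G.hom (S.fromSpecResidueField s)) := by
    letI : GrpObj (Over.mk G.hom) := ‹GrpObj G›
    letI : GrpObj (Over.mk (pullback.snd G.hom (S.fromSpecResidueField s))) := Over.grpObjMkPullbackSnd
    haveI : IsFinite (Over.mk (pullback.snd G.hom (S.fromSpecResidueField s))).hom := hf s
    obtain ⟨x, hx⟩ := h s
    exact etale_field (K := S.residueField s) (Over.mk (pullback.snd G.hom (S.fromSpecResidueField s))) x hx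
  have hk : pullback.snd (𝟙 S) (S.fromSpecResidueField s) ≫ S.fromSpecResidueField s =
      (𝟙 S : S ⟶ S).fiberι s := by
    rw [← pullback.condition, Category.comp_id]
    rfl
  rw [← hk]
  have := respectsIso_etale.{u}
  exact (MorphismProperty.cancel_left_of_respectsIso @Etale.{u}
    (pullbackLeftPullbackSndIso G.hom (S.fromSpecResidueField s)
      (pullback.snd (𝟙 S) (S.fromSpecResidueField s))).hom _).1
    (by
      erw [pullbackLeftPullbackSndIso_hom_snd]
      have := h0
      exact MorphismProperty.pullback_snd (P := @Etale.{u}) _ _ h0)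

theorem etale_of_locallyQuasiFinite {S : Scheme.{u}} (G : Over S) [GrpObj G] [LocallyQuasiFinite G.hom]
    [QuasiCompact G.hom] [Flat G.hom] [LocallyOfFinitePresentation G.hom]
    (h : ∀ (s : S) (x : ↥(Spec (S.residueField s))),
      ((pullback.snd G.hom (S.fromSpecResidueField s)).finrank x : S.residueField s) ≠ 0) :
    Etale G.hom :=
  etale_of_finite_fibres G (fun s => inferInstanceAs (IsFinite (G.hom.fiberToSpecResidueField s)))
    fun s => ⟨IsLocalRing.closedPoint _, h s _⟩

theorem etale_of_isFinite {S : Scheme.{u}} (G : Over S) [GrpObj G] [IsFinite G.hom] [Flat G.hom]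
    [LocallyOfFinitePresentation G.hom] (h : ∀ s : S, (G.hom.finrank s : S.residueField s) ≠ 0) : Etale G.hom :=
  etale_of_finite_fibres G (fun _ => inferInstance) fun s =>
    ⟨IsLocalRing.closedPoint _, by
      have e := Scheme.Hom.finrank_pullback_snd G.hom (S.fromSpecResidueField s)
        (IsLocalRing.closedPoint (S.residueField s))
      erw [e, Scheme.fromSpecResidueField_apply]
      exact h s⟩

end Groth.Agent.HopfRep.EtaleRank

end
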