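import Mathlib
import Groth.Agent.HopfRep.Coalg
import Groth.Agent.HopfRep.Corep
import Groth.Agent.HopfRep.HopfDim
import Groth.Agent.Flat.FlatAt

/-!
A commutative Hopf algebra over a field is faithfully flat over its Hopf subalgebras.
-/

universe u v w

open TensorProduct WithConv
open scoped Coalgebra

noncomputable section

namespace Groth.Agent.HopfRep.FaithFlat

open Groth.Agent.HopfRep.Coalg Groth.Agent.HopfRep.Order

theorem eq_zero_of_ker_le {R : Type u} [CommRing R] [IsLocalRing R] (hm : IsNilpotent (IsLocalRing.maximalIdeal R))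
    (A : Type v) [CommRing A] [Algebra R A] {M : Type w} [AddCommGroup M] [Module R M]
    [Module.Projective A (A ⊗[R] M)] {F : Type*} [AddCommGroup F] [Module R F] (φ : F →ₗ[R] M)
    (hφs : Function.Surjective φ) (hker : LinearMap.ker φ ≤ IsLocalRing.maximalIdeal R • ⊤)
    (hF : ∀ x : F, (1 : A) ⊗ₜ[R] x = 0 → x = 0) : ∀ x, φ x = 0 → x = 0 := by
  let m := IsLocalRing.maximalIdeal R
  let Φ := φ.baseChange A
  have hΦs : Function.Surjective Φ := LinearMap.lTensor_surjective A hφs
  obtain ⟨s, hs⟩ := Module.projective_lifting_property Φ LinearMap.id hΦs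
  let e := LinearMap.id - s ∘ₗ Φ
  have hK : ∀ x, Φ x = 0 → x = 0 := by
    have hmem : LinearMap.range (e.restrictScalars R) ≤ m • LinearMap.range (e.restrictScalars R) := by
      rintro _ ⟨x, rfl⟩
      have hx : Φ (e x) = 0 := by
        simp only [e, LinearMap.sub_apply, LinearMap.id_apply, map_sub, LinearMap.comp_apply]
        rw [← LinearMap.comp_apply, hs, LinearMap.id_apply, sub_self]
      obtain ⟨y, hy⟩ := (lTensor_exact A (LinearMap.exact_subtype_ker_map φ) hφs (e x)).1 hx
      have hym : e x ∈ m • (⊤ : Submodule R (A ⊗[R] F)) := by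
        rw [← hy]
        clear hy
        induction y with
        | zero => simp
        | add p q hp hq => rw [map_add]; exact add_mem hp hq
        | tmul a z =>
          have hz := hker z.2
          rw [LinearMap.lTensor_tmul]
          have h' := Submodule.mem_map_of_mem (f := TensorProduct.mk R A _ a) hz
          rw [Submodule.map_smul''] at h'
          exact Submodule.smul_mono le_rfl le_top h'
      have hee : e (e x) = e x := by
        show e x - s (Φ (e x)) = e x
        rw [hx, map_zero, sub_zero]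
      have h2 := Submodule.mem_map_of_mem (f := e.restrictScalars R) hym
      rw [Submodule.map_smul'', Submodule.map_top] at h2
      show e.restrictScalars R x ∈ _
      rw [show e.restrictScalars R x = e.restrictScalars R (e x) from hee.symm]
      exact h2
    obtain ⟨c, hc⟩ := hm
    have hbot : LinearMap.range (e.restrictScalars R) = ⊥ := by
      have key : ∀ j, LinearMap.range (e.restrictScalars R) ≤ m ^ j • LinearMap.range (e.restrictScalars R) := by
        intro j
        induction j with
        | zero => rw [pow_zero, Ideal.one_eq_top, Submodule.top_smul]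
        | succ j ih =>
          refine ih.trans ?_
          rw [pow_succ, Submodule.mul_smul]
          exact Submodule.smul_mono le_rfl hmem
      simpa [m, hc] using key c
    intro x hx
    have h0 : e.restrictScalars R x = 0 := (Submodule.eq_bot_iff _).1 hbot _ ⟨x, rfl⟩
    simpa [e, hx] using h0
  intro x hx
  exact hF x (hK _ (by simp [Φ, hx]))

/-- Over an Artinian local ring, freeness descends along injective algebra maps. -/
theorem free_of_injective {R : Type u} [CommRing R] [IsLocalRing R] (hm : IsNilpotent (IsLocalRing.maximalIdeal R))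
    (A : Type v) [CommRing A] [Algebra R A] (hinj : Function.Injective (algebraMap R A))
    (M : Type w) [AddCommGroup M] [Module R M] [Module.Projective A (A ⊗[R] M)] : Module.Free R M := by
  classical
  let m := IsLocalRing.maximalIdeal R
  let κ := R ⧸ m
  let : Field κ := Ideal.Quotient.field m
  let π : M →ₗ[R] M ⧸ (m • ⊤ : Submodule R M) := Submodule.mkQ _
  let b := Module.Free.chooseBasis κ (M ⧸ (m • ⊤ : Submodule R M))
  choose v hv using fun i => Submodule.mkQ_surjective (m • ⊤ : Submodule R M) (b i)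
  let φ : (Module.Free.ChooseBasisIndex κ (M ⧸ (m • ⊤ : Submodule R M)) →₀ R) →ₗ[R] M := Finsupp.linearCombination R v
  have hnak : ∀ (W : Type w) [AddCommGroup W] [Module R W] (N : Submodule R W), N ⊔ m • ⊤ = ⊤ → N = ⊤ := by
    intro W _ _ N hN
    obtain ⟨c, hc⟩ := hm
    have key : ∀ j, N ⊔ m ^ j • ⊤ = ⊤ := by
      intro j
      induction j with
      | zero => rw [pow_zero, Ideal.one_eq_top, Submodule.top_smul, sup_top_eq]
      | succ j ih =>
        have h2 : m ^ j • (⊤ : Submodule R W) ≤ N ⊔ m ^ (j + 1) • ⊤ :=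
          calc m ^ j • (⊤ : Submodule R W) = m ^ j • (N ⊔ m • ⊤) := by rw [hN]
            _ = m ^ j • N ⊔ m ^ (j + 1) • ⊤ := by rw [Submodule.smul_sup, ← Submodule.mul_smul, ← pow_succ]
            _ ≤ N ⊔ m ^ (j + 1) • ⊤ := sup_le_sup_right Submodule.smul_le_right _
        exact eq_top_iff.2 (ih.ge.trans (sup_le le_sup_left h2))
    simpa [m, hc] using key c
  have hφs : Function.Surjective φ := by
    rw [← LinearMap.range_eq_top]
    refine hnak M _ (eq_top_iff.2 fun x _ => ?_)
    obtain ⟨y, hy⟩ : ∃ y, π (φ y) = π x := by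
      choose c hc using fun i => Ideal.Quotient.mk_surjective (b.repr (π x) i)
      refine ⟨∑ i ∈ (b.repr (π x)).support, Finsupp.single i (c i), ?_⟩
      conv_rhs => rw [← b.linearCombination_repr (π x), Finsupp.linearCombination_apply, Finsupp.sum]
      simp only [map_sum]
      refine Finset.sum_congr rfl fun i _ => ?_
      simp [φ, π, hv]
      show _ = b.repr (π x) i • b i
      rw [← hc]
      rfl
    rw [show x = φ y + (x - φ y) by abel]
    exact add_mem (Submodule.mem_sup_left ⟨y, rfl⟩)
      (Submodule.mem_sup_right ((Submodule.Quotient.eq _).1 hy.symm))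
  have hker : LinearMap.ker φ ≤ m • ⊤ := by
    intro x hx
    have h1 : ∑ i ∈ x.support, (Ideal.Quotient.mk m (x i)) • b i = 0 := by
      have h := congrArg π (LinearMap.mem_ker.1 hx)
      rw [map_zero] at h
      rw [← h]
      simp only [φ, Finsupp.linearCombination_apply, Finsupp.sum, map_sum, map_smul]
      refine Finset.sum_congr rfl fun i _ => ?_
      simp [π, hv]
    have h2 := linearIndependent_iff'.1 b.linearIndependent _ _ h1
    rw [← x.sum_single]
    refine Submodule.sum_mem _ fun i hi => ?_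
    rw [← Finsupp.smul_single_one]
    exact Submodule.smul_mem_smul (Ideal.Quotient.eq_zero_iff_mem.1 (h2 i hi)) Submodule.mem_top
  refine Module.Free.of_equiv (LinearEquiv.ofBijective φ
    ⟨(injective_iff_map_eq_zero φ).2 (eq_zero_of_ker_le hm A φ hφs hker ?_), hφs⟩)
  intro x h0
  have h1 := congrArg (TensorProduct.finsuppScalarRight R R A _) h0
  ext i
  have h2 := DFunLike.congr_fun h1 i
  simp at h2
  exact hinj (by simp [Algebra.algebraMap_eq_smul_one, h2])

theorem conv_inv {k : Type u} [Field k] {A : Type v} [CommRing A] [HopfAlgebra k A] {B : Type w} [CommRing B]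
    [Algebra k B] (f : A →ₐ[k] B) :
    toConv (f.comp (HopfAlgebra.antipodeAlgHom k A)) * toConv f = 1 ∧
      toConv f * toConv (f.comp (HopfAlgebra.antipodeAlgHom k A)) = 1 := by
  have h1 : toConv (f.comp (1 : WithConv (A →ₐ[k] A)).ofConv) = 1 := by
    apply WithConv.ext
    apply AlgHom.ext
    intro a
    simp [AlgHom.convOne_def]
  have hS : toConv (AlgHom.id k A) * toConv (HopfAlgebra.antipodeAlgHom k A) = 1 :=
    mul_eq_one_comm.1 AlgHom.antipode_id_cancel |> id
  constructor
  · rw [← h1, ← AlgHom.antipode_id_cancel, AlgHom.comp_convMul_distrib]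
    simp
  · rw [← h1, ← hS, AlgHom.comp_convMul_distrib]
    simp

theorem conv_cancel {k : Type u} [Field k] {A : Type v} [CommRing A] [HopfAlgebra k A] {B : Type w} [CommRing B]
    [Algebra k B] (f g : A →ₐ[k] B) :
    (toConv f * (toConv (f.comp (HopfAlgebra.antipodeAlgHom k A)) * toConv g)).ofConv = g ∧
      (toConv (f.comp (HopfAlgebra.antipodeAlgHom k A)) * (toConv f * toConv g)).ofConv = g := by
  rw [← mul_assoc, ← mul_assoc, (conv_inv f).1, (conv_inv f).2, one_mul]
  exact ⟨rfl, rfl⟩

section sub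

variable {k : Type u} [Field k] {A : Type v} [CommRing A] [HopfAlgebra k A] (S : Subalgebra k A)

/-- `A ⊗_S A ≅ A ⊗ A/S⁺A` is free over `A`. -/
theorem free_tensor (hΔ : IsSubcoalg k (Subalgebra.toSubmodule S)) : Module.Free A (A ⊗[S] A) := by
  let J : Ideal A := Ideal.span {a | a ∈ S ∧ Coalgebra.counit (R := k) a = 0}
  let π : A →ₐ[k] A ⧸ J := Ideal.Quotient.mkₐ k J
  have hπ : ∀ s ∈ S, π s = algebraMap k (A ⧸ J) (Coalgebra.counit (R := k) s) := by
    intro s hs
    rw [← π.commutes]
    exact Ideal.Quotient.eq.2 (Ideal.subset_span ⟨sub_mem hs (S.algebraMap_mem _), by simp⟩)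
  let L' : A →ₐ[k] A ⊗[k] (A ⧸ J) := Algebra.TensorProduct.includeLeft
  let R' : A →ₐ[k] A ⊗[k] (A ⧸ J) := Algebra.TensorProduct.includeRight.comp π
  let δ : A →ₐ[k] A ⊗[k] (A ⧸ J) := (toConv L' * toConv R').ofConv
  have hδ : ∀ s ∈ S, δ s = s ⊗ₜ[k] (1 : A ⧸ J) := by
    intro s hs
    obtain ⟨y, hy⟩ := hΔ s hs
    have e1 : δ s = Algebra.TensorProduct.map (AlgHom.id k A) π (Coalgebra.comul (R := k) s) := by
      simp only [δ, L', R', AlgHom.convMul_apply]
      generalize Coalgebra.comul (R := k) s = z
      induction z with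
      | zero => simp
      | add p q hp hq => simp only [map_add, hp, hq]
      | tmul p q => simp
    rw [e1, ← hy]
    have e2 : ∀ y, Algebra.TensorProduct.map (AlgHom.id k A) π
        (TensorProduct.map (Subalgebra.toSubmodule S).subtype (Subalgebra.toSubmodule S).subtype y) =
        ((TensorProduct.rid k A) ((Coalgebra.counit (R := k) (A := A)).lTensor A
          (TensorProduct.map (Subalgebra.toSubmodule S).subtype (Subalgebra.toSubmodule S).subtype y))) ⊗ₜ[k] (1 : A ⧸ J) := by
      intro y
      induction y with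
      | zero => simp
      | add p q hp hq => simp only [map_add, hp, hq, TensorProduct.add_tmul]
      | tmul p q =>
        simp [hπ (q : A) q.2, Algebra.algebraMap_eq_smul_one, TensorProduct.smul_tmul']
    rw [e2, hy]
    simp
  let Θ : A ⊗[S] A →ₐ[S] A ⊗[k] (A ⧸ J) := Algebra.TensorProduct.lift
    ((Algebra.TensorProduct.includeLeft : A →ₐ[A] A ⊗[k] (A ⧸ J)).restrictScalars S)
    { δ.toRingHom with
      commutes' := fun s => by
        show δ (s : A) = (algebraMap S A s) ⊗ₜ[k] (1 : A ⧸ J)
        exact hδ (s : A) s.2 } (fun _ _ => Commute.all _ _)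
  let L : A →ₐ[k] A ⊗[S] A := (Algebra.TensorProduct.includeLeft : A →ₐ[S] A ⊗[S] A).restrictScalars k
  let R : A →ₐ[k] A ⊗[S] A := (Algebra.TensorProduct.includeRight : A →ₐ[S] A ⊗[S] A).restrictScalars k
  let ω : A →ₐ[k] A ⊗[S] A := (toConv (L.comp (HopfAlgebra.antipodeAlgHom k A)) * toConv R).ofConv
  have hωJ : ∀ a ∈ J, ω a = 0 := by
    have h : J ≤ RingHom.ker ω := Ideal.span_le.2 (by
      rintro s ⟨hs, hs0⟩
      rw [SetLike.mem_coe, RingHom.mem_ker]
      obtain ⟨y, hy⟩ := hΔ s hs
      have h1 : (toConv (L.comp (HopfAlgebra.antipodeAlgHom k A)) * toConv L).ofConv s = 0 := by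
        rw [(conv_inv L).1, AlgHom.convOne_apply, hs0, map_zero]
      rw [← h1]
      simp only [ω, AlgHom.convMul_apply, ← hy]
      clear hy h1
      induction y with
      | zero => simp
      | add p q hp hq => simp only [map_add, hp, hq]
      | tmul p q =>
        have : (1 : A) ⊗ₜ[S] (q : A) = (q : A) ⊗ₜ[S] (1 : A) := by
          have := TensorProduct.smul_tmul (R := S) (⟨(q : A), q.2⟩ : S) (1 : A) (1 : A)
          simpa [Subalgebra.smul_def] using this.symm
        simp [L, R, this])
    exact fun a ha => h ha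
  let Ξ : A ⊗[k] (A ⧸ J) →ₐ[k] A ⊗[S] A :=
    Algebra.TensorProduct.lift L (Ideal.Quotient.liftₐ J ω hωJ) (fun _ _ => Commute.all _ _)
  have hΞL : Ξ.comp L' = L := by
    ext a
    simp [Ξ, L']
  have hΞR : Ξ.comp R' = ω := by
    ext a
    simp [Ξ, R', π]
  have hΞδ : Ξ.comp δ = R := by
    show Ξ.comp (toConv L' * toConv R').ofConv = R
    rw [AlgHom.comp_convMul_distrib]
    simp only [hΞL, hΞR]
    exact (conv_cancel L R).1
  let Θk : A ⊗[S] A →ₐ[k] A ⊗[k] (A ⧸ J) := Θ.restrictScalars k
  have hΘL : Θk.comp L = L' := by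
    ext a
    show Θ (a ⊗ₜ[S] (1 : A)) = _
    refine (Algebra.TensorProduct.lift_tmul _ _ _ a (1 : A)).trans ?_
    show (a ⊗ₜ[k] (1 : A ⧸ J)) * δ 1 = _
    rw [map_one, mul_one]
    rfl
  have hΘR : Θk.comp R = δ := by
    ext a
    show Θ ((1 : A) ⊗ₜ[S] a) = _
    refine (Algebra.TensorProduct.lift_tmul _ _ _ (1 : A) a).trans ?_
    show ((1 : A) ⊗ₜ[k] (1 : A ⧸ J)) * δ a = _
    rw [← Algebra.TensorProduct.one_def, one_mul]
  have hΘω : Θk.comp ω = R' := by
    show Θk.comp (toConv (L.comp (HopfAlgebra.antipodeAlgHom k A)) * toConv R).ofConv = R'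
    rw [AlgHom.comp_convMul_distrib]
    simp only [← AlgHom.comp_assoc, hΘL, hΘR]
    simp only [δ, toConv_ofConv]
    exact (conv_cancel L' R').2
  have h1 : Θk.comp Ξ = AlgHom.id k _ := by
    refine Algebra.TensorProduct.ext ?_ ?_
    · ext a
      have := DFunLike.congr_fun hΘL a
      simpa [Ξ, L, L'] using this
    · refine AlgHom.ext fun b => ?_
      obtain ⟨a, rfl⟩ := Ideal.Quotient.mk_surjective b
      have := DFunLike.congr_fun hΘω a
      simpa [Ξ, R', π] using this
  have h2 : ∀ z, Ξ (Θk z) = z := by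
    intro z
    induction z with
    | zero => simp
    | add p q hp hq => simp only [map_add, hp, hq]
    | tmul a c =>
      have e : a ⊗ₜ[S] c = L a * R c := by simp [L, R]
      have e1 := DFunLike.congr_fun hΞL a
      have e2 := DFunLike.congr_fun hΞδ c
      have e3 := DFunLike.congr_fun hΘL a
      have e4 := DFunLike.congr_fun hΘR c
      simp only [AlgHom.comp_apply] at e1 e2 e3 e4
      rw [e, map_mul, map_mul, e3, e4, e1, e2]
  let E : A ⊗[k] (A ⧸ J) ≃ₐ[A] A ⊗[S] A :=
    { toFun := Ξ
      invFun := Θk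
      left_inv := fun z => DFunLike.congr_fun h1 z
      right_inv := h2
      map_mul' := map_mul Ξ
      map_add' := map_add Ξ
      commutes' := fun a => by simp [Ξ, L] }
  exact Module.Free.of_equiv E.toLinearEquiv

end sub

section flatMin

variable {k : Type u} [Field k] {A : Type v} [CommRing A] [HopfAlgebra k A] (S : Subalgebra k A)

open Groth.Agent.Flat.FlatAt in
theorem flatAt_of_minimal' {B C : Type v} [CommRing B] [CommRing C] [Algebra B C] [IsNoetherianRing B]
    (hinjC : Function.Injective (algebraMap B C)) (hfree : Module.Free C (C ⊗[B] C))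
    (q : Ideal B) [q.IsPrime] (hq : q ∈ minimalPrimes B)
    (Q : Ideal C) [Q.IsPrime] (hQ : Q.comap (algebraMap B C) = q) : FlatAt B C Q := by
  let R := Localization.AtPrime q
  have : Ring.KrullDimLE 0 R := by
    rw [Ring.krullDimLE_iff, IsLocalization.AtPrime.ringKrullDim_eq_height q]
    rw [show q.height = 0 from Ideal.height_eq_zero_iff.2 hq]
    rfl
  have : IsArtinianRing R := IsNoetherianRing.isArtinianRing_of_krullDimLE_zero
  let C' := R ⊗[B] C
  have hinj : Function.Injective (algebraMap R C') := by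
    have h := Module.Flat.lTensor_preserves_injective_linearMap (M := R) (Algebra.linearMap B C) hinjC
    intro x y hxy
    have : (Algebra.linearMap B C).lTensor R ((TensorProduct.rid B R).symm x) =
        (Algebra.linearMap B C).lTensor R ((TensorProduct.rid B R).symm y) := by
      rw [TensorProduct.rid_symm_apply, TensorProduct.rid_symm_apply, LinearMap.lTensor_tmul, LinearMap.lTensor_tmul,
        Algebra.linearMap_apply, map_one]
      exact hxy
    exact (TensorProduct.rid B R).symm.injective (h this)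
  have : Module.Free C' (C' ⊗[R] (R ⊗[B] C)) := by
    let : Algebra C C' := Algebra.TensorProduct.rightAlgebra
    exact Module.Free.of_equiv ((TensorProduct.AlgebraTensorModule.cancelBaseChange B C C' C' C).trans
      (TensorProduct.AlgebraTensorModule.cancelBaseChange B R C' C' C).symm)
  have : Module.Free R C' := free_of_injective (IsArtinianRing.isNilpotent_jacobson_bot.imp fun n h => by
      rwa [IsLocalRing.jacobson_eq_maximalIdeal (⊥ : Ideal R) (fun h1 => one_ne_zero ((Ideal.eq_top_iff_one _).1 h1))] at h) C' hinj C'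
  have : Module.Flat B C' := Module.Flat.trans B R C'
  intro P P' _ _ _ _ f hf x hx
  have hinj' := Module.Flat.lTensor_preserves_injective_linearMap (M := C') f hf
  let e : ∀ (W : Type v) [AddCommGroup W] [Module B W], C' ⊗[B] W ≃ₗ[B] R ⊗[B] (C ⊗[B] W) :=
    fun W _ _ => TensorProduct.assoc B R C W
  have hnat : ∀ z, f.lTensor C' ((e P).symm z) = (e P').symm ((f.lTensor C).lTensor R z) := by
    intro z
    induction z with
    | zero => simp
    | add p r hp hr => simp only [map_add, hp, hr]
    | tmul c w =>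
      induction w with
      | zero => simp
      | add p r hp hr => simp only [tmul_add, map_add, hp, hr]
      | tmul a p => simp [e]; rfl
  have h0 : (1 : R) ⊗ₜ[B] x = 0 := by
    apply (e P).symm.injective
    apply hinj'
    rw [hnat, LinearMap.lTensor_tmul, hx, tmul_zero, map_zero, map_zero, map_zero]
  obtain ⟨t, ht⟩ := (IsLocalizedModule.eq_zero_iff q.primeCompl (TensorProduct.mk B R (C ⊗[B] P) 1)).1 h0
  refine ⟨algebraMap B C t, fun h => t.2 (hQ ▸ h), ?_⟩
  rw [← ht]
  exact (algebraMap_smul C (t : B) x)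

open Groth.Agent.Flat.FlatAt in
theorem flatAt_of_minimal [IsNoetherianRing S] (hΔ : IsSubcoalg k (Subalgebra.toSubmodule S))
    (q : Ideal S) [q.IsPrime] (hq : q ∈ minimalPrimes S)
    (Q : Ideal A) [Q.IsPrime] (hQ : Q.comap S.val.toRingHom = q) : FlatAt S A Q :=
  flatAt_of_minimal' Subtype.val_injective (free_tensor S hΔ) q hq Q hQ

open Groth.Agent.Flat.FlatAt in
theorem flatAt_translate (τ : A ≃ₐ[k] A) (h1 : ∀ s ∈ S, τ s ∈ S) (h2 : ∀ s ∈ S, τ.symm s ∈ S)
    (Q : Ideal A) [Q.IsPrime] (h : FlatAt S A Q) : FlatAt S A (Q.comap τ.symm.toAlgHom) := by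
  let Q' := Q.comap τ.symm.toAlgHom
  have : Q'.IsPrime := Ideal.comap_isPrime _ _
  rw [flatAt_iff Q (Algebra.linearMap A (Localization.AtPrime Q))] at h
  show FlatAt S A Q'
  rw [flatAt_iff Q' (Algebra.linearMap A (Localization.AtPrime Q'))]
  rw [← RingHom.flat_algebraMap_iff] at h ⊢
  let σ : S ≃+* S :=
    { toFun := fun s => ⟨τ.symm s, h2 s s.2⟩
      invFun := fun s => ⟨τ s, h1 s s.2⟩
      left_inv := fun s => by simp
      right_inv := fun s => by simp
      map_mul' := fun a b => by ext; simp
      map_add' := fun a b => by ext; simp }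
  have hmap : Q.primeCompl.map τ.toRingEquiv.toMonoidHom = Q'.primeCompl := by
    ext a
    constructor
    · rintro ⟨b, hb, rfl⟩ h
      exact hb (by simpa [Q'] using h)
    · intro ha
      exact ⟨τ.symm a, fun h => ha h, by simp⟩
  let e := IsLocalization.ringEquivOfRingEquiv (Localization.AtPrime Q) (Localization.AtPrime Q') τ.toRingEquiv hmap
  have key : algebraMap S (Localization.AtPrime Q') =
      (e.toRingHom.comp (algebraMap S (Localization.AtPrime Q))).comp σ.toRingHom := by
    refine RingHom.ext fun s => ?_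
    rw [IsScalarTower.algebraMap_apply S A (Localization.AtPrime Q')]
    show _ = e (algebraMap S (Localization.AtPrime Q) (σ s))
    rw [IsScalarTower.algebraMap_apply S A (Localization.AtPrime Q)]
    simp [e, σ]
  rw [key]
  exact (RingHom.Flat.of_bijective σ.bijective).comp (h.comp (RingHom.Flat.of_bijective e.bijective))

end flatMin

section algClosed

variable {K : Type u} [Field K] [IsAlgClosed K] {A : Type v} [CommRing A] [HopfAlgebra K A]
  [Algebra.FiniteType K A] (S : Subalgebra K A)

theorem tr_eq_lt (g : WithConv (A →ₐ[K] K)) (a : A) : tr g a = lt K g.ofConv.toLinearMap a := by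
  show (cst g * toConv (AlgHom.id K A)).ofConv a = Flag.dcontr A _ (Coalgebra.comul (R := K) a)
  rw [AlgHom.convMul_apply]
  generalize Coalgebra.comul (R := K) a = z
  induction z with
  | zero => simp
  | add p q hp hq => simp only [map_add, hp, hq]
  | tmul p q => simp [cst, Algebra.smul_def]

open Groth.Agent.Flat.FlatAt Groth.Agent.HopfRep.HopfDim in
theorem flat_of_isAlgClosed (hΔ : IsSubcoalg K (Subalgebra.toSubmodule S)) [Algebra.FiniteType K S] :
    Module.Flat S A := by
  have hnt : Nontrivial A := nontrivial_A K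
  have : IsNoetherianRing S := Algebra.FiniteType.isNoetherianRing K S
  have : IsNoetherianRing A := Algebra.FiniteType.isNoetherianRing K A
  have : Algebra.FiniteType S A := Algebra.FiniteType.of_restrictScalars_finiteType K S A
  have : IsJacobsonRing A := isJacobsonRing_of_finiteType (A := K)
  let W := {Q : PrimeSpectrum A | FlatAt S A Q.asIdeal}
  have hopen : IsOpen W := isOpen_flatLocus_noetherian
  have hne : W.Nonempty := by
    obtain ⟨q, hq⟩ := Ideal.nonempty_minimalPrimes (I := (⊥ : Ideal S)) bot_ne_top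
    have : q.IsPrime := hq.1.1
    obtain ⟨Q, hQ, hQc⟩ := Ideal.exists_comap_eq_of_mem_minimalPrimes_of_injective
      (f := S.val.toRingHom) Subtype.val_injective q hq
    exact ⟨⟨Q, hQ⟩, flatAt_of_minimal S hΔ q hq Q hQc⟩
  obtain ⟨x, hx, hxc⟩ := nonempty_inter_closedPoints hne hopen.isLocallyClosed
  have : x.asIdeal.IsMaximal := (PrimeSpectrum.isClosed_singleton_iff_isMaximal x).1 hxc
  have hpres : ∀ g : WithConv (A →ₐ[K] K), ∀ s ∈ S, trEquiv g s ∈ S ∧ (trEquiv g).symm s ∈ S := fun g s hs => by
    constructor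
    · show tr g s ∈ S
      rw [tr_eq_lt]
      exact (isSubcoalg_iff.1 hΔ).2 _ s hs
    · show tr g⁻¹ s ∈ S
      rw [tr_eq_lt]
      exact (isSubcoalg_iff.1 hΔ).2 _ s hs
  have hε : (RingHom.ker (Bialgebra.counitAlgHom K A)).IsMaximal :=
    RingHom.ker_isMaximal_of_surjective _ fun c => ⟨algebraMap K A c, (Bialgebra.counitAlgHom K A).commutes c⟩
  have hshift : ∀ M : Ideal A, M.IsMaximal → ∃ τ : A ≃ₐ[K] A, (∀ s ∈ S, τ s ∈ S ∧ τ.symm s ∈ S) ∧
      M.comap τ.symm.toAlgHom = RingHom.ker (Bialgebra.counitAlgHom K A) := by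
    intro M _
    obtain ⟨g, rfl⟩ := exists_point (K := K) M
    refine ⟨trEquiv (toConv g), hpres _, ?_⟩
    ext a
    show g ((trEquiv (toConv g)).symm a) = 0 ↔ Coalgebra.counit (R := K) a = 0
    have h := DFunLike.congr_fun (counit_tr (toConv g)) ((trEquiv (toConv g)).symm a)
    rw [show g ((trEquiv (toConv g)).symm a) =
      Coalgebra.counit (R := K) (trEquiv (toConv g) ((trEquiv (toConv g)).symm a)) from h.symm,
      AlgEquiv.apply_symm_apply]
  obtain ⟨τ, hτ, hτc⟩ := hshift x.asIdeal inferInstance
  have h0 : FlatAt S A (RingHom.ker (Bialgebra.counitAlgHom K A)) := by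
    rw [← hτc]
    exact flatAt_translate S τ (fun s hs => (hτ s hs).1) (fun s hs => (hτ s hs).2) _ hx
  refine Module.flat_of_isLocalized_maximal (R := S) A A (fun P _ => Localization.AtPrime P)
    (fun P _ => Algebra.linearMap A (Localization.AtPrime P)) fun M hM => ?_
  obtain ⟨τ, hτ, hτc⟩ := hshift M hM
  have h1 := flatAt_translate S τ.symm (fun s hs => (hτ s hs).2) (fun s hs => (hτ s hs).1) _ h0
  refine (flatAt_iff (R := S) (M := A) M (Algebra.linearMap A (Localization.AtPrime M))).1 ?_
  convert h1
  rw [← hτc]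
  ext a
  simp

end algClosed

end Groth.Agent.HopfRep.FaithFlat

namespace Groth.Agent.HopfRep.FaithFlat

open Groth.Agent.HopfRep.Coalg Groth.Agent.HopfRep.Order

/-- Conditions for a Hopf subalgebra. -/
def IsHopfSub (k : Type u) [Field k] {A : Type v} [CommRing A] [HopfAlgebra k A] (S : Subalgebra k A) : Prop :=
  IsSubcoalg k (Subalgebra.toSubmodule S) ∧ ∀ b ∈ S, HopfAlgebraStruct.antipode (R := k) b ∈ S

section points

variable {K : Type u} [Field K] {A : Type v} [CommRing A] [HopfAlgebra K A] (S : Subalgebra K A)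

theorem conv_eq_on (hΔ : IsSubcoalg K (Subalgebra.toSubmodule S)) {φ φ' ψ ψ' : A →ₗ[K] K}
    (h1 : ∀ s ∈ S, φ s = φ' s) (h2 : ∀ s ∈ S, ψ s = ψ' s) (s : A) (hs : s ∈ S) :
    (toConv φ * toConv ψ).ofConv s = (toConv φ' * toConv ψ').ofConv s := by
  obtain ⟨y, hy⟩ := hΔ s hs
  show LinearMap.mul' K K (TensorProduct.map φ ψ (Coalgebra.comul (R := K) s)) =
    LinearMap.mul' K K (TensorProduct.map φ' ψ' (Coalgebra.comul (R := K) s))
  rw [← hy]
  clear hy
  induction y with
  | zero => simp
  | add p q hp hq => simp only [map_add, hp, hq]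
  | tmul p q =>
    simp [show φ (p : A) = φ' p from h1 p p.2, show ψ (q : A) = ψ' q from h2 q q.2]

theorem algHom_lt (u : A →ₐ[K] K) (φ : A →ₗ[K] K) (a : A) :
    u (lt K φ a) = (toConv φ * toConv u.toLinearMap).ofConv a := by
  show u (Flag.dcontr A φ (Coalgebra.comul (R := K) a)) =
    LinearMap.mul' K K (TensorProduct.map φ u.toLinearMap (Coalgebra.comul (R := K) a))
  generalize Coalgebra.comul (R := K) a = z
  induction z with
  | zero => simp
  | add p q hp hq => simp only [map_add, hp, hq]
  | tmul p q => simp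

variable [IsAlgClosed K] [Algebra.FiniteType K A]

theorem exists_algHom_ext (hS : IsHopfSub K S) [Algebra.FiniteType K S] (y : S →ₐ[K] K) :
    ∃ g : A →ₐ[K] K, ∀ s : S, g (s : A) = y s := by
  classical
  have hfl := flat_of_isAlgClosed S hS.1
  have hnt : Nontrivial A := HopfDim.nontrivial_A K
  have : IsNoetherianRing S := Algebra.FiniteType.isNoetherianRing K S
  have : Algebra.FiniteType S A := Algebra.FiniteType.of_restrictScalars_finiteType K S A
  have : Algebra.FinitePresentation S A := Algebra.FinitePresentation.of_finiteType.mp inferInstance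
  let U := Set.range (PrimeSpectrum.comap (algebraMap S A))
  have hU : IsOpen U := (PrimeSpectrum.isOpenMap_comap_of_hasGoingDown_of_finitePresentation (R := S) (S := A)).isOpen_range
  obtain ⟨φ, hφ⟩ := LinearMap.exists_extend (p := Subalgebra.toSubmodule S) y.toLinearMap
  have hφ' : ∀ s, ∀ h : s ∈ S, φ s = y ⟨s, h⟩ := fun s h => DFunLike.congr_fun hφ ⟨s, h⟩
  have hmem := fun s (hs : s ∈ S) => (isSubcoalg_iff.1 hS.1).2 φ s hs
  -- the translation `lt φ` is multiplicative on `S`
  have hmul : ∀ s ∈ S, ∀ t ∈ S, lt K φ (s * t) = lt K φ s * lt K φ t := by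
    intro s hs t ht
    obtain ⟨a, ha⟩ := hS.1 s hs
    obtain ⟨b, hb⟩ := hS.1 t ht
    show Flag.dcontr A φ (Coalgebra.comul (R := K) (s * t)) =
      Flag.dcontr A φ (Coalgebra.comul (R := K) s) * Flag.dcontr A φ (Coalgebra.comul (R := K) t)
    rw [Bialgebra.comul_mul, ← ha, ← hb]
    clear ha hb
    induction a with
    | zero => simp
    | add p q hp hq => simp only [map_add, add_mul, hp, hq]
    | tmul p q =>
      induction b with
      | zero => simp
      | add c d hc hd => simp only [map_add, mul_add, hc, hd]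
      | tmul c d =>
        have h1 : φ ((p : A) * (c : A)) = φ (p : A) * φ (c : A) := by
          rw [hφ' _ (mul_mem p.2 c.2), hφ' _ p.2, hφ' _ c.2, ← map_mul]
          rfl
        simp [h1, smul_smul, mul_comm]
  have hφ1 : φ 1 = 1 := by rw [hφ' _ (one_mem S)]; exact map_one y
  let h : S →ₐ[K] A := AlgHom.ofLinearMap (lt K φ ∘ₗ (Subalgebra.toSubmodule S).subtype)
    (by
      show Flag.dcontr A φ (Coalgebra.comul (R := K) (1 : A)) = 1
      rw [Bialgebra.comul_one, Algebra.TensorProduct.one_def]
      simp [hφ1])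
    (fun a b => hmul a a.2 b b.2)
  have hy0 : y ⟨1, one_mem S⟩ = 1 := map_one y
  have hinj : Function.Injective h := by
    let φ' : A →ₗ[K] K := φ ∘ₗ HopfAlgebraStruct.antipode (R := K)
    have key : ∀ s ∈ S, lt K φ' (lt K φ s) = s := by
      intro s hs
      have e1 : lt K φ' (lt K φ s) = lt K (toConv φ * toConv φ').ofConv s := by
        show Flag.dcontr A φ' (Coalgebra.comul (R := K) (Flag.dcontr A φ (Coalgebra.comul (R := K) s))) =
          Flag.dcontr A (toConv φ * toConv φ').ofConv (Coalgebra.comul (R := K) s)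
        rw [← dcontr_lTensor, ← dcontr_lTensor (f := Flag.dcontr A φ'), ]
        rw [← Coalgebra.coassoc_apply (R := K)]
        generalize Coalgebra.comul (R := K) s = z
        induction z with
        | zero => simp
        | add p q hp hq => simp only [map_add, hp, hq]
        | tmul p q =>
          simp only [LinearMap.rTensor_tmul]
          show _ = Flag.dcontr A (toConv φ * toConv φ').ofConv (p ⊗ₜ[K] q)
          rw [Flag.dcontr_tmul]
          show _ = LinearMap.mul' K K (TensorProduct.map φ φ' (Coalgebra.comul (R := K) p)) • q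
          generalize Coalgebra.comul (R := K) p = w
          induction w with
          | zero => simp
          | add c d hc hd => simp only [map_add, TensorProduct.add_tmul, add_smul, hc, hd]
          | tmul c d => simp [smul_smul, mul_comm]
      have e2 : ∀ t ∈ S, (toConv φ * toConv φ').ofConv t = Coalgebra.counit (R := K) t := by
        intro t ht
        have h1 : (toConv φ * toConv φ').ofConv t =
            φ ((toConv (LinearMap.id (R := K) (M := A)) * toConv (HopfAlgebraStruct.antipode (R := K) (A := A))).ofConv t) := by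
          obtain ⟨a, ha⟩ := hS.1 t ht
          show LinearMap.mul' K K (TensorProduct.map φ φ' (Coalgebra.comul (R := K) t)) =
            φ (LinearMap.mul' K A (TensorProduct.map LinearMap.id (HopfAlgebraStruct.antipode (R := K))
              (Coalgebra.comul (R := K) t)))
          rw [← ha]
          clear ha
          induction a with
          | zero => simp
          | add p q hp hq => simp only [map_add, hp, hq]
          | tmul p q =>
            simp only [TensorProduct.map_tmul, LinearMap.mul'_apply, Submodule.coe_subtype, LinearMap.id_apply, φ',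
              LinearMap.comp_apply]
            rw [hφ' _ p.2, hφ' _ (hS.2 _ q.2), hφ' _ (mul_mem p.2 (hS.2 _ q.2)), ← map_mul]
            rfl
        rw [h1, show toConv (LinearMap.id (R := K) (M := A)) * toConv (HopfAlgebraStruct.antipode (R := K) (A := A)) = 1
          from LinearMap.id_mul_antipode, LinearMap.convOne_apply, Algebra.algebraMap_eq_smul_one, map_smul, hφ1,
          smul_eq_mul, mul_one]
      rw [e1]
      obtain ⟨a, ha⟩ := hS.1 s hs
      have e3 : lt K (toConv φ * toConv φ').ofConv s = lt K (Coalgebra.counit (R := K) (A := A)) s := by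
        show Flag.dcontr A _ (Coalgebra.comul (R := K) s) = Flag.dcontr A _ (Coalgebra.comul (R := K) s)
        rw [← ha]
        clear ha
        induction a with
        | zero => simp
        | add p q hp hq => simp only [map_add, hp, hq]
        | tmul p q => simp [e2 (p : A) p.2]
      rw [e3, lt_counit]
      rfl
    intro a b hab
    apply Subtype.ext
    rw [← key a a.2, ← key b b.2]
    exact congrArg (lt K φ') hab
  let h' : S →ₐ[K] S := AlgHom.codRestrict h S (fun s => hmem s s.2)
  have hh' : Function.Injective h' := fun a b hab => hinj (congrArg Subtype.val hab)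
  obtain ⟨q, hq⟩ := Ideal.nonempty_minimalPrimes (I := (⊥ : Ideal S)) bot_ne_top
  have : q.IsPrime := hq.1.1
  obtain ⟨Q, hQ, hQc⟩ := Ideal.exists_comap_eq_of_mem_minimalPrimes_of_injective
    (f := h.toRingHom) hinj q hq
  -- the preimage of the image of `Spec A` under `lt φ`
  let hA : PrimeSpectrum A → PrimeSpectrum S := PrimeSpectrum.comap h.toRingHom
  obtain ⟨Q0, hQ0, hQ0c⟩ := Ideal.exists_comap_eq_of_mem_minimalPrimes_of_injective
    (f := algebraMap S A) Subtype.val_injective q hq
  have hne : (hA ⁻¹' U).Nonempty := ⟨⟨Q, hQ⟩, ⟨⟨Q0, hQ0⟩, PrimeSpectrum.ext (hQ0c.trans hQc.symm)⟩⟩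
  have hJ : IsJacobsonRing A := isJacobsonRing_of_finiteType (A := K)
  obtain ⟨x, ⟨z, hz⟩, hxc⟩ := nonempty_inter_closedPoints hne
    (hU.preimage (PrimeSpectrum.continuous_comap h.toRingHom)).isLocallyClosed
  have : x.asIdeal.IsMaximal := (PrimeSpectrum.isClosed_singleton_iff_isMaximal x).1 hxc
  obtain ⟨u, hu⟩ := HopfDim.exists_point (K := K) x.asIdeal
  obtain ⟨M, hM, hMle⟩ := Ideal.exists_le_maximal z.asIdeal z.2.ne_top
  obtain ⟨g', hg'⟩ := HopfDim.exists_point (K := K) M
  have heq : ∀ s : S, u (h s) = g' (s : A) := by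
    intro s
    have hmax : (RingHom.ker (u.comp h)).IsMaximal :=
      RingHom.ker_isMaximal_of_surjective _ fun c => ⟨algebraMap K S c, (u.comp h).commutes c⟩
    have hle : RingHom.ker (u.comp h) ≤ RingHom.ker (g'.comp S.val) := by
      intro t ht
      have h1 : h t ∈ x.asIdeal := hu ▸ ht
      have h2 : t ∈ (PrimeSpectrum.comap (algebraMap S A) z).asIdeal := by rw [hz]; exact h1
      have h3 : (t : A) ∈ M := hMle h2
      rw [← hg'] at h3
      exact h3
    have h0 : u.comp h (s - algebraMap K S (u (h s))) = 0 := by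
      rw [map_sub, AlgHom.commutes]
      simp
    have h4 := hle (RingHom.mem_ker.2 h0)
    rw [RingHom.mem_ker, map_sub, AlgHom.commutes, sub_eq_zero] at h4
    simpa using h4.symm
  let ui := ((toConv u)⁻¹).ofConv
  refine ⟨(toConv g' * toConv ui).ofConv, fun s => ?_⟩
  have e : ∀ t : A, (toConv g' * toConv ui).ofConv t =
      (toConv g'.toLinearMap * toConv ui.toLinearMap).ofConv t := fun t =>
    DFunLike.congr_fun (congrArg WithConv.ofConv (AlgHom.toLinearMap_convMul (toConv g') (toConv ui))) t
  rw [e, conv_eq_on S hS.1 (φ' := (toConv φ * toConv u.toLinearMap).ofConv) (ψ' := ui.toLinearMap)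
    (fun t ht => ((algHom_lt u φ t).symm.trans (heq ⟨t, ht⟩)).symm) (fun _ _ => rfl) (s : A) s.2,
    toConv_ofConv, mul_assoc, show toConv u.toLinearMap * toConv ui.toLinearMap = 1 by
      rw [← AlgHom.toLinearMap_convOne (R := K) (C := A) (A := K), ← mul_inv_cancel (toConv u), AlgHom.toLinearMap_convMul]]
  exact (congrArg (fun F : WithConv (A →ₗ[K] K) => F.ofConv (s : A)) (mul_one (toConv φ))).trans (hφ' _ s.2)

theorem faithfullyFlat_of_isAlgClosed (hS : IsHopfSub K S) [Algebra.FiniteType K S] :
    Module.FaithfullyFlat S A := by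
  rw [Module.FaithfullyFlat.iff_flat_and_proper_ideal]
  refine ⟨flat_of_isAlgClosed S hS.1, fun I hI htop => ?_⟩
  obtain ⟨N, hN, hle⟩ := Ideal.exists_le_maximal I hI
  have : Module.Finite K (S ⧸ N) := by
    let : Field (S ⧸ N) := Ideal.Quotient.field N
    exact finite_of_finite_type_of_isJacobsonRing K (S ⧸ N)
  let e := AlgEquiv.ofBijective (Algebra.ofId K (S ⧸ N))
    (IsAlgClosed.algebraMap_bijective_of_isIntegral (k := K) (K := S ⧸ N))
  obtain ⟨g, hg⟩ := exists_algHom_ext S hS (e.symm.toAlgHom.comp (Ideal.Quotient.mkₐ K N))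
  have h1 : (1 : A) ∈ I • (⊤ : Submodule S A) := by rw [htop]; trivial
  have h2 : ∀ a ∈ I • (⊤ : Submodule S A), g a = 0 := by
    intro a ha
    induction ha using Submodule.smul_induction_on' with
    | smul r hr a _ =>
      have h3 : g (r : A) = 0 := by
        rw [hg r]
        show e.symm (Ideal.Quotient.mk N r) = 0
        rw [Ideal.Quotient.eq_zero_iff_mem.2 (hle hr), map_zero]
      rw [Subalgebra.smul_def, smul_eq_mul, map_mul, h3, zero_mul]
    | add p _ q _ hp hq => rw [map_add, hp, hq, add_zero]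
  exact one_ne_zero ((map_one g).symm.trans (h2 1 h1))

end points

end Groth.Agent.HopfRep.FaithFlat

namespace Groth.Agent.HopfRep.FaithFlat

open Groth.Agent.HopfRep.Coalg

section descent

variable {k : Type u} [Field k] {A : Type v} [CommRing A] [HopfAlgebra k A] [Algebra.FiniteType k A]

theorem faithfullyFlat_of_finiteType (S : Subalgebra k A) (hS : IsHopfSub k S) [Algebra.FiniteType k S] :
    Module.FaithfullyFlat S A := by
  let K := AlgebraicClosure k
  let f : K ⊗[k] S →ₐ[K] K ⊗[k] A := Algebra.TensorProduct.map (AlgHom.id K K) S.val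
  have hft : ∀ (c : K) (s : S), f (c ⊗ₜ[k] s) = c ⊗ₜ[k] (s : A) := fun c s => rfl
  have hfinj : Function.Injective f := by
    have h := Module.Flat.lTensor_preserves_injective_linearMap (M := K) S.val.toLinearMap Subtype.val_injective
    intro x y hxy
    refine h ?_
    have e : ∀ z, S.val.toLinearMap.lTensor K z = f z := fun z => by
      induction z with
      | zero => simp
      | add p q hp hq => simp only [map_add, hp, hq]
      | tmul c s => rfl
    rw [e, e, hxy]
  let T := f.range
  have hTm : ∀ (c : K) (s : A), s ∈ S → c ⊗ₜ[k] s ∈ T := fun c s hs => ⟨c ⊗ₜ ⟨s, hs⟩, rfl⟩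
  have hT : IsHopfSub K T := by
    refine ⟨?_, ?_⟩
    · rintro _ ⟨y, rfl⟩
      induction y with
      | zero => simp
      | add p q hp hq => simp only [map_add]; exact add_mem hp hq
      | tmul c s =>
        obtain ⟨z, hz⟩ := hS.1 (s : A) s.2
        show Coalgebra.comul (R := K) (f (c ⊗ₜ[k] s)) ∈ _
        rw [hft]
        simp only [TensorProduct.comul_tmul, CommSemiring.comul_apply, ← hz]
        clear hz
        induction z with
        | zero => simp
        | add p q hp hq => simp only [map_add, tmul_add]; exact add_mem hp hq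
        | tmul p q =>
          exact ⟨(⟨(1 : K) ⊗ₜ[k] (p : A), hTm 1 _ p.2⟩ : T) ⊗ₜ[K] (⟨c ⊗ₜ[k] (q : A), hTm c _ q.2⟩ : T), by simp⟩
    · rintro _ ⟨y, rfl⟩
      induction y with
      | zero => simp
      | add p q hp hq => simp only [map_add]; exact add_mem hp hq
      | tmul c s =>
        show HopfAlgebraStruct.antipode (R := K) (f (c ⊗ₜ[k] s)) ∈ T
        rw [hft]
        simp only [TensorProduct.antipode_def, TensorProduct.AlgebraTensorModule.map_tmul]
        exact hTm _ _ (hS.2 _ s.2)
  have : Algebra.FiniteType K T := Algebra.FiniteType.of_surjective f.rangeRestrict f.rangeRestrict_surjective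
  have hff := faithfullyFlat_of_isAlgClosed (K := K) T hT
  let eT : K ⊗[k] S ≃ₐ[K] T := AlgEquiv.ofInjective f hfinj
  obtain ⟨l, hl⟩ := LinearMap.exists_leftInverse_of_injective (LinearMap.toSpanSingleton k K 1)
    (LinearMap.ker_eq_bot.2 fun a b h => (algebraMap k K).injective (by simpa [Algebra.algebraMap_eq_smul_one] using h))
  have hl1 : l 1 = 1 := by simpa using DFunLike.congr_fun hl 1
  let r : K ⊗[k] A →ₗ[k] A := (TensorProduct.lid k A).toLinearMap ∘ₗ l.rTensor A
  have hr : ∀ (n : A) (z : K ⊗[k] A), r (((1 : K) ⊗ₜ[k] n) * z) = n * r z := by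
    intro n z
    induction z with
    | zero => simp
    | add p q hp hq => simp only [mul_add, map_add, hp, hq]
    | tmul c a => simp [r]
  have hrT : ∀ t ∈ T, r t ∈ S := by
    rintro _ ⟨y, rfl⟩
    induction y with
    | zero => simp
    | add p q hp hq => simp only [map_add]; exact add_mem hp hq
    | tmul c s =>
      show r (f (c ⊗ₜ[k] s)) ∈ S
      rw [hft]
      simpa [r] using S.smul_mem s.2 (l c)
  have hflat : Module.Flat S A := by
    let alg : Algebra S (K ⊗[k] A) :=
      ((Algebra.TensorProduct.includeRight : A →ₐ[k] K ⊗[k] A).toRingHom.comp (algebraMap S A)).toAlgebra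
    have hsm : ∀ (s : S) (z : K ⊗[k] A), s • z = ((1 : K) ⊗ₜ[k] (s : A)) * z := fun s z => rfl
    have : Module.Flat S (K ⊗[k] A) := by
      rw [← RingHom.flat_algebraMap_iff]
      have e : algebraMap S (K ⊗[k] A) = (algebraMap T (K ⊗[k] A)).comp
          (eT.toRingEquiv.toRingHom.comp ((Algebra.TensorProduct.comm k S K).toRingEquiv.toRingHom.comp
            (algebraMap S (S ⊗[k] K)))) := by
        ext s
        rfl
      rw [e]
      refine RingHom.Flat.comp (RingHom.Flat.comp (RingHom.Flat.comp ?_ (RingHom.Flat.of_bijective ?_))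
        (RingHom.Flat.of_bijective eT.bijective)) (RingHom.flat_algebraMap_iff.2 inferInstance)
      · exact RingHom.flat_algebraMap_iff.2 inferInstance
      · exact (Algebra.TensorProduct.comm k S K).bijective
    let i : A →ₗ[S] K ⊗[k] A :=
      { toFun := fun a => (1 : K) ⊗ₜ[k] a
        map_add' := fun a b => tmul_add _ _ _
        map_smul' := fun s a => by simp [hsm, Subalgebra.smul_def] }
    let p : K ⊗[k] A →ₗ[S] A :=
      { toFun := r
        map_add' := map_add r
        map_smul' := fun s z => by simp only [hsm, RingHom.id_apply, hr, Subalgebra.smul_def, smul_eq_mul] }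
    exact Module.Flat.of_retract i p (LinearMap.ext fun a => by simp [i, p, r, hl1])
  rw [Module.FaithfullyFlat.iff_flat_and_proper_ideal]
  refine ⟨hflat, fun I hI htop => hI ?_⟩
  let j : S →+* T := eT.toRingEquiv.toRingHom.comp (Algebra.TensorProduct.includeRight : S →ₐ[k] K ⊗[k] S).toRingHom
  have hjv : ∀ s : S, ((j s : T) : K ⊗[k] A) = (1 : K) ⊗ₜ[k] (s : A) := fun s => rfl
  let J := Ideal.map j I
  have hJ : J • (⊤ : Submodule T (K ⊗[k] A)) = ⊤ := by
    refine eq_top_iff.2 fun z _ => ?_
    have h1 : (1 : A) ∈ I • (⊤ : Submodule S A) := by rw [htop]; trivial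
    have h2 : ∀ a ∈ I • (⊤ : Submodule S A), ∀ z, ((1 : K) ⊗ₜ[k] a) * z ∈ J • (⊤ : Submodule T (K ⊗[k] A)) := by
      intro a ha
      induction ha using Submodule.smul_induction_on' with
      | smul n hn a _ =>
        intro z
        have : ((1 : K) ⊗ₜ[k] (n • a)) * z = (j n) • (((1 : K) ⊗ₜ[k] a) * z) := by
          rw [Subalgebra.smul_def, Subalgebra.smul_def, smul_eq_mul, smul_eq_mul, hjv, ← mul_assoc,
            Algebra.TensorProduct.tmul_mul_tmul, one_mul]
        rw [this]
        exact Submodule.smul_mem_smul (Ideal.mem_map_of_mem j hn) Submodule.mem_top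
      | add p _ q _ hp hq => intro z; rw [tmul_add, add_mul]; exact add_mem (hp z) (hq z)
    simpa [← Algebra.TensorProduct.one_def] using h2 1 h1 z
  have hJtop : J = ⊤ := by
    by_contra h
    exact (Module.FaithfullyFlat.iff_flat_and_proper_ideal T (K ⊗[k] A)).1 hff |>.2 J h hJ
  have h3 : ∀ t ∈ J, ∀ x : T, ∃ n ∈ I, r ((x * t : T) : K ⊗[k] A) = (n : A) := by
    intro t ht
    induction ht using Submodule.span_induction with
    | mem t ht =>
      obtain ⟨n, hn, rfl⟩ := ht
      intro x
      refine ⟨n * ⟨r x, hrT x x.2⟩, I.mul_mem_right _ hn, ?_⟩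
      rw [mul_comm x (j n), MulMemClass.coe_mul, hjv, hr]
      rfl
    | zero => exact fun x => ⟨0, I.zero_mem, by simp⟩
    | add p q _ _ hp hq =>
      intro x
      obtain ⟨n, hn, e1⟩ := hp x
      obtain ⟨m, hm, e2⟩ := hq x
      exact ⟨n + m, I.add_mem hn hm, by rw [mul_add, AddMemClass.coe_add, map_add, e1, e2, AddMemClass.coe_add]⟩
    | smul c p _ hp =>
      intro x
      obtain ⟨n, hn, e1⟩ := hp (x * c)
      exact ⟨n, hn, by rw [smul_eq_mul, ← mul_assoc]; exact e1⟩
  obtain ⟨n, hn, e⟩ := h3 1 (by rw [hJtop]; trivial) 1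
  have : (n : A) = 1 := by
    rw [← e]
    simp [r, hl1, Algebra.TensorProduct.one_def]
  exact (Ideal.eq_top_iff_one I).2 ((Subtype.ext this : n = 1) ▸ hn)

end descent

section directed

variable {k : Type u} [Field k] {A : Type v} [CommRing A] [HopfAlgebra k A]

theorem exists_finite_subcoalg (F : Finset A) : ∃ V : Submodule k A, Module.Finite k V ∧ IsSubcoalg k V ∧
    (F : Set A) ⊆ V ∧ ∀ B : Submodule k A, IsSubcoalg k B → (F : Set A) ⊆ B → V ≤ B := by
  classical
  obtain ⟨U, hUf, hU, hFU, hUle⟩ := Slice.exists_finite_subcomod (k := k) (A := A) (V := A) F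
  refine ⟨span2 U, ?_, isSubcoalg_span2 hU, fun x hx => le_span2 U (hFU hx),
    fun B hB h => span2_le hB (hUle B hB.isSubcomod h)⟩
  obtain ⟨b, hb⟩ := (Submodule.fg_iff_finiteDimensional U).2 hUf
  choose S hS using fun a : A => TensorProduct.exists_finset (Coalgebra.comul (R := k) a)
  let W := Submodule.span k (((b.biUnion fun a => (S a).image Prod.snd) : Finset A) : Set A)
  have hle : span2 U ≤ W := by
    refine iSup_le fun φ => ?_
    rw [← hb, Submodule.map_span, Submodule.span_le]
    rintro _ ⟨a, ha, rfl⟩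
    show Flag.dcontr A φ (Coalgebra.comul (R := k) a) ∈ W
    rw [hS a, map_sum]
    refine Submodule.sum_mem _ fun p hp => ?_
    rw [Flag.dcontr_tmul]
    exact Submodule.smul_mem _ _ (Submodule.subset_span
      (Finset.mem_biUnion.2 ⟨a, ha, Finset.mem_image.2 ⟨p, hp, rfl⟩⟩))
  have : Module.Finite k W := Module.Finite.span_of_finite k (Finset.finite_toSet _)
  exact Submodule.finiteDimensional_of_le hle

/-- Every finite subset lies in a finitely generated Hopf subalgebra. -/
theorem exists_fg_hopfSub (F : Finset A) :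
    ∃ T : Subalgebra k A, IsHopfSub k T ∧ T.FG ∧ (F : Set A) ⊆ T ∧
      ∀ S : Subalgebra k A, IsHopfSub k S → (F : Set A) ⊆ S → T ≤ S := by
  classical
  obtain ⟨V, hVf, hV, hFV, hVle⟩ := exists_finite_subcoalg (k := k) F
  let Si := HopfAlgebraStruct.antipode (R := k) (A := A)
  let T := Algebra.adjoin k ((V : Set A) ∪ Si '' V)
  have hST : ∀ s ∈ V, s ∈ T ∧ Si s ∈ T := fun s hs =>
    ⟨Algebra.subset_adjoin (Or.inl hs), Algebra.subset_adjoin (Or.inr ⟨s, hs, rfl⟩)⟩
  let R2 := (Algebra.TensorProduct.map T.val T.val).range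
  have hR2 : ∀ z, z ∈ R2 ↔ z ∈ LinearMap.range (TensorProduct.map (Subalgebra.toSubmodule T).subtype
      (Subalgebra.toSubmodule T).subtype) := fun z => Iff.rfl
  have hgen : ∀ x ∈ ((V : Set A) ∪ Si '' V), Coalgebra.comul (R := k) x ∈ R2 := by
    rintro x (hx | ⟨s, hs, rfl⟩)
    · obtain ⟨y, hy⟩ := hV x hx
      rw [← hy]
      clear hy
      induction y with
      | zero => simp
      | add p q hp hq => rw [map_add]; exact add_mem hp hq
      | tmul p q => exact ⟨⟨p, (hST p p.2).1⟩ ⊗ₜ ⟨q, (hST q q.2).1⟩, by simp⟩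
    · obtain ⟨y, hy⟩ := hV s hs
      rw [Corep.comul_antipode, ← hy]
      clear hy
      induction y with
      | zero => simp
      | add p q hp hq => simp only [map_add]; exact add_mem hp hq
      | tmul p q => exact ⟨⟨Si q, (hST q q.2).2⟩ ⊗ₜ ⟨Si p, (hST p p.2).2⟩, by simp [Si]⟩
  refine ⟨T, ⟨fun t ht => ?_, fun t ht => ?_⟩, ?_, fun x hx => (hST x (hFV hx)).1, fun S hS hFS => ?_⟩
  · rw [← hR2]
    show Bialgebra.comulAlgHom k A t ∈ R2
    induction ht using Algebra.adjoin_induction with
    | mem x hx => exact hgen x hx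
    | algebraMap c => rw [AlgHom.commutes]; exact R2.algebraMap_mem c
    | add p q _ _ hp hq => rw [map_add]; exact add_mem hp hq
    | mul p q _ _ hp hq => rw [map_mul]; exact mul_mem hp hq
  · show HopfAlgebra.antipodeAlgHom k A t ∈ T
    induction ht using Algebra.adjoin_induction with
    | mem x hx =>
      rcases hx with hx | ⟨s, hs, rfl⟩
      · exact (hST x hx).2
      · show Si (Si s) ∈ T
        rw [Corep.antipode_antipode]
        exact (hST s hs).1
    | algebraMap c => rw [AlgHom.commutes]; exact T.algebraMap_mem c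
    | add p q _ _ hp hq => rw [map_add]; exact add_mem hp hq
    | mul p q _ _ hp hq => rw [map_mul]; exact mul_mem hp hq
  · obtain ⟨b, hb⟩ := (Submodule.fg_iff_finiteDimensional V).2 hVf
    refine ⟨b ∪ b.image Si, le_antisymm (Algebra.adjoin_mono ?_) (Algebra.adjoin_le ?_)⟩
    · rw [Finset.coe_union, Finset.coe_image, ← hb]
      exact Set.union_subset_union Submodule.subset_span (Set.image_mono Submodule.subset_span)
    · have hsub : ∀ W : Set A, W ⊆ ((b ∪ b.image Si : Finset A) : Set A) →
          Submodule.span k W ≤ Subalgebra.toSubmodule (Algebra.adjoin k ((b ∪ b.image Si : Finset A) : Set A)) :=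
        fun W hW => Submodule.span_le.2 (hW.trans Algebra.subset_adjoin)
      rintro x (hx | ⟨s, hs, rfl⟩)
      · rw [← hb] at hx
        exact hsub _ (by rw [Finset.coe_union]; exact Set.subset_union_left) hx
      · rw [← hb] at hs
        have h1 : Si s ∈ Submodule.span k (Si '' (b : Set A)) := by
          rw [← Submodule.map_span]; exact ⟨s, hs, rfl⟩
        exact hsub _ (by rw [Finset.coe_union, Finset.coe_image]; exact Set.subset_union_right) h1
  · have hle : V ≤ Subalgebra.toSubmodule S := hVle _ hS.1 hFS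
    exact Algebra.adjoin_le (Set.union_subset hle (by rintro _ ⟨s, hs, rfl⟩; exact hS.2 s (hle hs)))

/-- The Hopf algebra structure of a Hopf subalgebra. -/
@[reducible] def hopfOfSub (T : Subalgebra k A) (hT : IsHopfSub k T) : HopfAlgebra k T :=
  let inj2 : Function.Injective (Algebra.TensorProduct.map T.val T.val) :=
    TensorProduct.map_injective_of_flat_flat T.val.toLinearMap T.val.toLinearMap Subtype.val_injective Subtype.val_injective
  let e := AlgEquiv.ofInjective (Algebra.TensorProduct.map T.val T.val) inj2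
  let Δ : T →ₐ[k] T ⊗[k] T := e.symm.toAlgHom.comp
    (((Bialgebra.comulAlgHom k A).comp T.val).codRestrict (Algebra.TensorProduct.map T.val T.val).range
      fun t => hT.1 (t : A) t.2)
  let ε : T →ₐ[k] k := (Bialgebra.counitAlgHom k A).comp T.val
  have hΔ : ∀ t : T, Algebra.TensorProduct.map T.val T.val (Δ t) = Coalgebra.comul (R := k) (t : A) :=
    fun t => congrArg Subtype.val (e.apply_symm_apply ⟨_, hT.1 (t : A) t.2⟩)
  letI : Bialgebra k T := Bialgebra.ofAlgHom Δ ε
    (by
      have inj3 : Function.Injective (Algebra.TensorProduct.map T.val (Algebra.TensorProduct.map T.val T.val)) :=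
        TensorProduct.map_injective_of_flat_flat T.val.toLinearMap (Algebra.TensorProduct.map T.val T.val).toLinearMap
          Subtype.val_injective inj2
      refine AlgHom.ext fun t => inj3 ?_
      have c := Coalgebra.coassoc_apply (R := k) (t : A)
      rw [← hΔ t] at c
      show Algebra.TensorProduct.map T.val (Algebra.TensorProduct.map T.val T.val)
          (Algebra.TensorProduct.assoc k k k T T T (Algebra.TensorProduct.map Δ (AlgHom.id k T) (Δ t))) =
        Algebra.TensorProduct.map T.val (Algebra.TensorProduct.map T.val T.val)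
          (Algebra.TensorProduct.map (AlgHom.id k T) Δ (Δ t))
      refine Eq.trans ?_ (c.trans ?_)
      · generalize Δ t = z
        induction z with
        | zero => simp
        | add p q hp hq => simp only [map_add, hp, hq]
        | tmul p q =>
          simp only [Algebra.TensorProduct.map_tmul, AlgHom.id_apply, Subalgebra.coe_val, LinearMap.rTensor_tmul]
          rw [← hΔ p]
          generalize Δ p = w
          induction w with
          | zero => simp
          | add c d hc hd => simp only [map_add, TensorProduct.add_tmul, hc, hd]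
          | tmul c d => simp
      · generalize Δ t = z
        induction z with
        | zero => simp
        | add p q hp hq => simp only [map_add, hp, hq]
        | tmul p q => simp [hΔ])
    (by
      refine AlgHom.ext fun t => (Algebra.TensorProduct.lid k T).injective (Subtype.ext ?_)
      have c := Coalgebra.rTensor_counit_comul (R := k) (t : A)
      rw [← hΔ t] at c
      have c2 := congrArg (TensorProduct.lid k A) c
      simp only [TensorProduct.lid_tmul, one_smul] at c2
      show ((Algebra.TensorProduct.lid k T (Algebra.TensorProduct.map ε (AlgHom.id k T) (Δ t)) : T) : A) =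
        ((Algebra.TensorProduct.lid k T ((Algebra.TensorProduct.lid k T).symm t) : T) : A)
      rw [AlgEquiv.apply_symm_apply, ← c2]
      generalize Δ t = z
      induction z with
      | zero => simp
      | add p q hp hq => simp only [map_add, Subalgebra.coe_add, hp, hq]
      | tmul p q => simp [ε])
    (by
      refine AlgHom.ext fun t => (Algebra.TensorProduct.rid k k T).injective (Subtype.ext ?_)
      have c := Coalgebra.lTensor_counit_comul (R := k) (t : A)
      rw [← hΔ t] at c
      have c2 := congrArg (TensorProduct.rid k A) c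
      simp only [TensorProduct.rid_tmul, one_smul] at c2
      show ((Algebra.TensorProduct.rid k k T (Algebra.TensorProduct.map (AlgHom.id k T) ε (Δ t)) : T) : A) =
        ((Algebra.TensorProduct.rid k k T ((Algebra.TensorProduct.rid k k T).symm t) : T) : A)
      rw [AlgEquiv.apply_symm_apply, ← c2]
      generalize Δ t = z
      induction z with
      | zero => simp
      | add p q hp hq => simp only [map_add, Subalgebra.coe_add, hp, hq]
      | tmul p q => simp [ε])
  HopfAlgebra.ofAlgHom (((HopfAlgebra.antipodeAlgHom k A).comp T.val).codRestrict T fun t => hT.2 (t : A) t.2)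
    (by
      refine AlgHom.ext fun t => Subtype.ext ?_
      have c := HopfAlgebra.mul_antipode_rTensor_comul_apply (R := k) (t : A)
      rw [← hΔ t] at c
      refine Eq.trans ?_ c
      show ((Algebra.TensorProduct.lift _ _ (fun _ _ => Commute.all _ _) (Δ t) : T) : A) = _
      generalize Δ t = z
      induction z with
      | zero => simp
      | add p q hp hq => simp only [map_add, Subalgebra.coe_add, hp, hq]
      | tmul p q => simp)
    (by
      refine AlgHom.ext fun t => Subtype.ext ?_
      have c := HopfAlgebra.mul_antipode_lTensor_comul_apply (R := k) (t : A)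
      rw [← hΔ t] at c
      refine Eq.trans ?_ c
      show ((Algebra.TensorProduct.lift _ _ (fun _ _ => Commute.all _ _) (Δ t) : T) : A) = _
      generalize Δ t = z
      induction z with
      | zero => simp
      | add p q hp hq => simp only [map_add, Subalgebra.coe_add, hp, hq]
      | tmul p q => simp)

theorem map_comul_hopfOfSub (T : Subalgebra k A) (hT : IsHopfSub k T) (t : T) :
    letI := hopfOfSub T hT
    Algebra.TensorProduct.map T.val T.val (Coalgebra.comul (R := k) t) = Coalgebra.comul (R := k) (t : A) :=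
  congrArg Subtype.val ((AlgEquiv.ofInjective (Algebra.TensorProduct.map T.val T.val)
    (TensorProduct.map_injective_of_flat_flat T.val.toLinearMap T.val.toLinearMap Subtype.val_injective
      Subtype.val_injective)).apply_symm_apply ⟨_, hT.1 (t : A) t.2⟩)

theorem faithfullyFlat_sub (S₀ A₀ : Subalgebra k A) (h₀ : S₀ ≤ A₀) (hS₀ : IsHopfSub k S₀) (hA₀ : IsHopfSub k A₀)
    (hSfg : S₀.FG) (hAfg : A₀.FG) : Module.FaithfullyFlat (S₀.comap A₀.val) A₀ := by
  let := hopfOfSub A₀ hA₀
  have : Algebra.FiniteType k A₀ := ⟨(Subalgebra.fg_top A₀).2 hAfg⟩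
  have : Algebra.FiniteType k (S₀.comap A₀.val) := by
    have : Algebra.FiniteType k S₀ := ⟨(Subalgebra.fg_top S₀).2 hSfg⟩
    let e : S₀ →ₐ[k] S₀.comap A₀.val := AlgHom.codRestrict (Subalgebra.inclusion h₀) _ (fun s => s.2)
    exact Algebra.FiniteType.of_surjective e (fun x => ⟨⟨((x : A₀) : A), x.2⟩, rfl⟩)
  refine faithfullyFlat_of_finiteType (S₀.comap A₀.val) ⟨fun t ht => ?_, fun t ht => hS₀.2 (t : A) ht⟩
  obtain ⟨y, hy⟩ := hS₀.1 (t : A) ht
  let e : S₀ →ₐ[k] S₀.comap A₀.val := AlgHom.codRestrict (Subalgebra.inclusion h₀) _ (fun s => s.2)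
  refine ⟨Algebra.TensorProduct.map e e y, (TensorProduct.map_injective_of_flat_flat A₀.val.toLinearMap
    A₀.val.toLinearMap Subtype.val_injective Subtype.val_injective) ?_⟩
  refine Eq.trans ?_ (hy.trans (map_comul_hopfOfSub A₀ hA₀ t).symm)
  clear hy
  induction y with
  | zero => simp
  | add p q hp hq => simp only [map_add, hp, hq]
  | tmul p q => rfl

omit [HopfAlgebra k A] in
theorem trivRel_transfer {B₀ : Type*} [CommRing B₀] {A₀ : Type*} [CommRing A₀] [Algebra B₀ A₀] [Module.Flat B₀ A₀]
    {B : Type*} [CommRing B] [Algebra B A] (jB : B₀ →+* B) (jA : A₀ →+* A) (hA : Function.Injective jA)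
    (hc : ∀ b, algebraMap B A (jB b) = jA (algebraMap B₀ A₀ b)) {l : ℕ} (f : Fin l → B₀) (x : Fin l → A₀)
    (h : ∑ i, jB (f i) • jA (x i) = 0) : Module.IsTrivialRelation (fun i => jB (f i)) (fun i => jA (x i)) := by
  have h0 : ∑ i, f i • x i = 0 := hA (by rw [map_sum, map_zero, ← h]; simp [Algebra.smul_def, hc])
  obtain ⟨κ, a, y, hxy, ha⟩ := Module.Flat.isTrivialRelation_of_sum_smul_eq_zero (R := B₀) (M := A₀) (f := f) (x := x) h0
  refine ⟨κ, fun i j => jB (a i j), fun j => jA (y j), fun i => ?_, fun j => ?_⟩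
  · simp only [hxy i, map_sum]
    simp [Algebra.smul_def, hc]
  · simp only
    rw [← map_zero jB, ← ha j, map_sum]
    simp

omit [HopfAlgebra k A] in
theorem eq_top_transfer {B₀ : Type*} [CommRing B₀] {A₀ : Type*} [CommRing A₀] [Algebra B₀ A₀] [Module.FaithfullyFlat B₀ A₀]
    {B : Type*} [CommRing B] [Algebra B A] (jB : B₀ →+* B) (jA : A₀ →+* A) (hA : Function.Injective jA)
    (hc : ∀ b, algebraMap B A (jB b) = jA (algebraMap B₀ A₀ b)) (I : Ideal B) {ι : Type*} (s : Finset ι)
    (f : ι → B₀) (x : ι → A₀) (hf : ∀ i ∈ s, jB (f i) ∈ I) (h : ∑ i ∈ s, jB (f i) • jA (x i) = 1) : I = ⊤ := by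
  by_contra hIt
  refine ((Module.FaithfullyFlat.iff_flat_and_proper_ideal B₀ A₀).1 inferInstance).2 (I.comap jB)
    (Ideal.comap_ne_top jB hIt) (eq_top_iff.2 fun z _ => ?_)
  have h1 : (1 : A₀) = ∑ i ∈ s, f i • x i := hA (by rw [map_one, map_sum, ← h]; simp [Algebra.smul_def, hc])
  rw [← one_mul z, h1, Finset.sum_mul]
  refine Submodule.sum_mem _ fun i hi => ?_
  rw [smul_mul_assoc]
  exact Submodule.smul_mem_smul (hf i hi) Submodule.mem_top

theorem faithfullyFlat (S : Subalgebra k A) (hS : IsHopfSub k S) : Module.FaithfullyFlat S A := by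
  classical
  have key : ∀ (Fb : Finset S) (Fa : Finset A), ∃ (S₀ : Subalgebra k A) (A₀ : Subalgebra k A)
      (_ : S₀ ≤ S) (_ : S₀ ≤ A₀), (∀ b ∈ Fb, (b : A) ∈ S₀) ∧ (∀ a ∈ Fa, a ∈ A₀) ∧ A₀.FG ∧ S₀.FG ∧
        IsHopfSub k S₀ ∧ IsHopfSub k A₀ := by
    intro Fb Fa
    obtain ⟨S₀, hS₀, hS₀fg, hb, hS₀le⟩ := exists_fg_hopfSub (k := k) (Fb.image fun b : S => (b : A))
    obtain ⟨t, ht⟩ := hS₀fg
    obtain ⟨A₀, hA₀, hA₀fg, ha, -⟩ := exists_fg_hopfSub (k := k) (t ∪ Fa)
    refine ⟨S₀, A₀, hS₀le S hS (by intro x hx; obtain ⟨b, -, rfl⟩ := Finset.mem_image.1 hx; exact b.2), ?_,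
      fun b hb' => hb (Finset.mem_image_of_mem _ hb'), fun a ha' => ha (Finset.mem_union_right _ ha'),
      hA₀fg, ⟨t, ht⟩, hS₀, hA₀⟩
    rw [← ht]
    exact Algebra.adjoin_le fun x hx => ha (Finset.mem_union_left _ hx)
  have hflat : Module.Flat S A := by
    refine Module.Flat.of_forall_isTrivialRelation fun {l f x} hfx => ?_
    obtain ⟨S₀, A₀, hS₀S, h₀, hf, hx, hAfg, hSfg, hS₀, hA₀⟩ := key (Finset.univ.image f) (Finset.univ.image x)
    have := faithfullyFlat_sub S₀ A₀ h₀ hS₀ hA₀ hSfg hAfg
    have hf' : ∀ i, (f i : A) ∈ S₀ := fun i => hf _ (by simp)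
    have hx' : ∀ i, x i ∈ A₀ := fun i => hx _ (by simp)
    let j : (S₀.comap A₀.val) →+* S :=
      { toFun := fun z => ⟨((z : A₀) : A), hS₀S z.2⟩
        map_one' := rfl, map_mul' := fun _ _ => rfl, map_zero' := rfl, map_add' := fun _ _ => rfl }
    exact trivRel_transfer (B := S) j A₀.val.toRingHom Subtype.val_injective (fun _ => rfl)
      (fun i => ⟨⟨f i, h₀ (hf' i)⟩, hf' i⟩) (fun i => ⟨x i, hx' i⟩) hfx
  rw [Module.FaithfullyFlat.iff_flat_and_proper_ideal]
  refine ⟨hflat, fun I hI htop => hI ?_⟩
  have h1 : (1 : A) ∈ I • Submodule.span S (Set.range (id : A → A)) := by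
    rw [Set.range_id, Submodule.span_univ, htop]; trivial
  obtain ⟨c, hcI, hc⟩ := (Submodule.mem_ideal_smul_span_iff_exists_sum I id 1).1 h1
  obtain ⟨S₀, A₀, hS₀S, h₀, hf, hx, hAfg, hSfg, hS₀, hA₀⟩ := key (c.support.image c) c.support
  have := faithfullyFlat_sub S₀ A₀ h₀ hS₀ hA₀ hSfg hAfg
  let j : (S₀.comap A₀.val) →+* S :=
    { toFun := fun z => ⟨((z : A₀) : A), hS₀S z.2⟩
      map_one' := rfl, map_mul' := fun _ _ => rfl, map_zero' := rfl, map_add' := fun _ _ => rfl }
  refine eq_top_transfer (B := S) j A₀.val.toRingHom Subtype.val_injective (fun _ => rfl) I c.support.attach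
    (fun a => ⟨⟨c a.1, h₀ (hf _ (Finset.mem_image_of_mem _ a.2))⟩, hf _ (Finset.mem_image_of_mem _ a.2)⟩)
    (fun a => ⟨a.1, hx _ a.2⟩) (fun a _ => hcI a.1) ?_
  rw [← hc, Finsupp.sum]
  exact Finset.sum_attach c.support (fun a => c a • a)

end directed

end Groth.Agent.HopfRep.FaithFlat

namespace Groth.Agent.HopfRep.FaithFlat

variable {k : Type u} [Field k] {A : Type v} [CommRing A] [HopfAlgebra k A] {B : Type w} [CommRing B] [HopfAlgebra k B]

theorem bialgHom_antipode (f : A →ₐc[k] B) (a : A) :
    f (HopfAlgebraStruct.antipode (R := k) a) = HopfAlgebraStruct.antipode (R := k) (f a) := by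
  have h2 : toConv ((HopfAlgebra.antipodeAlgHom k B).comp (f : A →ₐ[k] B)) * toConv (f : A →ₐ[k] B) = 1 := by
    have h1 : toConv (AlgHom.comp (1 : WithConv (B →ₐ[k] B)).ofConv (f : A →ₐ[k] B)) = 1 := by
      apply WithConv.ext
      apply AlgHom.ext
      intro a
      simp [AlgHom.convOne_def]
    rw [← h1, ← AlgHom.antipode_id_cancel, AlgHom.convMul_comp_bialgHom_distrib]
    simp
  have h3 := left_inv_eq_right_inv h2 (conv_inv (f : A →ₐ[k] B)).2
  exact (DFunLike.congr_fun (congrArg WithConv.ofConv h3) a).symm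

theorem isHopfSub_range (f : A →ₐc[k] B) : IsHopfSub k (f : A →ₐ[k] B).range := by
  refine ⟨?_, ?_⟩
  · rintro _ ⟨a, rfl⟩
    let r := (f : A →ₐ[k] B).rangeRestrict
    refine ⟨TensorProduct.map r.toLinearMap r.toLinearMap (Coalgebra.comul (R := k) a), ?_⟩
    have h := CoalgHomClass.map_comp_comul_apply f a
    refine Eq.trans ?_ h
    generalize Coalgebra.comul (R := k) a = z
    induction z with
    | zero => simp
    | add p q hp hq => simp only [map_add, hp, hq]
    | tmul p q => rfl
  · rintro _ ⟨a, rfl⟩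
    exact ⟨HopfAlgebraStruct.antipode (R := k) a, bialgHom_antipode f a⟩

theorem faithfullyFlat_range [Algebra.FiniteType k A] [Algebra.FiniteType k B] (f : A →ₐc[k] B) :
    ((f : A →ₐ[k] B).range.val : (f : A →ₐ[k] B).range →+* B).FaithfullyFlat := by
  have : Algebra.FiniteType k (f : A →ₐ[k] B).range :=
    Algebra.FiniteType.of_surjective (f : A →ₐ[k] B).rangeRestrict (f : A →ₐ[k] B).rangeRestrict_surjective
  have h := faithfullyFlat_of_finiteType (f : A →ₐ[k] B).range (isHopfSub_range f)
  exact RingHom.faithfullyFlat_algebraMap_iff.2 h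

theorem faithfullyFlat_of_injective [Algebra.FiniteType k A] [Algebra.FiniteType k B] (f : A →ₐc[k] B)
    (hf : Function.Injective f) : (f : A →+* B).FaithfullyFlat := by
  have hb := (AlgEquiv.ofInjective (f : A →ₐ[k] B) hf).bijective
  have e : ((f : A →ₐ[k] B).range.val : (f : A →ₐ[k] B).range →+* B).comp
      (AlgEquiv.ofInjective (f : A →ₐ[k] B) hf).toRingEquiv.toRingHom = (f : A →+* B) :=
    RingHom.ext fun a => rfl
  rw [← e, RingHom.FaithfullyFlat.iff_flat_and_comap_surjective]
  obtain ⟨h1, h2⟩ := RingHom.FaithfullyFlat.iff_flat_and_comap_surjective.1 (faithfullyFlat_range f)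
  refine ⟨RingHom.Flat.comp (RingHom.Flat.of_bijective hb) h1, fun p => ?_⟩
  let g := (AlgEquiv.ofInjective (f : A →ₐ[k] B) hf).toRingEquiv
  obtain ⟨q, hq⟩ := h2 (PrimeSpectrum.comap g.symm.toRingHom p)
  refine ⟨q, ?_⟩
  rw [PrimeSpectrum.comap_comp_apply, hq, ← PrimeSpectrum.comap_comp_apply]
  rw [show g.symm.toRingHom.comp (AlgEquiv.ofInjective (f : A →ₐ[k] B) hf).toRingEquiv.toRingHom = RingHom.id A
    from RingHom.ext fun a => g.symm_apply_apply a, PrimeSpectrum.comap_id]

end Groth.Agent.HopfRep.FaithFlat
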