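import Groth.Agent.HopfRep.Slice
import Mathlib.LinearAlgebra.Dimension.Finite
import Mathlib.LinearAlgebra.FiniteDimensional.Lemmas
import Mathlib.RingTheory.Artinian.Module

/-!
Quotient comodules, push-forward along coalgebra maps, flags.
-/

universe u v w w'

open TensorProduct

noncomputable section

namespace Groth.Agent.HopfRep.Flag

open _root_.HopfRep Groth.Agent.HopfRep.Slice

variable {k : Type u} [Field k]

section dual

variable {A : Type v} [AddCommGroup A] [Module k A] {V : Type w} [AddCommGroup V] [Module k V]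

variable (A) in
/-- `x ⊗ a ↦ φ x • a`. -/
def dcontr (φ : V →ₗ[k] k) : V ⊗[k] A →ₗ[k] A :=
  (TensorProduct.lid k A).toLinearMap ∘ₗ φ.rTensor A

@[simp] theorem dcontr_tmul (φ : V →ₗ[k] k) (x : V) (a : A) : dcontr A φ (x ⊗ₜ a) = φ x • a := by
  simp [dcontr]

theorem eq_zero_of_dcontr {x : V ⊗[k] A} (h : ∀ φ : V →ₗ[k] k, dcontr A φ x = 0) : x = 0 := by
  classical
  let b := Module.Free.chooseBasis k V
  apply (TensorProduct.equivFinsuppOfBasisLeft b).injective
  rw [map_zero]
  ext i
  rw [TensorProduct.equivFinsuppOfBasisLeft_apply]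
  exact h (b.coord i)

theorem eq_of_dcontr {x y : V ⊗[k] A} (h : ∀ φ : V →ₗ[k] k, dcontr A φ x = dcontr A φ y) : x = y :=
  sub_eq_zero.1 (eq_zero_of_dcontr fun φ => by rw [map_sub, h φ, sub_self])

theorem contr_dcontr (φ : V →ₗ[k] k) (f : A →ₗ[k] k) (x : V ⊗[k] A) :
    f (dcontr A φ x) = φ (contr k V f x) := by
  induction x with
  | zero => simp
  | tmul a b => simp [mul_comm]
  | add a b ha hb => simp [ha, hb]

/-- A tensor is determined by any family of functionals separating the points of the right factor. -/
theorem eq_of_separating {S : Set (A →ₗ[k] k)} (hS : ∀ a : A, (∀ f ∈ S, f a = 0) → a = 0)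
    {x y : V ⊗[k] A} (h : ∀ f ∈ S, contr k V f x = contr k V f y) : x = y := by
  refine sub_eq_zero.1 (eq_zero_of_dcontr fun φ => hS _ fun f hf => ?_)
  rw [contr_dcontr, map_sub, h f hf, sub_self, map_zero]

theorem mem_range_of_mkQ (U : Submodule k V) {x : V ⊗[k] A} (h : U.mkQ.rTensor A x = 0) :
    x ∈ LinearMap.range (U.subtype.rTensor A) := by
  refine (mem_range_iff U x).2 fun f => ?_
  rw [← Submodule.Quotient.mk_eq_zero, ← Submodule.mkQ_apply, map_contr, h, map_zero]

end dual

section comod

variable {A : Type v} [AddCommGroup A] [Module k A] [Coalgebra k A]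
variable {V : Type w} [AddCommGroup V] [Module k V] [Comod k A V]

/-- The quotient comodule. -/
@[reducible] def quot (U : Submodule k V) (hU : IsSubcomod (k := k) (A := A) U) : Comod k A (V ⧸ U) where
  coact := U.liftQ (U.mkQ.rTensor A ∘ₗ Comod.coact (k := k) (A := A)) (fun x hx => by
    obtain ⟨y, hy⟩ := hU x hx
    rw [LinearMap.mem_ker, LinearMap.comp_apply, ← hy, ← LinearMap.rTensor_comp_apply]
    have : U.mkQ ∘ₗ U.subtype = 0 := by ext; simp
    rw [this, LinearMap.rTensor_zero, LinearMap.zero_apply])
  coassoc := by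
    refine LinearMap.ext fun q => ?_
    obtain ⟨v, rfl⟩ := Submodule.Quotient.mk_surjective U q
    simp only [LinearMap.comp_apply, LinearEquiv.coe_coe, Submodule.liftQ_apply]
    have h1 : ∀ z : V ⊗[k] A,
        (TensorProduct.assoc k (V ⧸ U) A A)
          ((U.liftQ (U.mkQ.rTensor A ∘ₗ Comod.coact (k := k) (A := A)) (fun x hx => by
            obtain ⟨y, hy⟩ := hU x hx
            rw [LinearMap.mem_ker, LinearMap.comp_apply, ← hy, ← LinearMap.rTensor_comp_apply]
            have : U.mkQ ∘ₗ U.subtype = 0 := by ext; simp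
            rw [this, LinearMap.rTensor_zero, LinearMap.zero_apply])).rTensor A (U.mkQ.rTensor A z)) =
        U.mkQ.rTensor (A ⊗[k] A) ((TensorProduct.assoc k V A A)
          ((Comod.coact (k := k) (A := A) (V := V)).rTensor A z)) := by
      intro z
      induction z with
      | zero => simp
      | add a b ha hb => simp [ha, hb]
      | tmul a b =>
        simp only [LinearMap.rTensor_tmul, Submodule.mkQ_apply, Submodule.liftQ_apply, LinearMap.comp_apply]
        generalize Comod.coact (k := k) (A := A) a = w
        induction w with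
        | zero => simp
        | add p q hp hq => simp [TensorProduct.add_tmul, hp, hq]
        | tmul p q => simp
    have h2 : ∀ z : V ⊗[k] A,
        (Coalgebra.comul (R := k) (A := A)).lTensor (V ⧸ U) (U.mkQ.rTensor A z) =
          U.mkQ.rTensor (A ⊗[k] A) ((Coalgebra.comul (R := k) (A := A)).lTensor V z) := by
      intro z
      induction z with
      | zero => simp
      | add a b ha hb => simp [ha, hb]
      | tmul a b => simp
    rw [h1, h2, coassoc_apply]
  counit_comp := by
    refine LinearMap.ext fun q => ?_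
    obtain ⟨v, rfl⟩ := Submodule.Quotient.mk_surjective U q
    simp only [LinearMap.comp_apply, Submodule.liftQ_apply, LinearMap.flip_apply, TensorProduct.mk_apply]
    have h := LinearMap.congr_fun (Comod.counit_comp (k := k) (A := A) (V := V)) v
    simp only [LinearMap.comp_apply, LinearMap.flip_apply, TensorProduct.mk_apply] at h
    have h2 : ∀ z : V ⊗[k] A, (Coalgebra.counit (R := k) (A := A)).lTensor (V ⧸ U) (U.mkQ.rTensor A z) =
          U.mkQ.rTensor k ((Coalgebra.counit (R := k) (A := A)).lTensor V z) := by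
      intro z
      induction z with
      | zero => simp
      | add a b ha hb => simp [ha, hb]
      | tmul a b => simp
    rw [h2, h]
    simp

theorem isComodHom_mkQ (U : Submodule k V) (hU : IsSubcomod (k := k) (A := A) U) :
    letI := quot U hU
    Hoch.IsComodHom A U.mkQ := by
  refine LinearMap.ext fun v => ?_
  rfl

theorem mkQ_slice (U : Submodule k V) (hU : IsSubcomod (k := k) (A := A) U) (f : A →ₗ[k] k) (v : V) :
    letI := quot U hU
    U.mkQ (slice k V f v) = slice k (V ⧸ U) f (U.mkQ v) :=
  letI := quot U hU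
  map_slice (isComodHom_mkQ U hU) f v

theorem isSubcomod_restrict_iff (U : Submodule k V) (hU : IsSubcomod (k := k) (A := A) U)
    (X : Submodule k U) :
    (letI := restrict U hU; IsSubcomod (k := k) (A := A) X) ↔
      IsSubcomod (k := k) (A := A) (X.map U.subtype) := by
  let _ := restrict U hU
  rw [isSubcomod_iff, isSubcomod_iff]
  constructor
  · rintro h f _ ⟨x, hx, rfl⟩
    exact ⟨_, h f x hx, slice_coe U hU f x⟩
  · intro h f x hx
    obtain ⟨y, hy, hxy⟩ := h f (x : V) ⟨x, hx, rfl⟩
    have : y = slice k U f x := Subtype.ext (hxy.trans (slice_coe U hU f x).symm)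
    exact this ▸ hy

/-- A nonzero finite-dimensional subcomodule contains a simple one. -/
theorem exists_simple_le (U : Submodule k V) (hU : IsSubcomod (k := k) (A := A) U) (h0 : U ≠ ⊥)
    [Module.Finite k U] :
    ∃ (S : Submodule k V) (hS : IsSubcomod (k := k) (A := A) S), S ≤ U ∧ S ≠ ⊥ ∧
      (letI := restrict S hS; IsSimpleComod k A S) := by
  generalize hn : Module.finrank k U = n
  induction n using Nat.strong_induction_on generalizing U with
  | _ n ih =>
    by_cases hs : ∃ S : Submodule k V, IsSubcomod (k := k) (A := A) S ∧ S < U ∧ S ≠ ⊥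
    · obtain ⟨S, hS, hlt, hS0⟩ := hs
      have : Module.Finite k S := Submodule.finiteDimensional_of_le hlt.le
      obtain ⟨T, hT, hTS, hT'⟩ := ih _ (hn ▸ Submodule.finrank_lt_finrank_of_lt hlt) S hS hS0 rfl
      exact ⟨T, hT, hTS.trans hlt.le, hT'⟩
    · refine ⟨U, hU, le_rfl, h0, ?_, fun X hX => ?_⟩
      · exact Submodule.nontrivial_iff_ne_bot.2 h0
      · by_cases hX0 : X = ⊥
        · exact Or.inl hX0
        refine Or.inr ?_
        by_contra hXt
        refine hs ⟨X.map U.subtype, (isSubcomod_restrict_iff U hU X).1 hX, ?_, ?_⟩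
        · refine lt_of_le_of_ne (Submodule.map_subtype_le U X) fun he => hXt ?_
          apply Submodule.map_injective_of_injective U.injective_subtype
          rw [he, Submodule.map_subtype_top]
        · exact fun he => hX0 (Submodule.map_injective_of_injective U.injective_subtype
            (by rw [he, Submodule.map_bot]))

variable (V) in
/-- Generic flag construction. -/
theorem exists_flag [Module.Finite k V] (P : Submodule k V → Submodule k V → Prop)
    (h : ∀ U : Submodule k V, IsSubcomod (k := k) (A := A) U → U ≠ ⊤ →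
      ∃ U' : Submodule k V, IsSubcomod (k := k) (A := A) U' ∧ U < U' ∧ P U U') :
    ∃ F : ℕ → Submodule k V, Monotone F ∧ F 0 = ⊥ ∧ F (Module.finrank k V) = ⊤ ∧
      (∀ i, IsSubcomod (k := k) (A := A) (F i)) ∧
      ∀ i, (F i = ⊤ → F (i + 1) = ⊤) ∧ (F i ≠ ⊤ → P (F i) (F (i + 1))) := by
  classical
  choose g hg1 hg2 hg3 using h
  let step : {U : Submodule k V // IsSubcomod (k := k) (A := A) U} →
      {U : Submodule k V // IsSubcomod (k := k) (A := A) U} := fun U =>
    if ht : U.1 = ⊤ then U else ⟨g U.1 U.2 ht, hg1 _ _ ht⟩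
  let G : ℕ → {U : Submodule k V // IsSubcomod (k := k) (A := A) U} := fun i =>
    step^[i] ⟨⊥, isSubcomod_bot⟩
  have hGs : ∀ i, G (i + 1) = step (G i) := fun i => Function.iterate_succ_apply' step i _
  have htop : ∀ i, (G i).1 = ⊤ → (G (i + 1)).1 = ⊤ := fun i hi => by simp [hGs, step, hi]
  have hP : ∀ i, (hi : (G i).1 ≠ ⊤) → (G (i + 1)).1 = g _ (G i).2 hi := fun i hi => by
    simp only [hGs, step, dif_neg hi]
  have hmono : Monotone fun i => (G i).1 := by
    refine monotone_nat_of_le_succ fun i => ?_
    by_cases hi : (G i).1 = ⊤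
    · simp [htop i hi]
    · simp only [hP i hi]; exact (hg2 _ _ hi).le
  have hdim : ∀ i, (G i).1 = ⊤ ∨ i ≤ Module.finrank k (G i).1 := by
    intro i
    induction i with
    | zero => exact Or.inr (Nat.zero_le _)
    | succ i ih =>
      by_cases hi : (G i).1 = ⊤
      · exact Or.inl (htop i hi)
      · refine Or.inr ?_
        have := Submodule.finrank_lt_finrank_of_lt (hg2 _ (G i).2 hi)
        rw [← hP i hi] at this
        have := ih.resolve_left hi
        omega
  refine ⟨fun i => (G i).1, hmono, rfl, ?_, fun i => (G i).2, fun i => ⟨htop i, fun hi => ?_⟩⟩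
  · rcases hdim (Module.finrank k V) with h' | h'
    · exact h'
    · exact Submodule.eq_top_of_finrank_eq (le_antisymm (Submodule.finrank_le _) h')
  · simp only [hP i hi]; exact hg3 _ _ hi

section push

variable {B : Type w'} [AddCommGroup B] [Module k B] [Coalgebra k B]

/-- Push a comodule forward along a coalgebra map. -/
@[reducible] def push (f : A →ₗc[k] B) (V : Type w) [AddCommGroup V] [Module k V] [Comod k A V] : Comod k B V where
  coact := f.toLinearMap.lTensor V ∘ₗ Comod.coact (k := k) (A := A)
  coassoc := by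
    refine LinearMap.ext fun v => ?_
    simp only [LinearMap.comp_apply, LinearEquiv.coe_coe]
    have h1 : ∀ z : V ⊗[k] A,
        (TensorProduct.assoc k V B B)
          ((f.toLinearMap.lTensor V ∘ₗ Comod.coact (k := k) (A := A)).rTensor B (f.toLinearMap.lTensor V z)) =
        (TensorProduct.map f.toLinearMap f.toLinearMap).lTensor V ((TensorProduct.assoc k V A A)
          ((Comod.coact (k := k) (A := A) (V := V)).rTensor A z)) := by
      intro z
      induction z with
      | zero => simp
      | add a b ha hb => simp only [map_add, ha, hb]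
      | tmul a b =>
        simp only [LinearMap.rTensor_tmul, LinearMap.lTensor_tmul, LinearMap.comp_apply]
        generalize Comod.coact (k := k) (A := A) a = w
        induction w with
        | zero => simp
        | add p q hp hq => simp only [map_add, TensorProduct.add_tmul, hp, hq]
        | tmul p q => simp
    rw [h1, coassoc_apply, ← LinearMap.lTensor_comp_apply, ← LinearMap.lTensor_comp_apply, f.map_comp_comul]
  counit_comp := by
    refine LinearMap.ext fun v => ?_
    simp only [LinearMap.comp_apply]
    rw [← LinearMap.lTensor_comp_apply, f.counit_comp]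
    exact LinearMap.congr_fun (Comod.counit_comp (k := k) (A := A) (V := V)) v

theorem slice_push (f : A →ₗc[k] B) (g : B →ₗ[k] k) (v : V) :
    (letI := push f V; slice k V g v) = slice k V (g ∘ₗ f.toLinearMap) v := by
  simp only [slice, contr, LinearMap.comp_apply, LinearMap.lTensor_comp_apply]
  rfl

end push

end comod

section bialg

variable {A : Type v} [Ring A] [Bialgebra k A]
variable {V : Type w} [AddCommGroup V] [Module k V] [Comod k A V]

theorem slice_of_coact {v : V} {a : A} (h : Comod.coact (k := k) (A := A) v = v ⊗ₜ[k] a) (f : A →ₗ[k] k) :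
    slice k V f v = f a • v := by
  rw [slice_apply, h, contr_tmul]

theorem isSubcomod_fixedPts : IsSubcomod (k := k) (A := A) (fixedPts k A V) :=
  isSubcomod_iff.2 fun f x hx => by
    rw [slice_of_coact (show Comod.coact (k := k) (A := A) x = x ⊗ₜ[k] (1 : A) from hx) f]
    exact Submodule.smul_mem _ _ hx

end bialg

section classes

variable {A : Type v} [CommRing A] [Bialgebra k A]
variable {V : Type v} [AddCommGroup V] [Module k V] [Comod k A V] [Module.Finite k V]

theorem exists_flag_of_isUnipotent (hU : IsUnipotent k A) :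
    ∃ (m : ℕ) (F : ℕ → Submodule k V), Monotone F ∧ F 0 = ⊥ ∧ F m = ⊤ ∧
      (∀ i, IsSubcomod (k := k) (A := A) (F i)) ∧
      ∀ i, ∀ v ∈ F (i + 1),
        Comod.coact (k := k) (A := A) v - v ⊗ₜ[k] (1 : A) ∈ LinearMap.range ((F i).subtype.rTensor A) := by
  obtain ⟨F, h1, h2, h3, h4, h5⟩ := exists_flag (A := A) V (fun U U' => ∀ v ∈ U',
      Comod.coact (k := k) (A := A) v - v ⊗ₜ[k] (1 : A) ∈ LinearMap.range (U.subtype.rTensor A)) (by
    intro U hUc hne
    let _ := quot U hUc
    have : Nontrivial (V ⧸ U) := Submodule.Quotient.nontrivial_iff.2 hne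
    refine ⟨(fixedPts k A (V ⧸ U)).comap U.mkQ,
      isSubcomod_comap (isComodHom_mkQ U hUc) isSubcomod_fixedPts, ?_, ?_⟩
    · refine lt_of_le_of_ne (fun x hx => ?_) fun he => hU (V ⧸ U) inferInstance this ?_
      · simp [(Submodule.Quotient.mk_eq_zero U).2 hx]
      · refine (Submodule.eq_bot_iff _).2 fun q hq => ?_
        obtain ⟨x, rfl⟩ := Submodule.Quotient.mk_surjective U q
        refine (Submodule.Quotient.mk_eq_zero U).2 ?_
        rw [he]
        exact hq
    · intro v hv
      refine mem_range_of_mkQ U ?_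
      have hv' : Comod.coact (k := k) (A := A) (U.mkQ v) = U.mkQ v ⊗ₜ[k] (1 : A) := hv
      rw [map_sub, LinearMap.rTensor_tmul, ← hv']
      exact sub_self _)
  refine ⟨_, F, h1, h2, h3, h4, fun i v hv => ?_⟩
  by_cases hi : F i = ⊤
  · exact mem_range_of_mkQ _ (by
      have : (F i).mkQ = 0 := by ext x; simp [hi]
      simp [this])
  · exact (h5 i).2 hi v hv

theorem exists_flag_of_isTrigonalizable (hT : IsTrigonalizable k A) :
    ∃ F : ℕ → Submodule k V, Monotone F ∧ F 0 = ⊥ ∧ (∀ i, IsSubcomod (k := k) (A := A) (F i)) ∧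
      ∀ i, i ≤ Module.finrank k V → Module.finrank k (F i) = i := by
  obtain ⟨F, h1, h2, h3, h4, h5⟩ := exists_flag (A := A) V
    (fun U U' => Module.finrank k U' = Module.finrank k U + 1) (by
    intro U (hUc : IsSubcomod (k := k) (A := A) U) hne
    let _ := quot (A := A) U hUc
    have : Nontrivial (V ⧸ U) := Submodule.Quotient.nontrivial_iff.2 hne
    obtain ⟨S, hS, -, hS0, hsimp⟩ := exists_simple_le (A := A) (⊤ : Submodule k (V ⧸ U))
      ((isSubcomod_iff (k := k) (A := A)).2 fun _ _ _ => Submodule.mem_top) top_ne_bot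
    let _ := restrict S hS
    have h1 : Module.finrank k S = 1 := hT S inferInstance hsimp
    have hd : Module.finrank k (S.comap U.mkQ) = Module.finrank k U + 1 := by
      have h2 := LinearMap.finrank_range_add_finrank_ker (U.mkQ.domRestrict (S.comap U.mkQ))
      have e1 : LinearMap.range (U.mkQ.domRestrict (S.comap U.mkQ)) = S := by
        rw [LinearMap.range_domRestrict, Submodule.map_comap_eq_of_surjective (Submodule.mkQ_surjective U)]
      have hle : U ≤ S.comap U.mkQ := fun x hx => by simp [(Submodule.Quotient.mk_eq_zero U).2 hx]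
      have e2 : Module.finrank k (LinearMap.ker (U.mkQ.domRestrict (S.comap U.mkQ))) = Module.finrank k U := by
        rw [LinearMap.ker_domRestrict, Submodule.ker_mkQ]
        exact (Submodule.comapSubtypeEquivOfLe hle).finrank_eq
      rw [e1, h1, e2] at h2
      omega
    refine ⟨S.comap U.mkQ, isSubcomod_comap (isComodHom_mkQ U hUc) hS, ?_, hd⟩
    refine lt_of_le_of_ne (fun x hx => by simp [(Submodule.Quotient.mk_eq_zero U).2 hx]) fun he => ?_
    rw [← he] at hd
    omega)
  refine ⟨F, h1, h2, h4, fun i => ?_⟩
  induction i with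
  | zero => intro _; rw [h2, finrank_bot]
  | succ i ih =>
    intro hi
    have hF : F i ≠ ⊤ := fun he => by
      have := ih (by omega)
      rw [he, finrank_top] at this
      omega
    rw [(h5 i).2 hF, ih (by omega)]

theorem exists_flag_unipotent_imp
    (h : ∀ (V : Type v) [AddCommGroup V] [Module k V] [Comod k A V], Module.Finite k V →
      ∃ (m : ℕ) (F : ℕ → Submodule k V), Monotone F ∧ F 0 = ⊥ ∧ F m = ⊤ ∧
      (∀ i, IsSubcomod (k := k) (A := A) (F i)) ∧
      ∀ i, ∀ v ∈ F (i + 1),
        Comod.coact (k := k) (A := A) v - v ⊗ₜ[k] (1 : A) ∈ LinearMap.range ((F i).subtype.rTensor A)) :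
    IsUnipotent k A := by
  intro W _ _ _ hfin _
  obtain ⟨m, F, -, h0, hm, -, hg⟩ := h W hfin
  intro he
  have hall : ∀ i, F i = ⊥ := by
    intro i
    induction i with
    | zero => exact h0
    | succ i ih =>
      refine (Submodule.eq_bot_iff _).2 fun v hv => (Submodule.eq_bot_iff _).1 he v ?_
      obtain ⟨y, hy⟩ := hg i v hv
      have hs : (F i).subtype = 0 := by
        ext x
        exact (Submodule.eq_bot_iff _).1 ih x x.2
      rw [hs, LinearMap.rTensor_zero, LinearMap.zero_apply] at hy
      exact (sub_eq_zero.1 hy.symm)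
  exact top_ne_bot (α := Submodule k W) (hm ▸ hall m)

end classes

end Groth.Agent.HopfRep.Flag
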