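import Groth.Agent.HopfRep.CharHom
import Groth.Prelude.Def_Red2
import Mathlib.Algebra.Polynomial.Degree.Lemmas
import Mathlib.RingTheory.Polynomial.Basic

/-!
A group law on the affine line over a field is determined by its unit.
-/

universe u

open CategoryTheory MonoidalCategory CartesianMonoidalCategory MonObj AlgebraicGeometry Limits Polynomial

set_option linter.style.haveILetI false
set_option backward.isDefEq.respectTransparency.types false

noncomputable section

namespace Groth.Agent.HopfRep.GaLaw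

open CharHom DiagRigid

section Poly

variable {k : Type u} [Field k]
  (m : ∀ (L : Type u) [CommRing L] [Algebra k L], L → L → L)
  (iv : ∀ (L : Type u) [CommRing L] [Algebra k L], L → L) (e : k)
  (hnat : ∀ (L L' : Type u) [CommRing L] [Algebra k L] [CommRing L'] [Algebra k L'] (φ : L →ₐ[k] L') (a b : L),
    φ (m L a b) = m L' (φ a) (φ b))
  (hivnat : ∀ (L L' : Type u) [CommRing L] [Algebra k L] [CommRing L'] [Algebra k L'] (φ : L →ₐ[k] L') (a : L),
    φ (iv L a) = iv L' (φ a))
  (hassoc : ∀ (L : Type u) [CommRing L] [Algebra k L] (a b c : L), m L (m L a b) c = m L a (m L b c))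
  (hone : ∀ (L : Type u) [CommRing L] [Algebra k L] (a : L), m L (algebraMap k L e) a = a)
  (hone' : ∀ (L : Type u) [CommRing L] [Algebra k L] (a : L), m L a (algebraMap k L e) = a)
  (hinv : ∀ (L : Type u) [CommRing L] [Algebra k L] (a : L), m L a (iv L a) = algebraMap k L e)
  (hinv' : ∀ (L : Type u) [CommRing L] [Algebra k L] (a : L), m L (iv L a) a = algebraMap k L e)

include hnat hivnat hassoc hone hone' hinv hinv' in
theorem law_eq (L : Type u) [CommRing L] [Algebra k L] (a b : L) : m L a b = a + b - algebraMap k L e := by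
  let R := Polynomial k
  let p : R[X] := m R[X] X (C X)
  let y' : R := iv R X
  let q : R[X] := m R[X] X (C y')
  have hy' : iv R[X] (C X) = C y' := ((hivnat R R[X] (IsScalarTower.toAlgHom k R R[X]) X).symm : _)
  have hsub : ∀ (z r : R[X]) (b' : R), m R[X] X (C b') = r → r.comp z = m R[X] z (C b') := fun z r b' h => by
    rw [← h]
    let ψ : R[X] →ₐ[k] R[X] := (aeval z).restrictScalars k
    have h1 : ∀ f : R[X], f.comp z = ψ f := fun f => rfl
    rw [h1, hnat]
    congr 1
    · exact aeval_X z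
    · exact aeval_C z b'
  have h1 : p.comp q = X := by
    rw [hsub q p X rfl, show q = m R[X] X (C y') from rfl, ← hy', hassoc, hinv', hone']
  have h2 : q.comp p = X := by
    rw [hsub p q y' rfl, show p = m R[X] X (C X) from rfl, hassoc, ← hy', hinv, hone']
  have hdeg : p.natDegree = 1 := by
    have h := congrArg natDegree h1
    rw [natDegree_comp, natDegree_X] at h
    exact Nat.eq_one_of_mul_eq_one_right h
  obtain ⟨c, d, hp⟩ : ∃ c d : R, p = C c * X + C d :=
    ⟨p.coeff 1, p.coeff 0, eq_X_add_C_of_natDegree_le_one hdeg.le⟩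
  have hc : IsUnit c := by
    have h := congrArg (fun f => Polynomial.coeff f 1) h1
    rw [hp] at h
    simp only [add_comp, Polynomial.mul_comp, C_comp, X_comp, Polynomial.coeff_add, coeff_C_mul, Polynomial.coeff_C, coeff_X_one] at h
    exact IsUnit.of_mul_eq_one (q.coeff 1) (by simpa using h)
  obtain ⟨c₀, -, rfl⟩ := Polynomial.isUnit_iff.1 hc
  have key : ∀ (L : Type u) [CommRing L] [Algebra k L] (a b : L),
      m L a b = algebraMap k L c₀ * a + aeval b d := by
    intro L _ _ a b
    let φ : R[X] →ₐ[k] L := aevalTower (aeval b) a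
    have hφX : φ X = a := aevalTower_X _ _
    have hφC : ∀ r : R, φ (C r) = aeval b r := fun r => aevalTower_C _ _ r
    have h := hnat R[X] L φ X (C X)
    rw [hφX, hφC, aeval_X, show m R[X] X (C X) = C (C c₀) * X + C d from hp, map_add, map_mul, hφX, hφC, hφC,
      aeval_C] at h
    exact h.symm
  have hd : ∀ (L : Type u) [CommRing L] [Algebra k L] (b : L),
      algebraMap k L c₀ * algebraMap k L e + aeval b d = b := fun L _ _ b => (key L _ b).symm.trans (hone L b)
  have hc1 : c₀ = 1 := by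
    have hX := key R X (C e)
    rw [show (C e : R) = algebraMap k R e from rfl, hone', aeval_algebraMap_apply] at hX
    have h := congrArg (fun f => Polynomial.coeff f 1) hX
    simpa [R, ← Polynomial.C_eq_algebraMap, Polynomial.algebraMap_eq, Polynomial.coeff_C] using h.symm
  subst hc1
  have h := hd L b
  rw [map_one, _root_.one_mul] at h
  rw [key L a b, map_one, _root_.one_mul]
  linear_combination h

end Poly

variable {k : Type u} [Field k]

/-- the algebra structure over `ULift ℤ` -/
abbrev intAlg (L : Type u) [CommRing L] : Algebra (ULift.{u} ℤ) L where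
  smul r x := r.down • x
  algebraMap := (algebraMap ℤ L).comp (ULift.ringEquiv : ULift.{u} ℤ ≃+* ℤ).toRingHom
  commutes' _ _ := _root_.mul_comm _ _
  smul_def' r x := zsmul_eq_mul x r.down

attribute [local instance] intAlg

theorem intAlg_unique {L : Type u} [CommRing L] (f : ULift.{u} ℤ →+* L) (r : ULift.{u} ℤ) :
    f r = algebraMap (ULift.{u} ℤ) L r := by
  have h : f.comp ULift.ringEquiv.symm.toRingHom = algebraMap ℤ L := RingHom.ext_int _ _
  exact RingHom.congr_fun h r.down

/-- points of `ℤ[X]` -/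
def symEquiv (L : Type u) [CommRing L] :
    (CommRingCat.of (SymmetricAlgebra (ULift.{u} ℤ) (ULift.{u} ℤ)) ⟶ CommRingCat.of L) ≃ L where
  toFun g := g.hom (SymmetricAlgebra.ι (ULift.{u} ℤ) (ULift.{u} ℤ) 1)
  invFun l := CommRingCat.ofHom ((SymmetricAlgebra.lift (R := ULift.{u} ℤ) (M := ULift.{u} ℤ)
    ((LinearMap.mulRight (ULift.{u} ℤ) l).comp (Algebra.linearMap (ULift.{u} ℤ) L))).toRingHom)
  left_inv g := by
    apply CommRingCat.hom_ext
    let f : SymmetricAlgebra (ULift.{u} ℤ) (ULift.{u} ℤ) →ₐ[ULift.{u} ℤ] L :=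
      ⟨g.hom, fun r => intAlg_unique (g.hom.comp (algebraMap _ _)) r⟩
    refine Eq.trans ?_ (show f.toRingHom = g.hom from rfl)
    refine congrArg AlgHom.toRingHom (SymmetricAlgebra.algHom_ext (LinearMap.ext_ring ?_))
    rw [LinearMap.comp_apply]
    show SymmetricAlgebra.lift _ (SymmetricAlgebra.ι _ _ 1) = f (SymmetricAlgebra.ι _ _ 1)
    rw [SymmetricAlgebra.lift_ι_apply, LinearMap.comp_apply, Algebra.linearMap_apply, (algebraMap (ULift.{u} ℤ) L).map_one,
      LinearMap.mulRight_apply, _root_.one_mul]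
    rfl
  right_inv l := by
    show SymmetricAlgebra.lift _ (SymmetricAlgebra.ι _ _ 1) = l
    rw [SymmetricAlgebra.lift_ι_apply, LinearMap.comp_apply, Algebra.linearMap_apply, (algebraMap (ULift.{u} ℤ) L).map_one,
      LinearMap.mulRight_apply, _root_.one_mul]

/-- points of `𝔾_a` over `ℤ` -/
def overEquiv (L : Type u) [CommRing L] (t : Spec (CommRingCat.of L) ⟶ Spec (CommRingCat.of (ULift.{u} ℤ))) :
    (Over.mk t ⟶ Red.GaZ) ≃ L :=
  ({ toFun := fun g => g.left
     invFun := fun g => Over.homMk g (specULiftZIsTerminal.hom_ext _ _)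
     left_inv := fun _ => rfl
     right_inv := fun _ => rfl } : (Over.mk t ⟶ Red.GaZ) ≃ (Spec (CommRingCat.of L) ⟶ Red.GaZ.left)).trans
    (Spec.homEquiv.trans (symEquiv L))

/-- points of `𝔾_a` -/
def gaEquiv (L : Type u) [CommRing L] [Algebra k L] :
    (Tp (K := k) L ⟶ Red.Ga (Spec (CommRingCat.of k))) ≃ L :=
  ((Over.mapPullbackAdj (IsTerminal.from specULiftZIsTerminal (Spec (CommRingCat.of k)))).homEquiv _ _).symm.trans
    (overEquiv L _)

theorem gaEquiv_nat (L L' : Type u) [CommRing L] [Algebra k L] [CommRing L'] [Algebra k L'] (φ : L →ₐ[k] L')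
    (g : Tp (K := k) L ⟶ Red.Ga (Spec (CommRingCat.of k))) :
    φ (gaEquiv L g) = gaEquiv L' (Tmap _ φ ≫ g) := by
  have h := (Over.mapPullbackAdj (IsTerminal.from specULiftZIsTerminal (Spec (CommRingCat.of k)))).homEquiv_naturality_left_symm
    (Tmap (𝟙 (Spec (CommRingCat.of k))) φ) g
  show φ (overEquiv L _ _) = overEquiv L' _ _
  rw [h]
  generalize ((Over.mapPullbackAdj _).homEquiv (Tp (K := k) L) Red.GaZ).symm g = g'
  show φ ((Spec.preimage (S := CommRingCat.of L) g'.left).hom _) =
    (Spec.preimage (S := CommRingCat.of L') ((Tmap (𝟙 (Spec (CommRingCat.of k))) φ).left ≫ g'.left)).hom _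
  have e : Spec.preimage (S := CommRingCat.of L')
      ((Tmap (𝟙 (Spec (CommRingCat.of k))) φ).left ≫ g'.left) =
      Spec.preimage (S := CommRingCat.of L) g'.left ≫ CommRingCat.ofHom φ.toRingHom := by
    apply Spec.map_injective
    rw [Spec.map_preimage, Spec.map_comp, Spec.map_preimage]
    rfl
  exact (RingHom.congr_fun (congrArg CommRingCat.Hom.hom e) _).symm

theorem law {Y : Over (Spec (CommRingCat.of k))} [GrpObj Y]
    (E : ∀ (L : Type u) [CommRing L] [Algebra k L], (Tp (K := k) L ⟶ Y) ≃ L)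
    (hE : ∀ (L L' : Type u) [CommRing L] [Algebra k L] [CommRing L'] [Algebra k L'] (φ : L →ₐ[k] L')
      (g : Tp (K := k) L ⟶ Y), φ (E L g) = E L' (Tmap _ φ ≫ g))
    (L : Type u) [CommRing L] [Algebra k L] (a : Tp (K := k) L ⟶ Y ⊗ Y) :
    E L (a ≫ μ[Y]) = E L (a ≫ fst Y Y) + E L (a ≫ snd Y Y) - algebraMap k L (E k (toUnit _ ≫ η[Y])) := by
  have hnat : ∀ (L L' : Type u) [CommRing L] [Algebra k L] [CommRing L'] [Algebra k L'] (φ : L →ₐ[k] L') (a : L),
      (E L').symm (φ a) = Tmap _ φ ≫ (E L).symm a := fun L L' _ _ _ _ φ a => by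
    rw [Equiv.symm_apply_eq, ← hE, Equiv.apply_symm_apply]
  have hε : ∀ (L : Type u) [CommRing L] [Algebra k L],
      (E L).symm (algebraMap k L (E k (1 : Tp (K := k) k ⟶ Y))) = 1 :=
    fun L _ _ => by
    have := hnat k L (Algebra.ofId k L) (E k 1)
    rw [Equiv.symm_apply_apply, MonObj.comp_one] at this
    exact this
  have h := law_eq (fun L _ _ a b => E L ((E L).symm a * (E L).symm b))
    (fun L _ _ a => E L ((E L).symm a)⁻¹) (E k (1 : Tp (K := k) k ⟶ Y))
    (fun L L' _ _ _ _ φ a b => by simp only [hE, MonObj.comp_mul, hnat])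
    (fun L L' _ _ _ _ φ a => by simp only [hE, GrpObj.comp_inv, hnat])
    (fun L _ _ a b c => by simp [_root_.mul_assoc])
    (fun L _ _ a => by simp [hε])
    (fun L _ _ a => by simp [hε])
    (fun L _ _ a => by rw [Equiv.symm_apply_apply, mul_inv_cancel, ← hε L, Equiv.apply_symm_apply])
    (fun L _ _ a => by rw [Equiv.symm_apply_apply, inv_mul_cancel, ← hε L, Equiv.apply_symm_apply]) L (E L (a ≫ fst Y Y)) (E L (a ≫ snd Y Y))
  rw [Equiv.symm_apply_apply, Equiv.symm_apply_apply, ← MonObj.comp_mul, Hom.mul_def, lift_fst_snd,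
    Category.id_comp] at h
  rw [h, Hom.one_def]

theorem mul_eq_of_one_eq (h₁ h₂ : GrpObj (Red.Ga (Spec (CommRingCat.of k)))) (e : h₁.one = h₂.one) :
    h₁.mul = h₂.mul := by
  refine pts_ext fun L _ _ a => (gaEquiv L).injective ?_
  rw [@law k _ _ h₁ gaEquiv gaEquiv_nat L _ _ a, @law k _ _ h₂ gaEquiv gaEquiv_nat L _ _ a, e]

end Groth.Agent.HopfRep.GaLaw

end
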