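import Groth.Agent.HopfRep.HopfDim
import Mathlib.AlgebraicGeometry.Morphisms.Etale
import Mathlib.AlgebraicGeometry.Pullbacks
import Mathlib.AlgebraicGeometry.Properties
import Mathlib.LinearAlgebra.TensorProduct.Basis
import Mathlib.RingTheory.RingHom.Smooth

/-!
A reduced scheme dominated by a smooth one stays reduced after extension of the base field.
-/

universe u

open TensorProduct CategoryTheory AlgebraicGeometry Limits

set_option linter.style.haveILetI false

noncomputable section

namespace Groth.Agent.HopfRep.GeomReduced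

theorem isReduced_of_smooth_algebra (k B : Type u) [Field k] [CommRing B] [Algebra k B]
    [Algebra.Smooth k B] : _root_.IsReduced B := by
  refine isReduced_ofLocalizationMaximal _ fun J _ => ?_
  have : Algebra.FormallySmooth B (Localization.AtPrime J) := .of_isLocalization J.primeCompl
  have : Algebra.IsSmoothAt k J := Algebra.FormallySmooth.comp k B (Localization.AtPrime J)
  have := HopfDim.isRegularLocalRing_of_isSmoothAt (k := k) J
  have : IsDomain (Localization.AtPrime J) := Groth.Agent.RegularLocal.Basic.isDomain_aux _ _ rfl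
  infer_instance

theorem eq_zero_of_forall {k : Type u} [Field k] (L : Type u) [CommRing L] [Algebra k L] {A : Type u}
    [CommRing A] [Algebra k A] {ι : Type*} {C : ι → Type u} [∀ i, CommRing (C i)] [∀ i, Algebra k (C i)]
    (g : ∀ i, A →ₐ[k] C i) (hg : ∀ a, (∀ i, g i a = 0) → a = 0) (x : L ⊗[k] A)
    (hx : ∀ i, Algebra.TensorProduct.map (AlgHom.id k L) (g i) x = 0) : x = 0 := by
  classical
  let b := Module.Free.chooseBasis k L
  have key : ∀ (i : ι) (y : L ⊗[k] A) j,
      TensorProduct.equivFinsuppOfBasisLeft b (Algebra.TensorProduct.map (AlgHom.id k L) (g i) y) j =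
        g i (TensorProduct.equivFinsuppOfBasisLeft b y j) := by
    intro i y j
    induction y using TensorProduct.induction_on with
    | zero => simp
    | tmul l a => simp
    | add y z hy hz => simp only [map_add, Finsupp.add_apply, hy, hz]
  apply (TensorProduct.equivFinsuppOfBasisLeft b).injective
  ext j
  rw [map_zero, Finsupp.coe_zero, Pi.zero_apply]
  exact hg _ fun i => by rw [← key, hx, map_zero, Finsupp.coe_zero, Pi.zero_apply]

theorem isReduced_affine {k : Type u} [Field k] (L : Type u) [Field L] [Algebra k L] (A : Type u)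
    [CommRing A] [Algebra k A] [_root_.IsReduced A] {G : Scheme.{u}} (f : G ⟶ Spec (CommRingCat.of A))
    [Surjective f] [Smooth (f ≫ Spec.map (CommRingCat.ofHom (algebraMap k A)))] :
    _root_.IsReduced (L ⊗[k] A) := by
  let ι := G.affineOpens
  let ρ : ∀ W : ι, A →+* Γ(G, W.1) := fun W =>
    ((Scheme.ΓSpecIso (CommRingCat.of A)).inv ≫ f.appLE ⊤ W.1 le_top).hom
  have hρ : ∀ W : ι, Spec.map (CommRingCat.ofHom (ρ W)) = W.2.fromSpec ≫ f := fun W => by
    show Spec.map (_ ≫ _) = _
    rw [Spec.map_comp, ← IsAffineOpen.SpecMap_appLE_fromSpec f (isAffineOpen_top _) W.2,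
      IsAffineOpen.fromSpec_top, Scheme.isoSpec_Spec_inv]
    all_goals first | rfl | exact le_top
  letI : ∀ W : ι, Algebra k Γ(G, W.1) := fun W => ((ρ W).comp (algebraMap k A)).toAlgebra
  let g : ∀ W : ι, A →ₐ[k] Γ(G, W.1) := fun W => { ρ W with commutes' := fun _ => rfl }
  have hsm : ∀ W : ι, Algebra.Smooth k Γ(G, W.1) := fun W => by
    rw [← RingHom.smooth_algebraMap]
    have : Smooth (Spec.map (CommRingCat.ofHom (algebraMap k Γ(G, W.1)))) := by
      have : CommRingCat.ofHom (algebraMap k Γ(G, W.1)) = CommRingCat.ofHom (algebraMap k A) ≫ CommRingCat.ofHom (ρ W) := rfl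
      rw [this, Spec.map_comp, hρ W, Category.assoc]
      have hW : IsAffineOpen W.1 := W.2
      exact MorphismProperty.comp_mem @Smooth _ _ (inferInstance : Smooth hW.fromSpec) inferInstance
    exact (HasRingHomProperty.Spec_iff (P := @Smooth)).1 this
  have hg : ∀ a, (∀ W, g W a = 0) → a = 0 := by
    intro a ha
    refine IsReduced.eq_zero a (nilpotent_iff_mem_prime.2 fun P hP => ?_)
    obtain ⟨y, hy⟩ := f.surjective (⟨P, hP⟩ : PrimeSpectrum A)
    obtain ⟨_, ⟨W, hW, rfl⟩, hyW, -⟩ := G.isBasis_affineOpens.exists_subset_of_mem_open (Set.mem_univ y) isOpen_univ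
    obtain ⟨q, rfl⟩ : y ∈ Set.range (hW : IsAffineOpen W).fromSpec := by
      exact (IsAffineOpen.range_fromSpec (hU := hW)).ge hyW
    rw [← Scheme.Hom.comp_apply, ← hρ ⟨W, hW⟩] at hy
    have hq : (PrimeSpectrum.comap (ρ ⟨W, hW⟩) q).asIdeal = P := congrArg PrimeSpectrum.asIdeal hy
    rw [← hq]
    show ρ ⟨W, hW⟩ a ∈ q.asIdeal
    rw [show ρ ⟨W, hW⟩ a = 0 from ha ⟨W, hW⟩]
    exact zero_mem _
  refine ⟨fun x hx => eq_zero_of_forall L g hg x fun W => ?_⟩
  have := hsm W
  have := isReduced_of_smooth_algebra L (L ⊗[k] Γ(G, W.1))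
  exact (hx.map _).eq_zero

/-- A reduced scheme receiving a surjection from a smooth one is geometrically reduced. -/
theorem isReduced_pullback {k : Type u} [Field k] (L : Type u) [Field L] [Algebra k L] {G H : Scheme.{u}}
    (f : G ⟶ H) [Surjective f] (h : H ⟶ Spec (CommRingCat.of k)) [IsReduced H] [Smooth (f ≫ h)] :
    IsReduced (pullback h (Spec.map (CommRingCat.ofHom (algebraMap k L)))) := by
  let g := Spec.map (CommRingCat.ofHom (algebraMap k L))
  let 𝒰₀ := H.affineOpenCover
  let 𝒰 := Scheme.Pullback.openCoverOfLeft 𝒰₀.openCover h g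
  have hred : ∀ i, IsReduced (𝒰.X i) := by
    intro i
    show IsReduced (pullback (𝒰₀.f i ≫ h) g)
    have : IsOpenImmersion (𝒰₀.f i) := 𝒰₀.openCover.map_prop i
    let R := Spec.preimage (𝒰₀.f i ≫ h)
    letI : Algebra k (𝒰₀.X i) := R.hom.toAlgebra
    have hR : Spec.map (CommRingCat.ofHom (algebraMap k (𝒰₀.X i))) = 𝒰₀.f i ≫ h := Spec.map_preimage _
    let f' : pullback f (𝒰₀.f i) ⟶ Spec (CommRingCat.of (𝒰₀.X i)) := pullback.snd f (𝒰₀.f i)
    have : Smooth (f' ≫ Spec.map (CommRingCat.ofHom (algebraMap k (𝒰₀.X i)))) := by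
      rw [hR]
      show Smooth (pullback.snd f (𝒰₀.f i) ≫ 𝒰₀.f i ≫ h)
      rw [← Category.assoc, ← pullback.condition, Category.assoc]
      infer_instance
    have : Surjective f' := inferInstanceAs (Surjective (pullback.snd f (𝒰₀.f i)))
    have : IsReduced (Spec (𝒰₀.X i)) := isReduced_of_isOpenImmersion (𝒰₀.f i)
    have : _root_.IsReduced (𝒰₀.X i) := (affine_isReduced_iff _).1 this
    have := isReduced_affine (k := k) L (𝒰₀.X i) f'
    have : _root_.IsReduced ((𝒰₀.X i) ⊗[k] L) :=
      isReduced_of_injective _ (Algebra.TensorProduct.comm k (𝒰₀.X i) L).injective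
    have : IsReduced (Spec (CommRingCat.of ((𝒰₀.X i) ⊗[k] L))) := (affine_isReduced_iff _).2 this
    rw [← hR]
    exact isReduced_of_isOpenImmersion (pullbackSpecIso k (𝒰₀.X i) L).hom
  have : ∀ z : (pullback h g : Scheme.{u}), _root_.IsReduced ((pullback h g).presheaf.stalk z) := by
    intro z
    obtain ⟨i, w, rfl⟩ := 𝒰.exists_eq z
    have := hred i
    exact isReduced_of_injective _ (asIso ((𝒰.f i).stalkMap w)).commRingCatIsoToRingEquiv.injective
  exact isReduced_of_isReduced_stalk _

end Groth.Agent.HopfRep.GeomReduced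

end
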