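import Groth.Agent.HopfRep.SplitExact
import Mathlib.Algebra.MonoidAlgebra.NoZeroDivisors
import Mathlib.Algebra.Group.UniqueProds.Basic
import Mathlib.Algebra.Group.TypeTags.Hom

/-!
A group law on the punctured line over a field is determined by its unit.
-/

universe u

open CategoryTheory MonoidalCategory CartesianMonoidalCategory MonObj AlgebraicGeometry Limits

set_option linter.style.haveILetI false
set_option backward.isDefEq.respectTransparency.types false

noncomputable section

namespace Groth.Agent.HopfRep.GmLaw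

open CharHom DiagRigid SplitExact

theorem exists_single_of_isUnit {R : Type u} [CommRing R] [IsDomain R] {G : Type} [CommGroup G] [TwoUniqueProds G]
    {f g : MonoidAlgebra R G} (h : f * g = 1) : ∃ a r, f = MonoidAlgebra.single a r := by
  classical
  by_contra hne
  have hf : 1 < f.coeff.support.card := by
    by_contra hc
    push Not at hc
    obtain ⟨a, ha⟩ := Finsupp.card_support_le_one.1 hc
    exact hne ⟨a, f.coeff a, MonoidAlgebra.coeff_injective (ha.trans (MonoidAlgebra.coeff_single _ _).symm)⟩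
  have hg : 1 ≤ g.coeff.support.card := by
    rw [Finset.one_le_card, Finsupp.support_nonempty_iff]
    intro h0
    have : g = 0 := MonoidAlgebra.coeff_injective (by rw [h0]; rfl)
    rw [this, mul_zero] at h
    exact zero_ne_one h
  obtain ⟨p₁, hp₁, p₂, hp₂, hne', h₁, h₂⟩ := TwoUniqueProds.uniqueMul_of_one_lt_card
    (show 1 < f.coeff.support.card * g.coeff.support.card by nlinarith)
  rw [Finset.mem_product] at hp₁ hp₂
  have key : ∀ p : G × G, p.1 ∈ f.coeff.support → p.2 ∈ g.coeff.support →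
      UniqueMul f.coeff.support g.coeff.support p.1 p.2 → p.1 * p.2 = 1 := by
    intro p hp hq hu
    by_contra hc
    have h1 := MonoidAlgebra.coeff_mul_mul_of_uniqueMul hu
    rw [h, MonoidAlgebra.one_def, MonoidAlgebra.coeff_single, Finsupp.single_eq_of_ne hc] at h1
    exact mul_ne_zero (Finsupp.mem_support_iff.1 hp) (Finsupp.mem_support_iff.1 hq) h1.symm
  have h12 := (key p₁ hp₁.1 hp₁.2 h₁).trans (key p₂ hp₂.1 hp₂.2 h₂).symm
  obtain ⟨e₁, e₂⟩ := h₁ hp₂.1 hp₂.2 h12.symm
  exact hne' (Prod.ext e₁.symm e₂.symm)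

section Law

variable {k : Type u} [Field k]
  (m : ∀ (L : Type u) [CommRing L] [Algebra k L], Lˣ → Lˣ → Lˣ) (e : kˣ)
  (hnat : ∀ (L L' : Type u) [CommRing L] [Algebra k L] [CommRing L'] [Algebra k L'] (φ : L →ₐ[k] L') (a b : Lˣ),
    Units.map (φ : L →* L') (m L a b) = m L' (Units.map (φ : L →* L') a) (Units.map (φ : L →* L') b))
  (hone : ∀ (L : Type u) [CommRing L] [Algebra k L] (a : Lˣ), m L (Units.map (algebraMap k L).toMonoidHom e) a = a)
  (hone' : ∀ (L : Type u) [CommRing L] [Algebra k L] (a : Lˣ), m L a (Units.map (algebraMap k L).toMonoidHom e) = a)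

include hnat hone hone' in
theorem law_eq (L : Type u) [CommRing L] [Algebra k L] (a b : Lˣ) :
    m L a b = a * b * (Units.map (algebraMap k L).toMonoidHom e)⁻¹ := by
  let N := Multiplicative ℤ × Multiplicative ℤ
  let x : (MonoidAlgebra k N)ˣ :=
    (MonoidAlgebra.of k N).toHomUnits (Multiplicative.ofAdd (1 : ℤ), 1)
  let y : (MonoidAlgebra k N)ˣ :=
    (MonoidAlgebra.of k N).toHomUnits (1, Multiplicative.ofAdd (1 : ℤ))
  obtain ⟨⟨i, j⟩, c, hc⟩ := exists_single_of_isUnit (m (MonoidAlgebra k N) x y).mul_inv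
  have key : ∀ (L : Type u) [CommRing L] [Algebra k L] (a b : Lˣ),
      (m L a b : L) = algebraMap k L c * ((a ^ Multiplicative.toAdd i * b ^ Multiplicative.toAdd j : Lˣ) : L) := by
    intro L _ _ a b
    let χ : N →* L := (Units.coeHom L).comp ((zpowersHom Lˣ a).coprod (zpowersHom Lˣ b))
    let φ : MonoidAlgebra k N →ₐ[k] L := MonoidAlgebra.lift k L N χ
    have hφ : ∀ n, φ (MonoidAlgebra.of k N n) = χ n := fun n => MonoidAlgebra.lift_of _ _
    have hx : Units.map (φ : MonoidAlgebra k N →* L) x = a := Units.ext <| by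
      show φ (MonoidAlgebra.of k N _) = _
      rw [hφ]
      show ((zpowersHom Lˣ a (Multiplicative.ofAdd 1) * zpowersHom Lˣ b 1 : Lˣ) : L) = _
      simp
    have hy : Units.map (φ : MonoidAlgebra k N →* L) y = b := Units.ext <| by
      show φ (MonoidAlgebra.of k N _) = _
      rw [hφ]
      show ((zpowersHom Lˣ a 1 * zpowersHom Lˣ b (Multiplicative.ofAdd 1) : Lˣ) : L) = _
      simp
    have h := hnat _ L φ x y
    rw [hx, hy] at h
    rw [← h]
    show φ _ = _
    rw [hc, show MonoidAlgebra.single (i, j) c = c • MonoidAlgebra.of k N (i, j) by simp, map_smul, hφ,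
      Algebra.smul_def]
    rfl
  -- determine the exponents
  let t : (MonoidAlgebra k (Multiplicative ℤ))ˣ :=
    (MonoidAlgebra.of k (Multiplicative ℤ)).toHomUnits (Multiplicative.ofAdd (1 : ℤ))
  have ht : ∀ n : Multiplicative ℤ, ((t ^ Multiplicative.toAdd n : (MonoidAlgebra k (Multiplicative ℤ))ˣ) :
      MonoidAlgebra k (Multiplicative ℤ)) = MonoidAlgebra.single n 1 := fun n => by
    show (((MonoidAlgebra.of k _).toHomUnits _) ^ Multiplicative.toAdd n : (MonoidAlgebra k (Multiplicative ℤ))ˣ).1 = _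
    rw [← map_zpow, ← ofAdd_zsmul]
    simp
  have hi : i = Multiplicative.ofAdd 1 ∧ c * ((e ^ Multiplicative.toAdd j : kˣ) : k) = 1 := by
    have h := key _ t (Units.map (algebraMap k _).toMonoidHom e)
    rw [hone', Units.val_mul, ← map_zpow (Units.map (algebraMap k (MonoidAlgebra k (Multiplicative ℤ))).toMonoidHom), ht, show ((Units.map (algebraMap k (MonoidAlgebra k (Multiplicative ℤ))).toMonoidHom
      (e ^ Multiplicative.toAdd j) : (MonoidAlgebra k (Multiplicative ℤ))ˣ) : MonoidAlgebra k (Multiplicative ℤ)) =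
      MonoidAlgebra.single 1 ((e ^ Multiplicative.toAdd j : kˣ) : k) from rfl,
      show algebraMap k (MonoidAlgebra k (Multiplicative ℤ)) c = MonoidAlgebra.single 1 c from rfl,
      MonoidAlgebra.single_mul_single, MonoidAlgebra.single_mul_single] at h
    simp only [_root_.one_mul, _root_.mul_one] at h
    have h' : MonoidAlgebra.single (Multiplicative.ofAdd (1 : ℤ)) (1 : k) =
        MonoidAlgebra.single i (c * ((e ^ Multiplicative.toAdd j : kˣ) : k)) := h
    exact single_eq h'
  have hj : j = Multiplicative.ofAdd 1 := by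
    have h := key _ (Units.map (algebraMap k _).toMonoidHom e) t
    rw [hone, Units.val_mul, ← map_zpow (Units.map (algebraMap k (MonoidAlgebra k (Multiplicative ℤ))).toMonoidHom), ht, show ((Units.map (algebraMap k (MonoidAlgebra k (Multiplicative ℤ))).toMonoidHom
      (e ^ Multiplicative.toAdd i) : (MonoidAlgebra k (Multiplicative ℤ))ˣ) : MonoidAlgebra k (Multiplicative ℤ)) =
      MonoidAlgebra.single 1 ((e ^ Multiplicative.toAdd i : kˣ) : k) from rfl,
      show algebraMap k (MonoidAlgebra k (Multiplicative ℤ)) c = MonoidAlgebra.single 1 c from rfl,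
      MonoidAlgebra.single_mul_single, MonoidAlgebra.single_mul_single] at h
    simp only [_root_.one_mul, _root_.mul_one] at h
    have h' : MonoidAlgebra.single (Multiplicative.ofAdd (1 : ℤ)) (1 : k) =
        MonoidAlgebra.single j (c * ((e ^ Multiplicative.toAdd i : kˣ) : k)) := h
    exact (single_eq h').1
  obtain ⟨rfl, hc'⟩ := hi
  subst hj
  rw [toAdd_ofAdd, zpow_one] at hc'
  refine Units.ext ?_
  rw [key L a b, eq_inv_of_mul_eq_one_left hc']
  simp only [toAdd_ofAdd, zpow_one, Units.val_mul]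
  rw [← Units.val_inv_eq_inv_val, _root_.mul_comm]
  rfl
where
  single_eq {i : Multiplicative ℤ} {r : k}
      (h : MonoidAlgebra.single (Multiplicative.ofAdd (1 : ℤ)) (1 : k) = MonoidAlgebra.single i r) :
      i = Multiplicative.ofAdd 1 ∧ r = 1 := by
    have h' := congrArg MonoidAlgebra.coeff h
    rw [MonoidAlgebra.coeff_single, MonoidAlgebra.coeff_single, Finsupp.single_eq_single_iff] at h'
    rcases h' with ⟨h1, h2⟩ | ⟨h1, -⟩
    · exact ⟨h1.symm, h2.symm⟩
    · exact absurd h1 one_ne_zero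

end Law

variable {k : Type u} [Field k]

/-- characters of `ℤ` are units -/
def charEquiv (L : Type u) [CommRing L] : (Multiplicative ℤ →* L) ≃ Lˣ where
  toFun χ := χ.toHomUnits (Multiplicative.ofAdd 1)
  invFun u := (Units.coeHom L).comp (zpowersHom Lˣ u)
  left_inv χ := by
    refine MonoidHom.ext fun n => ?_
    show ((χ.toHomUnits (Multiplicative.ofAdd 1)) ^ Multiplicative.toAdd n : Lˣ).1 = χ n
    rw [← map_zpow, ← ofAdd_zsmul]
    simp
  right_inv u := Units.ext (by simp)

theorem law {Y : Over (Spec (CommRingCat.of k))} [GrpObj Y]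
    (E : ∀ (L : Type u) [CommRing L] [Algebra k L], (Tp (K := k) L ⟶ Y) ≃ Lˣ)
    (hE : ∀ (L L' : Type u) [CommRing L] [Algebra k L] [CommRing L'] [Algebra k L'] (φ : L →ₐ[k] L')
      (g : Tp (K := k) L ⟶ Y), Units.map (φ : L →* L') (E L g) = E L' (Tmap _ φ ≫ g))
    (L : Type u) [CommRing L] [Algebra k L] (a : Tp (K := k) L ⟶ Y ⊗ Y) :
    E L (a ≫ μ[Y]) = E L (a ≫ fst Y Y) * E L (a ≫ snd Y Y) *
      (Units.map (algebraMap k L).toMonoidHom (E k (toUnit _ ≫ η[Y])))⁻¹ := by
  have hnat : ∀ (L L' : Type u) [CommRing L] [Algebra k L] [CommRing L'] [Algebra k L'] (φ : L →ₐ[k] L') (a : Lˣ),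
      (E L').symm (Units.map (φ : L →* L') a) = Tmap _ φ ≫ (E L).symm a := fun L L' _ _ _ _ φ a => by
    rw [Equiv.symm_apply_eq, ← hE, Equiv.apply_symm_apply]
  have hε : ∀ (L : Type u) [CommRing L] [Algebra k L],
      (E L).symm (Units.map (algebraMap k L).toMonoidHom (E k (1 : Tp (K := k) k ⟶ Y))) = 1 :=
    fun L _ _ => by
    have := hnat k L (Algebra.ofId k L) (E k 1)
    rw [Equiv.symm_apply_apply, MonObj.comp_one] at this
    exact this
  have h := law_eq (fun L _ _ a b => E L ((E L).symm a * (E L).symm b)) (E k (1 : Tp (K := k) k ⟶ Y))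
    (fun L L' _ _ _ _ φ a b => by simp only [hE, MonObj.comp_mul, hnat])
    (fun L _ _ a => by simp [hε, -RingHom.toMonoidHom_eq_coe])
    (fun L _ _ a => by simp [hε, -RingHom.toMonoidHom_eq_coe])
    L (E L (a ≫ fst Y Y)) (E L (a ≫ snd Y Y))
  rw [Equiv.symm_apply_apply, Equiv.symm_apply_apply, ← MonObj.comp_mul, Hom.mul_def, lift_fst_snd,
    Category.id_comp] at h
  rw [h, Hom.one_def]

theorem exists_equiv :
    ∃ E : ∀ (L : Type u) [CommRing L] [Algebra k L], (Tp (K := k) L ⟶ Red.Gm (Spec (CommRingCat.of k))) ≃ Lˣ,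
      ∀ (L L' : Type u) [CommRing L] [Algebra k L] [CommRing L'] [Algebra k L'] (φ : L →ₐ[k] L')
        (g : Tp (K := k) L ⟶ Red.Gm (Spec (CommRingCat.of k))),
        Units.map (φ : L →* L') (E L g) = E L' (Tmap _ φ ≫ g) := by
  obtain ⟨P, hP⟩ := exists_pts (k := k) (M := ℤ) (G := Red.DS (Spec (CommRingCat.of k)) ℤ) ⟨Iso.refl _⟩
  refine ⟨fun L _ _ => (Equiv.ofBijective (P.pt L : (Multiplicative ℤ →* L) → _)
      ⟨hP L, fun g => P.pt_surjective L g⟩).symm.trans (charEquiv L), fun L L' _ _ _ _ φ g => ?_⟩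
  obtain ⟨χ, rfl⟩ := P.pt_surjective L g
  rw [P.pt_nat]
  simp only [Equiv.trans_apply, Equiv.ofBijective_symm_apply_apply]
  exact Units.ext rfl

theorem mul_eq_of_one_eq (h₁ h₂ : GrpObj (Red.Gm (Spec (CommRingCat.of k)))) (e : h₁.one = h₂.one) :
    h₁.mul = h₂.mul := by
  obtain ⟨E, hE⟩ := exists_equiv (k := k)
  refine pts_ext fun L _ _ a => (E L).injective ?_
  rw [@law k _ _ h₁ E hE L _ _ a, @law k _ _ h₂ E hE L _ _ a, e]

end Groth.Agent.HopfRep.GmLaw

end
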