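import Groth.Agent.HopfRep.PrimGen

universe u v w

open TensorProduct

noncomputable section

namespace Groth.Agent.HopfRep.PrimGen

open Groth.Agent.HopfRep.Slice Groth.Agent.HopfRep.Flag

variable {k : Type u} [Field k] {A : Type v} [CommRing A] [HopfAlgebra k A] [Module.Finite k A]

section lemmas

variable {d₀ : ℕ} (x : Fin d₀ → A) (hxm : ∀ i, x i ∈ aug k A)

local notation "S" => MvPolynomial (Fin d₀) k
local notation "Ψ" => (MvPolynomial.aeval x : MvPolynomial (Fin d₀) k →ₐ[k] A)
local notation "m" => aug k A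
local notation "ΔS" => (MvPolynomial.aeval (fun i => (MvPolynomial.X i : MvPolynomial (Fin d₀) k) ⊗ₜ[k] (1 : MvPolynomial (Fin d₀) k) + (1 : MvPolynomial (Fin d₀) k) ⊗ₜ[k] (MvPolynomial.X i : MvPolynomial (Fin d₀) k)) : MvPolynomial (Fin d₀) k →ₐ[k] MvPolynomial (Fin d₀) k ⊗[k] MvPolynomial (Fin d₀) k)

variable (k d₀) in
/-- Bihomogeneous elements of total degree `n`. -/
def bi (n : ℕ) : Submodule k (MvPolynomial (Fin d₀) k ⊗[k] MvPolynomial (Fin d₀) k) := Submodule.span k
    {w | ∃ a b p r, MvPolynomial.IsHomogeneous (p : S) a ∧ MvPolynomial.IsHomogeneous (r : S) b ∧ a + b = n ∧ w = p ⊗ₜ[k] r}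

local notation "Bi" => bi k d₀

include hxm in
theorem aeval_mem_pow : ∀ (n : ℕ) (g : S), g.IsHomogeneous n → Ψ g ∈ m ^ n := by
    intro n g hg
    have hg' : g ∈ MvPolynomial.idealOfVars _ k ^ n := by
      rw [MvPolynomial.mem_pow_idealOfVars_iff]
      intro d hd
      exact ge_of_eq (by rw [Finsupp.degree_eq_weight_one]; exact hg (MvPolynomial.mem_support_iff.1 hd))
    have hle : Ideal.map Ψ (MvPolynomial.idealOfVars _ k ^ n) ≤ m ^ n := by
      rw [Ideal.map_pow]
      refine Ideal.pow_right_mono (Ideal.map_le_iff_le_comap.2 (Ideal.span_le.2 ?_)) n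
      rintro _ ⟨i, rfl⟩
      show Ψ _ ∈ m
      rw [MvPolynomial.aeval_X]
      exact hxm i
    exact hle (Ideal.mem_map_of_mem _ hg')

include hxm in
theorem aeval_comul : ∀ (g : S) (n : ℕ), g.IsHomogeneous n → ΔS g ∈ Bi n ∧
      Coalgebra.comul (R := k) (Ψ g) - TensorProduct.map (AlgHom.toLinearMap Ψ) (AlgHom.toLinearMap Ψ) (ΔS g) ∈ WW k A ^ (n + 1) := by
    have hBimul : ∀ a b, ∀ u ∈ Bi a, ∀ v ∈ Bi b, u * v ∈ Bi (a + b) := by
      intro a b u hu v hv
      induction hu using Submodule.span_induction with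
      | mem u hu =>
        induction hv using Submodule.span_induction with
        | mem v hv =>
          obtain ⟨a1, b1, p, r, hp, hr, rfl, rfl⟩ := hu
          obtain ⟨a2, b2, p', r', hp', hr', rfl, rfl⟩ := hv
          refine Submodule.subset_span ⟨a1 + a2, b1 + b2, p * p', r * r', hp.mul hp', hr.mul hr', by omega, ?_⟩
          rw [Algebra.TensorProduct.tmul_mul_tmul]
        | zero => simp
        | add p q _ _ hp hq => rw [mul_add]; exact add_mem hp hq
        | smul c p _ hp => rw [mul_smul_comm]; exact Submodule.smul_mem _ c hp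
      | zero => simp
      | add p q _ _ hp hq => rw [add_mul]; exact add_mem hp hq
      | smul c p _ hp => rw [smul_mul_assoc]; exact Submodule.smul_mem _ c hp
    let P : S →ₐ[k] A ⊗[k] A := (Algebra.TensorProduct.map Ψ Ψ).comp ΔS
    let Q' : S →ₐ[k] A ⊗[k] A := (Bialgebra.comulAlgHom k A).comp Ψ
    have hmon : ∀ d : Fin d₀ →₀ ℕ, ∀ c : k,
        ΔS (MvPolynomial.monomial d c) ∈ Bi d.degree ∧
        P (MvPolynomial.monomial d c) ∈ WW k A ^ d.degree ∧
        Q' (MvPolynomial.monomial d c) - P (MvPolynomial.monomial d c) ∈ WW k A ^ (d.degree + 1) := by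
      intro d c
      induction d using Finsupp.induction_linear generalizing c with
      | zero =>
        simp only [map_zero, MvPolynomial.monomial_zero']
        refine ⟨?_, by simp, ?_⟩
        · rw [← MvPolynomial.algebraMap_eq, AlgHom.commutes, Algebra.algebraMap_eq_smul_one,
            Algebra.TensorProduct.one_def]
          exact Submodule.smul_mem _ _ (Submodule.subset_span
            ⟨0, 0, 1, 1, MvPolynomial.isHomogeneous_one _ _, MvPolynomial.isHomogeneous_one _ _, rfl, rfl⟩)
        · rw [← MvPolynomial.algebraMap_eq, AlgHom.commutes, AlgHom.commutes, sub_self]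
          exact zero_mem _
      | add f g hf hg =>
        obtain ⟨f1, f2, f3⟩ := hf c
        obtain ⟨g1, g2, g3⟩ := hg 1
        have e : MvPolynomial.monomial (f + g) c = MvPolynomial.monomial f c * MvPolynomial.monomial g 1 := by
          rw [MvPolynomial.monomial_mul, mul_one]
        rw [e, map_add, map_mul, map_mul, map_mul]
        refine ⟨hBimul _ _ _ f1 _ g1, by rw [pow_add]; exact Ideal.mul_mem_mul f2 g2, ?_⟩
        have hQ : Q' (MvPolynomial.monomial g 1) ∈ WW k A ^ g.degree := by
          have := add_mem (Ideal.pow_le_pow_right (Nat.le_succ _) g3) g2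
          rwa [sub_add_cancel] at this
        have e2 : Q' (MvPolynomial.monomial f c) * Q' (MvPolynomial.monomial g 1) -
            P (MvPolynomial.monomial f c) * P (MvPolynomial.monomial g 1) =
            (Q' (MvPolynomial.monomial f c) - P (MvPolynomial.monomial f c)) * Q' (MvPolynomial.monomial g 1) +
            P (MvPolynomial.monomial f c) * (Q' (MvPolynomial.monomial g 1) - P (MvPolynomial.monomial g 1)) := by
          ring
        rw [e2]
        refine add_mem ?_ ?_
        · rw [show f.degree + g.degree + 1 = (f.degree + 1) + g.degree by omega, pow_add]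
          exact Ideal.mul_mem_mul f3 hQ
        · rw [add_assoc, pow_add]
          exact Ideal.mul_mem_mul f2 g3
      | single i j =>
        rw [Finsupp.degree_single, ← MvPolynomial.C_mul_X_pow_eq_monomial]
        have hX1 : ΔS (MvPolynomial.X i) ∈ Bi 1 := by
          simp only [MvPolynomial.aeval_X]
          exact add_mem
            (Submodule.subset_span ⟨1, 0, _, 1, MvPolynomial.isHomogeneous_X k i, MvPolynomial.isHomogeneous_one _ _, rfl, rfl⟩)
            (Submodule.subset_span ⟨0, 1, 1, _, MvPolynomial.isHomogeneous_one _ _, MvPolynomial.isHomogeneous_X k i, rfl, rfl⟩)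
        have hXP : P (MvPolynomial.X i) = x i ⊗ₜ[k] (1 : A) + (1 : A) ⊗ₜ[k] x i := by
          simp [P]
        have hX2 : P (MvPolynomial.X i) ∈ WW k A ∧ Q' (MvPolynomial.X i) ∈ WW k A ∧
            Q' (MvPolynomial.X i) - P (MvPolynomial.X i) ∈ WW k A ^ 2 := by
          have hQX : Q' (MvPolynomial.X i) = Coalgebra.comul (R := k) (x i) := by simp [Q']
          rw [hXP, hQX]
          exact ⟨add_mem (Ideal.mem_sup_left (Ideal.mem_map_of_mem (Algebra.TensorProduct.includeLeft : A →ₐ[k] A ⊗[k] A) (hxm i)))
            (Ideal.mem_sup_right (Ideal.mem_map_of_mem (Algebra.TensorProduct.includeRight : A →ₐ[k] A ⊗[k] A) (hxm i))),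
            comul_mem_WW (hxm i), comul_sub_mem (hxm i)⟩
        induction j generalizing c with
        | zero =>
          rw [pow_zero, mul_one, ← MvPolynomial.algebraMap_eq, AlgHom.commutes, AlgHom.commutes, AlgHom.commutes,
            sub_self]
          refine ⟨?_, by simp, zero_mem _⟩
          rw [Algebra.algebraMap_eq_smul_one, Algebra.TensorProduct.one_def]
          exact Submodule.smul_mem _ _ (Submodule.subset_span
            ⟨0, 0, 1, 1, MvPolynomial.isHomogeneous_one _ _, MvPolynomial.isHomogeneous_one _ _, rfl, rfl⟩)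
        | succ j ihj =>
          obtain ⟨a1, a2, a3⟩ := ihj c
          rw [pow_succ, ← mul_assoc]
          generalize MvPolynomial.C c * MvPolynomial.X i ^ j = w at a1 a2 a3 ⊢
          rw [map_mul, map_mul, map_mul]
          refine ⟨hBimul _ _ _ a1 _ hX1, by rw [pow_succ]; exact Ideal.mul_mem_mul a2 hX2.1, ?_⟩
          have e2 : ∀ p r s t : A ⊗[k] A, p * r - s * t = (p - s) * r + s * (r - t) := fun p r s t => by ring
          rw [e2]
          refine add_mem ?_ ?_
          · rw [pow_succ]; exact Ideal.mul_mem_mul a3 hX2.2.1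
          · rw [show j + 1 + 1 = j + 2 by omega, pow_add]; exact Ideal.mul_mem_mul a2 hX2.2.2
    intro g n hg
    have hdeg : ∀ d ∈ g.support, d.degree = n := fun d hd => by
      rw [Finsupp.degree_eq_weight_one]; exact hg (MvPolynomial.mem_support_iff.1 hd)
    refine ⟨?_, ?_⟩
    · rw [g.as_sum, map_sum]
      exact Submodule.sum_mem _ fun d hd => hdeg d hd ▸ (hmon d _).1
    · show Q' g - P g ∈ _
      rw [g.as_sum, map_sum, map_sum, ← Finset.sum_sub_distrib]
      exact Submodule.sum_mem _ fun d hd => hdeg d hd ▸ (hmon d _).2.2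

end lemmas

variable (k A) in
/-- Powers of the augmentation ideal as subspaces. -/
abbrev pw (n : ℕ) : Submodule k A := (aug k A ^ n).restrictScalars k

variable (k A) in
/-- The graded pieces. -/
def gr (n : ℕ) : Type v := (pw k A n) ⧸ (pw k A (n + 1)).comap (pw k A n).subtype

instance (n : ℕ) : AddCommGroup (gr k A n) :=
  inferInstanceAs (AddCommGroup ((pw k A n) ⧸ (pw k A (n + 1)).comap (pw k A n).subtype))

instance (n : ℕ) : Module k (gr k A n) :=
  inferInstanceAs (Module k ((pw k A n) ⧸ (pw k A (n + 1)).comap (pw k A n).subtype))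

/-- The projection to a graded piece. -/
def grMk (n : ℕ) : pw k A n →ₗ[k] gr k A n := Submodule.mkQ _

theorem grMk_surjective (n : ℕ) : Function.Surjective (grMk (k := k) (A := A) n) := Submodule.mkQ_surjective _

theorem grMk_eq_zero {n : ℕ} {a : pw k A n} : grMk n a = 0 ↔ (a : A) ∈ aug k A ^ (n + 1) :=
  (Submodule.Quotient.mk_eq_zero _).trans Iff.rfl

theorem finrank_gr [Module.Finite k A] (n : ℕ) :
    Module.finrank k (gr k A n) + Module.finrank k (pw k A (n + 1)) = Module.finrank k (pw k A n) := by
  have h := Submodule.finrank_quotient_add_finrank ((pw k A (n + 1)).comap (pw k A n).subtype)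
  rw [(Submodule.comapSubtypeEquivOfLe
    (show pw k A (n + 1) ≤ pw k A n from fun x hx => Ideal.pow_le_pow_right (Nat.le_succ n) hx)).finrank_eq] at h
  exact h

instance [Module.Finite k A] (n : ℕ) : Module.Finite k (gr k A n) :=
  Module.Finite.of_surjective (grMk n) (grMk_surjective n)

/-- First isomorphism theorem for a quotient by an ideal. -/
def idealQuotEquiv {S W : Type*} [CommRing S] [Algebra k S] [AddCommGroup W] [Module k W] (K : Ideal S)
    (f : S →ₗ[k] W) (h : K.restrictScalars k = LinearMap.ker f) (hf : Function.Surjective f) : (S ⧸ K) ≃ₗ[k] W :=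
  ((Submodule.Quotient.restrictScalarsEquiv k K).symm.trans (Submodule.quotEquivOfEq _ _ h)).trans
    (f.quotKerEquivOfSurjective hf)

theorem idealQuotEquiv_mk {S W : Type*} [CommRing S] [Algebra k S] [AddCommGroup W] [Module k W] (K : Ideal S)
    (f : S →ₗ[k] W) (h : K.restrictScalars k = LinearMap.ker f) (hf : Function.Surjective f) (x : S) :
    idealQuotEquiv K f h hf (Ideal.Quotient.mk K x) = f x := rfl

/-- The dimension of `A/m^N` is a power of the exponential characteristic. -/
theorem exists_finrank_quotient_pow (q : ℕ) [ExpChar k q] :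
    ∃ N s : ℕ, aug k A ^ N = aug k A ^ (N + 1) ∧ Module.finrank k (A ⧸ aug k A ^ N) = q ^ s ∧
      aug k A ^ (q ^ s) = aug k A ^ N := by
  classical
  let m := aug k A
  have hMi : ∀ n, pw k A (n + 1) ≤ pw k A n := fun n => fun x hx => Ideal.pow_le_pow_right (Nat.le_succ n) hx
  obtain ⟨N, hN⟩ : ∃ N, pw k A N = pw k A (N + 1) := by
    by_contra hne
    push Not at hne
    have : ∀ n, Module.finrank k (pw k A n) + n ≤ Module.finrank k A := by
      intro n
      induction n with
      | zero => simpa using Submodule.finrank_le (pw k A 0)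
      | succ n ih =>
        have := Submodule.finrank_lt_finrank_of_lt (lt_of_le_of_ne (hMi  n) fun h => hne n h.symm)
        omega
    have := this (Module.finrank k A + 1)
    omega
  have hstab : ∀ n, N ≤ n → m ^ n = m ^ N := by
    intro n hn
    induction n, hn using Nat.le_induction with
    | base => rfl
    | succ n _ ih =>
      have : m ^ N = m ^ (N + 1) := Submodule.restrictScalars_injective k A A hN
      rw [pow_succ, ih, ← pow_succ, ← this]
  let x := fun i : Fin (Module.finrank k (pw k A 1)) => ((Module.finBasis k (pw k A 1) i : pw k A 1) : A)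
  have hxm : ∀ i, x i ∈ m := fun i => by
    have h : x i ∈ m ^ 1 := (Module.finBasis k (pw k A 1) i).2
    rwa [pow_one] at h
  let S := MvPolynomial (Fin (Module.finrank k (pw k A 1))) k
  let Ψ : S →ₐ[k] A := MvPolynomial.aeval x
  have hΨ : ∀ (n : ℕ) (g : S), g.IsHomogeneous n → Ψ g ∈ m ^ n := aeval_mem_pow x hxm
  let comp : ∀ n : ℕ, S →ₗ[k] gr k A n := fun n =>
    grMk n ∘ₗ LinearMap.codRestrict (pw k A n) (Ψ.toLinearMap ∘ₗ MvPolynomial.homogeneousComponent n)
      (fun f => hΨ n _ (MvPolynomial.homogeneousComponent_isHomogeneous n f))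
  have hcomp0 : ∀ n f, comp n f = 0 ↔ Ψ (MvPolynomial.homogeneousComponent n f) ∈ m ^ (n + 1) := by
    intro n f
    exact grMk_eq_zero
  have hsurj1 : ∀ n, ∀ a ∈ m ^ n, ∃ g : S, g.IsHomogeneous n ∧ a - Ψ g ∈ m ^ (n + 1) := by
    intro n
    induction n with
    | zero =>
      intro a _
      refine ⟨MvPolynomial.C (Coalgebra.counit (R := k) a), MvPolynomial.isHomogeneous_C _ _, ?_⟩
      rw [zero_add, pow_one, MvPolynomial.aeval_C]
      exact sub_counit_mem a
    | succ n ih =>
      intro a ha
      rw [pow_succ] at ha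
      induction ha using Submodule.mul_induction_on' with
      | mem_mul_mem p hp r hr =>
        obtain ⟨g, hg, hpg⟩ := ih p hp
        have hr1 : r ∈ pw k A 1 := by show r ∈ m ^ 1; rwa [pow_one]
        let c := (Module.finBasis k (pw k A 1)).repr ⟨r, hr1⟩
        let l : S := ∑ i, c i • MvPolynomial.X i
        have hl : Ψ l = r := by
          have h := congrArg Subtype.val ((Module.finBasis k (pw k A 1)).sum_repr ⟨r, hr1⟩)
          simp only [Submodule.coe_sum, Submodule.coe_smul] at h
          simp only [l, map_sum, map_smul, c]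
          refine Eq.trans (Finset.sum_congr rfl fun i _ => ?_) h
          show _ • (MvPolynomial.aeval x) (MvPolynomial.X i) = _
          rw [MvPolynomial.aeval_X]
        refine ⟨g * l, hg.mul ?_, ?_⟩
        · refine MvPolynomial.IsHomogeneous.sum _ _ _ fun i _ => ?_
          rw [MvPolynomial.smul_eq_C_mul]
          simpa using (MvPolynomial.isHomogeneous_C _ (c i)).mul (MvPolynomial.isHomogeneous_X k i)
        · rw [map_mul, hl, ← sub_mul, pow_succ m (n + 1)]
          exact Ideal.mul_mem_mul hpg hr
      | add p _ r _ hp hr =>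
        obtain ⟨g, hg, hpg⟩ := hp
        obtain ⟨g', hg', hrg⟩ := hr
        refine ⟨g + g', hg.add hg', ?_⟩
        rw [map_add, add_sub_add_comm]
        exact add_mem hpg hrg
  let Θ : S →ₗ[k] (∀ n : Fin N, gr k A n) := LinearMap.pi fun n => comp n
  have hΘ : Function.Surjective Θ := by
    intro c
    have hc : ∀ n : Fin N, ∃ g : S, g.IsHomogeneous (n : ℕ) ∧ comp n g = c n := by
      intro n
      obtain ⟨a, ha⟩ := grMk_surjective (n : ℕ) (c n)
      obtain ⟨g, hg, hag⟩ := hsurj1 n a.1 a.2
      refine ⟨g, hg, ?_⟩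
      rw [← ha]
      refine sub_eq_zero.1 ((map_sub (grMk (k := k) (A := A) (n : ℕ)) _ _).symm.trans (grMk_eq_zero.2 ?_))
      show Ψ (MvPolynomial.homogeneousComponent (n : ℕ) g) - a.1 ∈ m ^ ((n : ℕ) + 1)
      rw [MvPolynomial.homogeneousComponent_of_mem hg, if_pos rfl, ← neg_sub]
      exact neg_mem hag
    choose g hg hgc using hc
    refine ⟨∑ n, g n, funext fun n => ?_⟩
    show comp n (∑ l, g l) = c n
    rw [map_sum, Finset.sum_eq_single n, hgc]
    · intro l _ hl
      rw [hcomp0, MvPolynomial.homogeneousComponent_of_mem (hg l), if_neg (fun h => hl (Fin.ext h.symm)), map_zero]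
      exact zero_mem _
    · simp
  let K : Ideal S :=
    { carrier := {f | ∀ n, n < N → Ψ (MvPolynomial.homogeneousComponent n f) ∈ m ^ (n + 1)}
      add_mem' := fun {a b} ha hb n hn => by rw [map_add, map_add]; exact add_mem (ha n hn) (hb n hn)
      zero_mem' := fun n _ => by simp
      smul_mem' := fun c f hf n hn => by
        show Ψ (MvPolynomial.homogeneousComponent n (c * f)) ∈ m ^ (n + 1)
        rw [← MvPolynomial.sum_homogeneousComponent c, Finset.sum_mul, map_sum, map_sum]
        refine Submodule.sum_mem _ fun a _ => ?_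
        rw [← MvPolynomial.sum_homogeneousComponent f, Finset.mul_sum, map_sum, map_sum]
        refine Submodule.sum_mem _ fun b _ => ?_
        have hh := (MvPolynomial.homogeneousComponent_isHomogeneous a c).mul
          (MvPolynomial.homogeneousComponent_isHomogeneous b f)
        rw [MvPolynomial.homogeneousComponent_of_mem hh]
        split
        · next h =>
          subst h
          rw [map_mul, add_assoc, pow_add]
          exact Ideal.mul_mem_mul (hΨ a _ (MvPolynomial.homogeneousComponent_isHomogeneous a c))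
            (hf b (by omega))
        · simp }
  have hKΘ : K.restrictScalars k = LinearMap.ker Θ := by
    ext f
    rw [LinearMap.mem_ker]
    refine ⟨fun h => funext fun n => (hcomp0 n f).2 (h n n.2), fun h n hn => (hcomp0 n f).1 (congrFun h ⟨n, hn⟩)⟩
  let eQ := idealQuotEquiv (S := S) (W := (n : Fin N) → gr k A n) K Θ hKΘ hΘ
  have : Module.Finite k (S ⧸ K) := Module.Finite.equiv eQ.symm
  have hdimQ : Module.finrank k (S ⧸ K) = Module.finrank k (A ⧸ m ^ N) := by
    rw [eQ.finrank_eq, Module.finrank_pi_fintype]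
    have hG := finrank_gr (k := k) (A := A)
    have hsum : ∀ M, ∑ n ∈ Finset.range M, Module.finrank k (gr k A n) + Module.finrank k (pw k A M) = Module.finrank k A := by
      intro M
      induction M with
      | zero =>
        rw [Finset.sum_range_zero, zero_add]
        unfold pw
        rw [pow_zero, Ideal.one_eq_top, Submodule.restrictScalars_top, finrank_top]
      | succ M ih => rw [Finset.sum_range_succ]; have := hG M; omega
    have h1 := hsum N
    have h2 := Submodule.finrank_quotient_add_finrank (pw k A N)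
    rw [(Submodule.Quotient.restrictScalarsEquiv k (m ^ N)).finrank_eq] at h2
    rw [Fin.sum_univ_eq_sum_range (fun n => Module.finrank k (gr k A n))]
    omega
  -- the graded comultiplication
  let πQ : S →ₐ[k] S ⧸ K := Ideal.Quotient.mkₐ k K
  let ΔS : S →ₐ[k] S ⊗[k] S := MvPolynomial.aeval fun i => MvPolynomial.X i ⊗ₜ[k] 1 + 1 ⊗ₜ[k] MvPolynomial.X i
  let Bi := bi k (Module.finrank k (pw k A 1))
  have hΔhom := aeval_comul x hxm
  -- functionals on the components separate points of the quotient
  let T : Set ((S ⧸ K) →ₗ[k] k) := {l | ∃ (n : Fin N) (μ : gr k A n →ₗ[k] k), l = μ ∘ₗ (LinearMap.proj n) ∘ₗ eQ.toLinearMap}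
  have hTsep : ∀ a : S ⧸ K, (∀ l ∈ T, l a = 0) → a = 0 := by
    intro a ha
    apply eQ.injective
    rw [map_zero]
    funext n
    exact (Module.forall_dual_apply_eq_zero_iff k _).1 fun μ => ha _ ⟨n, μ, rfl⟩
  have hlift : ∀ (n : ℕ) (μ : gr k A n →ₗ[k] k), ∃ L : A →ₗ[k] k, (∀ a ∈ m ^ (n + 1), L a = 0) ∧
      ∀ a : pw k A n, L a.1 = μ (grMk n a) := by
    intro n μ
    obtain ⟨L, hL⟩ := LinearMap.exists_extend (μ ∘ₗ grMk n : pw k A n →ₗ[k] k)
    have hL' : ∀ a : pw k A n, L a.1 = μ (grMk n a) := fun a => LinearMap.congr_fun hL a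
    refine ⟨L, fun a ha => ?_, hL'⟩
    rw [hL' ⟨a, Ideal.pow_le_pow_right (Nat.le_succ n) ha⟩, grMk_eq_zero.2 ha, map_zero]
  have hTval : ∀ (n : Fin N) (μ : gr k A n →ₗ[k] k) (L : A →ₗ[k] k),
      (∀ a : pw k A n, L a.1 = μ (grMk (n : ℕ) a)) → ∀ f : S,
      (μ ∘ₗ (LinearMap.proj n) ∘ₗ eQ.toLinearMap) (πQ f) = L (Ψ (MvPolynomial.homogeneousComponent (n : ℕ) f)) := by
    intro n μ L hL f
    rw [hL ⟨_, hΨ _ _ (MvPolynomial.homogeneousComponent_isHomogeneous _ f)⟩]
    rfl
  have hKΔ : ∀ f ∈ K, Algebra.TensorProduct.map πQ πQ (ΔS f) = 0 := by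
    intro f hf
    refine eq_of_separating hTsep ?_
    rintro _ ⟨j, μj, rfl⟩
    rw [map_zero]
    refine hTsep _ ?_
    rintro _ ⟨i, μi, rfl⟩
    obtain ⟨L, hL0, hL⟩ := hlift i μi
    obtain ⟨M, hM0, hM⟩ := hlift j μj
    have e : ∀ z : S ⊗[k] S, (μi ∘ₗ (LinearMap.proj i) ∘ₗ eQ.toLinearMap)
        (contr k (S ⧸ K) (μj ∘ₗ (LinearMap.proj j) ∘ₗ eQ.toLinearMap) (Algebra.TensorProduct.map πQ πQ z)) =
        L (contr k A M (TensorProduct.map (Ψ.toLinearMap ∘ₗ MvPolynomial.homogeneousComponent (i : ℕ))
          (Ψ.toLinearMap ∘ₗ MvPolynomial.homogeneousComponent (j : ℕ)) z)) := by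
      intro z
      induction z with
      | zero => simp
      | add p r hp hr => simp only [map_add, hp, hr]
      | tmul p r =>
        rw [Algebra.TensorProduct.map_tmul, contr_tmul, map_smul, hTval i μi L hL p, hTval j μj M hM r]
        simp
    rw [e]
    have hBival : ∀ n, ∀ w ∈ Bi n, L (contr k A M (TensorProduct.map (Ψ.toLinearMap ∘ₗ MvPolynomial.homogeneousComponent (i : ℕ))
          (Ψ.toLinearMap ∘ₗ MvPolynomial.homogeneousComponent (j : ℕ)) w)) =
        if (i : ℕ) + j = n then L (contr k A M (TensorProduct.map Ψ.toLinearMap Ψ.toLinearMap w)) else 0 := by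
      intro n w hw
      induction hw using Submodule.span_induction with
      | mem w hw =>
        obtain ⟨a, b, p, r, hp, hr, rfl, rfl⟩ := hw
        simp only [TensorProduct.map_tmul, LinearMap.comp_apply, AlgHom.toLinearMap_apply,
          MvPolynomial.homogeneousComponent_of_mem hp, MvPolynomial.homogeneousComponent_of_mem hr,
          contr_tmul, map_smul, smul_eq_mul]
        by_cases hai : (i : ℕ) = a
        · by_cases hbj : (j : ℕ) = b
          · subst hai; subst hbj; simp
          · rw [if_pos hai, if_neg hbj, if_neg (by omega)]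
            simp
        · rw [if_neg hai]
          by_cases hn : (i : ℕ) + j = a + b
          · rw [if_pos hn]
            rcases lt_or_gt_of_ne hai with h | h
            · rw [hL0 _ (Ideal.pow_le_pow_right h (hΨ a p hp))]; simp
            · rw [hM0 _ (Ideal.pow_le_pow_right (by omega) (hΨ b r hr))]; simp
          · rw [if_neg hn]; simp
      | zero => simp
      | add p r _ _ hp hr =>
        simp only [map_add, hp, hr]
        split <;> simp
      | smul c p _ hp =>
        simp only [map_smul, hp]
        split <;> simp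
    rw [← MvPolynomial.sum_homogeneousComponent f, map_sum, map_sum, map_sum, map_sum]
    refine Finset.sum_eq_zero fun n _ => ?_
    have hh := MvPolynomial.homogeneousComponent_isHomogeneous n f
    rw [hBival n _ (hΔhom _ n hh).1]
    split
    · next hn =>
      subst hn
      have h2 := contr_vanish L M hL0 hM0 (i := (i : ℕ)) (j := (j : ℕ)) ((hΔhom _ _ hh).2)
      rw [map_sub, map_sub, sub_eq_zero] at h2
      rw [← h2]
      by_cases hN' : (i : ℕ) + j < N
      · exact contr_vanish L M hL0 hM0 (comul_pow_mem _ (hf _ hN'))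
      · have h3 : Ψ (MvPolynomial.homogeneousComponent ((i : ℕ) + j) f) ∈ m ^ ((i : ℕ) + j + 1) := by
          rw [hstab _ (by omega), ← hstab ((i : ℕ) + j) (by omega)]
          exact hΨ _ _ hh
        exact contr_vanish L M hL0 hM0 (comul_pow_mem _ h3)
    · rfl
  let ΔQ : S ⧸ K →ₐ[k] (S ⧸ K) ⊗[k] (S ⧸ K) :=
    Ideal.Quotient.liftₐ K ((Algebra.TensorProduct.map πQ πQ).comp ΔS) hKΔ
  rcases Nat.eq_zero_or_pos N with hN0 | hN0
  · subst hN0
    exfalso
    have h01 : m ^ 0 = m ^ 1 := Submodule.restrictScalars_injective k A A hN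
    have : (1 : A) ∈ m := by rw [← pow_one m, ← h01, pow_zero, Ideal.one_eq_top]; trivial
    simp [m] at this
  have hKc : ∀ f ∈ K, MvPolynomial.constantCoeff f = 0 := by
    intro f hf
    have h := hf 0 hN0
    rw [MvPolynomial.homogeneousComponent_zero, zero_add, pow_one, MvPolynomial.aeval_C] at h
    have h2 := congrArg id (RingHom.mem_ker.1 h)
    simpa [MvPolynomial.constantCoeff_eq] using h2
  let εQ : S ⧸ K →ₐ[k] k := Ideal.Quotient.liftₐ K (MvPolynomial.aeval (0 : Fin (Module.finrank k (pw k A 1)) → k)) (fun f hf => by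
    rw [MvPolynomial.aeval_zero, hKc f hf, map_zero])
  have hnil : ∀ i, IsNilpotent (πQ (MvPolynomial.X i)) := by
    intro i
    refine ⟨N, ?_⟩
    rw [← map_pow]
    refine Ideal.Quotient.eq_zero_iff_mem.2 fun n hn => ?_
    rw [MvPolynomial.homogeneousComponent_of_mem (MvPolynomial.isHomogeneous_X_pow i N), if_neg (by omega), map_zero]
    exact zero_mem _
  obtain ⟨s, hs⟩ := exists_pow_expChar q ΔQ εQ ⊤ (Finset.univ.image fun i => πQ (MvPolynomial.X i)) (by
      rw [Finset.coe_image, Finset.coe_univ, Set.image_univ,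
        show Set.range (fun i => πQ (MvPolynomial.X i)) = πQ '' Set.range MvPolynomial.X by rw [← Set.range_comp]; rfl,
        ← AlgHom.map_adjoin, MvPolynomial.adjoin_range_X, Algebra.map_top, AlgHom.range_eq_top]
      exact Ideal.Quotient.mk_surjective) (by
    intro t ht
    obtain ⟨i, -, rfl⟩ := Finset.mem_image.1 ht
    refine ⟨?_, ?_, hnil i⟩
    · show Algebra.TensorProduct.map πQ πQ (ΔS (MvPolynomial.X i)) = _
      simp only [ΔS]
      rw [MvPolynomial.aeval_X, map_add, Algebra.TensorProduct.map_tmul, Algebra.TensorProduct.map_tmul, map_one]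
    · show MvPolynomial.aeval (0 : Fin (Module.finrank k (pw k A 1)) → k) (MvPolynomial.X i) = 0
      simp)
  rw [(Subalgebra.topEquiv (R := k) (A := S ⧸ K)).toLinearEquiv.finrank_eq, hdimQ] at hs
  refine ⟨N, s, Submodule.restrictScalars_injective k A A hN, hs, ?_⟩
  by_cases hsN : N ≤ q ^ s
  · exact hstab _ hsN
  push Not at hsN
  -- a strict descent up to step `q ^ s` contradicts the dimension
  by_contra hne
  have hstrict : ∀ n ≤ q ^ s, pw k A (n + 1) < pw k A n := by
    intro n hn
    refine lt_of_le_of_ne (hMi  n) fun h => hne ?_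
    have h' : m ^ (n + 1) = m ^ n := Submodule.restrictScalars_injective k A A h
    have hst : ∀ l, n ≤ l → m ^ l = m ^ n := by
      intro l hl
      induction l, hl using Nat.le_induction with
      | base => rfl
      | succ l _ ih => rw [pow_succ, ih, ← pow_succ, h']
    rw [hst _ hn, hst N (by omega)]
  have hcount : ∀ n ≤ q ^ s + 1, Module.finrank k (pw k A n) + n ≤ Module.finrank k A := by
    intro n
    induction n with
    | zero => intro _; simpa using Submodule.finrank_le (pw k A 0)
    | succ n ih =>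
      intro hn
      have := Submodule.finrank_lt_finrank_of_lt (hstrict n (by omega))
      have := ih (by omega)
      omega
  have h1 := hcount (q ^ s + 1) le_rfl
  have h2 : Module.finrank k (pw k A N) ≤ Module.finrank k (pw k A (q ^ s + 1)) :=
    Submodule.finrank_mono fun x hx => Ideal.pow_le_pow_right (by omega : q ^ s + 1 ≤ N) hx
  have h3 := Submodule.finrank_quotient_add_finrank (pw k A N)
  rw [(Submodule.Quotient.restrictScalarsEquiv k (m ^ N)).finrank_eq, hs] at h3
  omega

end Groth.Agent.HopfRep.PrimGen
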