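import Mathlib
import Groth.Agent.HopfRep.GrDeriv

/-!
Cartier's theorem: group schemes in characteristic zero are reduced, hence smooth.
-/

universe u

open CategoryTheory AlgebraicGeometry Limits TrivSqZeroExt MonoidalCategory CartesianMonoidalCategory
open scoped MonObj

noncomputable section

namespace Groth.Agent.HopfRep.GrpDeriv

/-- Functoriality of dual numbers. -/
def dmap {K : Type u} [Field K] {R S : Type u} [CommRing R] [CommRing S] [Algebra K R] [Algebra K S]
    (φ : R →ₐ[K] S) : DualNumber R →ₐ[K] DualNumber S :=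
  AlgHom.ofLinearMap
    { toFun := fun z => inl (φ (fst z)) + inr (φ (snd z))
      map_add' := fun a b => by ext <;> simp
      map_smul' := fun c a => by ext <;> simp }
    (by ext <;> simp) (fun a b => by ext <;> simp [add_comm, mul_comm])

section main

variable {K : Type u} [Field K] (G : Over (Spec (CommRingCat.of K)))

/-- `Spec R` over `Spec K`. -/
abbrev sp (R : Type u) [CommRing R] [Algebra K R] : Over (Spec (CommRingCat.of K)) :=
  Over.mk (Spec.map (CommRingCat.ofHom (algebraMap K R)))

/-- Functoriality of `sp`. -/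
def spMap {R S : Type u} [CommRing R] [CommRing S] [Algebra K R] [Algebra K S] (φ : R →ₐ[K] S) :
    sp (K := K) S ⟶ sp R :=
  Over.homMk (Spec.map (CommRingCat.ofHom φ.toRingHom)) (by
    show Spec.map _ ≫ Spec.map _ = Spec.map _
    rw [← Spec.map_comp, ← CommRingCat.ofHom_comp]
    exact congrArg (fun f => Spec.map (CommRingCat.ofHom f)) φ.comp_algebraMap)

theorem spMap_comp {R S T : Type u} [CommRing R] [CommRing S] [CommRing T] [Algebra K R] [Algebra K S] [Algebra K T]
    (φ : R →ₐ[K] S) (χ : S →ₐ[K] T) : spMap (χ.comp φ) = spMap χ ≫ spMap φ := by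
  ext : 1
  show Spec.map _ = Spec.map _ ≫ Spec.map _
  rw [← Spec.map_comp, ← CommRingCat.ofHom_comp]
  rfl

theorem spMap_id {R : Type u} [CommRing R] [Algebra K R] : spMap (AlgHom.id K R) = 𝟙 (sp (K := K) R) := by
  ext : 1
  show Spec.map _ = 𝟙 _
  exact Spec.map_id _

variable [GrpObj G]

variable {B : Type u} [CommRing B] [Algebra K B] (emb : sp (K := K) B ⟶ G)

theorem exists_lift [IsOpenImmersion emb.left] (g : B →ₐ[K] K) (ψ : B →ₗ[K] K)
    (hψ : ∀ a b, ψ (a * b) = g a * ψ b + g b * ψ a) :
    ∃ D : Derivation K B B, ∀ b, g (D b) = ψ b := by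
  let fB : DualNumber B →ₐ[K] B := (fstHom B B B).restrictScalars K
  let fK : DualNumber K →ₐ[K] K := fstHom K K K
  let cK : sp (K := K) (DualNumber K) ⟶ sp K := spMap (Algebra.ofId K (DualNumber K))
  let x : sp (K := K) K ⟶ G := spMap g ≫ emb
  let θ : B →ₐ[K] DualNumber K := AlgHom.ofLinearMap
    { toFun := fun b => inl (g b) + inr (ψ b)
      map_add' := fun a b => by ext <;> simp
      map_smul' := fun c a => by ext <;> simp }
    (by
      have h1 := hψ 1 1
      simp at h1
      ext <;> simp [h1])
    (fun a b => by ext <;> simp [hψ, add_comm, mul_comm])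
  let t : sp (K := K) (DualNumber K) ⟶ G := (cK ≫ x)⁻¹ * (spMap θ ≫ emb)
  let inB : B →ₐ[K] DualNumber B := inlAlgHom K B B
  let q : sp (K := K) (DualNumber B) ⟶ sp (DualNumber K) := spMap (dmap (Algebra.ofId K B))
  let M : sp (K := K) (DualNumber B) ⟶ G := (spMap inB ≫ emb) * (q ≫ t)
  have hfst : fK.comp θ = g := by
    ext b
    simp [fK, θ]
  have ht0 : spMap fK ≫ t = 1 := by
    show spMap fK ≫ ((cK ≫ x)⁻¹ * (spMap θ ≫ emb)) = 1
    have e : (fK.comp (Algebra.ofId K (DualNumber K))).comp g = g := by
      rw [show fK.comp (Algebra.ofId K (DualNumber K)) = AlgHom.id K K from Subsingleton.elim _ _, AlgHom.id_comp]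
    rw [MonObj.comp_mul, GrpObj.comp_inv]
    simp only [x, cK, ← Category.assoc, ← spMap_comp]
    rw [hfst, ← AlgHom.comp_assoc, e]
    exact inv_mul_cancel _
  have hsM : spMap fB ≫ M = emb := by
    show spMap fB ≫ ((spMap inB ≫ emb) * (q ≫ t)) = emb
    have e1 : fB.comp inB = AlgHom.id K B := by ext b; simp [fB, inB]
    have e2 : fB.comp (dmap (Algebra.ofId K B)) = (Algebra.ofId K B).comp fK := by
      ext z
      · simp [fB, fK, dmap]
    rw [MonObj.comp_mul, ← Category.assoc, ← Category.assoc, ← spMap_comp, ← spMap_comp, e1, e2, spMap_id,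
      Category.id_comp, spMap_comp, Category.assoc, ht0, MonObj.comp_one, mul_one]
  let j : sp (K := K) (DualNumber K) ⟶ sp (DualNumber B) := spMap (dmap g)
  have hjM : j ≫ M = spMap θ ≫ emb := by
    show j ≫ ((spMap inB ≫ emb) * (q ≫ t)) = _
    have e1 : (dmap g).comp inB = (Algebra.ofId K (DualNumber K)).comp g := by
      ext b <;> simp [inB, dmap, TrivSqZeroExt.algebraMap_eq_inl]
    have e2 : (dmap g).comp (dmap (Algebra.ofId K B)) = AlgHom.id K (DualNumber K) := by
      apply AlgHom.ext
      intro z
      ext <;> simp [dmap]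
    rw [MonObj.comp_mul, ← Category.assoc, ← Category.assoc, ← spMap_comp, ← spMap_comp, e1, e2, spMap_id,
      Category.id_comp, spMap_comp, Category.assoc]
    exact mul_inv_cancel_left _ _
  have hsurj : Function.Surjective (spMap fB).left := by
    intro P
    have hker : ∀ z : DualNumber B, fB z = 0 → z * z = 0 := fun z hz => by
      have h : fst z = 0 := hz
      ext <;> simp [h]
    obtain ⟨P', hP'⟩ : ∃ Q, PrimeSpectrum.comap fB.toRingHom Q = P := by
      refine ⟨PrimeSpectrum.comap inB.toRingHom P, PrimeSpectrum.ext ?_⟩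
      ext z
      have hz : z - inB (fB z) ∈ P.asIdeal := by
        have h0 := hker (z - inB (fB z)) (by simp [fB, inB])
        exact (P.2.mem_or_mem (h0 ▸ P.asIdeal.zero_mem :
          (z - inB (fB z)) * (z - inB (fB z)) ∈ P.asIdeal)).elim id id
      show inB (fB z) ∈ P.asIdeal ↔ z ∈ P.asIdeal
      exact ⟨fun h => by simpa using add_mem hz h, fun h => by simpa using sub_mem h hz⟩
    exact ⟨P', hP'⟩
  have hrange : Set.range M.left ⊆ Set.range emb.left := by
    rintro _ ⟨z, rfl⟩
    obtain ⟨w, rfl⟩ := hsurj z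
    refine ⟨w, ?_⟩
    conv_lhs => rw [← hsM]
    rfl
  let h := IsOpenImmersion.lift emb.left M.left hrange
  have hh : h ≫ emb.left = M.left := IsOpenImmersion.lift_fac _ _ hrange
  obtain ⟨χ₀, hχ₀⟩ := Spec.map_surjective h
  have hK : χ₀.hom.comp (algebraMap K B) = algebraMap K (DualNumber B) := by
    have hw : h ≫ Spec.map (CommRingCat.ofHom (algebraMap K B)) =
        Spec.map (CommRingCat.ofHom (algebraMap K (DualNumber B))) := by
      have w1 := Over.w M
      have w2 := Over.w emb
      simp only [Over.mk_hom] at w1 w2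
      rw [← w2, ← Category.assoc, hh, w1]
    rw [← hχ₀, ← Spec.map_comp] at hw
    exact congrArg CommRingCat.Hom.hom (Spec.map_injective hw)
  let χ : B →ₐ[K] DualNumber B := { χ₀.hom with commutes' := fun c => DFunLike.congr_fun hK c }
  have hMχ : M = spMap χ ≫ emb := by
    ext : 1
    show M.left = Spec.map χ₀ ≫ emb.left
    rw [hχ₀, hh]
  have h1 : fB.comp χ = AlgHom.id K B := by
    have : Spec.map (CommRingCat.ofHom (fB.comp χ).toRingHom) ≫ emb.left = 𝟙 _ ≫ emb.left := by
      conv_rhs => rw [Category.id_comp, ← hsM, hMχ, ← Category.assoc, ← spMap_comp]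
      rfl
    rw [cancel_mono] at this
    replace this := this.trans (Spec.map_id (CommRingCat.of B)).symm
    exact AlgHom.ext fun b => DFunLike.congr_fun (congrArg CommRingCat.Hom.hom (Spec.map_injective this)) b
  have h2 : (dmap g).comp χ = θ := by
    have : Spec.map (CommRingCat.ofHom ((dmap g).comp χ).toRingHom) ≫ emb.left =
        Spec.map (CommRingCat.ofHom θ.toRingHom) ≫ emb.left := by
      have := congrArg CommaMorphism.left (show spMap ((dmap g).comp χ) ≫ emb = spMap θ ≫ emb by
        rw [spMap_comp, Category.assoc, ← hMχ, hjM])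
      exact this
    rw [cancel_mono] at this
    exact AlgHom.ext fun b => DFunLike.congr_fun (congrArg CommRingCat.Hom.hom (Spec.map_injective this)) b
  have hf : ∀ b, fst (χ b) = b := fun b => DFunLike.congr_fun h1 b
  refine ⟨Derivation.mk' ((sndHom B B).restrictScalars K ∘ₗ χ.toLinearMap) (fun a b => ?_), fun b => ?_⟩
  · show snd (χ (a * b)) = a • snd (χ b) + b • snd (χ a)
    rw [map_mul]
    simp [hf, mul_comm, add_comm]
  · have := congrArg snd (DFunLike.congr_fun h2 b)
    simpa [dmap, θ] using this

end main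

variable {K : Type u} [Field K] [CharZero K]

theorem isReduced_of_isAlgClosed [IsAlgClosed K] (G : Over (Spec (CommRingCat.of K))) [GrpObj G]
    [LocallyOfFiniteType G.hom] : IsReduced G.left := by
  apply +allowSynthFailures @IsReduced.of_openCover (𝒰 := G.left.affineCover)
  intro i
  let R := Γ(G.left.affineCover.X i, ⊤)
  let f : Spec R ⟶ G.left := (G.left.affineCover.X i).isoSpec.inv ≫ G.left.affineCover.f i
  let ψ₀ := Spec.preimage (f ≫ G.hom)
  let alg : Algebra K R := ψ₀.hom.toAlgebra
  let emb : sp (K := K) R ⟶ G := Over.homMk f (by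
    show f ≫ G.hom = Spec.map (CommRingCat.ofHom ψ₀.hom)
    rw [CommRingCat.ofHom_hom, Spec.map_preimage])
  have : IsOpenImmersion emb.left := inferInstanceAs (IsOpenImmersion f)
  have hft : ψ₀.hom.FiniteType := by
    have : LocallyOfFiniteType (Spec.map ψ₀) := by rw [Spec.map_preimage]; infer_instance
    exact (HasRingHomProperty.Spec_iff (P := @LocallyOfFiniteType)).1 this
  have : Algebra.FiniteType K R := hft
  have : IsNoetherianRing R := Algebra.FiniteType.isNoetherianRing K R
  have : _root_.IsReduced R := GrDeriv.isReduced_of_lifts (k := K) (fun M hM => by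
      have : Module.Finite K (R ⧸ M) := by
        let : Field (R ⧸ M) := Ideal.Quotient.field M
        exact finite_of_finite_type_of_isJacobsonRing K (R ⧸ M)
      let e := AlgEquiv.ofBijective (Algebra.ofId K (R ⧸ M))
        (IsAlgClosed.algebraMap_bijective_of_isIntegral (k := K) (K := R ⧸ M))
      refine ⟨e.symm.toAlgHom.comp (Ideal.Quotient.mkₐ K M), ?_⟩
      ext a
      rw [RingHom.mem_ker]
      show e.symm (Ideal.Quotient.mk M a) = 0 ↔ _
      rw [EmbeddingLike.map_eq_zero_iff, Ideal.Quotient.eq_zero_iff_mem])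
    (fun g ψ hψ => exists_lift G emb g ψ hψ)
  exact isReduced_of_isOpenImmersion (G.left.affineCover.X i).isoSpec.hom

theorem isReduced (G : Over (Spec (CommRingCat.of K))) [GrpObj G] [LocallyOfFiniteType G.hom] :
    IsReduced G.left := by
  let g : Spec (.of (AlgebraicClosure K)) ⟶ Spec (.of K) :=
    Spec.map (CommRingCat.ofHom <| algebraMap K (AlgebraicClosure K))
  have : Surjective g := inferInstance
  have : IsSchemeTheoreticallyDominant g := .of_isDominant g
  let : GrpObj (Over.mk G.hom) := ‹GrpObj G›
  let : GrpObj (Over.mk (pullback.snd G.hom g)) := Over.grpObjMkPullbackSnd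
  have : LocallyOfFiniteType (Over.mk (pullback.snd G.hom g)).hom :=
    inferInstanceAs (LocallyOfFiniteType (pullback.snd G.hom g))
  have : IsReduced (pullback G.hom g) := isReduced_of_isAlgClosed (Over.mk (pullback.snd G.hom g))
  exact IsSchemeTheoreticallyDominant.isReduced (pullback.fst G.hom g)

theorem smooth (G : Over (Spec (CommRingCat.of K))) [GrpObj G] [LocallyOfFiniteType G.hom] : Smooth G.hom := by
  let : GrpObj (Over.mk G.hom) := ‹GrpObj G›
  have : GeometricallyReduced G.hom := ⟨fun L _ y Z fst snd hP => by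
    obtain ⟨φ, rfl⟩ := Spec.map_surjective y
    have : CharZero L := charZero_of_injective_ringHom φ.hom.injective
    let : GrpObj (Over.mk (pullback.snd G.hom (Spec.map φ))) := Over.grpObjMkPullbackSnd
    have : LocallyOfFiniteType (Over.mk (pullback.snd G.hom (Spec.map φ))).hom :=
      inferInstanceAs (LocallyOfFiniteType (pullback.snd G.hom (Spec.map φ)))
    have : IsReduced (pullback G.hom (Spec.map φ)) := isReduced (Over.mk (pullback.snd G.hom (Spec.map φ)))
    exact isReduced_of_isOpenImmersion hP.isoPullback.hom⟩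
  exact smooth_of_grpObj G.hom

end Groth.Agent.HopfRep.GrpDeriv
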