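import Groth.Agent.HopfRep.NearEndo
import Groth.Agent.HopfRep.GrpDeriv
import Mathlib.AlgebraicGeometry.Group.Abelian
import Mathlib.AlgebraicGeometry.Morphisms.LocalFlatDescent

/-!
The tangent map of the `n`-th power map at the unit is multiplication by `n`; étaleness of power maps.
-/

universe u

open CategoryTheory MonoidalCategory CartesianMonoidalCategory MonObj GrpObj AlgebraicGeometry TrivSqZeroExt
open IsLocalRing (maximalIdeal)
open Groth.Agent.HopfRep.GrpDeriv (sp spMap spMap_comp spMap_id)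

noncomputable section

namespace Groth.Agent.HopfRep.GrpPow

variable {K : Type u} [Field K] (G : Over (Spec (CommRingCat.of K))) [GrpObj G]

/-- The unit point. -/
def e : G.left := η[G].left (IsLocalRing.closedPoint K)

/-- The local ring at the unit point. -/
abbrev Oe : Type u := G.left.presheaf.stalk (e G)

instance algOe : Algebra K (Oe G) :=
  (Spec.preimage (G.left.fromSpecStalk (e G) ≫ G.hom)).hom.toAlgebra

/-- `Spec O_e ⟶ G`. -/
def emb : sp (K := K) (Oe G) ⟶ G :=
  Over.homMk (G.left.fromSpecStalk (e G)) (by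
    show _ = Spec.map (CommRingCat.ofHom (Spec.preimage (G.left.fromSpecStalk (e G) ≫ G.hom)).hom)
    rw [CommRingCat.ofHom_hom, Spec.map_preimage])

theorem exists_factor {Λ : Type u} [CommRing Λ] [Algebra K Λ] [IsLocalRing Λ] (P : sp (K := K) Λ ⟶ G)
    (hP : P.left (IsLocalRing.closedPoint Λ) = e G) : ∃ θ : Oe G →ₐ[K] Λ, P = spMap θ ≫ emb G := by
  have key : ∀ x : G.left, P.left (IsLocalRing.closedPoint Λ) = x →
      ∃ χ : G.left.presheaf.stalk x ⟶ CommRingCat.of Λ, Spec.map χ ≫ G.left.fromSpecStalk x = P.left := by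
    intro x hx
    subst hx
    exact ⟨Scheme.stalkClosedPointTo P.left, Scheme.Spec_stalkClosedPointTo_fromSpecStalk P.left⟩
  obtain ⟨χ, hχ⟩ := key _ hP
  have hK : χ.hom.comp (algebraMap K (Oe G)) = algebraMap K Λ := by
    have w := Over.w P
    rw [← hχ, Category.assoc, ← Spec.map_preimage (G.left.fromSpecStalk (e G) ≫ G.hom), ← Spec.map_comp] at w
    exact congrArg CommRingCat.Hom.hom (Spec.map_injective (w : _ = Spec.map (CommRingCat.ofHom (algebraMap K Λ))))
  refine ⟨{ χ.hom with commutes' := fun c => DFunLike.congr_fun hK c }, ?_⟩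
  ext : 1
  exact hχ.symm

theorem spMap_emb_injective {Λ : Type u} [CommRing Λ] [Algebra K Λ] {θ θ' : Oe G →ₐ[K] Λ}
    (h : spMap θ ≫ emb G = spMap θ' ≫ emb G) : θ = θ' := by
  have h' : Spec.map (CommRingCat.ofHom θ.toRingHom) ≫ G.left.fromSpecStalk (e G) =
      Spec.map (CommRingCat.ofHom θ'.toRingHom) ≫ G.left.fromSpecStalk (e G) := congrArg CommaMorphism.left h
  rw [cancel_mono] at h'
  exact AlgHom.ext fun b => DFunLike.congr_fun (congrArg CommRingCat.Hom.hom (Spec.map_injective h')) b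

theorem one_apply {T : Over (Spec (CommRingCat.of K))} (t : T.left) : (1 : T ⟶ G).left t = e G := by
  rw [Hom.one_def]
  show η[G].left ((toUnit T).left t) = _
  exact congrArg η[G].left (Subsingleton.elim (α := PrimeSpectrum K) _ _)

theorem exists_res : ∃ θ : Oe G →ₐ[K] K, (1 : sp (K := K) K ⟶ G) = spMap θ ≫ emb G :=
  exists_factor G 1 (one_apply G _)

/-- Evaluation at the unit. -/
def res : Oe G →ₐ[K] K := (exists_res G).choose

theorem res_spec : (1 : sp (K := K) K ⟶ G) = spMap (res G) ≫ emb G := (exists_res G).choose_spec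

theorem mem_maximalIdeal_iff (r : Oe G) : r ∈ maximalIdeal (Oe G) ↔ res G r = 0 := by
  have hs : Function.Surjective (res G) := fun c => ⟨algebraMap K _ c, AlgHom.commutes _ c⟩
  have h := IsLocalRing.eq_maximalIdeal (RingHom.ker_isMaximal_of_surjective (res G).toRingHom hs)
  rw [← h]
  rfl

theorem sub_res_mem (r : Oe G) : r - algebraMap K _ (res G r) ∈ maximalIdeal (Oe G) := by
  rw [mem_maximalIdeal_iff, map_sub, AlgHom.commutes]
  simp

section based

variable {M : Type u} [AddCommGroup M] [Module K M] [Module Kᵐᵒᵖ M] [IsCentralScalar K M]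

instance : IsLocalRing (TrivSqZeroExt K M) := by
  refine IsLocalRing.of_isUnit_or_isUnit_one_sub_self fun a => ?_
  rcases eq_or_ne (fst a) 0 with h | h
  · exact Or.inr (TrivSqZeroExt.isUnit_iff_isUnit_fst.2 (by simp [h]))
  · exact Or.inl (TrivSqZeroExt.isUnit_iff_isUnit_fst.2 (isUnit_iff_ne_zero.2 h))

/-- A point is based when its reduction is the unit. -/
def Based (P : sp (K := K) (TrivSqZeroExt K M) ⟶ G) : Prop :=
  spMap (fstHom K K M) ≫ P = 1

theorem based_iff (θ : Oe G →ₐ[K] TrivSqZeroExt K M) :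
    Based G (spMap θ ≫ emb G) ↔ (fstHom K K M).comp θ = res G := by
  rw [Based, ← Category.assoc, ← spMap_comp, res_spec]
  exact ⟨spMap_emb_injective G, fun h => by rw [h]⟩

theorem Based.mul {P Q : sp (K := K) (TrivSqZeroExt K M) ⟶ G} (hP : Based G P) (hQ : Based G Q) :
    Based G (P * Q) := by
  unfold Based at hP hQ ⊢
  rw [MonObj.comp_mul, hP, hQ, _root_.one_mul]

theorem Based.exists_eq {P : sp (K := K) (TrivSqZeroExt K M) ⟶ G} (hP : Based G P) :
    ∃ θ : Oe G →ₐ[K] TrivSqZeroExt K M, (fstHom K K M).comp θ = res G ∧ P = spMap θ ≫ emb G := by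
  have h : P.left (IsLocalRing.closedPoint (TrivSqZeroExt K M)) = e G := by
    have h1 := one_apply G (T := sp (K := K) K) (IsLocalRing.closedPoint K)
    rw [← hP] at h1
    refine Eq.trans (congrArg P.left ?_) h1
    haveI : IsLocalHom (fstHom K K M).toRingHom := .of_surjective _ (fun c => ⟨inl c, rfl⟩)
    exact (IsLocalRing.comap_closedPoint (fstHom K K M).toRingHom).symm
  obtain ⟨θ, rfl⟩ := exists_factor G P h
  exact ⟨θ, (based_iff G θ).1 hP, rfl⟩

end based

/-- The dual numbers points. -/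
def tangent (P : Oe G →ₐ[K] DualNumber K) : sp (K := K) (DualNumber K) ⟶ G := spMap P ≫ emb G

theorem snd_mul {α β : sp (K := K) (DualNumber K) ⟶ G} {a b : Oe G →ₐ[K] DualNumber K}
    (hα : α = spMap a ≫ emb G) (hβ : β = spMap b ≫ emb G) (ha : (fstHom K K K).comp a = res G)
    (hb : (fstHom K K K).comp b = res G) :
    ∃ c : Oe G →ₐ[K] DualNumber K, (fstHom K K K).comp c = res G ∧ α * β = spMap c ≫ emb G ∧
      ∀ r, snd (c r) = snd (a r) + snd (b r) := by
  let p₁ : TrivSqZeroExt K (K × K) →ₐ[K] DualNumber K := TrivSqZeroExt.map (LinearMap.fst K K K)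
  let p₂ : TrivSqZeroExt K (K × K) →ₐ[K] DualNumber K := TrivSqZeroExt.map (LinearMap.snd K K K)
  let s : TrivSqZeroExt K (K × K) →ₐ[K] DualNumber K :=
    TrivSqZeroExt.map (LinearMap.fst K K K + LinearMap.snd K K K)
  let i₁ : DualNumber K →ₐ[K] TrivSqZeroExt K (K × K) := TrivSqZeroExt.map (LinearMap.inl K K K)
  let i₂ : DualNumber K →ₐ[K] TrivSqZeroExt K (K × K) := TrivSqZeroExt.map (LinearMap.inr K K K)
  have hbα : Based G α := hα ▸ (based_iff G a).2 ha
  have hbβ : Based G β := hβ ▸ (based_iff G b).2 hb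
  let Q₁ : sp (K := K) (TrivSqZeroExt K (K × K)) ⟶ G := spMap i₁ ≫ α
  let Q₂ : sp (K := K) (TrivSqZeroExt K (K × K)) ⟶ G := spMap i₂ ≫ β
  have e1 : (fstHom K K (K × K)).comp i₁ = fstHom K K K := AlgHom.ext fun x => by simp [i₁]
  have e2 : (fstHom K K (K × K)).comp i₂ = fstHom K K K := AlgHom.ext fun x => by simp [i₂]
  have hQ₁ : Based G Q₁ := by
    show spMap _ ≫ spMap i₁ ≫ α = 1
    rw [← Category.assoc, ← spMap_comp, e1]
    exact hbα
  have hQ₂ : Based G Q₂ := by
    show spMap _ ≫ spMap i₂ ≫ β = 1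
    rw [← Category.assoc, ← spMap_comp, e2]
    exact hbβ
  obtain ⟨Θ, hΘ, hQ⟩ := (hQ₁.mul G hQ₂).exists_eq G
  have f1 : p₁.comp i₁ = AlgHom.id K _ := AlgHom.ext fun x => by ext <;> simp [p₁, i₁]
  have f2 : p₂.comp i₂ = AlgHom.id K _ := AlgHom.ext fun x => by ext <;> simp [p₂, i₂]
  have g1 : p₁.comp i₂ = (Algebra.ofId K _).comp (fstHom K K K) :=
    AlgHom.ext fun x => by ext <;> simp [p₁, i₂, TrivSqZeroExt.algebraMap_eq_inl]
  have g2 : p₂.comp i₁ = (Algebra.ofId K _).comp (fstHom K K K) :=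
    AlgHom.ext fun x => by ext <;> simp [p₂, i₁, TrivSqZeroExt.algebraMap_eq_inl]
  have s1 : s.comp i₁ = AlgHom.id K _ := AlgHom.ext fun x => by ext <;> simp [s, i₁]
  have s2 : s.comp i₂ = AlgHom.id K _ := AlgHom.ext fun x => by ext <;> simp [s, i₂]
  have t1 : p₁.comp Θ = a := by
    refine spMap_emb_injective G ?_
    rw [spMap_comp, Category.assoc, ← hQ, MonObj.comp_mul]
    simp only [Q₁, Q₂, ← Category.assoc, ← spMap_comp, f1, g1, spMap_id, Category.id_comp]
    rw [spMap_comp, Category.assoc, hbβ, MonObj.comp_one, _root_.mul_one, hα]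
  have t2 : p₂.comp Θ = b := by
    refine spMap_emb_injective G ?_
    rw [spMap_comp, Category.assoc, ← hQ, MonObj.comp_mul]
    simp only [Q₁, Q₂, ← Category.assoc, ← spMap_comp, f2, g2, spMap_id, Category.id_comp]
    rw [spMap_comp, Category.assoc, hbα, MonObj.comp_one, _root_.one_mul, hβ]
  refine ⟨s.comp Θ, ?_, ?_, fun r => ?_⟩
  · rw [← AlgHom.comp_assoc, show (fstHom K K K).comp s = fstHom K K (K × K) from AlgHom.ext fun x => by simp [s]]
    exact hΘ
  · rw [spMap_comp, Category.assoc, ← hQ, MonObj.comp_mul]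
    simp only [Q₁, Q₂, ← Category.assoc, ← spMap_comp, s1, s2, spMap_id, Category.id_comp]
  · rw [← t1, ← t2]
    simp [s, p₁, p₂]

theorem snd_pow {α : sp (K := K) (DualNumber K) ⟶ G} {a : Oe G →ₐ[K] DualNumber K}
    (hα : α = spMap a ≫ emb G) (ha : (fstHom K K K).comp a = res G) (n : ℕ) :
    ∃ c : Oe G →ₐ[K] DualNumber K, (fstHom K K K).comp c = res G ∧ α ^ n = spMap c ≫ emb G ∧
      ∀ r, snd (c r) = n • snd (a r) := by
  induction n with
  | zero =>
    refine ⟨(Algebra.ofId K _).comp (res G), ?_, ?_, fun r => by simp [TrivSqZeroExt.algebraMap_eq_inl]⟩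
    · rw [← AlgHom.comp_assoc, show (fstHom K K K).comp (Algebra.ofId K (DualNumber K)) = AlgHom.id K K from
        Subsingleton.elim _ _, AlgHom.id_comp]
    · rw [pow_zero, spMap_comp, Category.assoc, ← res_spec, MonObj.comp_one]
  | succ n ih =>
    obtain ⟨c, hc, hpow, hcs⟩ := ih
    obtain ⟨d, hd, hmul, hds⟩ := snd_mul G hpow hα hc ha
    exact ⟨d, hd, by rw [pow_succ, hmul], fun r => by rw [hds, hcs, succ_nsmul]⟩

variable (n : ℕ)

theorem exists_stalk_endo : ∃ φ : Oe G →ₐ[K] Oe G, emb G ≫ ((𝟙 G : G ⟶ G) ^ n) = spMap φ ≫ emb G := by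
  refine exists_factor G _ ?_
  show ((𝟙 G : G ⟶ G) ^ n).left ((emb G).left (IsLocalRing.closedPoint (Oe G))) = e G
  have h : (emb G).left (IsLocalRing.closedPoint (Oe G)) = e G := Scheme.fromSpecStalk_closedPoint
  rw [h]
  show (η[G] ≫ (𝟙 G : G ⟶ G) ^ n).left (IsLocalRing.closedPoint K) = _
  rw [MonObj.comp_pow, Category.comp_id, MonObj.one_eq_one, one_pow]
  exact one_apply G (T := 𝟙_ _) _

/-- The endomorphism of the local ring induced by the power map. -/
def φ : Oe G →ₐ[K] Oe G := (exists_stalk_endo G n).choose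

theorem φ_spec : emb G ≫ ((𝟙 G : G ⟶ G) ^ n) = spMap (φ G n) ≫ emb G := (exists_stalk_endo G n).choose_spec

theorem point_pow (a : Oe G →ₐ[K] DualNumber K) (ha : (fstHom K K K).comp a = res G) (r : Oe G) :
    snd (a (φ G n r)) = n • snd (a r) := by
  obtain ⟨c, -, hpow, hc⟩ := snd_pow G (α := spMap a ≫ emb G) rfl ha n
  rw [← hc]
  have e1 : (spMap a ≫ emb G) ^ n = spMap (a.comp (φ G n)) ≫ emb G := by
    rw [spMap_comp, Category.assoc, ← φ_spec, ← Category.assoc, MonObj.comp_pow, Category.comp_id]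
  rw [← spMap_emb_injective G (e1.symm.trans hpow)]
  rfl

theorem res_φ (r : Oe G) : res G (φ G n r) = res G r := by
  have h : (res G).comp (φ G n) = res G := by
    refine spMap_emb_injective G ?_
    rw [spMap_comp, Category.assoc, ← φ_spec, ← Category.assoc, MonObj.comp_pow, Category.comp_id, ← res_spec,
      one_pow]
  exact DFunLike.congr_fun h r

/-- Dual number point attached to a linear form killing `m²`. -/
def ofForm (L : Oe G →ₗ[K] K) (hL : ∀ x ∈ maximalIdeal (Oe G) * maximalIdeal (Oe G), L x = 0) :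
    Oe G →ₐ[K] DualNumber K :=
  AlgHom.ofLinearMap
    { toFun := fun r => inl (res G r) + inr (L (r - algebraMap K _ (res G r)))
      map_add' := fun a b => by ext <;> simp [add_sub_add_comm]
      map_smul' := fun c a => by
        ext <;> simp only [map_smul, RingHom.id_apply, smul_eq_mul, fst_add, fst_inl, fst_inr, fst_smul,
          snd_add, snd_inl, snd_inr, snd_smul, add_zero, zero_add]
        rw [map_mul, ← Algebra.smul_def, ← smul_sub, map_smul, smul_eq_mul] }
    (by ext <;> simp)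
    (fun a b => by
      refine TrivSqZeroExt.ext (by simp) ?_
      have h0 : L ((a - algebraMap K _ (res G a)) * (b - algebraMap K _ (res G b))) = 0 :=
        hL _ (Ideal.mul_mem_mul (sub_res_mem G a) (sub_res_mem G b))
      have e1 : a * b - algebraMap K _ (res G (a * b)) =
          (a - algebraMap K _ (res G a)) * (b - algebraMap K _ (res G b)) +
            (res G a • (b - algebraMap K _ (res G b)) + res G b • (a - algebraMap K _ (res G a))) := by
        rw [map_mul, map_mul, Algebra.smul_def, Algebra.smul_def]; ring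
      simp only [LinearMap.coe_mk, AddHom.coe_mk, TrivSqZeroExt.snd_mul, fst_add, fst_inl, fst_inr, snd_add, snd_inl,
        snd_inr, add_zero, zero_add, smul_eq_mul, MulOpposite.smul_eq_mul_unop, MulOpposite.unop_op, op_smul_eq_smul]
      rw [e1, map_add, map_add, map_smul, map_smul, h0, zero_add, smul_eq_mul, smul_eq_mul]
      ring)

theorem ofForm_based (L : Oe G →ₗ[K] K) (hL) : (fstHom K K K).comp (ofForm G L hL) = res G :=
  AlgHom.ext fun r => by simp [ofForm]

theorem snd_ofForm (L : Oe G →ₗ[K] K) (hL) (r : Oe G) (hr : r ∈ maximalIdeal (Oe G)) :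
    snd (ofForm G L hL r) = L r := by
  simp [ofForm, (mem_maximalIdeal_iff G r).1 hr]

theorem nsmul_form (L : Oe G →ₗ[K] K) (hL : ∀ x ∈ maximalIdeal (Oe G) * maximalIdeal (Oe G), L x = 0)
    (r : Oe G) (hr : r ∈ maximalIdeal (Oe G)) : L (φ G n r) = n • L r := by
  rw [← snd_ofForm G L hL r hr, ← point_pow G n _ (ofForm_based G L hL), snd_ofForm]
  rw [mem_maximalIdeal_iff, res_φ]
  exact (mem_maximalIdeal_iff G r).1 hr

variable [LocallyOfFiniteType G.hom]

instance : IsNoetherianRing (Oe G) := by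
  have : IsLocallyNoetherian G.left := LocallyOfFiniteType.isLocallyNoetherian G.hom
  infer_instance

theorem map_maximalIdeal (hn : (n : K) ≠ 0) :
    (maximalIdeal (Oe G)).map (φ G n).toRingHom = maximalIdeal (Oe G) := by
  refine le_antisymm (Ideal.map_le_iff_le_comap.2 fun r hr => ?_) ?_
  · rw [Ideal.mem_comap, mem_maximalIdeal_iff]
    exact (res_φ G n r).trans ((mem_maximalIdeal_iff G r).1 hr)
  refine Submodule.le_of_le_smul_of_le_jacobson_bot (IsNoetherian.noetherian _)
    (IsLocalRing.maximalIdeal_le_jacobson ⊥) (fun a ha => ?_)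
  by_contra hna
  let W : Submodule K (Oe G) :=
    ((maximalIdeal (Oe G)).map (φ G n).toRingHom ⊔ maximalIdeal (Oe G) • maximalIdeal (Oe G)).restrictScalars K
  obtain ⟨L, hLa, hLW⟩ := Submodule.exists_dual_map_eq_bot_of_notMem (p := W) hna inferInstance
  have hW : ∀ w ∈ W, L w = 0 := fun w hw => (Submodule.eq_bot_iff _).1 hLW _ ⟨w, hw, rfl⟩
  have h := nsmul_form G n L (fun x hx => hW x (Submodule.mem_sup_right hx)) a ha
  have hz : L (φ G n a) = 0 := hW _ (Submodule.mem_sup_left (Ideal.mem_map_of_mem (φ G n).toRingHom ha))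
  rw [hz, nsmul_eq_mul] at h
  exact hLa ((mul_eq_zero.1 h.symm).resolve_left hn)

theorem pow_e : ((𝟙 G : G ⟶ G) ^ n).left (e G) = e G := by
  show (η[G] ≫ (𝟙 G : G ⟶ G) ^ n).left (IsLocalRing.closedPoint K) = _
  rw [MonObj.comp_pow, Category.comp_id, MonObj.one_eq_one, one_pow]
  exact one_apply G (T := 𝟙_ _) _

theorem exists_stalk_iso : ∃ ε : G.left.presheaf.stalk (((𝟙 G : G ⟶ G) ^ n).left (e G)) ≃+* Oe G,
    ∀ r, (((𝟙 G : G ⟶ G) ^ n).left.stalkMap (e G)).hom r = φ G n (ε r) := by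
  let f := ((𝟙 G : G ⟶ G) ^ n).left
  have key : ∀ y : G.left, y = e G → ∃ c : G.left.presheaf.stalk y ≅ G.left.presheaf.stalk (e G),
      Spec.map c.hom ≫ G.left.fromSpecStalk y = G.left.fromSpecStalk (e G) := by
    intro y hy
    subst hy
    exact ⟨Iso.refl _, by rw [Iso.refl_hom, Spec.map_id, Category.id_comp]⟩
  obtain ⟨c, hc⟩ := key (f (e G)) (pow_e G n)
  have hst : f.stalkMap (e G) = c.hom ≫ CommRingCat.ofHom (φ G n).toRingHom := by
    apply Spec.map_injective
    rw [← cancel_mono (G.left.fromSpecStalk (f (e G))), Scheme.SpecMap_stalkMap_fromSpecStalk]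
    exact (congrArg CommaMorphism.left (φ_spec G n)).trans
      ((congrArg (fun t => Spec.map (CommRingCat.ofHom (φ G n).toRingHom) ≫ t) hc.symm).trans
        ((Category.assoc _ _ _).symm.trans
          (congrArg (fun t => t ≫ G.left.fromSpecStalk (f (e G))) (Spec.map_comp _ _).symm)))
  exact ⟨c.commRingCatIsoToRingEquiv, fun r => congrArg (fun t => t.hom r) hst⟩

theorem stalk_conds (hn : (n : K) ≠ 0) :
    (((𝟙 G : G ⟶ G) ^ n).left.stalkMap (e G)).hom.Flat ∧
      (((𝟙 G : G ⟶ G) ^ n).left.stalkMap (e G)).hom.FormallyUnramified := by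
  obtain ⟨ε, ha⟩ := exists_stalk_iso G n
  let f := ((𝟙 G : G ⟶ G) ^ n).left
  have : IsLocallyNoetherian G.left := LocallyOfFiniteType.isLocallyNoetherian G.hom
  let R := G.left.presheaf.stalk (f (e G))
  let : Algebra R (Oe G) := (f.stalkMap (e G)).hom.toAlgebra
  have hm : (maximalIdeal R).map (algebraMap R (Oe G)) = maximalIdeal (Oe G) := by
    have heR : (maximalIdeal R).map ε.toRingHom = maximalIdeal (Oe G) :=
      IsLocalRing.eq_maximalIdeal (Ideal.map_isMaximal_of_equiv ε)
    have e1 : algebraMap R (Oe G) = (φ G n).toRingHom.comp ε.toRingHom := RingHom.ext ha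
    rw [e1, ← Ideal.map_map, heR]
    exact map_maximalIdeal G n hn
  have hres' : ∀ s : Oe G, ∃ r, s - algebraMap R (Oe G) r ∈ maximalIdeal (Oe G) := fun s =>
    ⟨ε.symm (algebraMap K _ (res G s)), by
      rw [show algebraMap R (Oe G) (ε.symm _) = φ G n (ε (ε.symm _)) from ha _, RingEquiv.apply_symm_apply,
        AlgHom.commutes]
      exact sub_res_mem G s⟩
  refine ⟨NearEndo.flat ε hm hres', ?_⟩
  have : LocallyOfFiniteType (f ≫ G.hom) := by
    rw [show f ≫ G.hom = G.hom from Over.w ((𝟙 G : G ⟶ G) ^ n)]; infer_instance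
  have : LocallyOfFiniteType f := locallyOfFiniteType_of_comp f G.hom
  refine (Locus.EtaleCriterion.formallyUnramified_stalkMap_iff f (e G)).2 ⟨hm, ?_⟩
  let := (f.residueFieldMap (e G)).hom.toAlgebra
  have hs : Function.Surjective (algebraMap (G.left.residueField (f (e G))) (G.left.residueField (e G))) := by
    intro x
    obtain ⟨x, rfl⟩ := IsLocalRing.residue_surjective x
    obtain ⟨r, hr⟩ := hres' x
    exact ⟨IsLocalRing.residue R r, ((Ideal.Quotient.eq).2 hr).symm⟩
  exact ⟨Module.Finite.of_surjective (Algebra.linearMap _ _) hs, ⟨fun x => by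
    obtain ⟨y, rfl⟩ := hs x
    exact isSeparable_algebraMap y⟩⟩

theorem exists_etale_nhd (hn : (n : K) ≠ 0) :
    ∃ U : G.left.Opens, e G ∈ U ∧ Etale (U.ι ≫ ((𝟙 G : G ⟶ G) ^ n).left) := by
  have : IsLocallyNoetherian G.left := LocallyOfFiniteType.isLocallyNoetherian G.hom
  have : LocallyOfFiniteType (((𝟙 G : G ⟶ G) ^ n).left ≫ G.hom) := by
    rw [Over.w]; infer_instance
  have : LocallyOfFiniteType ((𝟙 G : G ⟶ G) ^ n).left := locallyOfFiniteType_of_comp _ G.hom
  have := Locus.EtaleCriterion.locallyOfFinitePresentation_of_isLocallyNoetherian ((𝟙 G : G ⟶ G) ^ n).left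
  exact (Locus.EtaleCriterion.exists_etale_nhd_iff_flat _ _).2 (stalk_conds G n hn)

theorem field_of_etale (hn : (n : K) = 0) (h : Etale ((𝟙 G : G ⟶ G) ^ n).left) :
    maximalIdeal (Oe G) = ⊥ := by
  have hnil : ∀ a ∈ maximalIdeal (Oe G), φ G n a ∈ maximalIdeal (Oe G) • maximalIdeal (Oe G) := by
    intro a ha
    by_contra hna
    obtain ⟨L, hLa, hLW⟩ := Submodule.exists_dual_map_eq_bot_of_notMem
      (p := (maximalIdeal (Oe G) • maximalIdeal (Oe G)).restrictScalars K) hna inferInstance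
    have hW : ∀ w ∈ (maximalIdeal (Oe G) • maximalIdeal (Oe G)).restrictScalars K, L w = 0 :=
      fun w hw => (Submodule.eq_bot_iff _).1 hLW _ ⟨w, hw, rfl⟩
    refine hLa ?_
    rw [nsmul_form G n L (fun x hx => hW x hx) a ha, nsmul_eq_mul, hn, zero_mul]
  obtain ⟨ε, hε⟩ := exists_stalk_iso G n
  let f := ((𝟙 G : G ⟶ G) ^ n).left
  have : IsLocallyNoetherian G.left := LocallyOfFiniteType.isLocallyNoetherian G.hom
  have : LocallyOfFiniteType f := inferInstance
  have := Locus.EtaleCriterion.locallyOfFinitePresentation_of_isLocallyNoetherian f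
  obtain ⟨-, hu⟩ := (Locus.EtaleCriterion.exists_etale_nhd_iff_flat f (e G)).1 ⟨⊤, trivial, inferInstance⟩
  have hm := ((Locus.EtaleCriterion.formallyUnramified_stalkMap_iff f (e G)).1 hu).1
  refine Submodule.eq_bot_of_le_smul_of_le_jacobson_bot (maximalIdeal (Oe G)) (maximalIdeal (Oe G))
    (IsNoetherian.noetherian _) ?_ (IsLocalRing.maximalIdeal_le_jacobson ⊥)
  refine le_of_eq_of_le hm.symm (Ideal.map_le_iff_le_comap.2 fun r hr => ?_)
  rw [Ideal.mem_comap, hε]
  exact hnil _ fun hu' => hr (by simpa using hu'.map ε.symm)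

set_option backward.isDefEq.respectTransparency.types false in
theorem etale_of_isAlgClosed [IsAlgClosed K] [IsCommMonObj G] (hn : (n : K) ≠ 0) :
    Etale ((𝟙 G : G ⟶ G) ^ n).left := by
  have := LocallyOfFiniteType.jacobsonSpace G.hom
  obtain ⟨U, hU, hUet⟩ := exists_etale_nhd G n hn
  let f := ((𝟙 G : G ⟶ G) ^ n).left
  have key : ∀ x : G.left, ∃ W : G.left.Opens, x ∈ W ∧ Etale (W.ι ≫ f) := by
    intro x
    obtain ⟨c, hcx, hc⟩ := nonempty_inter_closedPoints (Z := closure {x}) ⟨x, subset_closure rfl⟩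
      isClosed_closure.isLocallyClosed
    let t : 𝟙_ _ ⟶ G := Over.homMk _ ((pointEquivClosedPoint G.hom).symm ⟨c, hc⟩).2
    let α : G ≅ G :=
      { hom := 𝟙 G * (toUnit G ≫ t)
        inv := 𝟙 G * (toUnit G ≫ t)⁻¹
        hom_inv_id := by
          rw [MonObj.comp_mul, GrpObj.comp_inv, Category.comp_id, ← Category.assoc, Subsingleton.elim
            ((𝟙 G * (toUnit G ≫ t)) ≫ toUnit G) (toUnit G), mul_inv_cancel_right]
        inv_hom_id := by
          rw [MonObj.comp_mul, Category.comp_id, ← Category.assoc, Subsingleton.elim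
            ((𝟙 G * (toUnit G ≫ t)⁻¹) ≫ toUnit G) (toUnit G), inv_mul_cancel_right] }
    have hαc : α.hom.left (e G) = c := by
      show (η[G] ≫ α.hom).left (IsLocalRing.closedPoint K) = c
      have e1 : η[G] ≫ α.hom = t := by
        rw [show α.hom = 𝟙 G * (toUnit G ≫ t) from rfl, MonObj.comp_mul, Category.comp_id, MonObj.one_eq_one,
          _root_.one_mul, ← Category.assoc, Subsingleton.elim ((1 : 𝟙_ _ ⟶ G) ≫ toUnit G) (𝟙 _), Category.id_comp]
      rw [e1]
      simp [t, pointEquivClosedPoint]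
    have hβ : IsIso α.hom.left := ((Over.forget _).mapIso α).isIso_hom
    let j := U.ι ≫ α.hom.left
    let W := j.opensRange
    have hcW : c ∈ W := ⟨⟨e G, hU⟩, by rw [← hαc]; rfl⟩
    have hxc : x ⤳ c := specializes_iff_mem_closure.2 hcx
    refine ⟨W, hxc.mem_open W.2 hcW, ?_⟩
    have hcomm : α.hom ≫ (𝟙 G : G ⟶ G) ^ n = (𝟙 G : G ⟶ G) ^ n * (toUnit G ≫ t) ^ n := by
      rw [MonObj.comp_pow, Category.comp_id, ← mul_pow]
    have hj : Etale (j ≫ f) := by
      let β : G ⟶ G := 𝟙 G * (toUnit G ≫ t) ^ n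
      have hβ' : IsIso β := by
        refine ⟨𝟙 G * ((toUnit G ≫ t) ^ n)⁻¹, ?_, ?_⟩
        · rw [MonObj.comp_mul, Category.comp_id, GrpObj.comp_inv, MonObj.comp_pow, ← Category.assoc,
            Subsingleton.elim ((𝟙 G * (toUnit G ≫ t) ^ n) ≫ toUnit G) (toUnit G), mul_inv_cancel_right]
        · rw [MonObj.comp_mul, Category.comp_id, MonObj.comp_pow, ← Category.assoc,
            Subsingleton.elim ((𝟙 G * ((toUnit G ≫ t) ^ n)⁻¹) ≫ toUnit G) (toUnit G), inv_mul_cancel_right]
      have : IsIso β.left := inferInstanceAs (IsIso ((Over.forget _).map β))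
      have e1 : α.hom ≫ (𝟙 G : G ⟶ G) ^ n = ((𝟙 G : G ⟶ G) ^ n) ≫ β := by
        rw [hcomm, MonObj.comp_mul, Category.comp_id, MonObj.comp_pow, ← Category.assoc,
          Subsingleton.elim ((((𝟙 G : G ⟶ G) ^ n) : G ⟶ G) ≫ toUnit G) (toUnit G)]
      have e2 : j ≫ f = (U.ι ≫ f) ≫ β.left := by
        rw [Category.assoc, Category.assoc]
        exact congrArg (U.ι ≫ ·) (congrArg CommaMorphism.left e1)
      rw [e2]
      infer_instance
    have e3 : W.ι ≫ f = (IsOpenImmersion.isoOfRangeEq W.ι j (by simp [W])).hom ≫ j ≫ f := by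
      rw [← Category.assoc (IsOpenImmersion.isoOfRangeEq W.ι j _).hom, IsOpenImmersion.isoOfRangeEq_hom_fac]
    rw [e3]
    infer_instance
  choose W hxW hW using key
  exact IsZariskiLocalAtSource.of_iSup_eq_top (P := @Etale.{u}) W
    (top_le_iff.1 fun x _ => TopologicalSpace.Opens.mem_iSup.2 ⟨x, hxW x⟩) hW

open scoped CategoryTheory.Obj in
theorem etale [IsCommMonObj G] (hn : (n : K) ≠ 0) : Etale ((𝟙 G : G ⟶ G) ^ n).left := by
  let g : Spec (.of (AlgebraicClosure K)) ⟶ Spec (.of K) :=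
    Spec.map (CommRingCat.ofHom <| algebraMap K (AlgebraicClosure K))
  let G' := (Over.pullback g).obj G
  have : LocallyOfFiniteType G'.hom := inferInstanceAs (LocallyOfFiniteType (Limits.pullback.snd G.hom g))
  have hn' : (n : AlgebraicClosure K) ≠ 0 := by
    rwa [Ne, ← map_natCast (algebraMap K (AlgebraicClosure K)), map_eq_zero]
  have h := etale_of_isAlgClosed G' n hn'
  have e1 : (Over.pullback g).map ((𝟙 G : G ⟶ G) ^ n) = (𝟙 G' : G' ⟶ G') ^ n := by
    have := map_pow (Functor.homMonoidHom (Over.pullback g) (X := G) (M := G)) (𝟙 G) n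
    simpa [G'] using this
  rw [← e1] at h
  let p := Limits.pullback.fst G.hom g
  have sq : IsPullback p ((Over.pullback g).map ((𝟙 G : G ⟶ G) ^ n)).left ((𝟙 G : G ⟶ G) ^ n).left p := by
    refine IsPullback.of_bot (v₂₁ := Limits.pullback.snd G.hom g) (v₂₂ := G.hom) (h₃₁ := g) ?_ ?_
      (IsPullback.of_hasPullback _ _)
    · have e2 : ((Over.pullback g).map ((𝟙 G : G ⟶ G) ^ n)).left ≫ Limits.pullback.snd G.hom g =
          Limits.pullback.snd G.hom g := Over.w ((Over.pullback g).map ((𝟙 G : G ⟶ G) ^ n))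
      rw [e2, Over.w]
      exact IsPullback.of_hasPullback _ _
    · exact (Limits.pullback.lift_fst _ _ _).symm
  refine MorphismProperty.of_isPullback_of_descendsAlong (P := @Etale)
    (Q := @Surjective ⊓ @Flat ⊓ @QuasiCompact) sq.flip ?_ h
  exact ⟨⟨inferInstance, inferInstance⟩, inferInstance⟩

theorem subsingleton_of_maximalIdeal_eq_bot [IsIntegral G.left] (h : maximalIdeal (Oe G) = ⊥) :
    Subsingleton G.left := by
  have hf : IsField (Oe G) := IsLocalRing.isField_iff_maximalIdeal_eq.2 h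
  have h1 : Set.range (G.left.fromSpecStalk (e G)) = {e G} := by
    let := hf.toField
    have : Subsingleton ↥(Spec (G.left.presheaf.stalk (e G))) :=
      inferInstanceAs (Subsingleton (PrimeSpectrum (Oe G)))
    refine Set.eq_singleton_iff_unique_mem.2 ⟨⟨_, Scheme.fromSpecStalk_closedPoint⟩, ?_⟩
    rintro _ ⟨y, rfl⟩
    rw [Subsingleton.elim y (IsLocalRing.closedPoint (Oe G))]
    exact Scheme.fromSpecStalk_closedPoint
  have h2 : genericPoint G.left ∈ Set.range (G.left.fromSpecStalk (e G)) := by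
    rw [Scheme.range_fromSpecStalk]
    exact (genericPoint_spec G.left).specializes trivial
  rw [h1] at h2
  have h3 : IsClosed ({e G} : Set G.left) := by
    have h4 := (η[G].left).isClosedEmbedding.isClosed_range
    convert h4 using 1
    ext y
    constructor
    · rintro rfl; exact ⟨IsLocalRing.closedPoint K, rfl⟩
    · rintro ⟨z, rfl⟩
      exact congrArg η[G].left (Subsingleton.elim (α := PrimeSpectrum K) _ _)
  refine subsingleton_of_forall_eq (e G) fun y => ?_
  have h5 : y ∈ closure ({genericPoint G.left} : Set G.left) := by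
    rw [(genericPoint_spec G.left).def]; trivial
  rw [Set.mem_singleton_iff.1 h2, h3.closure_eq] at h5
  exact h5

set_option backward.isDefEq.respectTransparency.types false in
theorem abelianVariety [IsProper G.hom] [GeometricallyIntegral G.hom] (hA : 0 < topologicalKrullDim G.left)
    (d : ℤ) : Etale (((𝟙 G : G ⟶ G) ^ d).left) ↔ (d : K) ≠ 0 := by
  have := isCommMonObj_of_isProper_of_geometricallyIntegral G
  have hint : IsIntegral G.left :=
    GeometricallyIntegral.isIntegral_of_subsingleton G.hom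
  have hnat : ∀ m : ℕ, Etale (((𝟙 G : G ⟶ G) ^ m).left) ↔ (m : K) ≠ 0 := fun m => by
    refine ⟨fun h hm => ?_, fun hm => etale G m hm⟩
    have := subsingleton_of_maximalIdeal_eq_bot G (field_of_etale G m hm h)
    exact (lt_irrefl (0 : WithBot ℕ∞)) (hA.trans_le (by
      have : Subsingleton (TopologicalSpace.IrreducibleCloseds G.left) := ⟨fun a b => TopologicalSpace.IrreducibleCloseds.ext (by
        rw [a.isIrreducible.1.eq_univ, b.isIrreducible.1.eq_univ])⟩
      exact Order.krullDim_nonpos_of_subsingleton))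
  obtain ⟨m, rfl | rfl⟩ := d.eq_nat_or_neg
  · rw [zpow_natCast, Int.cast_natCast]
    exact hnat m
  · rw [zpow_neg, zpow_natCast, Int.cast_neg, neg_ne_zero, Int.cast_natCast, ← hnat m]
    have e1 : ((𝟙 G : G ⟶ G) ^ m)⁻¹ = ((𝟙 G : G ⟶ G) ^ m) ≫ (𝟙 G : G ⟶ G)⁻¹ := by
      rw [GrpObj.comp_inv, Category.comp_id]
    have hi : IsIso ((𝟙 G : G ⟶ G)⁻¹) :=
      ⟨(𝟙 G : G ⟶ G)⁻¹, by rw [GrpObj.comp_inv, Category.comp_id, _root_.inv_inv],
        by rw [GrpObj.comp_inv, Category.comp_id, _root_.inv_inv]⟩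
    have : IsIso ((𝟙 G : G ⟶ G)⁻¹).left :=
      inferInstanceAs (IsIso ((Over.forget _).map (𝟙 G : G ⟶ G)⁻¹))
    rw [e1, Over.comp_left]
    exact MorphismProperty.cancel_right_of_respectsIso @Etale _ _

end Groth.Agent.HopfRep.GrpPow

end
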