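import Groth.Agent.HopfRep.GrpDeriv
import Mathlib.AlgebraicGeometry.Group.Smooth
import Mathlib.AlgebraicGeometry.Morphisms.SmoothFiber

/-!
A group scheme locally of finite type over a field which is smooth somewhere is smooth; consequences
over a base.
-/

universe u

open CategoryTheory MonoidalCategory CartesianMonoidalCategory MonObj AlgebraicGeometry

noncomputable section

namespace Groth.Agent.HopfRep.GrpSmooth

variable {K : Type u} [Field K]

set_option backward.defeqAttrib.useBackward true in
set_option backward.isDefEq.respectTransparency false in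
theorem smooth_of_nonempty_smoothLocus_of_isAlgClosed [IsAlgClosed K] {G : Scheme.{u}}
    (f : G ⟶ Spec (.of K)) [LocallyOfFiniteType f] [GrpObj (Over.mk f)]
    (hne : (f.smoothLocus : Set G).Nonempty) : Smooth f := by
  have := LocallyOfFiniteType.jacobsonSpace f
  rw [← Scheme.Hom.smoothLocus_eq_top_iff, ← TopologicalSpace.Opens.coe_eq_univ,
    ← not_ne_iff, ← Set.nonempty_compl]
  intro H
  obtain ⟨x, hx, hxc⟩ :=
    nonempty_inter_closedPoints H f.smoothLocus.2.isClosed_compl.isLocallyClosed
  obtain ⟨y, hy : y ∈ f.smoothLocus, hyc⟩ := nonempty_inter_closedPoints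
    hne f.smoothLocus.2.isLocallyClosed
  let x' : 𝟙_ _ ⟶ Over.mk f := Over.homMk _ ((pointEquivClosedPoint f).symm ⟨x, hxc⟩).2
  let y' : 𝟙_ _ ⟶ Over.mk f := Over.homMk _ ((pointEquivClosedPoint f).symm ⟨y, hyc⟩).2
  let α := (GrpObj.mulRight (A := Over.mk f) x').symm ≪≫
    (GrpObj.mulRight (A := Over.mk f) y')
  have hα : x' ≫ α.hom = y' := by
    dsimp only [Iso.trans_hom, Iso.symm_hom, α]
    rw [← Category.assoc, ← Iso.eq_comp_inv]
    simp [comp_lift_assoc]
  have hα' : α.hom.left x = y := by
    simpa [x', y', pointEquivClosedPoint] using congr(($hα).left (IsLocalRing.closedPoint K))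
  rw! [← hα', ← α.hom.left.mem_preimage, Scheme.Hom.preimage_smoothLocus_eq,
    show α.hom.left ≫ f = f from α.hom.w] at hy
  exact hx hy

set_option backward.isDefEq.respectTransparency.types false in
theorem smooth_of_smooth_open (G : Over (Spec (CommRingCat.of K))) [GrpObj G] [LocallyOfFiniteType G.hom]
    (U : G.left.Opens) (hne : (U : Set G.left).Nonempty) (hU : Smooth (U.ι ≫ G.hom)) : Smooth G.hom := by
  let Ω : Type u := AlgebraicClosure K
  let g : Spec (.of Ω) ⟶ Spec (.of K) := Spec.map (CommRingCat.ofHom <| algebraMap K Ω)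
  have : Surjective g := inferInstance
  apply MorphismProperty.of_pullback_snd_of_descendsAlong
    (Q := @Surjective ⊓ @Flat ⊓ @QuasiCompact) (g := g)
  · exact ⟨⟨inferInstance, inferInstance⟩, inferInstance⟩
  let : GrpObj (Over.mk G.hom) := ‹GrpObj G›
  let : GrpObj (Over.mk (Limits.pullback.snd G.hom g)) := Over.grpObjMkPullbackSnd
  refine smooth_of_nonempty_smoothLocus_of_isAlgClosed _ ?_
  let P := Limits.pullback U.ι (Limits.pullback.fst G.hom g)
  let j : P ⟶ Limits.pullback G.hom g := Limits.pullback.snd U.ι (Limits.pullback.fst G.hom g)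
  have hsm : Smooth (j ≫ Limits.pullback.snd G.hom g) := by
    rw [← Limits.pullbackRightPullbackFstIso_hom_snd]
    have : Smooth (Limits.pullback.snd (U.ι ≫ G.hom) g) := inferInstance
    infer_instance
  obtain ⟨a, ha⟩ := hne
  obtain ⟨b, hb⟩ := (inferInstance : Surjective (Limits.pullback.fst G.hom g)).surj a
  obtain ⟨z, -, hz⟩ := Scheme.Pullback.exists_preimage_pullback (f := U.ι) (g := Limits.pullback.fst G.hom g)
    ⟨a, ha⟩ b (by rw [hb]; rfl)
  refine ⟨j z, ?_⟩
  have : z ∈ (j ≫ Limits.pullback.snd G.hom g).smoothLocus := by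
    rw [Scheme.Hom.smoothLocus_eq_top]
    trivial
  rwa [← Scheme.Hom.preimage_smoothLocus_eq] at this

theorem smooth_of_reduced [PerfectField K] (G : Over (Spec (CommRingCat.of K))) [GrpObj G]
    [LocallyOfFiniteType G.hom] [IsReduced G.left] : Smooth G.hom := by
  have : Nonempty G.left := ⟨η[G].left (IsLocalRing.closedPoint K)⟩
  refine smooth_of_smooth_open G G.hom.smoothLocus G.hom.dense_smoothLocus_of_perfectField.nonempty ?_
  rw [← Scheme.Hom.smoothLocus_eq_top_iff, ← Scheme.Hom.preimage_smoothLocus_eq]
  exact Scheme.Opens.ι_preimage_self _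

variable {S : Scheme.{u}}

theorem smooth_of_flat_of_fibres (G : Over S) [Flat G.hom] [LocallyOfFinitePresentation G.hom]
    (h : ∀ s : S, Smooth (G.hom.fiberToSpecResidueField s)) : Smooth G.hom :=
  Smooth.of_smooth_fiberToSpecResidueField G.hom h

theorem smooth_of_geometricallyReduced (G : Over S) [GrpObj G] [Flat G.hom] [LocallyOfFinitePresentation G.hom]
    [GeometricallyReduced G.hom] : Smooth G.hom := by
  refine smooth_of_flat_of_fibres G fun s => ?_
  let : GrpObj (Over.mk G.hom) := ‹GrpObj G›
  let : GrpObj (Over.mk (Limits.pullback.snd G.hom (S.fromSpecResidueField s))) := Over.grpObjMkPullbackSnd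
  exact smooth_of_grpObj (K := S.residueField s) (Limits.pullback.snd G.hom (S.fromSpecResidueField s))

theorem smooth_of_charZero (hS : ∀ s : S, CharZero (S.residueField s)) (G : Over S) [GrpObj G] [Flat G.hom]
    [LocallyOfFinitePresentation G.hom] : Smooth G.hom := by
  refine smooth_of_flat_of_fibres G fun s => ?_
  have := hS s
  let : GrpObj (Over.mk G.hom) := ‹GrpObj G›
  let : GrpObj (Over.mk (Limits.pullback.snd G.hom (S.fromSpecResidueField s))) := Over.grpObjMkPullbackSnd
  have : LocallyOfFiniteType (Over.mk (Limits.pullback.snd G.hom (S.fromSpecResidueField s))).hom :=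
    inferInstanceAs (LocallyOfFiniteType (Limits.pullback.snd G.hom (S.fromSpecResidueField s)))
  exact GrpDeriv.smooth (K := S.residueField s) (Over.mk (Limits.pullback.snd G.hom (S.fromSpecResidueField s)))

end Groth.Agent.HopfRep.GrpSmooth

end
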