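import Mathlib.RingTheory.FinitePresentation
import Mathlib.RingTheory.TensorProduct.Maps
import Mathlib.Algebra.Module.Projective
import Mathlib.RingTheory.Finiteness.Projective
import Mathlib.Algebra.MvPolynomial.CommRing

/-!
The algebra of homomorphisms into a finite projective algebra: `Hom_R(C, B ⊗ -)` is corepresentable.
-/

universe u

open TensorProduct MvPolynomial

noncomputable section

namespace Groth.Agent.HopfRep.HomAlg

variable {R : Type u} [CommRing R]

/-- the coefficient along a functional -/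
def co {B L : Type u} [CommRing B] [Algebra R B] [CommRing L] [Algebra R L] (φ : B →ₗ[R] R) :
    B ⊗[R] L →ₗ[R] L :=
  (TensorProduct.lid R L).toLinearMap ∘ₗ φ.rTensor L

theorem co_tmul {B L : Type u} [CommRing B] [Algebra R B] [CommRing L] [Algebra R L] (φ : B →ₗ[R] R) (b : B) (l : L) :
    co φ (b ⊗ₜ[R] l) = φ b • l := by simp [co]

theorem co_map {B L L' : Type u} [CommRing B] [Algebra R B] [CommRing L] [Algebra R L] [CommRing L'] [Algebra R L']
    (φ : B →ₗ[R] R) (v : L →ₐ[R] L') (x : B ⊗[R] L) :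
    co φ (Algebra.TensorProduct.map (AlgHom.id R B) v x) = v (co φ x) := by
  induction x using TensorProduct.induction_on with
  | zero => simp
  | tmul b l => simp [co_tmul]
  | add x y hx hy => simp [hx, hy]

section

variable {B : Type u} [CommRing B] [Algebra R B] {n : ℕ} (b : Fin n → B) (φ : Fin n → B →ₗ[R] R)
  (hb : ∀ x : B, ∑ i, φ i x • b i = x)

include hb in
theorem sum_co {L : Type u} [CommRing L] [Algebra R L] (x : B ⊗[R] L) : ∑ i, b i ⊗ₜ[R] co (φ i) x = x := by
  induction x using TensorProduct.induction_on with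
  | zero => simp
  | tmul c l =>
    calc ∑ i, b i ⊗ₜ[R] co (φ i) (c ⊗ₜ l) = ∑ i, (φ i c • b i) ⊗ₜ[R] l := by
          simp [co_tmul, TensorProduct.smul_tmul]
      _ = c ⊗ₜ l := by rw [← TensorProduct.sum_tmul, hb]
  | add x y hx hy => simp [TensorProduct.tmul_add, Finset.sum_add_distrib, hx, hy]

variable {κ : Type u}

/-- generic element -/
def gen (j : κ) : B ⊗[R] MvPolynomial (κ × Fin n) R := ∑ i, b i ⊗ₜ[R] X (j, i)

/-- relations -/
def rel (G : Set (MvPolynomial κ R)) : Set (MvPolynomial (κ × Fin n) R) :=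
  Set.range (fun p : κ × Fin n => co (φ p.2) (gen b p.1) - X p) ∪
    ⋃ i, (fun g => co (φ i) (aeval (gen b) g)) '' G

/-- the corepresenting algebra -/
abbrev W (G : Set (MvPolynomial κ R)) : Type u := MvPolynomial (κ × Fin n) R ⧸ Ideal.span (rel b φ G)

variable (G : Set (MvPolynomial κ R))

/-- universal point -/
def univ₀ : MvPolynomial κ R →ₐ[R] B ⊗[R] W b φ G :=
  (Algebra.TensorProduct.map (AlgHom.id R B) (Ideal.Quotient.mkₐ R (Ideal.span (rel b φ G)))).comp (aeval (gen b))

include hb in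
theorem univ₀_vanish (g : MvPolynomial κ R) (hg : g ∈ G) : univ₀ b φ G g = 0 := by
  rw [← sum_co b φ hb (univ₀ b φ G g)]
  refine Finset.sum_eq_zero fun i _ => ?_
  have h0 : Ideal.Quotient.mk (Ideal.span (rel b φ G)) (co (φ i) (aeval (gen b) g)) = 0 :=
    Ideal.Quotient.eq_zero_iff_mem.2 (Ideal.subset_span (Or.inr (Set.mem_iUnion.2 ⟨i, g, hg, rfl⟩)))
  rw [univ₀, AlgHom.comp_apply, co_map, Ideal.Quotient.mkₐ_eq_mk, h0, TensorProduct.tmul_zero]

include hb in
theorem existsUnique_lift {L : Type u} [CommRing L] [Algebra R L] (f : MvPolynomial κ R →ₐ[R] B ⊗[R] L)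
    (hf : ∀ g ∈ G, f g = 0) :
    ∃! v : W b φ G →ₐ[R] L, (Algebra.TensorProduct.map (AlgHom.id R B) v).comp (univ₀ b φ G) = f := by
  let v₀ : MvPolynomial (κ × Fin n) R →ₐ[R] L := aeval fun p => co (φ p.2) (f (X p.1))
  have h0 : (Algebra.TensorProduct.map (AlgHom.id R B) v₀).comp (aeval (gen b)) = f := by
    refine MvPolynomial.algHom_ext fun j => ?_
    simp [gen, map_sum, v₀, sum_co b φ hb]
  have hrel : ∀ p ∈ rel b φ G, v₀ p = 0 := by
    rintro p (⟨⟨j, i⟩, rfl⟩ | hp)
    · rw [map_sub, ← co_map, show Algebra.TensorProduct.map (AlgHom.id R B) v₀ (gen b j) = f (X j) by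
        rw [← h0]; simp]
      simp [v₀]
    · obtain ⟨i, g, hg, rfl⟩ := Set.mem_iUnion.1 hp
      show v₀ (co (φ i) (aeval (gen b) g)) = 0
      rw [← co_map, ← AlgHom.comp_apply, h0, hf g hg, map_zero]
  let v : W b φ G →ₐ[R] L := Ideal.Quotient.liftₐ _ v₀ fun p hp =>
    (Ideal.span_le (I := RingHom.ker v₀)).2 (fun q hq => hrel q hq) hp
  have hv : v.comp (Ideal.Quotient.mkₐ R _) = v₀ := Ideal.Quotient.liftₐ_comp _ _ _
  have key : ∀ w : W b φ G →ₐ[R] L, (Algebra.TensorProduct.map (AlgHom.id R B) w).comp (univ₀ b φ G) =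
      (Algebra.TensorProduct.map (AlgHom.id R B) (w.comp (Ideal.Quotient.mkₐ R _))).comp (aeval (gen b)) := fun w => by
    rw [univ₀, ← AlgHom.comp_assoc, ← Algebra.TensorProduct.map_id_comp]
  refine ⟨v, by show _ = f; rw [key, hv, h0], fun w hw => ?_⟩
  apply Ideal.Quotient.algHom_ext
  rw [hv]
  refine MvPolynomial.algHom_ext fun p => ?_
  have e : (Ideal.Quotient.mkₐ R (Ideal.span (rel b φ G))) (X p) =
      co (φ p.2) (univ₀ b φ G (X p.1)) := by
    rw [univ₀, AlgHom.comp_apply, co_map, aeval_X]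
    exact ((Ideal.Quotient.eq (I := Ideal.span (rel b φ G))).2 (Ideal.subset_span (Or.inl ⟨p, rfl⟩))).symm
  rw [AlgHom.comp_apply, e, ← co_map, ← AlgHom.comp_apply, hw]
  simp [v₀]

end

theorem exists_coeff (B : Type u) [CommRing B] [Algebra R B] [Module.Finite R B] [Module.Projective R B] :
    ∃ (n : ℕ) (b : Fin n → B) (φ : Fin n → B →ₗ[R] R), ∀ x : B, ∑ i, φ i x • b i = x := by
  obtain ⟨n, f, g, -, -, hfg⟩ := Module.Finite.exists_comp_eq_id_of_projective R B
  refine ⟨n, fun i => f (Pi.single i 1), fun i => (LinearMap.proj i).comp g, fun x => ?_⟩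
  have h : f (g x) = x := LinearMap.congr_fun hfg x
  conv_rhs => rw [← h, pi_eq_sum_univ' (g x)]
  simp only [map_sum, map_smul]
  rfl

/-- Hom from an algebra into a finite projective algebra is corepresentable. -/
theorem exists_univ (B : Type u) [CommRing B] [Algebra R B] [Module.Finite R B] [Module.Projective R B]
    (C : Type u) [CommRing C] [Algebra R C] :
    ∃ (D : Type u) (_ : CommRing D) (_ : Algebra R D) (θ : C →ₐ[R] B ⊗[R] D),
      (Algebra.FiniteType R C → Algebra.FiniteType R D) ∧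
      (Algebra.FinitePresentation R C → Algebra.FinitePresentation R D) ∧
      ∀ (L : Type u) [CommRing L] [Algebra R L] (f : C →ₐ[R] B ⊗[R] L),
        ∃! v : D →ₐ[R] L, (Algebra.TensorProduct.map (AlgHom.id R B) v).comp θ = f := by
  classical
  obtain ⟨n, b, φ, hb⟩ := exists_coeff (R := R) B
  obtain ⟨κ, π, hπ, G, hG, hft, hfp⟩ : ∃ (κ : Type u) (π : MvPolynomial κ R →ₐ[R] C) (_ : Function.Surjective π)
      (G : Set (MvPolynomial κ R)), Ideal.span G = RingHom.ker π ∧
      (Algebra.FiniteType R C → Finite κ) ∧ (Algebra.FinitePresentation R C → Finite κ ∧ G.Finite) := by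
    by_cases hp : Algebra.FinitePresentation R C
    · obtain ⟨m, p, hp₁, hp₂⟩ := hp
      obtain ⟨s, hs⟩ := hp₂
      refine ⟨ULift.{u} (Fin m), p.comp (renameEquiv R (Equiv.ulift : ULift.{u} (Fin m) ≃ Fin m)).toAlgHom,
        hp₁.comp (renameEquiv R _).surjective, ((renameEquiv R (Equiv.ulift : ULift.{u} (Fin m) ≃ Fin m)).symm '' s), ?_,
        fun _ => inferInstance, fun _ => ⟨inferInstance, s.finite_toSet.image _⟩⟩
      let e := renameEquiv R (Equiv.ulift : ULift.{u} (Fin m) ≃ Fin m)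
      have h1 : RingHom.ker (p.comp e.toAlgHom) = (RingHom.ker p).map (e.symm : MvPolynomial (Fin m) R →+* MvPolynomial (ULift.{u} (Fin m)) R) := by
        ext x
        constructor
        · intro hx
          have : e x ∈ RingHom.ker p := hx
          simpa using Ideal.mem_map_of_mem (e.symm : MvPolynomial (Fin m) R →+* MvPolynomial (ULift.{u} (Fin m)) R) this
        · intro hx
          obtain ⟨y, hy, rfl⟩ := (Ideal.mem_map_iff_of_surjective _ e.symm.surjective).1 hx
          show p (e (e.symm y)) = 0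
          simpa using hy
      rw [h1, show RingHom.ker p = Ideal.span (s : Set (MvPolynomial (Fin m) R)) from hs.symm, Ideal.map_span]
      rfl
    · by_cases hq : Algebra.FiniteType R C
      · obtain ⟨m, p, hp₁⟩ := Algebra.FiniteType.iff_quotient_mvPolynomial''.1 hq
        exact ⟨ULift.{u} (Fin m), p.comp (renameEquiv R (Equiv.ulift : ULift.{u} (Fin m) ≃ Fin m)).toAlgHom,
          hp₁.comp (renameEquiv R _).surjective, _, Ideal.span_eq _, fun _ => inferInstance, fun h => absurd h hp⟩
      · exact ⟨C, aeval id, fun c => ⟨X c, by simp⟩, _, Ideal.span_eq _, fun h => absurd h hq, fun h => absurd h hp⟩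
  have hker : ∀ a ∈ RingHom.ker π, univ₀ b φ G a = 0 := fun a ha =>
    (Ideal.span_le (I := RingHom.ker (univ₀ b φ G))).2 (fun g hg => univ₀_vanish b φ hb G g hg) (hG ▸ ha)
  let θ : C →ₐ[R] B ⊗[R] W b φ G :=
    (Ideal.Quotient.liftₐ _ (univ₀ b φ G) hker).comp (Ideal.quotientKerAlgEquivOfSurjective hπ).symm.toAlgHom
  have hθ : θ.comp π = univ₀ b φ G := by
    refine AlgHom.ext fun a => ?_
    have : (Ideal.quotientKerAlgEquivOfSurjective hπ).symm (π a) = Ideal.Quotient.mkₐ R _ a := by
      rw [AlgEquiv.symm_apply_eq]; rfl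
    simp [θ, this]
    all_goals rfl
  refine ⟨W b φ G, inferInstance, inferInstance, θ, fun h => ?_, fun h => ?_, fun L _ _ f => ?_⟩
  · have := hft h
    exact Algebra.FiniteType.of_surjective (Ideal.Quotient.mkₐ R _) Ideal.Quotient.mk_surjective
  · obtain ⟨_, hGf⟩ := hfp h
    refine Algebra.FinitePresentation.quotient (Submodule.fg_span ?_)
    exact (Set.finite_range _).union (Set.finite_iUnion fun i => hGf.image _)
  · have h0 : ∀ g ∈ G, (f.comp π) g = 0 := fun g hg => by
      have : g ∈ RingHom.ker π := hG ▸ Ideal.subset_span hg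
      rw [AlgHom.comp_apply, show π g = 0 from this, map_zero]
    obtain ⟨v, hv, huniq⟩ := existsUnique_lift b φ hb G (f.comp π) h0
    refine ⟨v, AlgHom.ext fun c => ?_, fun w hw => huniq w (by
      show _ = f.comp π
      rw [← hθ, ← AlgHom.comp_assoc, hw])⟩
    obtain ⟨a, rfl⟩ := hπ c
    rw [← hθ] at hv
    exact AlgHom.congr_fun hv a

end Groth.Agent.HopfRep.HomAlg

end
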