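import Groth.Agent.HopfRep.HomSchemeGrp
import Groth.Agent.HopfRep.HomLocus
import Groth.Agent.Fpqc.Descent
import Mathlib.RingTheory.RingHom.Etale
import Mathlib.AlgebraicGeometry.Morphisms.Etale
import Mathlib.AlgebraicGeometry.Morphisms.LocalFlatDescent
import Mathlib.RingTheory.IntegralClosure.IsIntegralClosure.Basic

/-!
The scheme of homomorphisms between finite groups of multiplicative type is finite étale.
-/

universe u

open CategoryTheory MonoidalCategory CartesianMonoidalCategory MonObj AlgebraicGeometry Limits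

set_option linter.unusedSimpArgs false
set_option linter.style.haveILetI false
set_option backward.isDefEq.respectTransparency.types false

noncomputable section

namespace Groth.Agent.HopfRep.HomEtale

open DiagRigid GroupLike

/-- An algebra which is locally a localisation of the base through finitely many sections is finite and étale. -/
theorem finite_and_etale {K D : Type u} [CommRing K] [CommRing D] [Algebra K D] [Algebra.FiniteType K D]
    (h : ∀ p : PrimeSpectrum D, ∃ (r : D) (c : D →ₐ[K] K), r ∉ p.asIdeal ∧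
      ∀ a : D, algebraMap D (Localization.Away r) a = algebraMap D (Localization.Away r) (algebraMap K D (c a))) :
    Module.Finite K D ∧ (algebraMap K D).Etale := by
  classical
  choose r c hr hc using h
  have hspan : Ideal.span (Set.range r) = ⊤ := by
    by_contra hne
    obtain ⟨m, hm, hle⟩ := Ideal.exists_le_maximal _ hne
    exact hr ⟨m, hm.isPrime⟩ (hle (Ideal.subset_span ⟨_, rfl⟩))
  constructor
  · obtain ⟨F, hF⟩ : ∃ F : Finset (PrimeSpectrum D), Ideal.span (r '' (F : Set (PrimeSpectrum D))) = ⊤ := by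
      obtain ⟨s, hs, hs1⟩ := Submodule.mem_span_finite_of_mem_span ((Ideal.eq_top_iff_one _).1 hspan)
      choose p hp using fun x : s => hs x.2
      refine ⟨Finset.univ.image p, (Ideal.eq_top_iff_one _).2 (Submodule.span_mono ?_ hs1)⟩
      intro x hx
      exact ⟨p ⟨x, hx⟩, by simp, hp ⟨x, hx⟩⟩
    have : Algebra.IsIntegral K D := ⟨fun a => by
      refine ⟨∏ p ∈ F, (Polynomial.X - Polynomial.C (c p a)), Polynomial.monic_prod_X_sub_C _ _, ?_⟩
      simp only [← Polynomial.aeval_def, map_prod, map_sub, Polynomial.aeval_X, Polynomial.aeval_C]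
      have key : ∀ p ∈ F, ∃ N : ℕ, r p ^ N * ∏ q ∈ F, (a - algebraMap K D (c q a)) = 0 := fun p hp => by
        obtain ⟨⟨_, N, rfl⟩, hN⟩ := (IsLocalization.eq_iff_exists (Submonoid.powers (r p)) (Localization.Away (r p))).1 (hc p a)
        refine ⟨N, ?_⟩
        rw [← Finset.mul_prod_erase F _ hp, ← _root_.mul_assoc,
          show r p ^ N * (a - algebraMap K D (c p a)) = 0 by rw [mul_sub]; exact sub_eq_zero.2 hN, zero_mul]
      choose! N hN using key
      have hspan' : Ideal.span ((fun p => r p ^ N p) '' (F : Set (PrimeSpectrum D))) = ⊤ := by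
        refine eq_top_iff.2 ((Ideal.span_pow_eq_top _ hF (∑ p ∈ F, N p)).symm.le.trans (Ideal.span_le.2 ?_))
        rintro _ ⟨_, ⟨p, hp, rfl⟩, rfl⟩
        obtain ⟨k, hk⟩ := Nat.exists_eq_add_of_le (Finset.single_le_sum (fun q _ => Nat.zero_le (N q)) hp)
        show r p ^ (∑ q ∈ F, N q) ∈ _
        rw [hk, pow_add]
        exact Ideal.mul_mem_right _ _ (Ideal.subset_span ⟨p, hp, rfl⟩)
      have h1 : Ideal.span ((fun p => r p ^ N p) '' (F : Set (PrimeSpectrum D))) ≤
          Submodule.annihilator (Submodule.span D {∏ q ∈ F, (a - algebraMap K D (c q a))}) := by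
        rw [Ideal.span_le]
        rintro _ ⟨p, hp, rfl⟩
        rw [SetLike.mem_coe, Submodule.mem_annihilator_span_singleton]
        exact hN p hp
      have h2 := h1 (hspan' ▸ Submodule.mem_top : (1 : D) ∈ _)
      rwa [Submodule.mem_annihilator_span_singleton, one_smul] at h2⟩
    exact Algebra.IsIntegral.finite
  · refine RingHom.Etale.ofLocalizationSpanTarget _ (Set.range r) hspan ?_
    rintro ⟨_, p, rfl⟩
    show ((algebraMap D (Localization.Away (r p))).comp (algebraMap K D)).Etale
    rw [← IsScalarTower.algebraMap_eq, RingHom.etale_algebraMap]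
    let Kc := Localization.Away (c p (r p))
    let Dr := Localization.Away (r p)
    have hu1 : IsUnit (algebraMap K Dr (c p (r p))) := by
      rw [IsScalarTower.algebraMap_apply K D Dr, ← hc p (r p)]
      exact IsLocalization.Away.algebraMap_isUnit _
    let f : Kc →ₐ[K] Dr := IsLocalization.liftAlgHom (M := Submonoid.powers (c p (r p))) (f := Algebra.ofId K Dr)
      (fun ⟨_, k, hk⟩ => by subst hk; simpa using hu1.pow k)
    let g : Dr →ₐ[K] Kc := IsLocalization.liftAlgHom (M := Submonoid.powers (r p))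
      (f := (IsScalarTower.toAlgHom K K Kc).comp (c p))
      (fun ⟨_, k, hk⟩ => by
        subst hk
        simpa using (IsLocalization.Away.algebraMap_isUnit (S := Kc) (c p (r p))).pow k)
    have hgf : g.comp f = AlgHom.id K Kc := IsLocalization.algHom_ext (Submonoid.powers (c p (r p))) (Subsingleton.elim _ _)
    have hfg : f.comp g = AlgHom.id K Dr := by
      refine IsLocalization.algHom_ext (Submonoid.powers (r p)) (AlgHom.ext fun a => ?_)
      show f (g (algebraMap D Dr a)) = algebraMap D Dr a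
      rw [show g (algebraMap D Dr a) = algebraMap K Kc (c p a) from IsLocalization.lift_eq _ _, f.commutes, hc p a,
        IsScalarTower.algebraMap_apply K D Dr]
    have : IsLocalization.Away (c p (r p)) Dr :=
      IsLocalization.isLocalization_of_algEquiv (Submonoid.powers (c p (r p))) (AlgEquiv.ofAlgHom f g hfg hgf)
    exact Algebra.Etale.of_isLocalizationAway (c p (r p))

section points

variable {S : Scheme.{u}} {K : Type u} [CommRing K] {s : Spec (CommRingCat.of K) ⟶ S}

theorem Tmap_comp {L L' L'' : Type u} [CommRing L] [Algebra K L] [CommRing L'] [Algebra K L'] [CommRing L''] [Algebra K L'']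
    (v : L →ₐ[K] L') (w : L' →ₐ[K] L'') : Tmap s w ≫ Tmap s v = Tmap s (w.comp v) := by
  ext1
  exact (Spec.map_comp _ _).symm

/-- maps of affine test schemes over the base -/
theorem exists_Tmap {L L' : Type u} [CommRing L] [Algebra K L] [CommRing L'] [Algebra K L'] (a : T s L' ⟶ T s L)
    (ha : a ≫ Tmap s (Algebra.ofId K L) = Tmap s (Algebra.ofId K L')) : ∃ h : L →ₐ[K] L', Tmap s h = a := by
  let f₀ := Spec.preimage a.left
  have hf₀ : CommRingCat.ofHom (algebraMap K L) ≫ f₀ = CommRingCat.ofHom (algebraMap K L') := by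
    apply Spec.map_injective
    rw [Spec.map_comp, Spec.map_preimage]
    exact congrArg CommaMorphism.left ha
  exact ⟨⟨f₀.hom, fun r => RingHom.congr_fun (congrArg CommRingCat.Hom.hom hf₀) r⟩,
    Over.OverMorphism.ext (Spec.map_preimage _)⟩

theorem Tmap_injective {L L' : Type u} [CommRing L] [Algebra K L] [CommRing L'] [Algebra K L'] {v w : L →ₐ[K] L'}
    (h : Tmap s v = Tmap s w) : v = w :=
  AlgHom.coe_ringHom_injective (congrArg CommRingCat.Hom.hom (Spec.map_injective (congrArg CommaMorphism.left h)))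

/-- an affine scheme over an affine test scheme is an affine test scheme -/
theorem exists_test {L : Type u} [CommRing L] [Algebra K L] (X : Over S) [IsAffine X.left] (t : X ⟶ T s L) :
    ∃ (L' : Type u) (_ : CommRing L') (_ : Algebra K L') (_ : Algebra L L') (_ : IsScalarTower K L L')
      (j : T s L' ≅ X), j.hom ≫ t = Tmap s (IsScalarTower.toAlgHom K L L') := by
  obtain ⟨L', _, alg, e, he⟩ := HomScheme.exists_alg (R := CommRingCat.of L) t.left
  letI : Algebra L L' := alg
  letI : Algebra K L' := ((algebraMap L L').comp (algebraMap K L)).toAlgebra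
  haveI : IsScalarTower K L L' := IsScalarTower.of_algebraMap_eq' rfl
  refine ⟨L', inferInstance, inferInstance, inferInstance, inferInstance, Over.isoMk e ?_, Over.OverMorphism.ext he⟩
  show e.hom ≫ X.hom = Spec.map _ ≫ s
  rw [← Over.w t, ← Category.assoc, he]
  show Spec.map _ ≫ Spec.map _ ≫ s = _
  rw [← Spec.map_comp_assoc]
  rfl

/-- an affine scheme over the base test scheme is an affine test scheme -/
theorem exists_test₀ (X : Over S) [IsAffine X.left] (t : X ⟶ T s K) :
    ∃ (L' : Type u) (_ : CommRing L') (_ : Algebra K L') (j : T s L' ≅ X), j.hom ≫ t = Tmap s (Algebra.ofId K L') := by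
  obtain ⟨L', _, alg, e, he⟩ := HomScheme.exists_alg (R := CommRingCat.of K) t.left
  letI : Algebra K L' := alg
  refine ⟨L', inferInstance, inferInstance, Over.isoMk e ?_, Over.OverMorphism.ext he⟩
  show e.hom ≫ X.hom = Spec.map _ ≫ s
  rw [← Over.w t, ← Category.assoc, he]
  show Spec.map _ ≫ Spec.map _ ≫ s = _
  rw [← Spec.map_comp_assoc]
  rfl

variable {G H : Over S} [GrpObj G] [GrpObj H] {M M' : Type} [AddCommGroup M] [AddCommGroup M']
  (P : CharPts s M G) (P' : CharPts s M' H)

theorem exists_fam_hom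
    (hP' : ∀ (L : Type u) [CommRing L] [Algebra K L], Function.Injective (P'.pt L : (Multiplicative M' →* L) → _))
    (L : Type u) [CommRing L] [Algebra K L] (φ : G ⊗ T s L ⟶ H) (hφ : AutFam.IsHomFamily G H φ) :
    ∃ g : Multiplicative M' →* MonoidAlgebra L (Multiplicative M), (∀ m, IsGL (g m)) ∧
      ∀ (L' : Type u) [CommRing L'] [Algebra K L'] [Algebra L L'] [IsScalarTower K L L'] (χ : Multiplicative M →* L'),
        lift (P.pt L' χ) (Tmap s (IsScalarTower.toAlgHom K L L')) ≫ φ =
          P'.pt L' (((ev χ : MonoidAlgebra L (Multiplicative M) →ₐ[L] L') :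
            MonoidAlgebra L (Multiplicative M) →* L').comp g) := by
  let LM := MonoidAlgebra L (Multiplicative M)
  obtain ⟨g, hg⟩ := P'.pt_surjective LM
    (lift (P.pt LM (MonoidAlgebra.of L (Multiplicative M))) (Tmap s (IsScalarTower.toAlgHom K L LM)) ≫ φ)
  have key : ∀ (L' : Type u) [CommRing L'] [Algebra K L'] [Algebra L L'] [IsScalarTower K L L']
      (χ : Multiplicative M →* L'), lift (P.pt L' χ) (Tmap s (IsScalarTower.toAlgHom K L L')) ≫ φ =
          P'.pt L' (((ev χ : LM →ₐ[L] L') : LM →* L').comp g) := fun L' _ _ _ _ χ => by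
    have e1 : P.pt L' χ = Tmap s ((ev χ : LM →ₐ[L] L').restrictScalars K) ≫
        P.pt LM (MonoidAlgebra.of L (Multiplicative M)) := by
      rw [P.pt_nat]
      congr 1
      ext m
      simp
    have e2 : Tmap s (IsScalarTower.toAlgHom K L L') = Tmap s ((ev χ : LM →ₐ[L] L').restrictScalars K) ≫
        Tmap s (IsScalarTower.toAlgHom K L LM) := by
      rw [Tmap_comp]
      congr 1
      exact AlgHom.ext fun x => ((ev χ : LM →ₐ[L] L').commutes x).symm
    rw [e1, e2, ← comp_lift, Category.assoc, ← hg, P'.pt_nat]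
    rfl
  refine ⟨g, fun m => isGL_of_ev ?_ ?_, key⟩
  · have h := key L (1 : Multiplicative M →* L)
    have h0 := hφ (T s L) (1 : T s L ⟶ G) 1 (Tmap s (IsScalarTower.toAlgHom K L L))
    rw [_root_.mul_one] at h0
    have h1 : lift (1 : T s L ⟶ G) (Tmap s (IsScalarTower.toAlgHom K L L)) ≫ φ = 1 := left_eq_mul.1 h0
    rw [P.pt_one, h1, ← P'.pt_one] at h
    exact (DFunLike.congr_fun (hP' L h) m).symm
  · have h := key (MonoidAlgebra L (Multiplicative M × Multiplicative M)) (univ₁ * univ₂)
    rw [← P.pt_mul, hφ, key, key, P'.pt_mul] at h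
    exact (DFunLike.congr_fun (hP' _ h) m).symm

/-- the constant family given by a map of character groups -/
theorem exists_const [IsAffineHom G.hom]
    (hP : ∀ (L : Type u) [CommRing L] [Algebra K L], Function.Injective (P.pt L : (Multiplicative M →* L) → _))
    (φ₀ : Multiplicative M' →* Multiplicative M) :
    ∃ ψ : G ⊗ T s K ⟶ H, AutFam.IsHomFamily G H ψ ∧ ∀ (L : Type u) [CommRing L] [Algebra K L]
      (χ : Multiplicative M →* L), lift (P.pt L χ) (Tmap s (Algebra.ofId K L)) ≫ ψ = P'.pt L (χ.comp φ₀) := by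
  have : IsAffineHom (snd G (T s K)).left := MorphismProperty.pullback_snd (P := @IsAffineHom) _ _ ‹IsAffineHom G.hom›
  have : IsAffine (T s K).left := inferInstanceAs (IsAffine (Spec _))
  have : IsAffine (G ⊗ T s K).left := isAffine_of_isAffineHom (snd G (T s K)).left
  obtain ⟨L₀, _, algK, i, hi⟩ := exists_test₀ (G ⊗ T s K) (snd G (T s K))
  obtain ⟨χ₀, hχ₀⟩ := P.pt_surjective L₀ (i.hom ≫ fst _ _)
  have hK : ∀ (L : Type u) [CommRing L] [Algebra K L] (v : K →ₐ[K] L), v = Algebra.ofId K L :=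
    fun L _ _ v => Subsingleton.elim _ _
  have key : ∀ (L : Type u) [CommRing L] [Algebra K L] (χ : Multiplicative M →* L),
      lift (P.pt L χ) (Tmap s (Algebra.ofId K L)) ≫ i.inv ≫ P'.pt L₀ (χ₀.comp φ₀) = P'.pt L (χ.comp φ₀) := by
    intro L _ _ χ
    obtain ⟨h, hh⟩ := exists_Tmap (lift (P.pt L χ) (Tmap s (Algebra.ofId K L)) ≫ i.inv) (by
      rw [Category.assoc]
      have : i.inv ≫ Tmap s (Algebra.ofId K L₀) = snd G (T s K) := by
        rw [Iso.inv_comp_eq, hi]
      rw [this, lift_snd])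
    have hχ : (h : L₀ →* L).comp χ₀ = χ := by
      apply hP L
      rw [← P.pt_nat, hh, hχ₀, Category.assoc, Iso.inv_hom_id_assoc, lift_fst]
    rw [← Category.assoc, ← hh, P'.pt_nat, ← MonoidHom.comp_assoc, hχ]
  refine ⟨i.inv ≫ P'.pt L₀ (χ₀.comp φ₀), fun X g₁ g₂ t => ?_, key⟩
  refine Over.OverMorphism.ext (Scheme.Cover.hom_ext X.left.affineCover _ _ fun k => ?_)
  let Xk : Over S := Over.mk (X.left.affineCover.f k ≫ X.hom)
  let jk : Xk ⟶ X := Over.homMk (X.left.affineCover.f k) rfl
  have : IsAffine Xk.left := inferInstanceAs (IsAffine (X.left.affineCover.X k))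
  obtain ⟨L, _, algKL, j, hj⟩ := exists_test₀ Xk (jk ≫ t)
  suffices h : jk ≫ lift (g₁ * g₂) t ≫ i.inv ≫ P'.pt L₀ (χ₀.comp φ₀) =
      jk ≫ ((lift g₁ t ≫ i.inv ≫ P'.pt L₀ (χ₀.comp φ₀)) * (lift g₂ t ≫ i.inv ≫ P'.pt L₀ (χ₀.comp φ₀))) from
    congrArg CommaMorphism.left h
  rw [← cancel_epi j.hom]
  obtain ⟨χ₁, h₁⟩ := P.pt_surjective L (j.hom ≫ jk ≫ g₁)
  obtain ⟨χ₂, h₂⟩ := P.pt_surjective L (j.hom ≫ jk ≫ g₂)
  have ht : j.hom ≫ jk ≫ t = Tmap s (Algebra.ofId K L) := by
    exact hj
  simp only [MonObj.comp_mul, comp_lift_assoc, ← h₁, ← h₂, ht, P.pt_mul, key, P'.pt_mul]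
  congr 1

variable (A : Over S) (υ : G ⊗ A ⟶ H)

theorem finite_and_etale_of_split [IsAffineHom G.hom] [IsAffineHom A.hom] [LocallyOfFiniteType A.hom]
    [Group.FG (Multiplicative M')] (hA : AutFam.RepresentsHom G H A υ)
    (hP : ∀ (L : Type u) [CommRing L] [Algebra K L], Function.Injective (P.pt L : (Multiplicative M →* L) → _))
    (hP' : ∀ (L : Type u) [CommRing L] [Algebra K L], Function.Injective (P'.pt L : (Multiplicative M' →* L) → _)) :
    IsFinite (pullback.snd A.hom s) ∧ Etale (pullback.snd A.hom s) := by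
  have : IsAffineHom (snd A (T s K)).left := MorphismProperty.pullback_snd (P := @IsAffineHom) _ _ ‹IsAffineHom A.hom›
  have : IsAffine (T s K).left := inferInstanceAs (IsAffine (Spec _))
  have : IsAffine (A ⊗ T s K).left := isAffine_of_isAffineHom (snd A (T s K)).left
  obtain ⟨D, _, algK, i, hi'⟩ := exists_test₀ (A ⊗ T s K) (snd A (T s K))
  let φu : G ⊗ T s D ⟶ H := (G ◁ (i.hom ≫ fst _ _)) ≫ υ
  have hφu : AutFam.IsHomFamily G H φu := fun X g₁ g₂ t => by
    simpa [φu] using hA.1 X g₁ g₂ (t ≫ i.hom ≫ fst _ _)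
  obtain ⟨g, hg, key⟩ := exists_fam_hom P P' hP' D φu hφu
  have hloc : ∀ p : PrimeSpectrum D, ∃ (r : D) (c : D →ₐ[K] K), r ∉ p.asIdeal ∧
      ∀ a : D, algebraMap D (Localization.Away r) a = algebraMap D (Localization.Away r) (algebraMap K D (c a)) := by
    intro p
    obtain ⟨r, φ₀, hr, hφ₀⟩ := HomLocus.exists_single_hom g hg p.asIdeal
    obtain ⟨ψ, hψ, hψk⟩ := exists_const P P' hP φ₀
    obtain ⟨c, hc, -⟩ := hA.2 (T s K) ψ hψ
    have hl : lift c (𝟙 _) ≫ i.inv ≫ Tmap s (Algebra.ofId K D) = 𝟙 (T s K) := by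
      rw [← hi', Iso.inv_hom_id_assoc, lift_snd]
    obtain ⟨cs, hcs⟩ := exists_Tmap (lift c (𝟙 _) ≫ i.inv) (by
      rw [Category.assoc, hl]
      apply Over.OverMorphism.ext
      show 𝟙 _ = Spec.map (CommRingCat.ofHom (algebraMap K K))
      exact (Spec.map_id _).symm)
    refine ⟨r, cs, hr, ?_⟩
    let L := Localization.Away r
    let u₁ : T s L ⟶ A := Tmap s (IsScalarTower.toAlgHom K D L) ≫ i.hom ≫ fst _ _
    let u₂ : T s L ⟶ A := Tmap s (Algebra.ofId K L) ≫ c
    have heq : u₁ = u₂ := by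
      have hfam : AutFam.IsHomFamily G H ((G ◁ u₁) ≫ υ) := fun X g₁ g₂ t => by
        simpa using hA.1 X g₁ g₂ (t ≫ u₁)
      refine (hA.2 _ _ hfam).unique rfl ?_
      have : IsAffineHom (snd G (T s L)).left := MorphismProperty.pullback_snd (P := @IsAffineHom) _ _ ‹IsAffineHom G.hom›
      have : IsAffine (T s L).left := inferInstanceAs (IsAffine (Spec _))
      have : IsAffine (G ⊗ T s L).left := isAffine_of_isAffineHom (snd G (T s L)).left
      obtain ⟨L', _, algK', algL', tower', j, hj⟩ := exists_test (G ⊗ T s L) (snd G (T s L))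
      obtain ⟨χ, hχ⟩ := P.pt_surjective L' (j.hom ≫ fst _ _)
      rw [← cancel_epi j.hom]
      have hjl : j.hom = lift (P.pt L' χ) (Tmap s (IsScalarTower.toAlgHom K L L')) := by
        apply CartesianMonoidalCategory.hom_ext <;> simp [hχ, hj]
      letI : Algebra D L' := ((algebraMap L L').comp (algebraMap D L)).toAlgebra
      haveI : IsScalarTower D L L' := IsScalarTower.of_algebraMap_eq' rfl
      haveI : IsScalarTower K D L' := IsScalarTower.of_algebraMap_eq fun x => by
        rw [IsScalarTower.algebraMap_apply D L L', ← IsScalarTower.algebraMap_apply K D L,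
          ← IsScalarTower.algebraMap_apply K L L']
      have e1 : j.hom ≫ (G ◁ u₁) ≫ υ = P'.pt L' (χ.comp φ₀) := by
        have k := key L' χ
        have e : Tmap s (IsScalarTower.toAlgHom K D L') =
            Tmap s (IsScalarTower.toAlgHom K L L') ≫ Tmap s (IsScalarTower.toAlgHom K D L) := by
          rw [Tmap_comp]; congr 1
        rw [e] at k
        simp only [φu, lift_whiskerLeft_assoc, Category.assoc] at k
        rw [hjl, lift_whiskerLeft_assoc]
        simp only [u₁, Category.assoc]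
        rw [k]
        congr 1
        refine MonoidHom.ext fun m => ?_
        show ev χ (g m) = χ (φ₀ m)
        have h1 := hφ₀ L' (algebraMap D L') (by
          rw [IsScalarTower.algebraMap_apply D L L']
          exact (IsLocalization.Away.algebraMap_isUnit r).map _) m
        calc ev χ (g m) = MonoidAlgebra.lift L' L' (Multiplicative M) χ
              (MonoidAlgebra.mapRingHom (Multiplicative M) (algebraMap D L') (g m)) :=
            (MonoidAlgebra.lift_mapRingHom_algebraMap _ _).symm
          _ = χ (φ₀ m) := by rw [h1]; simp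
      have e2 : j.hom ≫ (G ◁ u₂) ≫ υ = P'.pt L' (χ.comp φ₀) := by
        rw [hjl, lift_whiskerLeft_assoc, ← hψk, ← hc, lift_whiskerLeft_assoc]
        simp only [u₂, ← Category.assoc]
        congr 2
        rw [Tmap_comp]
        congr 2
        exact Subsingleton.elim _ _
      show j.hom ≫ (G ◁ u₂) ≫ υ = j.hom ≫ (G ◁ u₁) ≫ υ
      rw [e1, e2]
    have hfin : Tmap s (IsScalarTower.toAlgHom K D L) = Tmap s ((Algebra.ofId K L).comp cs) := by
      rw [← Tmap_comp, hcs, ← cancel_mono i.hom]
      apply CartesianMonoidalCategory.hom_ext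
      · simpa [Category.assoc] using heq
      · have h0 : i.inv ≫ i.hom = 𝟙 _ := i.inv_hom_id
        simp only [Category.assoc, Iso.inv_hom_id_assoc, lift_snd, Category.comp_id, hi']
        rw [Tmap_comp]
        rw [hl, Category.comp_id]
        congr 1
    intro a
    exact (AlgHom.congr_fun (Tmap_injective hfin) a).trans (IsScalarTower.algebraMap_apply K D L (cs a))
  have hiso : IsIso i.hom.left := inferInstanceAs (IsIso ((Over.forget _).map i.hom))
  have e : i.hom.left ≫ (snd A (T s K)).left = Spec.map (CommRingCat.ofHom (algebraMap K D)) :=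
    congrArg CommaMorphism.left hi'
  have hft : Algebra.FiniteType K D := by
    rw [← RingHom.finiteType_algebraMap]
    refine (HasRingHomProperty.Spec_iff (P := @LocallyOfFiniteType) (φ := CommRingCat.ofHom (algebraMap K D))).1 ?_
    rw [← e]
    have : LocallyOfFiniteType (snd A (T s K)).left := inferInstanceAs (LocallyOfFiniteType (pullback.snd A.hom (T s K).hom))
    infer_instance
  obtain ⟨hfinite, hetale⟩ := finite_and_etale hloc
  have hs : (T s K).hom = s := by
    show Spec.map (CommRingCat.ofHom (RingHom.id K)) ≫ s = s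
    rw [show CommRingCat.ofHom (RingHom.id K) = 𝟙 (CommRingCat.of K) from rfl, Spec.map_id, Category.id_comp]
  have h1 : ∀ (Q : MorphismProperty Scheme.{u}) [Q.RespectsIso], Q (Spec.map (CommRingCat.ofHom (algebraMap K D))) →
      Q (pullback.snd A.hom s) := fun Q _ hQ => by
    rw [← e, MorphismProperty.cancel_left_of_respectsIso Q i.hom.left] at hQ
    have hQ' : Q (pullback.snd A.hom (T s K).hom) := hQ
    exact hs ▸ hQ'
  exact ⟨h1 @IsFinite ((IsFinite.SpecMap_iff _).2 (RingHom.finite_algebraMap.2 hfinite)),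
    h1 @Etale ((HasRingHomProperty.Spec_iff (P := @Etale)).2 hetale)⟩

end points

theorem exists_rep_finite_etale {S : Scheme.{u}} (G H : Over S) [GrpObj G] [GrpObj H]
    (hG : SGA3x.IsMultTypeFT G) [IsFinite G.hom] (hH : SGA3x.IsMultTypeFT H) [IsFinite H.hom] :
    ∃ (A : Over S) (υ : G ⊗ A ⟶ H), AutFam.RepresentsHom G H A υ ∧ IsFinite A.hom ∧ Etale A.hom := by
  obtain ⟨_, _⟩ := HomSchemeGrp.flat_lfp_of_multTypeFT hG
  obtain ⟨_, hHfp⟩ := HomSchemeGrp.flat_lfp_of_multTypeFT hH
  obtain ⟨A, υ, hA, _, -, hfp⟩ := HomSchemeGrp.exists_rep G H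
  have := hfp hHfp
  have := Fpqc.Descent.isFinite.{u}
  have := HomLocus.flat_descendsAlong.{u}
  have key : ∀ (Q : MorphismProperty Scheme.{u}) [IsZariskiLocalAtTarget Q] [Q.IsStableUnderBaseChange]
      [Q.DescendsAlong (@Surjective ⊓ @Flat ⊓ @QuasiCompact)],
      (∀ {Z Z' : Scheme.{u}} (f : Z ⟶ Z'), IsFinite f → Etale f → Q f) → Q A.hom := by
    intro Q _ _ _ hQ
    refine FpqcCover.descend (Q := Q) (HomLocus.locally_both hG hH) A.hom (𝟙 S) ?_
    intro S' f U hU R b
    obtain ⟨U₁, U₂, h₁, h₂, a₁, a₂, M, _, M', _, hf₁, hf₂, hfg, ⟨e₁⟩, ⟨e₂⟩⟩ := hU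
    have : Group.FG (Multiplicative M') := AddGroup.fg_iff_mul_fg.1 hfg
    have hs₁ : (b ≫ a₁) ≫ h₁ = b ≫ U.ι ≫ f := by rw [Category.assoc, hf₁]
    have hs₂ : (b ≫ a₂) ≫ h₂ = b ≫ U.ι ≫ f := by rw [Category.assoc, hf₂]
    obtain ⟨h5, h6⟩ := finite_and_etale_of_split (HomLocus.pts e₁ _ hs₁) (HomLocus.pts e₂ _ hs₂) A υ hA
      (HomLocus.pts_inj e₁ _ hs₁) (HomLocus.pts_inj e₂ _ hs₂)
    have h5' : Q (pullback.snd A.hom (b ≫ U.ι ≫ f)) := hQ _ h5 h6
    have h7 : pullback.fst (𝟙 S) (b ≫ U.ι ≫ f) = pullback.snd (𝟙 S) (b ≫ U.ι ≫ f) ≫ b ≫ U.ι ≫ f := by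
      rw [← pullback.condition, Category.comp_id]
    have h8 : Q (pullback.snd A.hom (pullback.snd (𝟙 S) (b ≫ U.ι ≫ f) ≫ b ≫ U.ι ≫ f)) := by
      rw [← MorphismProperty.cancel_left_of_respectsIso Q
        (pullbackLeftPullbackSndIso A.hom (b ≫ U.ι ≫ f) (pullback.snd (𝟙 S) (b ≫ U.ι ≫ f))).hom,
        pullbackLeftPullbackSndIso_hom_snd]
      exact MorphismProperty.pullback_snd _ _ h5'
    exact h7.symm ▸ h8
  have hfin : IsFinite A.hom := key @IsFinite fun _ h _ => h
  have : Flat A.hom := key @Flat fun _ _ h => inferInstance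
  have : FormallyUnramified A.hom := key @FormallyUnramified fun _ _ h => inferInstance
  exact ⟨A, υ, hA, hfin, Etale.of_formallyUnramified_of_flat _⟩

end Groth.Agent.HopfRep.HomEtale

end
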