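import Groth.Agent.HopfRep.OrbitClosed
import Mathlib.AlgebraicGeometry.Morphisms.SchemeTheoreticallyDominant

/-!
Images of quasi-compact homomorphisms of group schemes over a field.
-/

universe u

open CategoryTheory MonoidalCategory CartesianMonoidalCategory MonObj GrpObj AlgebraicGeometry Limits

set_option linter.unusedSimpArgs false

noncomputable section

namespace Groth.Agent.HopfRep.HomImage

theorem isIso_of_factor {X Y Z : Scheme.{u}} (φ : X ⟶ Y) [IsSchemeTheoreticallyDominant φ] (c : Z ⟶ Y)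
    [IsClosedImmersion c] (ψ : X ⟶ Z) (h : ψ ≫ c = φ) : IsIso c := by
  rw [IsClosedImmersion.isIso_iff_ker_eq_bot, eq_bot_iff, ← φ.ker_eq_bot, ← h]
  exact ψ.le_ker_comp c

variable {k : Type u} [Field k] {H G : Over (Spec (CommRingCat.of k))} [GrpObj H] [GrpObj G]

/-- Left multiplication through a homomorphism. -/
def homAction (f : H ⟶ G) [IsMonHom f] : AlgGrp.Action H G where
  act := (f ▷ G) ≫ μ[G]
  one_act := by
    rw [← comp_whiskerRight_assoc, IsMonHom.one_hom]
    exact MonObj.one_mul G
  mul_act := by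
    simp only [MonObj.mul_eq_mul, MonObj.comp_mul, MonObj.mul_comp, Category.assoc,
      whiskerRight_fst_assoc, whiskerRight_snd_assoc, whiskerRight_fst, whiskerRight_snd,
      whiskerLeft_fst_assoc, whiskerLeft_snd_assoc, whiskerLeft_fst, whiskerLeft_snd,
      associator_hom_fst_assoc, associator_hom_snd_fst_assoc, associator_hom_snd_snd_assoc,
      associator_hom_fst, associator_hom_snd_fst, associator_hom_snd_snd, _root_.mul_assoc]

theorem homAction_orbitMap (f : H ⟶ G) [IsMonHom f] : (homAction f).orbitMap η[G] = f := by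
  simp only [AlgGrp.Action.orbitMap, homAction, lift_whiskerRight_assoc, Category.id_comp]
  rw [← Hom.mul_def, ← Hom.one_def, _root_.mul_one]

/-- The image of a quasi-compact homomorphism is closed. -/
theorem isClosed_range [LocallyOfFiniteType H.hom] [LocallyOfFiniteType G.hom] (f : H ⟶ G) [IsMonHom f]
    [QuasiCompact f.left] : IsClosed (Set.range f.left) := by
  refine GrpTop.isClosed_range_of_isLocallyClosed f ?_
  obtain ⟨W, hW, heW⟩ : ∃ W : G.left.Opens, IsAffineOpen W ∧ η[G].left (IsLocalRing.closedPoint k) ∈ W := by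
    obtain ⟨_, ⟨W, hW, rfl⟩, heW, -⟩ := G.left.isBasis_affineOpens.exists_subset_of_mem_open
      (Set.mem_univ (η[G].left (IsLocalRing.closedPoint k))) isOpen_univ
    exact ⟨W, hW, heW⟩
  have hW' : IsAffine (W : Scheme.{u}) := hW
  have : IsLocallyNoetherian G.left := LocallyOfFiniteType.isLocallyNoetherian G.hom
  have := Torsor.lfp_hom f
  let E := Set.range (f.left ∣_ W)
  have hE : Topology.IsConstructible E := by
    have := (f.left ∣_ W).isConstructible_image (s := Set.univ) Topology.IsConstructible.univ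
    rwa [Set.image_univ] at this
  have hEimg : (W.ι : _ → _) ⁻¹' Set.range f.left = E := by
    ext w
    constructor
    · rintro ⟨h, hh⟩
      obtain ⟨z, -, hz⟩ := Scheme.exists_preimage_of_isPullback (isPullback_morphismRestrict f.left W).flip h w hh
      exact ⟨z, hz⟩
    · rintro ⟨z, rfl⟩
      exact ⟨(f.left ⁻¹ᵁ W).ι z, by rw [← Scheme.Hom.comp_apply, ← Scheme.Hom.comp_apply, morphismRestrict_ι]⟩
  have hne : E.Nonempty := by
    rw [← hEimg]
    refine ⟨⟨_, heW⟩, η[H].left (IsLocalRing.closedPoint k), ?_⟩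
    show (η[H] ≫ f).left _ = _
    rw [IsMonHom.one_hom]
    rfl
  obtain ⟨V, hV, hVne, hVsub⟩ := OrbitClosed.exists_open hE hne
  have := OrbitClosed.isLocallyClosed_orbit_of_piece (homAction f) η[G] (V := W.ι '' V)
    (W.ι.isOpenMap _ hV) ?_ ?_
  · rwa [homAction_orbitMap] at this
  · rw [homAction_orbitMap]
    obtain ⟨w, hw, hwE⟩ := hVne
    exact ⟨W.ι w, ⟨w, hw, rfl⟩, (hEimg.ge hwE : _)⟩
  · rw [homAction_orbitMap]
    rintro _ ⟨⟨w, hw, rfl⟩, hc⟩
    have h1 : w ∈ closure E := by
      rw [← hEimg, ← W.ι.isOpenMap.preimage_closure_eq_closure_preimage W.ι.continuous]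
      exact hc
    exact (hEimg.ge (hVsub ⟨hw, h1⟩) : _)

theorem isSubgroup_and_surjective [LocallyOfFiniteType H.hom] [LocallyOfFiniteType G.hom]
    {K : Over (Spec (CommRingCat.of k))} (f : H ⟶ G) [IsMonHom f] [QuasiCompact f.left]
    (i : K ⟶ G) [IsClosedImmersion i.left] (g : H ⟶ K) (hgi : g ≫ i = f)
    [IsSchemeTheoreticallyDominant g.left] :
    ((∃ e : 𝟙_ (Over (Spec (CommRingCat.of k))) ⟶ K, e ≫ i = η[G]) ∧
     ∀ (T : Over (Spec (CommRingCat.of k))) (k₁ k₂ : T ⟶ K),
     ∃ k₃ : T ⟶ K, k₃ ≫ i = (k₁ ≫ i)⁻¹ * (k₂ ≫ i)) ∧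
     Surjective g.left := by
  have : QuasiCompact g.left := by
    have : QuasiCompact (g.left ≫ i.left) := by rw [← Over.comp_left, hgi]; infer_instance
    exact QuasiCompact.of_comp g.left i.left
  refine ⟨⟨⟨η[H] ≫ g, by rw [Category.assoc, hgi, IsMonHom.one_hom]⟩, ?_⟩, ⟨?_⟩⟩
  · have hfl : ∀ X Y : Over (Spec (CommRingCat.of k)), Flat (fst X Y).left ∧ Flat (snd X Y).left := by
      intro X Y
      have : Flat X.hom := inferInstance
      have : Flat Y.hom := inferInstance
      exact ⟨MorphismProperty.of_isPullback (P := @Flat) (Torsor.isPullback_fst X Y).flip ‹_›,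
        MorphismProperty.of_isPullback (P := @Flat) (Torsor.isPullback_fst X Y) ‹_›⟩
    have := (hfl K H).1
    have := (hfl K K).2
    have h1 : IsSchemeTheoreticallyDominant (g ▷ H).left :=
      .of_isPullback (Torsor.isPullback_left (Torsor.isPullback_whisker g H))
    have h2 : IsSchemeTheoreticallyDominant (K ◁ g).left :=
      .of_isPullback (Torsor.isPullback_left (Orbit.isPullback_whiskerLeft (T := K) g)).flip
    have hφ : IsSchemeTheoreticallyDominant ((g ▷ H).left ≫ (K ◁ g).left) := inferInstance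
    let m : K ⊗ K ⟶ G := (fst K K ≫ i)⁻¹ * (snd K K ≫ i)
    let c := pullback.snd i.left m.left
    let ψ : H ⊗ H ⟶ K := ((fst H H)⁻¹ * snd H H) ≫ g
    have hψ : ψ.left ≫ i.left = ((g ▷ H) ≫ (K ◁ g) ≫ m).left := by
      rw [← Over.comp_left]
      congr 1
      simp only [ψ, m, Category.assoc, hgi, MonObj.comp_mul, GrpObj.comp_inv, MonObj.mul_comp,
        GrpObj.inv_comp, whiskerLeft_fst_assoc, whiskerLeft_snd_assoc, whiskerRight_fst_assoc,
        whiskerRight_snd_assoc]
    have : IsIso c := isIso_of_factor ((g ▷ H).left ≫ (K ◁ g).left) c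
      (pullback.lift ψ.left ((g ▷ H).left ≫ (K ◁ g).left) (by
        rw [hψ, Over.comp_left, Over.comp_left, Category.assoc]))
      (pullback.lift_snd _ _ _)
    intro T k₁ k₂
    have hm : (inv c ≫ pullback.fst i.left m.left) ≫ i.left = m.left := by
      rw [Category.assoc, pullback.condition, IsIso.inv_hom_id_assoc]
    let b : K ⊗ K ⟶ K := Over.homMk (inv c ≫ pullback.fst i.left m.left) (by
      rw [← Over.w i, ← Category.assoc, hm, Over.w m])
    refine ⟨lift k₁ k₂ ≫ b, ?_⟩
    rw [Category.assoc, show b ≫ i = m from Over.OverMorphism.ext hm]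
    simp [m, MonObj.comp_mul, GrpObj.comp_inv]
  · have hcl : IsClosed (Set.range g.left) := by
      have : Set.range g.left = i.left ⁻¹' Set.range f.left := by
        rw [← hgi]
        ext z
        constructor
        · rintro ⟨h, rfl⟩; exact ⟨h, rfl⟩
        · rintro ⟨h, hh⟩; exact ⟨h, i.left.isEmbedding.injective hh⟩
      rw [this]
      exact (isClosed_range f).preimage i.left.continuous
    rw [← Set.range_eq_univ, ← hcl.closure_eq]
    exact g.left.denseRange.closure_eq

end Groth.Agent.HopfRep.HomImage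

end
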