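import Groth.Agent.HopfRep.HomLocus
import Mathlib.AlgebraicGeometry.Morphisms.IsIso
import Mathlib.RingTheory.RingHom.FaithfullyFlat

/-!
The open and closed loci where a homomorphism of groups of multiplicative type is a monomorphism, an isomorphism,
faithfully flat.
-/

universe u

open CategoryTheory AlgebraicGeometry Limits

set_option linter.style.haveILetI false

noncomputable section

namespace Groth.Agent.HopfRep.HomLocus

variable {L : Type u} [CommRing L] {M M' : Type} [AddCommGroup M] [AddCommGroup M']
  (φ : Multiplicative M' →* Multiplicative M)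

theorem dMap_left : (dMap L φ).left = Spec.map (CommRingCat.ofHom (MonoidAlgebra.mapDomainRingHom L φ)) := rfl

theorem injective_mapDomain_iff [Nontrivial L] :
    Function.Injective (MonoidAlgebra.mapDomainRingHom L φ) ↔ Function.Injective φ := by
  constructor
  · intro h a b hab
    refine MonoidAlgebra.single_left_injective (R := L) one_ne_zero (h ?_)
    show MonoidAlgebra.mapDomain φ (MonoidAlgebra.single a 1) = MonoidAlgebra.mapDomain φ (MonoidAlgebra.single b 1)
    rw [MonoidAlgebra.mapDomain_single, MonoidAlgebra.mapDomain_single, hab]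
  · exact fun h => MonoidAlgebra.mapDomain_injective h

theorem surjective_mapDomain_of (h : Function.Surjective φ) :
    Function.Surjective (MonoidAlgebra.mapDomainRingHom L φ) := by
  intro z
  induction z using MonoidAlgebra.induction_linear with
  | zero => exact ⟨0, map_zero _⟩
  | add x y hx hy =>
    obtain ⟨a, rfl⟩ := hx
    obtain ⟨b, rfl⟩ := hy
    exact ⟨a + b, map_add _ _ _⟩
  | single m c =>
    obtain ⟨a, rfl⟩ := h m
    exact ⟨MonoidAlgebra.single a c, MonoidAlgebra.mapDomain_single⟩

theorem mono_dMap_iff [Nontrivial L] :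
    MorphismProperty.monomorphisms Scheme.{u} (dMap L φ).left ↔ Function.Surjective φ := by
  rw [dMap_left]
  constructor
  · intro hm m
    have : Mono (Spec.map (CommRingCat.ofHom (MonoidAlgebra.mapDomainRingHom L φ))) := hm
    let N : Subgroup (Multiplicative M) := φ.range
    let g₁ : MonoidAlgebra L (Multiplicative M) →+* MonoidAlgebra L (Multiplicative M ⧸ N) :=
      MonoidAlgebra.mapDomainRingHom L (QuotientGroup.mk' N)
    let g₂ : MonoidAlgebra L (Multiplicative M) →+* MonoidAlgebra L (Multiplicative M ⧸ N) :=
      MonoidAlgebra.mapDomainRingHom L (1 : Multiplicative M →* Multiplicative M ⧸ N)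
    have hg : g₁.comp (MonoidAlgebra.mapDomainRingHom L φ) = g₂.comp (MonoidAlgebra.mapDomainRingHom L φ) := by
      refine MonoidAlgebra.ringHom_ext (fun r => ?_) (fun a => ?_)
      · simp [g₁, g₂]
      · simp only [RingHom.comp_apply, g₁, g₂, MonoidAlgebra.mapDomainRingHom_apply,
          MonoidAlgebra.mapDomain_single]
        rw [show QuotientGroup.mk' N (φ a) = 1 from (QuotientGroup.eq_one_iff _).2 ⟨a, rfl⟩]
        rfl
    have h2 : Spec.map (CommRingCat.ofHom g₁) = Spec.map (CommRingCat.ofHom g₂) := by
      rw [← cancel_mono (Spec.map (CommRingCat.ofHom (MonoidAlgebra.mapDomainRingHom L φ))), ← Spec.map_comp,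
        ← Spec.map_comp, ← CommRingCat.ofHom_comp, ← CommRingCat.ofHom_comp, hg]
    have h3 := RingHom.congr_fun (congrArg CommRingCat.Hom.hom (Spec.map_injective h2)) (MonoidAlgebra.single m 1)
    simp only [CommRingCat.hom_ofHom, g₁, g₂, MonoidAlgebra.mapDomainRingHom_apply,
      MonoidAlgebra.mapDomain_single] at h3
    exact (QuotientGroup.eq_one_iff m).1 (MonoidAlgebra.single_left_injective (R := L) one_ne_zero h3)
  · intro h
    have := IsClosedImmersion.spec_of_surjective (CommRingCat.ofHom (MonoidAlgebra.mapDomainRingHom L φ))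
      (surjective_mapDomain_of φ h)
    exact inferInstanceAs (Mono (Spec.map (CommRingCat.ofHom (MonoidAlgebra.mapDomainRingHom L φ))))

theorem iso_dMap_iff [Nontrivial L] :
    MorphismProperty.isomorphisms Scheme.{u} (dMap L φ).left ↔ Function.Bijective φ := by
  show IsIso (Spec.map (CommRingCat.ofHom (MonoidAlgebra.mapDomainRingHom L φ))) ↔ _
  rw [isIso_SpecMap_iff, CommRingCat.hom_ofHom]
  refine ⟨fun h => ⟨(injective_mapDomain_iff φ).1 h.1, fun m => ?_⟩,
    fun h => ⟨(injective_mapDomain_iff φ).2 h.1, surjective_mapDomain_of φ h.2⟩⟩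
  have : IsIso (Spec.map (CommRingCat.ofHom (MonoidAlgebra.mapDomainRingHom L φ))) := isIso_SpecMap_iff.2 h
  exact (mono_dMap_iff (L := L) φ).1 (inferInstanceAs (Mono (Spec.map (CommRingCat.ofHom
    (MonoidAlgebra.mapDomainRingHom L φ))))) m

theorem free_of_injective (h : Function.Injective φ) :
    letI := (MonoidAlgebra.mapDomainRingHom L φ).toAlgebra
    Module.Free (MonoidAlgebra L (Multiplicative M')) (MonoidAlgebra L (Multiplicative M)) := by
  classical
  letI := (MonoidAlgebra.mapDomainRingHom L φ).toAlgebra
  let N : Subgroup (Multiplicative M) := φ.range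
  let A := MonoidAlgebra L (Multiplicative M')
  let B := MonoidAlgebra L (Multiplicative M)
  let rep : Multiplicative M ⧸ N → Multiplicative M := Quotient.out
  have hrep : ∀ m, ∃ a, φ a = (rep (QuotientGroup.mk m))⁻¹ * m := fun m =>
    QuotientGroup.eq.1 (Quotient.out_eq (QuotientGroup.mk m : Multiplicative M ⧸ N))
  choose pre hpre using hrep
  let f : (Multiplicative M ⧸ N →₀ A) →ₗ[A] B :=
    Finsupp.linearCombination A fun c => (MonoidAlgebra.single (rep c) 1 : B)
  have hf : ∀ c a (l : L), f (Finsupp.single c (MonoidAlgebra.single a l)) = MonoidAlgebra.single (rep c * φ a) l := by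
    intro c a l
    rw [Finsupp.linearCombination_single]
    show MonoidAlgebra.mapDomain φ (MonoidAlgebra.single a l) * MonoidAlgebra.single (rep c) 1 = _
    rw [MonoidAlgebra.mapDomain_single, MonoidAlgebra.single_mul_single, _root_.mul_one, _root_.mul_comm]
  let g : B →+ (Multiplicative M ⧸ N →₀ A) :=
    { toFun := fun z => z.coeff.sum fun m l => Finsupp.single (QuotientGroup.mk m) (MonoidAlgebra.single (pre m) l)
      map_zero' := by simp
      map_add' := fun x y => by
        rw [MonoidAlgebra.coeff_add]
        exact Finsupp.sum_add_index (by simp) (by simp [MonoidAlgebra.single_add, Finsupp.single_add]) }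
  have hg : ∀ m l, g (MonoidAlgebra.single m l) =
      Finsupp.single (QuotientGroup.mk m) (MonoidAlgebra.single (pre m) l) := fun m l => by
    show (MonoidAlgebra.single m l : B).coeff.sum
      (fun m l => Finsupp.single (QuotientGroup.mk m : Multiplicative M ⧸ N) (MonoidAlgebra.single (pre m) l : A)) = _
    rw [MonoidAlgebra.coeff_single]
    exact Finsupp.sum_single_index (by simp)
  have hfg : ∀ z, f (g z) = z := by
    intro z
    induction z using MonoidAlgebra.induction_linear with
    | zero => simp
    | add x y hx hy => rw [map_add, map_add, hx, hy]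
    | single m l => rw [hg, hf, hpre, mul_inv_cancel_left]
  have hgf : ∀ x, g (f x) = x := by
    intro x
    induction x using Finsupp.induction_linear with
    | zero => simp
    | add x y hx hy => rw [map_add, map_add, hx, hy]
    | single c z =>
      induction z using MonoidAlgebra.induction_linear with
      | zero => simp
      | add x y hx hy => rw [Finsupp.single_add, map_add, map_add, hx, hy]
      | single a l =>
        rw [hf, hg]
        have hc : (QuotientGroup.mk (rep c * φ a) : Multiplicative M ⧸ N) = c := by
          rw [QuotientGroup.mk_mul, show (QuotientGroup.mk (φ a) : Multiplicative M ⧸ N) = 1 from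
            (QuotientGroup.eq_one_iff _).2 ⟨a, rfl⟩, _root_.mul_one]
          exact Quotient.out_eq c
        have hp : pre (rep c * φ a) = a := h (by rw [hpre, hc, inv_mul_cancel_left])
        rw [hc, hp]
  let e : (Multiplicative M ⧸ N →₀ A) ≃ₗ[A] B :=
    LinearEquiv.ofBijective f ⟨Function.LeftInverse.injective hgf, fun z => ⟨g z, hfg z⟩⟩
  exact Module.Free.of_equiv e

theorem ff_dMap_iff [Nontrivial L] :
    (@Flat ⊓ @Surjective : MorphismProperty Scheme.{u}) (dMap L φ).left ↔ Function.Injective φ := by
  show Flat (Spec.map (CommRingCat.ofHom (MonoidAlgebra.mapDomainRingHom L φ))) ∧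
    Surjective (Spec.map (CommRingCat.ofHom (MonoidAlgebra.mapDomainRingHom L φ))) ↔ _
  rw [flat_and_surjective_SpecMap_iff, CommRingCat.hom_ofHom]
  refine ⟨fun h => (injective_mapDomain_iff φ).1 (RingHom.FaithfullyFlat.injective h), fun h => ?_⟩
  letI := (MonoidAlgebra.mapDomainRingHom L φ).toAlgebra
  have := free_of_injective (L := L) φ h
  exact RingHom.faithfullyFlat_algebraMap_iff.2 inferInstance

set_option backward.isDefEq.respectTransparency.types false in
theorem mono_descendsAlong :
    (MorphismProperty.monomorphisms Scheme.{u}).DescendsAlong (@Surjective ⊓ @Flat ⊓ @QuasiCompact) := by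
  rw [← MorphismProperty.diagonal_isomorphisms]
  infer_instance

end Groth.Agent.HopfRep.HomLocus

end
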