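import Mathlib.AlgebraicGeometry.RelativeGluing
import Mathlib.AlgebraicGeometry.Morphisms.FlatRank
import Mathlib.AlgebraicGeometry.Morphisms.FinitePresentation
import Groth.Agent.HopfRep.HomAlg
import Groth.Agent.HopfRep.Orbit
import Groth.Agent.HopfRep.Torsor

/-!
The scheme of morphisms from a finite locally free scheme to an affine scheme over an arbitrary base.
-/

universe u

open CategoryTheory MonoidalCategory CartesianMonoidalCategory AlgebraicGeometry Limits TensorProduct

set_option linter.unusedSimpArgs false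
set_option linter.style.haveILetI false
set_option backward.isDefEq.respectTransparency.types false
set_option maxHeartbeats 1000000

noncomputable section

namespace Groth.Agent.HopfRep.HomScheme

variable {S : Scheme.{u}} (X Y : Over S)

/-- `(M, ev)` is the universal family of morphisms `X ⊗ T ⟶ Y` for `T` over `U`. -/
def Rep (U : S.Opens) (M : Over S) (ev : X ⊗ M ⟶ Y) : Prop :=
  Set.range M.hom ⊆ U ∧ ∀ T : Over S, Set.range T.hom ⊆ U → ∀ φ : X ⊗ T ⟶ Y, ∃! v : T ⟶ M, (X ◁ v) ≫ ev = φ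

variable {X Y}

theorem whisker_left_isOpenImmersion {T T' : Over S} (j : T' ⟶ T) [IsOpenImmersion j.left] :
    IsOpenImmersion (X ◁ j).left :=
  MorphismProperty.of_isPullback (P := @IsOpenImmersion)
    (Torsor.isPullback_left (Orbit.isPullback_whiskerLeft (T := X) j)).flip ‹_›

theorem mem_range_whisker {T T' : Over S} (j : T' ⟶ T) (z : (X ⊗ T).left) (t : T'.left)
    (h : j.left t = (snd X T).left z) : z ∈ Set.range (X ◁ j).left := by
  obtain ⟨w, hw, -⟩ := Scheme.exists_preimage_of_isPullback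
    (Torsor.isPullback_left (Orbit.isPullback_whiskerLeft (T := X) j)) z t h.symm
  exact ⟨w, hw⟩

theorem range_comp_subset {A B : Scheme.{u}} (a : A ⟶ B) (b : B ⟶ S) : Set.range (a ≫ b) ⊆ Set.range b := by
  rintro _ ⟨z, rfl⟩
  exact ⟨a z, rfl⟩

/-- Morphisms out of `X ⊗ T` glue along open covers of `T`. -/
theorem exists_glue {T : Over S} {ι : Type u} (Ti : ι → Over S) (j : ∀ i, Ti i ⟶ T)
    (ho : ∀ i, IsOpenImmersion (j i).left) (hcov : ∀ t : T.left, ∃ i, t ∈ Set.range (j i).left)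
    (φ : ∀ i, X ⊗ Ti i ⟶ Y)
    (hφ : ∀ (i k : ι) (T' : Over S) (a : T' ⟶ Ti i) (b : T' ⟶ Ti k), a ≫ j i = b ≫ j k →
      (X ◁ a) ≫ φ i = (X ◁ b) ≫ φ k) :
    ∃ ψ : X ⊗ T ⟶ Y, (∀ i, (X ◁ j i) ≫ ψ = φ i) ∧ ∀ ψ', (∀ i, (X ◁ j i) ≫ ψ' = φ i) → ψ' = ψ := by
  let idx : (X ⊗ T).left → ι := fun z => (hcov ((snd X T).left z)).choose
  have hidx : ∀ z, z ∈ Set.range (X ◁ j (idx z)).left := fun z => by
    obtain ⟨t, ht⟩ := (hcov ((snd X T).left z)).choose_spec
    exact mem_range_whisker (j (idx z)) z t ht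
  let 𝒲 : (X ⊗ T).left.OpenCover := Scheme.Cover.mkOfCovers ι (fun i => (X ⊗ Ti i).left)
    (fun i => (X ◁ j i).left) (fun z => ⟨idx z, hidx z⟩)
    (fun i => haveI := ho i; whisker_left_isOpenImmersion (j i))
  have hc : ∀ i k, pullback.fst (𝒲.f i) (𝒲.f k) ≫ (φ i).left = pullback.snd (𝒲.f i) (𝒲.f k) ≫ (φ k).left := by
    intro i k
    let P : Over S := Over.mk (pullback.fst (X ◁ j i).left (X ◁ j k).left ≫ (X ⊗ Ti i).hom)
    let p : P ⟶ X ⊗ Ti i := Over.homMk (pullback.fst (X ◁ j i).left (X ◁ j k).left) rfl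
    let p' : P ⟶ X ⊗ Ti k := Over.homMk (pullback.snd (X ◁ j i).left (X ◁ j k).left) (by
      show _ = pullback.fst (X ◁ j i).left (X ◁ j k).left ≫ (X ⊗ Ti i).hom
      rw [← Over.w (X ◁ j k), ← Over.w (X ◁ j i), pullback.condition_assoc])
    have e : p ≫ (X ◁ j i) = p' ≫ (X ◁ j k) := Over.OverMorphism.ext pullback.condition
    have e1 : p ≫ fst _ _ = p' ≫ fst _ _ := by
      have h := congrArg (· ≫ fst X T) e
      simpa using h
    have e2 : (p ≫ snd _ _) ≫ j i = (p' ≫ snd _ _) ≫ j k := by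
      have h := congrArg (· ≫ snd X T) e
      simpa using h
    have f1 : p = lift (p ≫ fst _ _) (𝟙 P) ≫ (X ◁ (p ≫ snd _ _)) := by
      apply CartesianMonoidalCategory.hom_ext <;> simp
    have f2 : p' = lift (p ≫ fst _ _) (𝟙 P) ≫ (X ◁ (p' ≫ snd _ _)) := by
      apply CartesianMonoidalCategory.hom_ext <;> simp [e1]
    have h3 : p ≫ φ i = p' ≫ φ k := by
      rw [f1, f2, Category.assoc, Category.assoc, hφ i k P _ _ e2]
    exact congrArg CommaMorphism.left h3
  refine ⟨Over.homMk (𝒲.glueMorphisms (fun i => (φ i).left) hc) ?_, fun i => ?_, fun ψ' hψ' => ?_⟩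
  · refine Scheme.Cover.hom_ext 𝒲 _ _ fun i => ?_
    rw [Scheme.Cover.ι_glueMorphisms_assoc]
    exact (Over.w (φ i)).trans (Over.w (X ◁ j i)).symm
  · exact Over.OverMorphism.ext (Scheme.Cover.ι_glueMorphisms 𝒲 _ hc i)
  · refine Over.OverMorphism.ext (Scheme.Cover.hom_ext 𝒲 _ _ fun i => ?_)
    exact (congrArg CommaMorphism.left (hψ' i)).trans (Scheme.Cover.ι_glueMorphisms 𝒲 _ hc i).symm

/-- A representing pair for affine test schemes works for all test schemes. -/
theorem rep_of_affine (U : S.Opens) (M : Over S) (ev : X ⊗ M ⟶ Y) (hM : Set.range M.hom ⊆ U)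
    (h : ∀ T : Over S, IsAffine T.left → Set.range T.hom ⊆ U → ∀ φ : X ⊗ T ⟶ Y, ∃! v : T ⟶ M, (X ◁ v) ≫ ev = φ) :
    Rep X Y U M ev := by
  have hu : ∀ T : Over S, Set.range T.hom ⊆ U → ∀ v v' : T ⟶ M, (X ◁ v) ≫ ev = (X ◁ v') ≫ ev → v = v' := by
    intro T hT v v' he
    refine Over.OverMorphism.ext (Scheme.Cover.hom_ext T.left.affineCover _ _ fun i => ?_)
    let Ti : Over S := Over.mk (T.left.affineCover.f i ≫ T.hom)
    let j : Ti ⟶ T := Over.homMk (T.left.affineCover.f i) rfl
    have hTi : Set.range Ti.hom ⊆ U := (range_comp_subset _ _).trans hT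
    refine congrArg CommaMorphism.left ((h Ti (inferInstanceAs (IsAffine (T.left.affineCover.X i))) hTi ((X ◁ (j ≫ v)) ≫ ev)).unique rfl ?_ : j ≫ v = j ≫ v')
    show (X ◁ (j ≫ v')) ≫ ev = (X ◁ (j ≫ v)) ≫ ev
    simp only [whiskerLeft_comp, Category.assoc, he]
  refine ⟨hM, fun T hT φ => ?_⟩
  let Ti := fun i => Over.mk (T.left.affineCover.f i ≫ T.hom)
  let j : ∀ i, Ti i ⟶ T := fun i => Over.homMk (T.left.affineCover.f i) rfl
  have hTi : ∀ i, Set.range (Ti i).hom ⊆ U := fun i => (range_comp_subset _ _).trans hT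
  choose v hv using fun i => (h (Ti i) (inferInstanceAs (IsAffine (T.left.affineCover.X i))) (hTi i) ((X ◁ j i) ≫ φ)).exists
  have hc : ∀ i k, pullback.fst (T.left.affineCover.f i) (T.left.affineCover.f k) ≫ (v i).left =
      pullback.snd (T.left.affineCover.f i) (T.left.affineCover.f k) ≫ (v k).left := by
    intro i k
    let P : Over S := Over.mk (pullback.fst (T.left.affineCover.f i) (T.left.affineCover.f k) ≫ (Ti i).hom)
    let p : P ⟶ Ti i := Over.homMk (pullback.fst (T.left.affineCover.f i) (T.left.affineCover.f k)) rfl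
    let p' : P ⟶ Ti k := Over.homMk (pullback.snd (T.left.affineCover.f i) (T.left.affineCover.f k))
      (pullback.condition_assoc _).symm
    have e : p ≫ j i = p' ≫ j k := Over.OverMorphism.ext pullback.condition
    refine congrArg CommaMorphism.left (hu P ((range_comp_subset _ _).trans (hTi i)) (p ≫ v i) (p' ≫ v k) ?_)
    simp only [whiskerLeft_comp, Category.assoc, hv]
    rw [← whiskerLeft_comp_assoc, e, whiskerLeft_comp_assoc]
  let w : T ⟶ M := Over.homMk (T.left.affineCover.glueMorphisms (fun i => (v i).left) hc) (by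
    refine Scheme.Cover.hom_ext T.left.affineCover _ _ fun i => ?_
    rw [Scheme.Cover.ι_glueMorphisms_assoc]
    exact Over.w (v i))
  have hw : ∀ i, j i ≫ w = v i := fun i =>
    Over.OverMorphism.ext (Scheme.Cover.ι_glueMorphisms T.left.affineCover _ hc i)
  have hφ : (X ◁ w) ≫ ev = φ := by
    obtain ⟨ψ, -, hu'⟩ := exists_glue (X := X) (Y := Y) Ti j (fun i => inferInstanceAs (IsOpenImmersion (T.left.affineCover.f i)))
      (fun t => ⟨T.left.affineCover.idx t, T.left.affineCover.covers t⟩) (fun i => (X ◁ j i) ≫ φ)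
      (fun i k T' a b e => by rw [← whiskerLeft_comp_assoc, e, whiskerLeft_comp_assoc])
    rw [hu' φ fun i => rfl]
    exact hu' _ fun i => by rw [← whiskerLeft_comp_assoc, hw, hv]
  exact ⟨w, hφ, fun w' hw' => hu T hT w' w (by rw [hφ]; exact hw')⟩

theorem glue_w {𝒰 : S.OpenCover} [Category 𝒰.I₀] [𝒰.LocallyDirected] [Small.{u} 𝒰.I₀] [Quiver.IsThin 𝒰.I₀]
    (d : 𝒰.RelativeGluingData) {U V : 𝒰.I₀} (h : U ⟶ V) : d.functor.map h ≫ d.cover.f V = d.cover.f U :=
  colimit.w d.functor h

section affine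

variable {R : CommRingCat.{u}} (g : Spec R ⟶ S)

/-- the test object of an algebra -/
abbrev Tg (L : Type u) [CommRing L] [Algebra R L] : Over S :=
  Over.mk (Spec.map (CommRingCat.ofHom (algebraMap R L)) ≫ g)

/-- the map of test objects of an algebra map -/
def τ {L L' : Type u} [CommRing L] [Algebra R L] [CommRing L'] [Algebra R L'] (v : L →ₐ[R] L') :
    Tg g L' ⟶ Tg g L :=
  Over.homMk (Spec.map (CommRingCat.ofHom v.toRingHom)) (by
    show Spec.map _ ≫ Spec.map _ ≫ g = _
    rw [← Spec.map_comp_assoc, ← CommRingCat.ofHom_comp]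
    erw [v.comp_algebraMap]
    rfl)

theorem exists_alg {Z : Scheme.{u}} [IsAffine Z] (a : Z ⟶ Spec R) :
    ∃ (A : Type u) (_ : CommRing A) (_ : Algebra R A) (e : Spec (CommRingCat.of A) ≅ Z),
      e.hom ≫ a = Spec.map (CommRingCat.ofHom (algebraMap R A)) := by
  let φ₀ := Spec.preimage (Z.isoSpec.inv ≫ a)
  letI : Algebra R Γ(Z, ⊤) := φ₀.hom.toAlgebra
  refine ⟨Γ(Z, ⊤), inferInstance, inferInstance, Z.isoSpec.symm, ?_⟩
  show Z.isoSpec.inv ≫ a = Spec.map φ₀
  rw [Spec.map_preimage]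

theorem exists_rep_affine [IsOpenImmersion g] (U : S.Opens) (hg : Set.range g = U) [IsAffineHom Y.hom]
    [IsFinite X.hom] [Flat X.hom] [LocallyOfFinitePresentation X.hom] :
    ∃ (D : Type u) (_ : CommRing D) (_ : Algebra R D) (ev : X ⊗ Tg g D ⟶ Y), Rep X Y U (Tg g D) ev ∧
      (LocallyOfFiniteType Y.hom → Algebra.FiniteType R D) ∧
      (LocallyOfFinitePresentation Y.hom → Algebra.FinitePresentation R D) := by
  have : IsAffine (pullback X.hom g) := isAffine_of_isAffineHom (pullback.snd X.hom g)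
  have : IsAffine (pullback Y.hom g) := isAffine_of_isAffineHom (pullback.snd Y.hom g)
  obtain ⟨B, _, _, eX, heX⟩ := exists_alg (pullback.snd X.hom g)
  obtain ⟨C, _, _, eY, heY⟩ := exists_alg (pullback.snd Y.hom g)
  let qX : Spec (CommRingCat.of B) ⟶ X.left := eX.hom ≫ pullback.fst X.hom g
  let qY : Spec (CommRingCat.of C) ⟶ Y.left := eY.hom ≫ pullback.fst Y.hom g
  have sqX : IsPullback qX (Spec.map (CommRingCat.ofHom (algebraMap R B))) X.hom g :=
    (IsPullback.of_hasPullback X.hom g).of_iso eX.symm (Iso.refl _) (Iso.refl _) (Iso.refl _)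
      (by simp [qX]) (by simp [← heX]) (by simp) (by simp)
  have sqY : IsPullback qY (Spec.map (CommRingCat.ofHom (algebraMap R C))) Y.hom g :=
    (IsPullback.of_hasPullback Y.hom g).of_iso eY.symm (Iso.refl _) (Iso.refl _) (Iso.refl _)
      (by simp [qY]) (by simp [← heY]) (by simp) (by simp)
  have : Module.Finite R B := by
    rw [← RingHom.finite_algebraMap]
    exact (IsFinite.SpecMap_iff (CommRingCat.ofHom (algebraMap R B))).1 (MorphismProperty.of_isPullback sqX ‹_›)
  have : Module.Flat R B := by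
    rw [← RingHom.flat_algebraMap_iff]
    exact (Flat.SpecMap_iff (f := CommRingCat.ofHom (algebraMap R B))).1 (MorphismProperty.of_isPullback sqX ‹_›)
  have : Algebra.FinitePresentation R B := by
    rw [← RingHom.finitePresentation_algebraMap]
    exact (LocallyOfFinitePresentation.SpecMap_iff (CommRingCat.ofHom (algebraMap R B))).1
      (MorphismProperty.of_isPullback sqX ‹_›)
  have := Module.FinitePresentation.of_finite_of_finitePresentation (R := R) (S := B)
  have : Module.Projective R B := Module.Flat.projective_of_finitePresentation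
  obtain ⟨D, _, _, θ, hft, hfp, hθ⟩ := HomAlg.exists_univ (R := R) B C
  -- points of `X ⊗ T` for affine `T`
  have sqL : ∀ (L : Type u) [CommRing L] [Algebra R L],
      IsPullback (Spec.map (CommRingCat.ofHom (Algebra.TensorProduct.includeLeftRingHom : B →+* B ⊗[R] L)) ≫ qX)
        (Spec.map (CommRingCat.ofHom (Algebra.TensorProduct.includeRight : L →ₐ[R] B ⊗[R] L).toRingHom))
        X.hom (Tg g L).hom := fun L _ _ =>
    ((isPullback_SpecMap_of_isPushout _ _ _ _ (CommRingCat.isPushout_tensorProduct R B L)).flip.paste_vert sqX.flip).flip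
  let ιL : ∀ (L : Type u) [CommRing L] [Algebra R L], Spec (CommRingCat.of (B ⊗[R] L)) ≅ (X ⊗ Tg g L).left :=
    fun L _ _ => (sqL L).isoPullback
  have hfst : ∀ (L : Type u) [CommRing L] [Algebra R L],
      (ιL L).hom ≫ (fst X (Tg g L)).left =
        Spec.map (CommRingCat.ofHom (Algebra.TensorProduct.includeLeftRingHom : B →+* B ⊗[R] L)) ≫ qX :=
    fun L _ _ => (sqL L).isoPullback_hom_fst
  have hsnd : ∀ (L : Type u) [CommRing L] [Algebra R L],
      (ιL L).hom ≫ (snd X (Tg g L)).left =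
        Spec.map (CommRingCat.ofHom (Algebra.TensorProduct.includeRight : L →ₐ[R] B ⊗[R] L).toRingHom) :=
    fun L _ _ => (sqL L).isoPullback_hom_snd
  have hhom : ∀ (L : Type u) [CommRing L] [Algebra R L],
      (ιL L).hom ≫ (X ⊗ Tg g L).hom = Spec.map (CommRingCat.ofHom (algebraMap R (B ⊗[R] L))) ≫ g := by
    intro L _ _
    rw [← Over.w (snd X (Tg g L)), ← Category.assoc, hsnd]
    show Spec.map _ ≫ Spec.map _ ≫ g = _
    rw [← Spec.map_comp_assoc, ← CommRingCat.ofHom_comp]
    congr 3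
    exact RingHom.ext fun r => (Algebra.TensorProduct.includeRight : L →ₐ[R] B ⊗[R] L).commutes r
  have hnat : ∀ (L L' : Type u) [CommRing L] [Algebra R L] [CommRing L'] [Algebra R L'] (v : L →ₐ[R] L'),
      (ιL L').hom ≫ (X ◁ τ g v).left =
        Spec.map (CommRingCat.ofHom (Algebra.TensorProduct.map (AlgHom.id R B) v).toRingHom) ≫ (ιL L).hom := by
    intro L L' _ _ _ _ v
    refine pullback.hom_ext (f := X.hom) (g := (Tg g L).hom) ?_ ?_
    · show ((ιL L').hom ≫ (X ◁ τ g v).left) ≫ (fst X (Tg g L)).left = (_ ≫ (ιL L).hom) ≫ (fst X (Tg g L)).left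
      rw [Category.assoc, Category.assoc, hfst, ← Over.comp_left, whiskerLeft_fst, hfst, ← Spec.map_comp_assoc,
        ← CommRingCat.ofHom_comp]
      congr 3
      refine RingHom.ext fun b => ?_
      simp
    · show ((ιL L').hom ≫ (X ◁ τ g v).left) ≫ (snd X (Tg g L)).left = (_ ≫ (ιL L).hom) ≫ (snd X (Tg g L)).left
      rw [Category.assoc, Category.assoc, hsnd, ← Over.comp_left, whiskerLeft_snd, Over.comp_left, ← Category.assoc,
        hsnd, ← Spec.map_comp, ← CommRingCat.ofHom_comp]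
      show Spec.map _ ≫ Spec.map _ = _
      rw [← Spec.map_comp, ← CommRingCat.ofHom_comp]
      congr 2
  -- morphisms into `Y` are algebra maps
  have hmk : ∀ (L : Type u) [CommRing L] [Algebra R L] (f : C →ₐ[R] B ⊗[R] L),
      ((ιL L).inv ≫ Spec.map (CommRingCat.ofHom f.toRingHom) ≫ qY) ≫ Y.hom = (X ⊗ Tg g L).hom := by
    intro L _ _ f
    rw [← cancel_epi (ιL L).hom, hhom, Category.assoc, Category.assoc, Iso.hom_inv_id_assoc, sqY.w,
      ← Spec.map_comp_assoc, ← CommRingCat.ofHom_comp]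
    erw [f.comp_algebraMap]
  let mk : ∀ (L : Type u) [CommRing L] [Algebra R L], (C →ₐ[R] B ⊗[R] L) → (X ⊗ Tg g L ⟶ Y) :=
    fun L _ _ f => Over.homMk _ (hmk L f)
  have : IsOpenImmersion qY := MorphismProperty.of_isPullback (P := @IsOpenImmersion) sqY.flip ‹_›
  have hmkbij : ∀ (L : Type u) [CommRing L] [Algebra R L], Function.Bijective (mk L) := by
    intro L _ _
    refine ⟨fun f f' e => ?_, fun ψ => ?_⟩
    · have e' := congrArg CommaMorphism.left e
      simp only [mk, Over.homMk_left, cancel_epi, cancel_mono] at e'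
      exact AlgHom.coe_ringHom_injective (congrArg CommRingCat.Hom.hom (Spec.map_injective e'))
    · let l := sqY.lift ((ιL L).hom ≫ ψ.left) (Spec.map (CommRingCat.ofHom (algebraMap R (B ⊗[R] L))))
        (by rw [Category.assoc, Over.w, hhom])
      let f₀ := Spec.preimage l
      have hf₀ : CommRingCat.ofHom (algebraMap R C) ≫ f₀ = CommRingCat.ofHom (algebraMap R (B ⊗[R] L)) := by
        apply Spec.map_injective
        rw [Spec.map_comp, Spec.map_preimage]
        exact sqY.lift_snd _ _ _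
      refine ⟨⟨f₀.hom, fun r => RingHom.congr_fun (congrArg CommRingCat.Hom.hom hf₀) r⟩, ?_⟩
      apply Over.OverMorphism.ext
      show (ιL L).inv ≫ Spec.map f₀ ≫ qY = ψ.left
      rw [Spec.map_preimage, sqY.lift_fst, Iso.inv_hom_id_assoc]
  have hτbij : ∀ (L : Type u) [CommRing L] [Algebra R L], Function.Bijective (fun v : D →ₐ[R] L => τ g v) := by
    intro L _ _
    refine ⟨fun v v' e => ?_, fun w => ?_⟩
    · exact AlgHom.coe_ringHom_injective (congrArg CommRingCat.Hom.hom (Spec.map_injective (congrArg CommaMorphism.left e)))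
    · let f₀ := Spec.preimage w.left
      have hf₀ : CommRingCat.ofHom (algebraMap R D) ≫ f₀ = CommRingCat.ofHom (algebraMap R L) := by
        apply Spec.map_injective
        rw [Spec.map_comp, Spec.map_preimage, ← cancel_mono g, Category.assoc]
        exact Over.w w
      exact ⟨⟨f₀.hom, fun r => RingHom.congr_fun (congrArg CommRingCat.Hom.hom hf₀) r⟩,
        Over.OverMorphism.ext (Spec.map_preimage _)⟩
  have hkey : ∀ (L : Type u) [CommRing L] [Algebra R L] (v : D →ₐ[R] L),
      (X ◁ τ g v) ≫ mk D θ = mk L ((Algebra.TensorProduct.map (AlgHom.id R B) v).comp θ) := by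
    intro L _ _ v
    apply Over.OverMorphism.ext
    rw [← cancel_epi (ιL L).hom]
    simp only [mk, Over.comp_left, Over.homMk_left, Iso.hom_inv_id_assoc]
    rw [← Category.assoc, hnat, Category.assoc, Iso.hom_inv_id_assoc, ← Spec.map_comp_assoc, ← CommRingCat.ofHom_comp]
    rfl
  refine ⟨D, inferInstance, inferInstance, mk D θ, rep_of_affine U _ _ ?_ ?_, fun h => hft ?_, fun h => hfp ?_⟩
  · rw [← hg]; exact range_comp_subset _ _
  · intro T hT hTU φ
    obtain ⟨L, _, _, e, he⟩ := exists_alg (IsOpenImmersion.lift g T.hom (hg ▸ hTU))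
    let i : Tg g L ⟶ T := Over.homMk e.hom (by
      show e.hom ≫ T.hom = Spec.map _ ≫ g
      rw [← he, Category.assoc, IsOpenImmersion.lift_fac])
    have : IsIso i := by
      have : IsIso ((Over.forget S).map i) := inferInstanceAs (IsIso e.hom)
      exact isIso_of_reflects_iso i (Over.forget S)
    obtain ⟨f, hf⟩ := (hmkbij L).2 ((X ◁ i) ≫ φ)
    obtain ⟨v, hv, huniq⟩ := hθ L f
    refine ⟨inv i ≫ τ g v, ?_, fun w hw => ?_⟩
    · show (X ◁ (inv i ≫ τ g v)) ≫ mk D θ = φ
      rw [whiskerLeft_comp_assoc, hkey, hv, hf, ← whiskerLeft_comp_assoc, IsIso.inv_hom_id, whiskerLeft_id,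
        Category.id_comp]
    · obtain ⟨v', hv'⟩ := (hτbij L).2 (i ≫ w)
      replace hv' : τ g v' = i ≫ w := hv'
      have : v' = v := huniq v' ((hmkbij L).1 (by rw [← hkey, hv', whiskerLeft_comp_assoc, hw, hf]))
      rw [← this, hv', IsIso.inv_hom_id_assoc]
  · rw [← RingHom.finiteType_algebraMap]
    exact (HasRingHomProperty.Spec_iff (P := @LocallyOfFiniteType)).1
      (MorphismProperty.of_isPullback sqY h)
  · rw [← RingHom.finitePresentation_algebraMap]
    exact (LocallyOfFinitePresentation.SpecMap_iff _).1 (MorphismProperty.of_isPullback sqY h)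

end affine

/-- The scheme of morphisms from a finite locally free scheme into an affine scheme. -/
theorem exists_rep (X Y : Over S) [IsFinite X.hom] [Flat X.hom] [LocallyOfFinitePresentation X.hom]
    [IsAffineHom Y.hom] :
    ∃ (M : Over S) (ev : X ⊗ M ⟶ Y), IsAffineHom M.hom ∧
      (LocallyOfFiniteType Y.hom → LocallyOfFiniteType M.hom) ∧
      (LocallyOfFinitePresentation Y.hom → LocallyOfFinitePresentation M.hom) ∧
      ∀ (T : Over S) (φ : X ⊗ T ⟶ Y), ∃! v : T ⟶ M, (X ◁ v) ≫ ev = φ := by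
  have hloc := fun U : S.affineOpens =>
    exists_rep_affine (X := X) (Y := Y) U.2.fromSpec U.1 U.2.range_fromSpec
  choose D _ _ evU hrep hft hfp using hloc
  let MU : S.affineOpens → Over S := fun U => Tg U.2.fromSpec (D U)
  have htr : ∀ {U V : S.affineOpens}, U ≤ V → ∃! t : MU U ⟶ MU V, (X ◁ t) ≫ evU V = evU U := fun {U V} h =>
    (hrep V).2 _ ((hrep U).1.trans h) _
  let t : ∀ {U V : S.affineOpens}, U ≤ V → (MU U ⟶ MU V) := fun h => (htr h).exists.choose
  have ht : ∀ {U V : S.affineOpens} (h : U ≤ V), (X ◁ t h) ≫ evU V = evU U := fun h => (htr h).exists.choose_spec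
  have htu : ∀ {U V : S.affineOpens} (h : U ≤ V) (a : MU U ⟶ MU V), (X ◁ a) ≫ evU V = evU U → a = t h :=
    fun h a ha => (htr h).unique ha (ht h)
  let str : ∀ U : S.affineOpens, (MU U).left ⟶ (U.1 : Scheme.{u}) := fun U =>
    IsOpenImmersion.lift U.1.ι (MU U).hom (by rw [Scheme.Opens.range_ι]; exact (hrep U).1)
  have hstr : ∀ U, str U ≫ U.1.ι = (MU U).hom := fun U => IsOpenImmersion.lift_fac _ _ _
  let F : S.directedAffineCover.I₀ ⥤ Scheme.{u} :=
    { obj := fun U => (MU U).left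
      map := fun h => (t (leOfHom h)).left
      map_id := fun U => by
        exact (congrArg CommaMorphism.left (htu (U := U) (V := U) (leOfHom (𝟙 U)) (𝟙 _) (by simp))).symm
      map_comp := fun {U V W} h k => by
        exact (congrArg CommaMorphism.left (htu (leOfHom (h ≫ k)) (t (leOfHom h) ≫ t (leOfHom k))
          (by rw [whiskerLeft_comp_assoc, ht (leOfHom k), ht (leOfHom h)]))).symm }
  let nt : F ⟶ S.directedAffineCover.functorOfLocallyDirected :=
    { app := fun U => str U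
      naturality := fun U V h => by
        show (t (leOfHom h)).left ≫ str V = str U ≫ S.homOfLE (leOfHom h)
        rw [← cancel_mono V.1.ι, Category.assoc, hstr, Category.assoc, Scheme.homOfLE_ι, hstr]
        exact Over.w _ }
  have hequi : nt.Equifibered := by
    intro U V h
    show IsPullback (t (leOfHom h)).left (str U) (str V) (S.homOfLE (leOfHom h))
    have hw : ∀ {Z : Scheme.{u}} (a : Z ⟶ (MU V).left) (b : Z ⟶ (U.1 : Scheme.{u})),
        a ≫ str V = b ≫ S.homOfLE (leOfHom h) → b ≫ U.1.ι = a ≫ (MU V).hom := fun a b e => by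
      rw [← hstr, ← Category.assoc, e, Category.assoc, Scheme.homOfLE_ι]
    have hex : ∀ s : PullbackCone (str V) (S.homOfLE (leOfHom h)),
        ∃ v : Over.mk (s.snd ≫ U.1.ι) ⟶ MU U, v ≫ t (leOfHom h) = Over.homMk s.fst (hw _ _ s.condition).symm := by
      intro s
      let T : Over S := Over.mk (s.snd ≫ U.1.ι)
      let a : T ⟶ MU V := Over.homMk s.fst (hw _ _ s.condition).symm
      have hTU : Set.range T.hom ⊆ U.1 := by
        rintro _ ⟨z, rfl⟩
        exact (s.snd z).2
      obtain ⟨v, hv⟩ := ((hrep U).2 T hTU ((X ◁ a) ≫ evU V)).exists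
      exact ⟨v, ((hrep V).2 T (hTU.trans (leOfHom h)) _).unique
        (by show (X ◁ (v ≫ t (leOfHom h))) ≫ evU V = (X ◁ a) ≫ evU V; rw [whiskerLeft_comp_assoc, ht (leOfHom h), hv]) rfl⟩
    choose v hv using hex
    refine ⟨⟨nt.naturality h⟩, ⟨PullbackCone.IsLimit.mk _ (fun s => (v s).left) (fun s => congrArg CommaMorphism.left (hv s))
      (fun s => ?_) (fun s m hm₁ hm₂ => ?_)⟩⟩
    · rw [← cancel_mono U.1.ι, Category.assoc, hstr]
      exact Over.w (v s)
    · let m' : Over.mk (s.snd ≫ U.1.ι) ⟶ MU U := Over.homMk m (by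
        show m ≫ (MU U).hom = s.snd ≫ U.1.ι
        rw [← hstr, ← Category.assoc, hm₂])
      have hTU : Set.range (Over.mk (s.snd ≫ U.1.ι)).hom ⊆ U.1 := by
        rintro _ ⟨z, rfl⟩
        exact (s.snd z).2
      refine congrArg CommaMorphism.left (((hrep U).2 _ hTU ((X ◁ v s) ≫ evU U)).unique ?_ rfl : m' = v s)
      have e : m' ≫ t (leOfHom h) = v s ≫ t (leOfHom h) := by
        rw [hv s]
        exact Over.OverMorphism.ext hm₁
      show (X ◁ m') ≫ evU U = (X ◁ v s) ≫ evU U
      rw [← ht (leOfHom h), ← whiskerLeft_comp_assoc, ← whiskerLeft_comp_assoc, e]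
  let d : S.directedAffineCover.RelativeGluingData := ⟨F, nt, hequi⟩
  haveI : Small.{u} S.directedAffineCover.I₀ := inferInstanceAs (Small.{u} S.affineOpens)
  haveI : Quiver.IsThin S.directedAffineCover.I₀ := fun a b => inferInstanceAs (Subsingleton (ULift (PLift ((a : S.affineOpens) ≤ b))))
  let M : Over S := Over.mk d.toBase
  let j : ∀ U : S.affineOpens, MU U ⟶ M := fun U => Over.homMk (d.cover.f U) (by
    exact (d.ι_toBase U).trans (hstr U))
  have hj : ∀ U, IsOpenImmersion (j U).left := fun U => inferInstanceAs (IsOpenImmersion (d.cover.f U))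
  have hcw : ∀ (U V : S.directedAffineCover.I₀) (h : U ⟶ V), d.functor.map h ≫ d.cover.f V = d.cover.f U :=
    fun U V h => glue_w d h
  have hjt : ∀ {U V : S.affineOpens} (h : U ≤ V), t h ≫ j V = j U := fun {U V} h =>
    Over.OverMorphism.ext (hcw U V (homOfLE h))
  have hjpb : ∀ U : S.affineOpens, IsPullback (str U) (j U).left U.1.ι M.hom := fun U =>
    d.isPullback_natTrans_ι_toBase U
  -- lifting to the pieces
  have hlift : ∀ (U : S.affineOpens) (T : Over S) (w : T ⟶ M), Set.range T.hom ⊆ U.1 → ∃ c : T ⟶ MU U, c ≫ j U = w := by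
    intro U T w hT
    let b := IsOpenImmersion.lift U.1.ι T.hom (by rw [Scheme.Opens.range_ι]; exact hT)
    have hb : b ≫ U.1.ι = w.left ≫ M.hom := (IsOpenImmersion.lift_fac _ _ _).trans (Over.w w).symm
    refine ⟨Over.homMk ((hjpb U).lift b w.left hb) ?_, Over.OverMorphism.ext ((hjpb U).lift_snd _ _ _)⟩
    rw [← hstr, ← Category.assoc, (hjpb U).lift_fst]
    exact IsOpenImmersion.lift_fac _ _ _
  have hsame : ∀ (U V : S.affineOpens) (T : Over S) (a : T ⟶ MU U) (b : T ⟶ MU V),
      a ≫ j U = b ≫ j V → (X ◁ a) ≫ evU U = (X ◁ b) ≫ evU V := by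
    intro U V T a b e
    have hmem : ∀ x : T.left, ∃ W : S.affineOpens, T.hom x ∈ W.1 ∧ W ≤ U ∧ W ≤ V := fun x => by
      have h1 : T.hom x ∈ U.1 := by
        rw [← Over.w a]; exact (hrep U).1 ⟨_, rfl⟩
      have h2 : T.hom x ∈ V.1 := by
        rw [← Over.w b]; exact (hrep V).1 ⟨_, rfl⟩
      obtain ⟨_, ⟨W, hW, rfl⟩, hxW, hsub⟩ := S.isBasis_affineOpens.exists_subset_of_mem_open
        (show T.hom x ∈ U.1 ⊓ V.1 from ⟨h1, h2⟩) (U.1 ⊓ V.1).2
      exact ⟨⟨W, hW⟩, hxW, fun y hy => (hsub hy).1, fun y hy => (hsub hy).2⟩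
    choose W hxW hWU hWV using hmem
    let Ti : T.left → Over S := fun x => Over.mk ((T.hom ⁻¹ᵁ (W x).1).ι ≫ T.hom)
    let jT : ∀ x, Ti x ⟶ T := fun x => Over.homMk (T.hom ⁻¹ᵁ (W x).1).ι rfl
    obtain ⟨ψ, -, huψ⟩ := exists_glue (X := X) (Y := Y) Ti jT (fun x => inferInstanceAs (IsOpenImmersion (Scheme.Opens.ι _)))
      (fun x => ⟨x, ⟨x, hxW x⟩, rfl⟩) (fun x => (X ◁ jT x) ≫ (X ◁ a) ≫ evU U)
      (fun x y T' p q e' => by rw [← whiskerLeft_comp_assoc, e', whiskerLeft_comp_assoc])
    rw [huψ ((X ◁ a) ≫ evU U) fun x => rfl]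
    refine (huψ _ fun x => ?_).symm
    obtain ⟨c, hc⟩ := hlift (W x) (Ti x) (jT x ≫ a ≫ j U) (by
      rintro _ ⟨z, rfl⟩
      exact z.2)
    have hca : c ≫ t (hWU x) = jT x ≫ a := by
      have := hj U
      refine Over.OverMorphism.ext ((cancel_mono (j U).left).1 ?_)
      rw [← Over.comp_left, ← Over.comp_left, Category.assoc, hjt (hWU x), hc, Category.assoc]
    have hcb : c ≫ t (hWV x) = jT x ≫ b := by
      have := hj V
      refine Over.OverMorphism.ext ((cancel_mono (j V).left).1 ?_)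
      rw [← Over.comp_left, ← Over.comp_left, Category.assoc, hjt (hWV x), hc, e, Category.assoc]
    rw [← whiskerLeft_comp_assoc, ← hcb, ← whiskerLeft_comp_assoc, ← hca, whiskerLeft_comp_assoc,
      whiskerLeft_comp_assoc, ht (hWU x), ht (hWV x)]
  obtain ⟨ev, hev, -⟩ := exists_glue (X := X) (Y := Y) MU j hj
    (fun m => by obtain ⟨i, y, e⟩ := d.cover.exists_eq m; exact ⟨i, y, e⟩) evU hsame
  refine ⟨M, ev, ?_, fun h => ?_, fun h => ?_, fun T φ => ?_⟩
  · refine IsZariskiLocalAtTarget.of_openCover (P := @IsAffineHom) (𝒰 := S.directedAffineCover) fun U => ?_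
    have : IsAffine (MU U).left := inferInstanceAs (IsAffine (Spec _))
    have : IsAffine (U.1 : Scheme.{u}) := U.2
    show IsAffineHom (pullback.snd M.hom U.1.ι)
    rw [← (hjpb U).flip.isoPullback_inv_snd]
    infer_instance
  · refine IsZariskiLocalAtTarget.of_openCover (P := @LocallyOfFiniteType) (𝒰 := S.directedAffineCover) fun U => ?_
    show LocallyOfFiniteType (pullback.snd M.hom U.1.ι)
    have h1 : LocallyOfFiniteType (MU U).hom := by
      have : LocallyOfFiniteType (Spec.map (CommRingCat.ofHom (algebraMap Γ(S, U.1) (D U)))) :=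
        (HasRingHomProperty.Spec_iff (P := @LocallyOfFiniteType)).2 (RingHom.finiteType_algebraMap.2 (hft U h))
      show LocallyOfFiniteType (_ ≫ _)
      infer_instance
    have h2 : LocallyOfFiniteType (str U) := by
      have : LocallyOfFiniteType (str U ≫ U.1.ι) := by rw [hstr]; exact h1
      exact locallyOfFiniteType_of_comp (str U) U.1.ι
    rw [← (hjpb U).flip.isoPullback_inv_snd]
    infer_instance
  · refine IsZariskiLocalAtTarget.of_openCover (P := @LocallyOfFinitePresentation) (𝒰 := S.directedAffineCover) fun U => ?_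
    show LocallyOfFinitePresentation (pullback.snd M.hom U.1.ι)
    have h1 : LocallyOfFinitePresentation (MU U).hom := by
      have : LocallyOfFinitePresentation (Spec.map (CommRingCat.ofHom (algebraMap Γ(S, U.1) (D U)))) :=
        (LocallyOfFinitePresentation.SpecMap_iff _).2 (RingHom.finitePresentation_algebraMap.2 (hfp U h))
      show LocallyOfFinitePresentation (_ ≫ _)
      infer_instance
    have h2 : LocallyOfFinitePresentation (str U) := by
      have : LocallyOfFinitePresentation (str U ≫ U.1.ι) := by rw [hstr]; exact h1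
      have sq := ((IsPullback.of_vert_isIso (fst := str U) (snd := 𝟙 (MU U).left) (f := 𝟙 (U.1 : Scheme.{u})) (g := str U)
        ⟨by simp⟩).paste_horiz (IsPullback.of_vert_isIso_mono (fst := 𝟙 (U.1 : Scheme.{u})) (snd := 𝟙 (U.1 : Scheme.{u}))
        (f := U.1.ι) (g := U.1.ι) ⟨rfl⟩)).flip
      simp only [Category.comp_id] at sq
      exact MorphismProperty.of_isPullback (P := @LocallyOfFinitePresentation) sq this
    rw [← (hjpb U).flip.isoPullback_inv_snd]
    infer_instance
  · let Ti : S.affineOpens → Over S := fun U => Over.mk ((T.hom ⁻¹ᵁ U.1).ι ≫ T.hom)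
    let jT : ∀ U, Ti U ⟶ T := fun U => Over.homMk (T.hom ⁻¹ᵁ U.1).ι rfl
    have hTi : ∀ U, Set.range (Ti U).hom ⊆ U.1 := fun U => by
      rintro _ ⟨z, rfl⟩
      exact z.2
    have hcovT : ∀ x : T.left, ∃ U, x ∈ Set.range (jT U).left := fun x => by
      obtain ⟨_, ⟨W, hW, rfl⟩, hxW, -⟩ := S.isBasis_affineOpens.exists_subset_of_mem_open
        (Set.mem_univ (T.hom x)) isOpen_univ
      exact ⟨⟨W, hW⟩, ⟨x, hxW⟩, rfl⟩
    have hu : ∀ {T' : Over S} (w w' : T' ⟶ M), (X ◁ w) ≫ ev = (X ◁ w') ≫ ev → w = w' := by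
      intro T' w w' he
      let 𝒱 : T'.left.OpenCover := Scheme.Cover.mkOfCovers S.affineOpens (fun U => (T'.hom ⁻¹ᵁ U.1).toScheme)
        (fun U => (T'.hom ⁻¹ᵁ U.1).ι) (fun x => by
          obtain ⟨_, ⟨W, hW, rfl⟩, hxW, -⟩ := S.isBasis_affineOpens.exists_subset_of_mem_open
            (Set.mem_univ (T'.hom x)) isOpen_univ
          exact ⟨⟨W, hW⟩, ⟨x, hxW⟩, rfl⟩) (fun U => inferInstance)
      refine Over.OverMorphism.ext (Scheme.Cover.hom_ext 𝒱 _ _ fun U => ?_)
      let P : Over S := Over.mk ((T'.hom ⁻¹ᵁ U.1).ι ≫ T'.hom)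
      let p : P ⟶ T' := Over.homMk (T'.hom ⁻¹ᵁ U.1).ι rfl
      have hP : Set.range P.hom ⊆ U.1 := by
        rintro _ ⟨z, rfl⟩
        exact z.2
      obtain ⟨c, hc⟩ := hlift U P (p ≫ w) hP
      obtain ⟨c', hc'⟩ := hlift U P (p ≫ w') hP
      have : c = c' := ((hrep U).2 P hP ((X ◁ c) ≫ evU U)).unique rfl (by
        show (X ◁ c') ≫ evU U = (X ◁ c) ≫ evU U
        rw [← hev, ← whiskerLeft_comp_assoc, hc', ← whiskerLeft_comp_assoc, hc, whiskerLeft_comp_assoc,
          whiskerLeft_comp_assoc, he])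
      have h2 : p ≫ w = p ≫ w' := by rw [← hc, ← hc', this]
      exact congrArg CommaMorphism.left h2
    choose v hv using fun U => ((hrep U).2 (Ti U) (hTi U) ((X ◁ jT U) ≫ φ)).exists
    let 𝒯 : T.left.OpenCover := Scheme.Cover.mkOfCovers S.affineOpens (fun U => (Ti U).left)
      (fun U => (jT U).left) hcovT (fun U => inferInstanceAs (IsOpenImmersion (Scheme.Opens.ι _)))
    have hc : ∀ U V, pullback.fst (𝒯.f U) (𝒯.f V) ≫ (v U ≫ j U).left = pullback.snd (𝒯.f U) (𝒯.f V) ≫ (v V ≫ j V).left := by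
      intro U V
      let P : Over S := Over.mk (pullback.fst (jT U).left (jT V).left ≫ (Ti U).hom)
      let p : P ⟶ Ti U := Over.homMk (pullback.fst (jT U).left (jT V).left) rfl
      let p' : P ⟶ Ti V := Over.homMk (pullback.snd (jT U).left (jT V).left) (pullback.condition_assoc _).symm
      have e : p ≫ jT U = p' ≫ jT V := Over.OverMorphism.ext pullback.condition
      refine congrArg CommaMorphism.left (hu (p ≫ v U ≫ j U) (p' ≫ v V ≫ j V) ?_)
      simp only [whiskerLeft_comp, Category.assoc, hev, hv]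
      rw [← whiskerLeft_comp_assoc, e, whiskerLeft_comp_assoc]
    let w : T ⟶ M := Over.homMk (𝒯.glueMorphisms (fun U => (v U ≫ j U).left) hc) (by
      refine Scheme.Cover.hom_ext 𝒯 _ _ fun U => ?_
      rw [Scheme.Cover.ι_glueMorphisms_assoc]
      exact Over.w (v U ≫ j U))
    have hw : ∀ U, jT U ≫ w = v U ≫ j U := fun U =>
      Over.OverMorphism.ext (Scheme.Cover.ι_glueMorphisms 𝒯 _ hc U)
    have hφ : (X ◁ w) ≫ ev = φ := by
      obtain ⟨ψ, -, hu'⟩ := exists_glue (X := X) (Y := Y) Ti jT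
        (fun U => inferInstanceAs (IsOpenImmersion (Scheme.Opens.ι _))) hcovT (fun U => (X ◁ jT U) ≫ φ)
        (fun i k T' a b e => by rw [← whiskerLeft_comp_assoc, e, whiskerLeft_comp_assoc])
      rw [hu' φ fun i => rfl]
      exact hu' _ fun i => by rw [← whiskerLeft_comp_assoc, hw, whiskerLeft_comp_assoc, hev, hv]
    exact ⟨w, hφ, fun w' hw' => hu w' w (by rw [hφ]; exact hw')⟩

end Groth.Agent.HopfRep.HomScheme

end
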