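import Groth.Agent.HopfRep.MonoIso
import Groth.Agent.ResidueExt.Construction
import Mathlib.RingTheory.RingHom.Flat

/-!
Homomorphisms of group schemes inducing an isomorphism of completed local rings at the unit are flat;
if moreover mono, open immersions.
-/

universe u

open CategoryTheory MonoidalCategory CartesianMonoidalCategory MonObj GrpObj AlgebraicGeometry Limits IsLocalRing

noncomputable section

namespace Groth.Agent.HopfRep.OpenImm

theorem flat_of_infinitesimal {R S : CommRingCat.{u}} [IsLocalRing R] [IsLocalRing S] [IsNoetherianRing R]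
    [IsNoetherianRing S] (φ : R ⟶ S) [IsLocalHom φ.hom]
    (h : ∀ n : ℕ, Function.Surjective ((Ideal.Quotient.mk (maximalIdeal S ^ (n + 1))).comp φ.hom) ∧
      ∀ a : R, φ.hom a ∈ maximalIdeal S ^ (n + 1) ↔ a ∈ maximalIdeal R ^ (n + 1)) : φ.hom.Flat := by
  algebraize [φ.hom]
  have hm : (maximalIdeal R).map (algebraMap R S) = maximalIdeal S := by
    have hle : (maximalIdeal R).map (algebraMap R S) ≤ maximalIdeal S :=
      Ideal.map_le_iff_le_comap.2 fun r hr => by
        rw [Ideal.mem_comap]
        have := ((h 0).2 r).2 (by simpa using hr)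
        simpa using this
    refine le_antisymm hle (Submodule.le_of_le_smul_of_le_jacobson_bot (IsNoetherian.noetherian _)
      (maximalIdeal_le_jacobson ⊥) ?_)
    intro s hs
    obtain ⟨r, hr⟩ := (h 1).1 (Ideal.Quotient.mk _ s)
    have h2 : s - φ.hom r ∈ maximalIdeal S ^ (1 + 1) := Ideal.Quotient.eq.1 hr.symm
    have h3 : r ∈ maximalIdeal R := by
      have : φ.hom r ∈ maximalIdeal S ^ (0 + 1) := by
        rw [zero_add, pow_one]
        have := sub_mem hs (Ideal.pow_le_self (by norm_num) h2)
        rwa [sub_sub_cancel] at this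
      simpa using ((h 0).2 r).1 this
    rw [show s = φ.hom r + (s - φ.hom r) by ring]
    refine Submodule.add_mem_sup (Ideal.mem_map_of_mem (algebraMap R S) h3) ?_
    rw [smul_eq_mul, ← sq]
    simpa using h2
  refine Groth.Agent.ResidueExt.Construction.flat_of_dense (A := R) (B := S) (B₀ := R) (Algebra.linearMap R S) ?_ ?_
  · intro k b
    rw [Ideal.smul_top_eq_map, Ideal.map_pow, hm]
    rcases k with _ | k
    · exact ⟨0, by simp⟩
    · obtain ⟨r, hr⟩ := (h k).1 (Ideal.Quotient.mk _ b)
      exact ⟨r, Ideal.Quotient.eq.1 hr.symm⟩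
  · intro k r hr
    rw [Ideal.smul_top_eq_map, Ideal.map_pow, hm] at hr
    rw [smul_eq_mul, Ideal.mul_top]
    rcases k with _ | k
    · simp
    · exact ((h k).2 r).1 hr

theorem descendsAlong_flat :
    MorphismProperty.DescendsAlong @Flat (@Surjective ⊓ @Flat ⊓ @QuasiCompact : MorphismProperty Scheme.{u}) :=
  HasRingHomProperty.descendsAlong_flat (RingHom.CodescendsAlong.mk _ RingHom.Flat.respectsIso
    fun R S T _ _ _ _ _ h h' => by
      rw [RingHom.faithfullyFlat_algebraMap_iff] at h
      rw [RingHom.flat_algebraMap_iff] at h' ⊢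
      exact Module.Flat.of_flat_tensorProduct R T S)

variable {k : Type u} [Field k] {H G : Over (Spec (CommRingCat.of k))} [GrpObj H] [GrpObj G]

set_option backward.isDefEq.respectTransparency.types false in
/-- A homomorphism flat at the unit is flat. -/
theorem flat_of_flat_one [LocallyOfFiniteType H.hom] [LocallyOfFiniteType G.hom] (f : H ⟶ G) [IsMonHom f]
    (pt : (𝟙_ (Over (Spec (CommRingCat.of k)))).left) (hflat : (f.left.stalkMap (η[H].left pt)).hom.Flat) :
    Flat f.left := by
  let K := AlgebraicClosure k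
  let T := Rational.spec (k := k) K
  let F := (T ◁ f).left
  have := Torsor.lfp_hom f
  have hsq := Torsor.isPullback_left (Orbit.isPullback_whiskerLeft (T := T) f)
  let π : (T ⊗ H).left ⟶ Spec (CommRingCat.of K) := (fst T H).left
  have : LocallyOfFiniteType π := MorphismProperty.of_isPullback (P := @LocallyOfFiniteType)
    (Torsor.isPullback_fst T H).flip inferInstance
  have := OrbitClosed.jacobson π
  have : LocallyOfFinitePresentation F :=
    MorphismProperty.of_isPullback (P := @LocallyOfFinitePresentation) hsq.flip ‹_›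
  have : Subsingleton ↥(Spec (CommRingCat.of k)) := inferInstanceAs (Subsingleton (PrimeSpectrum k))
  have he : ∀ z : (T ⊗ H).left, (snd T H).left z = η[H].left pt → (F.stalkMap z).hom.Flat := fun z hz =>
    Flat.FibreAt.flat_stalkMap_of_isPullback hsq.flip z (by rw [hz]; exact hflat)
  have hall : ∀ z, (F.stalkMap z).hom.Flat := by
    by_contra! hh
    obtain ⟨c, hcn, hc⟩ := nonempty_inter_closedPoints (Z := {z | (F.stalkMap z).hom.Flat}ᶜ) hh
      (Flat.FibreAt.isOpen_flat_stalkMap F).isClosed_compl.isLocallyClosed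
    let s : T ⟶ T ⊗ H := Over.homMk (pointOfClosedPoint π c hc) (by
      rw [← Over.w (fst T H)]; exact pointOfClosedPoint_comp_assoc π c hc _)
    have es : s ≫ fst T H = 𝟙 T := Over.OverMorphism.ext (pointOfClosedPoint_comp π c hc)
    let g := s ≫ snd T H
    let s₀ : T ⟶ T ⊗ H := lift (𝟙 T) 1
    let t₀ := s₀.left (IsLocalRing.closedPoint K)
    have e1 : s₀ ≫ (GrpTop.lmul g).hom = s := by
      apply CartesianMonoidalCategory.hom_ext
      · simp [s₀, GrpTop.lmul, es]
      · simp [s₀, GrpTop.lmul, MonObj.comp_mul, g]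
    have hc0 : (GrpTop.lmul g).hom.left t₀ = c := by
      show ((s₀ ≫ (GrpTop.lmul g).hom).left (IsLocalRing.closedPoint K)) = c
      rw [e1]
      exact pointOfClosedPoint_apply π c hc _
    have e2 : (GrpTop.lmul g).hom ≫ (T ◁ f) = (T ◁ f) ≫ (GrpTop.lmul (g ≫ f)).hom := by
      apply CartesianMonoidalCategory.hom_ext
      · simp [GrpTop.lmul]
      · simp [GrpTop.lmul, MonObj.comp_mul, MonObj.mul_comp]
    have : IsIso (GrpTop.lmul g).hom.left := inferInstanceAs (IsIso ((Over.forget _).map (GrpTop.lmul g).hom))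
    have : IsIso (GrpTop.lmul (g ≫ f)).hom.left :=
      inferInstanceAs (IsIso ((Over.forget _).map (GrpTop.lmul (g ≫ f)).hom))
    have h0 : (F.stalkMap t₀).hom.Flat := he t₀ (by
      show (s₀ ≫ snd T H).left (IsLocalRing.closedPoint K) = _
      rw [lift_snd, Hom.one_def, GrpTop.left_comp_apply]
      exact congrArg η[H].left (Subsingleton.elim (α := Spec (CommRingCat.of k)) _ _))
    have h1 : ((F ≫ (GrpTop.lmul (g ≫ f)).hom.left).stalkMap t₀).hom.Flat := by
      rw [Scheme.Hom.stalkMap_comp]
      exact RingHom.Flat.comp (Flat.stalkMap _ _) h0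
    have e3 : F ≫ (GrpTop.lmul (g ≫ f)).hom.left = (GrpTop.lmul g).hom.left ≫ F :=
      (congrArg CommaMorphism.left e2).symm
    rw [e3] at h1
    exact hcn (hc0 ▸ (Flat.FibreAt.flat_stalkMap_comp_iff (GrpTop.lmul g).hom.left F t₀).1 h1)
  have hF : Flat F := (Flat.iff_flat_stalkMap F).2 hall
  have : QuasiCompact T.hom := inferInstanceAs (QuasiCompact (Spec.map _))
  have := descendsAlong_flat.{u}
  have : Surjective T.hom := inferInstanceAs (Surjective (Spec.map _))
  refine MorphismProperty.of_isPullback_of_descendsAlong (P := @Flat)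
    (Q := (@Surjective ⊓ @Flat ⊓ @QuasiCompact : MorphismProperty Scheme.{u})) hsq ?_ hF
  exact MorphismProperty.of_isPullback
    (P := (@Surjective ⊓ @Flat ⊓ @QuasiCompact : MorphismProperty Scheme.{u}))
    (Torsor.isPullback_fst T G) ⟨⟨inferInstance, inferInstance⟩, inferInstance⟩

theorem isOpenImmersion [LocallyOfFiniteType H.hom] [LocallyOfFiniteType G.hom] (f : H ⟶ G) [IsMonHom f]
    [Mono f.left] (pt : (𝟙_ (Over (Spec (CommRingCat.of k)))).left)
    (h : ∀ n : ℕ, Function.Surjective ((Ideal.Quotient.mk (maximalIdeal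
      (H.left.presheaf.stalk (η[H].left pt)) ^ (n + 1))).comp (f.left.stalkMap (η[H].left pt)).hom) ∧
      ∀ a, (f.left.stalkMap (η[H].left pt)).hom a ∈
        maximalIdeal (H.left.presheaf.stalk (η[H].left pt)) ^ (n + 1) ↔
        a ∈ maximalIdeal (G.left.presheaf.stalk (f.left (η[H].left pt))) ^ (n + 1)) :
    IsOpenImmersion f.left := by
  have : IsLocallyNoetherian H.left := LocallyOfFiniteType.isLocallyNoetherian H.hom
  have : IsLocallyNoetherian G.left := LocallyOfFiniteType.isLocallyNoetherian G.hom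
  have := Torsor.lfp_hom f
  have := flat_of_flat_one f pt (flat_of_infinitesimal (f.left.stalkMap (η[H].left pt)) h)
  exact IsOpenImmersion.of_flat_of_mono f.left

end Groth.Agent.HopfRep.OpenImm

end
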