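import Groth.Agent.HopfRep.HomScheme
import Groth.Agent.HopfRep.FpqcCover
import Groth.Agent.HopfRep.EssFreeSGA
import Groth.Agent.HopfRep.FreeDiag
import Groth.Agent.HopfRep.OpenImm
import Groth.Agent.Mor.Cancel
import Groth.Prelude.Def_SGA3x
import Groth.Prelude.Def_AutFam

/-!
The affine scheme of homomorphisms out of a finite locally free group scheme into an affine group scheme.
-/

universe u

open CategoryTheory MonoidalCategory CartesianMonoidalCategory MonObj AlgebraicGeometry Limits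

set_option linter.unusedSimpArgs false
set_option linter.style.haveILetI false
set_option backward.isDefEq.respectTransparency.types false

noncomputable section

namespace Groth.Agent.HopfRep.HomSchemeGrp

variable {S : Scheme.{u}}

theorem exists_rep (G G' : Over S) [GrpObj G] [GrpObj G'] [IsFinite G.hom] [Flat G.hom]
    [LocallyOfFinitePresentation G.hom] [IsAffineHom G'.hom] :
    ∃ (E : Over S) (υ : G ⊗ E ⟶ G'), AutFam.RepresentsHom G G' E υ ∧ IsAffineHom E.hom ∧
      (LocallyOfFiniteType G'.hom → LocallyOfFiniteType E.hom) ∧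
      (LocallyOfFinitePresentation G'.hom → LocallyOfFinitePresentation E.hom) := by
  obtain ⟨M, ev, hMa, hMft, hMfp, hM⟩ := HomScheme.exists_rep G G'
  have : IsFinite (G ⊗ G).hom := by
    show IsFinite (pullback.fst G.hom G.hom ≫ G.hom)
    infer_instance
  have : Flat (G ⊗ G).hom := by
    show Flat (pullback.fst G.hom G.hom ≫ G.hom)
    infer_instance
  have : LocallyOfFinitePresentation (G ⊗ G).hom := by
    show LocallyOfFinitePresentation (pullback.fst G.hom G.hom ≫ G.hom)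
    infer_instance
  obtain ⟨M₂, ev₂, hM₂a, hM₂ft, hM₂fp, hM₂⟩ := HomScheme.exists_rep (G ⊗ G) G'
  let φ₁ : (G ⊗ G) ⊗ M ⟶ G' := lift (fst _ _ ≫ fst G G * (fst _ _ ≫ snd G G)) (snd _ _) ≫ ev
  let φ₂ : (G ⊗ G) ⊗ M ⟶ G' :=
    (lift (fst _ _ ≫ fst G G) (snd _ _) ≫ ev) * (lift (fst _ _ ≫ snd G G) (snd _ _) ≫ ev)
  obtain ⟨a, ha, -⟩ := hM₂ M φ₁
  obtain ⟨b, hb, -⟩ := hM₂ M φ₂
  let δ : M₂ ⟶ M₂ ⊗ M₂ := lift (𝟙 M₂) (𝟙 M₂)
  let E : Over S := pullback (lift a b) δ
  let i : E ⟶ M := pullback.fst (lift a b) δ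
  have hi : i ≫ a = i ≫ b := by
    have h : i ≫ lift a b = pullback.snd (lift a b) δ ≫ δ := pullback.condition
    have h1 := congrArg (· ≫ fst _ _) h
    have h2 := congrArg (· ≫ snd _ _) h
    simp [δ] at h1 h2
    exact h1.trans h2.symm
  have e : δ.left = pullback.diagonal M₂.hom := by
    apply pullback.hom_ext
    · rw [pullback.diagonal_fst]
      exact congrArg Over.Hom.left (lift_fst (𝟙 M₂) (𝟙 M₂))
    · rw [pullback.diagonal_snd]
      exact congrArg Over.Hom.left (lift_snd (𝟙 M₂) (𝟙 M₂))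
  have : IsSeparated M₂.hom := inferInstance
  have hsq : IsPullback i.left (pullback.snd (lift a b) δ).left (lift a b).left δ.left :=
    (IsPullback.of_hasPullback (lift a b) δ).map (Over.forget S)
  have : IsClosedImmersion δ.left := by
    have : IsClosedImmersion (pullback.diagonal M₂.hom) := inferInstance
    rw [e]; exact this
  have : IsClosedImmersion i.left := MorphismProperty.of_isPullback (P := @IsClosedImmersion) hsq.flip ‹_›
  have hEw : i.left ≫ M.hom = E.hom := Over.w i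
  refine ⟨E, (G ◁ i) ≫ ev, ⟨fun X g₁ g₂ t => ?_, fun T φ hφ => ?_⟩, ?_, fun h => ?_, fun h => ?_⟩
  · have key : lift (lift g₁ g₂) (t ≫ i) ≫ φ₁ = lift (lift g₁ g₂) (t ≫ i) ≫ φ₂ := by
      have e1 : ∀ c : M ⟶ M₂, lift (lift g₁ g₂) (t ≫ i) ≫ ((G ⊗ G) ◁ c) ≫ ev₂ = lift (lift g₁ g₂) t ≫ ((G ⊗ G) ◁ (i ≫ c)) ≫ ev₂ :=
        fun c => by simp
      rw [← ha, ← hb, e1, e1, hi]
    simp only [φ₁, φ₂, MonObj.comp_mul, comp_lift_assoc, lift_fst_assoc, lift_fst, lift_snd, lift_snd_assoc] at key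
    simpa [lift_whiskerLeft_assoc] using key
  · obtain ⟨v, hv, hvu⟩ := hM T φ
    have hT := hφ ((G ⊗ G) ⊗ T) (fst _ _ ≫ fst G G) (fst _ _ ≫ snd G G) (snd _ _)
    rw [← hv] at hT
    simp only [lift_whiskerLeft_assoc] at hT
    have hab : v ≫ a = v ≫ b := by
      refine (hM₂ T (((G ⊗ G) ◁ v) ≫ φ₁)).unique ?_ ?_
      · show ((G ⊗ G) ◁ (v ≫ a)) ≫ ev₂ = _
        rw [whiskerLeft_comp_assoc, ha]
      · show ((G ⊗ G) ◁ (v ≫ b)) ≫ ev₂ = _
        rw [whiskerLeft_comp_assoc, hb]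
        simp only [φ₁, φ₂, MonObj.comp_mul, comp_lift_assoc, whiskerLeft_fst_assoc, whiskerLeft_fst, whiskerLeft_snd]
        exact hT.symm
    refine ⟨pullback.lift v (v ≫ a) (by apply CartesianMonoidalCategory.hom_ext <;> simp [δ, hab]), ?_, fun w hw => ?_⟩
    · show (G ◁ pullback.lift v (v ≫ a) _) ≫ (G ◁ i) ≫ ev = φ
      rw [← whiskerLeft_comp_assoc, pullback.lift_fst, hv]
    · have : w ≫ i = v := hvu _ (by show (G ◁ (w ≫ i)) ≫ ev = φ; rw [whiskerLeft_comp_assoc]; exact hw)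
      have hmi : Mono δ := by
        exact ⟨fun x y hxy => by simpa [δ] using congrArg (· ≫ fst M₂ M₂) hxy⟩
      have : Mono i := inferInstanceAs (Mono (pullback.fst (lift a b) δ))
      rw [← cancel_mono i, pullback.lift_fst]
      exact ‹w ≫ i = v›
  · rw [← hEw]; infer_instance
  · have := hMft h
    rw [← hEw]; infer_instance
  · have := hMfp h
    have := hM₂fp h
    have : LocallyOfFinitePresentation δ.left := by
      rw [e]; exact Mor.Cancel.locallyOfFinitePresentation_diagonal _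
    have : LocallyOfFinitePresentation i.left :=
      MorphismProperty.of_isPullback (P := @LocallyOfFinitePresentation) hsq.flip ‹_›
    rw [← hEw]; infer_instance

theorem flat_lfp_of_multTypeFT {H : Over S} [GrpObj H] (hH : SGA3x.IsMultTypeFT H) :
    Flat H.hom ∧ LocallyOfFinitePresentation H.hom := by
  have := OpenImm.descendsAlong_flat.{u}
  have key : ∀ (Q : MorphismProperty Scheme.{u}) [IsZariskiLocalAtTarget Q] [Q.IsStableUnderBaseChange]
      [Q.DescendsAlong (@Surjective ⊓ @Flat ⊓ @QuasiCompact)],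
      (∀ (M : Type) [AddCommGroup M], AddGroup.FG M → Q (Red.diag (ULift.{u} ℤ) M).hom) → Q H.hom := by
    intro Q _ _ _ hQ
    refine FpqcCover.descend (Q := Q) (P := fun U g => ∃ (M : Type) (_ : AddCommGroup M), AddGroup.FG M ∧
      Nonempty (Grp.mk (Red.bc g H) ≅ Grp.mk (Red.DS U M))) hH H.hom (𝟙 S) ?_
    intro S' f U hU R b
    obtain ⟨M, _, hM, ⟨e⟩⟩ := hU
    obtain ⟨_, π, h4⟩ := EssFreeSGA.exists_isPullback_multType H f U M e b
    have h5 : Q (pullback.snd H.hom (b ≫ U.ι ≫ f)) := MorphismProperty.of_isPullback h4 (hQ M hM)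
    have h6 : pullback.fst (𝟙 S) (b ≫ U.ι ≫ f) = pullback.snd (𝟙 S) (b ≫ U.ι ≫ f) ≫ b ≫ U.ι ≫ f := by
      rw [← pullback.condition, Category.comp_id]
    have h7 : Q (pullback.snd H.hom (pullback.snd (𝟙 S) (b ≫ U.ι ≫ f) ≫ b ≫ U.ι ≫ f)) := by
      rw [← MorphismProperty.cancel_left_of_respectsIso Q
        (pullbackLeftPullbackSndIso H.hom (b ≫ U.ι ≫ f) (pullback.snd (𝟙 S) (b ≫ U.ι ≫ f))).hom,
        pullbackLeftPullbackSndIso_hom_snd]
      exact MorphismProperty.pullback_snd _ _ h5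
    exact h6.symm ▸ h7
  refine ⟨key @Flat fun M _ _ => ?_, key @LocallyOfFinitePresentation fun M _ hM => ?_⟩
  · show Flat (Spec.map _)
    rw [Flat.SpecMap_iff]
    exact RingHom.flat_algebraMap_iff.2 (inferInstanceAs (Module.Flat (ULift.{u} ℤ) (MonoidAlgebra (ULift.{u} ℤ) (Multiplicative M))))
  · have : Monoid.FG (Multiplicative M) := Group.fg_iff_monoid_fg.1 (AddGroup.fg_iff_mul_fg.1 hM)
    show LocallyOfFinitePresentation (Spec.map _)
    rw [LocallyOfFinitePresentation.SpecMap_iff]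
    have : IsNoetherianRing (ULift.{u} ℤ) := isNoetherianRing_of_ringEquiv ℤ ULift.ringEquiv.symm
    exact RingHom.finitePresentation_algebraMap.2 (Algebra.FinitePresentation.of_finiteType.1 inferInstance)

end Groth.Agent.HopfRep.HomSchemeGrp

end
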