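import Groth.Agent.HopfRep.Corep

/-!
Normalised left invariant integrals and linear reductivity.
-/

universe u v w w'

open TensorProduct

noncomputable section

namespace Groth.Agent.HopfRep.Integral

open _root_.HopfRep Groth.Agent.HopfRep.Slice Groth.Agent.HopfRep.Corep

variable (k : Type u) [Field k] (A : Type v) [CommRing A] [HopfAlgebra k A]

/-- `∑ a₁ β a₂ = β a` and `β 1 = 1`. -/
structure IsIntegral (β : A →ₗ[k] k) : Prop where
  inv : ∀ a, contr k A β (Coalgebra.comul (R := k) a) = β a • (1 : A)
  one : β 1 = 1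

variable {k A}
variable {V : Type w} [AddCommGroup V] [Module k V] [Comod k A V]
variable {W : Type w'} [AddCommGroup W] [Module k W] [Comod k A W]
variable {β : A →ₗ[k] k}

theorem slice_mem (hβ : IsIntegral k A β) (v : V) : slice k V β v ∈ fixedPts k A V := by
  show Comod.coact (k := k) (A := A) (slice k V β v) = slice k V β v ⊗ₜ[k] (1 : A)
  rw [coact_slice, slice_apply]
  generalize Comod.coact (k := k) (A := A) v = x
  induction x with
  | zero => simp
  | add a b ha hb => simp [ha, hb, TensorProduct.add_tmul]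
  | tmul p a => simp [hβ.inv a, TensorProduct.smul_tmul']

theorem slice_of_fixed (hβ : IsIntegral k A β) {v : V} (hv : v ∈ fixedPts k A V) :
    slice k V β v = v := by
  rw [slice_apply, show Comod.coact (k := k) (A := A) v = v ⊗ₜ[k] (1 : A) from hv, contr_tmul, hβ.one,
    one_smul]

theorem exists_fixed_preimage (hβ : IsIntegral k A β) {φ : V →ₗ[k] W} (hφ : Hoch.IsComodHom A φ)
    {w : W} (hw : w ∈ fixedPts k A W) (hr : w ∈ LinearMap.range φ) :
    ∃ v ∈ fixedPts k A V, φ v = w := by
  obtain ⟨v, rfl⟩ := hr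
  exact ⟨_, slice_mem hβ v, by rw [map_slice hφ, slice_of_fixed hβ hw]⟩

theorem map_fixed {φ : V →ₗ[k] W} (hφ : Hoch.IsComodHom A φ) {v : V} (hv : v ∈ fixedPts k A V) :
    φ v ∈ fixedPts k A W := by
  show Comod.coact (k := k) (A := A) (φ v) = φ v ⊗ₜ[k] (1 : A)
  rw [← LinearMap.comp_apply (f := Comod.coact) (g := φ), hφ, LinearMap.comp_apply,
    show Comod.coact (k := k) (A := A) v = v ⊗ₜ[k] (1 : A) from hv, LinearMap.rTensor_tmul]

theorem trivCrit (hβ : IsIntegral k A β) : TrivCrit k A := by
  intro n C hC r hr hr0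
  obtain ⟨j₀, hj⟩ : ∃ j, r j ≠ 0 := by
    by_contra! h0
    exact hr0 (funext h0)
  refine ⟨fun i => β (C i j₀), fun i => ?_, ?_⟩
  · rw [← hβ.inv, hC.comul, map_sum]
    simp
  · have := congrArg β (hr j₀)
    simp only [map_sum, map_smul, hβ.one, smul_eq_mul, mul_one] at this
    rwa [this]

theorem isLinearlyReductive_of_trivCrit (h : TrivCrit k A) : IsLinearlyReductive k A :=
  fun _ _ _ _ _ => isSemisimpleComod_of_trivCrit h

theorem isSemisimpleComod_of_integral (hβ : IsIntegral k A β) : IsSemisimpleComod k A V :=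
  isSemisimpleComod_of_finite fun V₀ hV hfin => by
    letI := restrict V₀ hV
    haveI := hfin
    exact isSemisimpleComod_of_trivCrit (trivCrit hβ)

/-- A right invariant normalised form gives a left invariant one. -/
theorem isIntegral_of_right (α : A →ₗ[k] k)
    (hα : ∀ a, TensorProduct.lid k A (α.rTensor A (Coalgebra.comul (R := k) a)) = α a • (1 : A))
    (h1 : α 1 = 1) : IsIntegral k A (α ∘ₗ HopfAlgebraStruct.antipode (R := k)) := by
  refine ⟨fun a => antipode_injective k ?_, by simp [h1]⟩
  have h := hα (HopfAlgebraStruct.antipode (R := k) a)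
  rw [map_smul, HopfAlgebra.antipode_one, LinearMap.comp_apply, ← h, comul_antipode]
  generalize Coalgebra.comul (R := k) a = y
  induction y with
  | zero => simp
  | add b c hb hc => simp [hb, hc]
  | tmul b c => simp

theorem exists_integral (h : IsLinearlyReductive k A) : ∃ β, IsIntegral k A β := by
  classical
  have hss : IsSemisimpleComod k A A := isSemisimpleComod_of_finite fun V₀ hV hfin => by
    letI := restrict V₀ hV
    exact h V₀ hfin
  let U := Submodule.span k ({1} : Set A)
  have hU : IsSubcomod (k := k) (A := A) U := by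
    refine isSubcomod_iff.2 fun f x hx => ?_
    obtain ⟨c, rfl⟩ := Submodule.mem_span_singleton.1 hx
    rw [map_smul, slice_apply, show Comod.coact (k := k) (A := A) (1 : A) = (1 : A) ⊗ₜ[k] (1 : A) from
      (Bialgebra.comul_one).trans Algebra.TensorProduct.one_def, contr_tmul, smul_smul]
    exact Submodule.smul_mem _ _ (Submodule.mem_span_singleton_self 1)
  obtain ⟨N, hN, hc⟩ := hss U hU
  let π : A →ₗ[k] A := U.subtype ∘ₗ U.projectionOnto N hc
  let α : A →ₗ[k] k := (Coalgebra.counit (R := k) (A := A)) ∘ₗ π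
  have hπ : ∀ a, π a = α a • (1 : A) := by
    intro a
    obtain ⟨c, hc'⟩ := Submodule.mem_span_singleton.1 (show π a ∈ U from (U.projectionOnto N hc a).2)
    simp [α, ← hc']
  have hπ' := isComodHom_projection hU hN hc
  refine ⟨_, isIntegral_of_right α (fun a => ?_) ?_⟩
  · have e : Coalgebra.comul (R := k) (π a) = π.rTensor A (Coalgebra.comul (R := k) a) :=
      LinearMap.congr_fun hπ' a
    have e' := congrArg (fun z => TensorProduct.lid k A ((Coalgebra.counit (R := k) (A := A)).rTensor A z)) e
    simp only [hπ, map_smul, Bialgebra.comul_one, Algebra.TensorProduct.one_def, LinearMap.rTensor_tmul,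
      TensorProduct.lid_tmul, Bialgebra.counit_one, one_smul, ← LinearMap.rTensor_comp_apply] at e'
    exact e'.symm
  · have : U.projectionOnto N hc 1 = ⟨1, Submodule.mem_span_singleton_self 1⟩ :=
      Submodule.projectionOnto_apply_left hc ⟨1, Submodule.mem_span_singleton_self 1⟩
    simp [α, π, this]

theorem isLinearlyReductive_iff : IsLinearlyReductive k A ↔ ∃ β, IsIntegral k A β :=
  ⟨exists_integral, fun ⟨_, hβ⟩ => isLinearlyReductive_of_trivCrit (trivCrit hβ)⟩

theorem exists_fixedPt_ne_zero (hβ : IsIntegral k A β) (π : V →ₗ[k] k) (hπ : Function.Surjective π)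
    (h : π.rTensor A ∘ₗ Comod.coact (k := k) (A := A) (V := V) =
      (TensorProduct.mk k k A).flip (1 : A) ∘ₗ π) :
    ∃ v ∈ fixedPts k A V, π v ≠ 0 := by
  obtain ⟨v, hv⟩ := hπ 1
  refine ⟨slice k V β v, slice_mem hβ v, ?_⟩
  have := LinearMap.congr_fun h v
  simp only [LinearMap.comp_apply, LinearMap.flip_apply, TensorProduct.mk_apply, hv] at this
  rw [slice_apply, map_contr, this, contr_tmul, hβ.one]
  simp

end Groth.Agent.HopfRep.Integral
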