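import Groth.Agent.HopfRep.HomImage
import Groth.Agent.Flat.FibreAt
import Mathlib.AlgebraicGeometry.Morphisms.FlatMono

/-!
A surjective monomorphism onto a smooth group scheme is an isomorphism.
-/

universe u

open CategoryTheory MonoidalCategory CartesianMonoidalCategory MonObj GrpObj AlgebraicGeometry Limits

set_option linter.unusedSimpArgs false

noncomputable section

namespace Groth.Agent.HopfRep.MonoIso

set_option backward.isDefEq.respectTransparency.types false in
theorem descendsAlong_isomorphisms :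
    (MorphismProperty.isomorphisms Scheme.{u}).DescendsAlong (@Flat ⊓ @Surjective ⊓ @UniversallyOpen) := by
  apply IsZariskiLocalAtTarget.descendsAlong
  rintro R X Y f g ⟨⟨h₁, h₂⟩, h₃⟩ H
  obtain ⟨V : X.Opens, hV, e⟩ := f.isOpenMap.exists_opens_image_eq_of_prespectralSpace
    f.continuous (by simp) isOpen_univ isCompact_univ
  refine MorphismProperty.of_isPullback_of_descendsAlong (Q := @Surjective ⊓ @Flat ⊓ @QuasiCompact)
    (.paste_vert (.of_hasPullback V.ι _) (.of_hasPullback f g)) ⟨⟨?_, inferInstance⟩,
      (quasiCompact_iff_compactSpace _).mpr (isCompact_iff_compactSpace.mp hV)⟩ ?_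
  · exact ⟨fun x ↦ have ⟨y, hyV, e⟩ := e.ge (Set.mem_univ x); ⟨⟨y, hyV⟩, e⟩⟩
  · exact IsZariskiLocalAtTarget.of_isPullback (P := MorphismProperty.isomorphisms Scheme.{u})
      (.flip <| .of_hasPullback _ _) H

theorem flat_of_isField {A B : CommRingCat.{u}} (hA : IsField A) (φ : A ⟶ B) : φ.hom.Flat := by
  let := hA.toField
  algebraize [φ.hom]
  exact (inferInstance : Module.Flat A B)

/-- A morphism to a reduced noetherian scheme is flat over a nonempty open. -/
theorem exists_flat_restrict {X Y : Scheme.{u}} [IsNoetherian X] [IsNoetherian Y] [IsReduced Y] [Nonempty Y]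
    (f : X ⟶ Y) [LocallyOfFinitePresentation f] [QuasiCompact f] :
    ∃ V : Y.Opens, (V : Set Y).Nonempty ∧ Flat (f ∣_ V) := by
  obtain ⟨y⟩ := ‹Nonempty Y›
  let Z := irreducibleComponent y
  obtain ⟨ξ, hξ⟩ := QuasiSober.sober (isIrreducible_irreducibleComponent (x := y)) isClosed_irreducibleComponent
  have hcl : closure {ξ} ∈ irreducibleComponents Y := by
    rw [hξ.def]; exact irreducibleComponent_mem_irreducibleComponents y
  have hfield := isField_stalk_of_closure_mem_irreducibleComponents Y ξ hcl
  let F := {x : X | (f.stalkMap x).hom.Flat}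
  have hF : IsOpen F := Flat.FibreAt.isOpen_flat_stalkMap f
  let E := f '' Fᶜ
  have hE : Topology.IsConstructible E :=
    f.isConstructible_image (ConstrTop.Basic.isConstructible_closed hF.isClosed_compl)
  obtain ⟨W, hW, hξW, hWsub⟩ : ∃ W : Set Y, IsOpen W ∧ ξ ∈ W ∧ W ⊆ closure {ξ} := by
    refine ⟨(⋃₀ (irreducibleComponents Y \ {closure {ξ}}))ᶜ, ?_, ?_, ?_⟩
    · rw [Set.sUnion_eq_biUnion]
      exact ((TopologicalSpace.NoetherianSpace.finite_irreducibleComponents.subset Set.sdiff_subset).isClosed_biUnion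
        fun s hs => isClosed_of_mem_irreducibleComponents s hs.1).isOpen_compl
    · rintro ⟨s, ⟨hs, hne⟩, hξs⟩
      have hle : closure {ξ} ≤ s := (isClosed_of_mem_irreducibleComponents s hs).closure_subset_iff.2
        (Set.singleton_subset_iff.2 hξs)
      exact hne ((hcl.2 hs.1 hle).antisymm hle)
    · intro w hw
      by_contra hwc
      refine hw ⟨irreducibleComponent w, ⟨irreducibleComponent_mem_irreducibleComponents w, fun h => ?_⟩, mem_irreducibleComponent⟩
      exact hwc ((Set.mem_singleton_iff.1 h).le mem_irreducibleComponent)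
  have hξE : ξ ∉ closure E := by
    intro hc
    have h1 : ξ ∈ closure (E ∩ closure {ξ}) := by
      refine closure_mono ?_ (hW.inter_closure ⟨hξW, hc⟩)
      rintro w ⟨h1, h2⟩; exact ⟨h2, hWsub h1⟩
    obtain ⟨U, hU, ⟨u, huU, hu⟩, hUE⟩ := ConstrTop.Basic.exists_open_of_dense'
      (isIrreducible_singleton (x := ξ)).closure hE
      (closure_minimal (Set.singleton_subset_iff.2 h1) isClosed_closure)
    have hξU : ξ ∈ U := (specializes_iff_mem_closure.2 hu).mem_open hU huU
    have hη' : ξ ∈ E := hUE ⟨hξU, subset_closure rfl⟩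
    obtain ⟨x, hx, rfl⟩ := hη'
    exact hx (flat_of_isField hfield (f.stalkMap x))
  refine ⟨⟨(closure E)ᶜ, isClosed_closure.isOpen_compl⟩, ⟨ξ, hξE⟩, ?_⟩
  rw [Flat.iff_flat_stalkMap]
  intro x
  have : (f.stalkMap x.1).hom.Flat := by
    by_contra hh
    exact x.2 (subset_closure ⟨x.1, hh, rfl⟩)
  exact (RingHom.Flat.respectsIso.arrow_mk_iso_iff (morphismRestrictStalkMap f _ x)).2 this

variable {k : Type u} [Field k] {G H : Over (Spec (CommRingCat.of k))} [GrpObj G] [GrpObj H]

theorem isIso_of_mono_of_surjective [Smooth G.hom] [QuasiCompact G.hom] [Smooth H.hom] [QuasiCompact H.hom]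
    (f : G ⟶ H) [IsMonHom f] [Mono f] [Surjective f.left] : IsIso f := by
  have := Rational.isReduced_of_smooth H.hom
  have := Torsor.quasiCompact_hom f
  have := Torsor.lfp_hom f
  have : Mono f.left := inferInstanceAs (Mono ((Over.forget _).map f))
  have : CompactSpace H.left := QuasiCompact.compactSpace_of_compactSpace H.hom
  have : CompactSpace G.left := QuasiCompact.compactSpace_of_compactSpace G.hom
  have : IsLocallyNoetherian H.left := LocallyOfFiniteType.isLocallyNoetherian H.hom
  have : IsLocallyNoetherian G.left := LocallyOfFiniteType.isLocallyNoetherian G.hom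
  have : IsNoetherian H.left := ⟨⟩
  have : IsNoetherian G.left := ⟨⟩
  have : Nonempty H.left := ⟨η[H].left (IsLocalRing.closedPoint k)⟩
  obtain ⟨V₀, hV₀ne, hflat⟩ := exists_flat_restrict f.left
  have hV₀iso : IsIso (f.left ∣_ V₀) := by
    have : LocallyOfFinitePresentation (f.left ∣_ V₀) := inferInstance
    have : Mono (f.left ∣_ V₀) := MorphismProperty.of_isPullback (P := MorphismProperty.monomorphisms Scheme.{u})
      (isPullback_morphismRestrict f.left V₀).flip ‹_›
    have := IsOpenImmersion.of_flat_of_mono (f.left ∣_ V₀)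
    have : Surjective (f.left ∣_ V₀) := MorphismProperty.of_isPullback (P := @Surjective)
      (isPullback_morphismRestrict f.left V₀).flip ‹_›
    have : Epi (f.left ∣_ V₀).base := (TopCat.epi_iff_surjective _).2 (f.left ∣_ V₀).surjective
    exact IsOpenImmersion.isIso _
  let aH := HomImage.homAction f
  let aG := HomImage.homAction (𝟙 G)
  have heq : (G ◁ f) ≫ aH.act = aG.act ≫ f := by
    simp only [aH, aG, HomImage.homAction, MonObj.mul_eq_mul, MonObj.comp_mul, MonObj.mul_comp, Category.assoc,
      whiskerLeft_fst_assoc, whiskerLeft_snd, whiskerRight_fst, whiskerRight_snd, whiskerRight_fst_assoc,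
      whiskerRight_snd_assoc, Category.id_comp, whiskerLeft_fst, Category.comp_id]
  have := descendsAlong_isomorphisms.{u}
  obtain ⟨V, hV, hmax, hstab⟩ := StableLocus.exists_stable aG aH f heq (MorphismProperty.isomorphisms Scheme.{u})
  have htop : V = ⊤ := by
    refine top_unique fun y _ => ?_
    obtain ⟨v₀, hv₀⟩ := hV₀ne
    let T := GrpTop.res y
    let t : T ⟶ H := GrpTop.resι y
    obtain ⟨z, hz⟩ := GrpTop.surjective_snd T H default v₀
    let w : T ⊗ H ⟶ H := (fst T H ≫ t) * (snd T H)⁻¹
    have hsnd : IsPullback (f ▷ H).left (fst G H).left (fst H H).left f.left :=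
      (Torsor.isPullback_left (Torsor.isPullback_whisker f H)).flip
    obtain ⟨g, hg⟩ := f.left.surjective (w.left z)
    obtain ⟨u, hu, -⟩ := Scheme.exists_preimage_of_isPullback hsnd ((lift w (snd T H)).left z) g (by
      rw [← GrpTop.left_comp_apply, lift_fst]; exact hg.symm)
    have h1 : (snd G H).left u ∈ V := by
      rw [← whiskerRight_snd f H, GrpTop.left_comp_apply, hu, ← GrpTop.left_comp_apply, lift_snd, hz]
      exact hmax V₀ hV₀iso hv₀
    have h2 : aH.act.left u ∈ V := hstab h1
    have h3 : aH.act.left u = y := by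
      show ((f ▷ H) ≫ μ[H]).left u = y
      rw [GrpTop.left_comp_apply, hu, ← GrpTop.left_comp_apply, ← Hom.mul_def, inv_mul_cancel_right,
        GrpTop.left_comp_apply]
      exact GrpTop.resι_apply y _
    exact h3 ▸ h2
  subst htop
  have : IsIso (f.left ∣_ ⊤) := hV
  have : IsIso f.left := IsZariskiLocalAtTarget.of_iSup_eq_top (P := MorphismProperty.isomorphisms Scheme.{u})
    (fun _ : Unit => (⊤ : H.left.Opens)) (by simp) (fun _ => hV)
  have : IsIso ((Over.forget _).map f) := ‹IsIso f.left›
  exact isIso_of_reflects_iso f (Over.forget _)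

end Groth.Agent.HopfRep.MonoIso

end
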