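import Groth.Prelude.Def_Red
import Groth.Agent.HopfRep.IsogenyFibre
import Groth.Agent.RatMap.Sub
import Mathlib.AlgebraicGeometry.Morphisms.FlatDescent
import Mathlib.AlgebraicGeometry.ZariskisMainTheorem

/-!
A quasi-compact homomorphism of group schemes locally of finite type over an Artinian local ring is
proper (resp. finite) as soon as its kernel is proper (resp. discrete).
-/

universe u

open CategoryTheory MonoidalCategory CartesianMonoidalCategory MonObj GrpObj AlgebraicGeometry Limits

set_option linter.unusedSimpArgs false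
set_option backward.isDefEq.respectTransparency.types false

noncomputable section

namespace Groth.Agent.HopfRep.KerProper

section field

variable {k : Type u} [Field k] {G H : Over (Spec (CommRingCat.of k))} [GrpObj G] [GrpObj H]

theorem descendsAlong_uc :
    MorphismProperty.DescendsAlong (@UniversallyClosed : MorphismProperty Scheme.{u})
      (@Flat ⊓ @Surjective ⊓ @UniversallyOpen) := by
  apply IsZariskiLocalAtTarget.descendsAlong
  rintro R X Y f g ⟨⟨h₁, h₂⟩, h₃⟩ H
  obtain ⟨V : X.Opens, hV, e⟩ := f.isOpenMap.exists_opens_image_eq_of_prespectralSpace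
    f.continuous (by simp) isOpen_univ isCompact_univ
  refine MorphismProperty.of_isPullback_of_descendsAlong (Q := @Surjective ⊓ @Flat ⊓ @QuasiCompact)
    (.paste_vert (.of_hasPullback V.ι _) (.of_hasPullback f g)) ⟨⟨?_, inferInstance⟩,
      (quasiCompact_iff_compactSpace _).mpr (isCompact_iff_compactSpace.mp hV)⟩ ?_
  · exact ⟨fun x ↦ have ⟨y, hyV, e⟩ := e.ge (Set.mem_univ x); ⟨⟨y, hyV⟩, e⟩⟩
  · exact IsZariskiLocalAtTarget.of_isPullback (P := @UniversallyClosed) (.flip <| .of_hasPullback _ _) H

/-- If the self product of a homomorphism over its target is closed over the source, the homomorphism is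
universally closed. -/
theorem universallyClosed_of_self [LocallyOfFiniteType G.hom] [LocallyOfFiniteType H.hom]
    (u : G ⟶ H) [IsMonHom u] [QuasiCompact u.left]
    (huu : UniversallyClosed (pullback.snd u.left u.left)) : UniversallyClosed u.left := by
  have := Torsor.lfp_hom u
  have : IsLocallyNoetherian H.left := LocallyOfFiniteType.isLocallyNoetherian H.hom
  have hclosed : IsClosed (Set.range u.left) := HomImage.isClosed_range u
  let I := Scheme.IdealSheafData.vanishingIdeal (X := H.left) ⟨_, hclosed⟩
  let i := I.subschemeι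
  have hirange : Set.range i = Set.range u.left := by
    rw [Scheme.IdealSheafData.range_subschemeι, Scheme.IdealSheafData.coe_support_vanishingIdeal]
    rfl
  have : IsReduced I.subscheme := RatMap.Sub.isReduced_subscheme _ fun V => PrimeSpectrum.isRadical_vanishingIdeal _
  let y₀ : H.left := η[H].left (IsLocalRing.closedPoint k)
  obtain ⟨_, ⟨W, hW, rfl⟩, hyW, -⟩ := H.left.isBasis_affineOpens.exists_subset_of_mem_open (Set.mem_univ y₀) isOpen_univ
  let W : H.left.Opens := W
  have hy₀ : y₀ ∈ Set.range u.left := by
    refine ⟨η[G].left (IsLocalRing.closedPoint k), ?_⟩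
    rw [← Scheme.Hom.comp_apply, ← Over.comp_left, IsMonHom.one_hom]
  obtain ⟨w₀, hw₀⟩ : y₀ ∈ Set.range i := hirange ▸ hy₀
  let YW : I.subscheme.Opens := i ⁻¹ᵁ W
  have hYWa : IsAffineOpen YW := hW.preimage i
  have : IsAffine YW := hYWa
  have : Nonempty ↥(YW : Scheme.{u}) := ⟨⟨w₀, show i w₀ ∈ W by rw [hw₀]; exact hyW⟩⟩
  let j : (YW : Scheme.{u}) ⟶ H.left := YW.ι ≫ i
  have : LocallyOfFiniteType (j ≫ H.hom) := inferInstance
  have : IsLocallyNoetherian (YW : Scheme.{u}) := LocallyOfFiniteType.isLocallyNoetherian (j ≫ H.hom)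
  have : IsNoetherian (YW : Scheme.{u}) := ⟨⟩
  let q := pullback.snd u.left j
  let j' := pullback.fst u.left j
  have : CompactSpace ↥(pullback u.left j) := QuasiCompact.compactSpace_of_compactSpace q
  have : IsLocallyNoetherian (pullback u.left j) := LocallyOfFiniteType.isLocallyNoetherian (q ≫ j ≫ H.hom)
  have : IsNoetherian (pullback u.left j) := ⟨⟩
  have : LocallyOfFinitePresentation q := MorphismProperty.pullback_snd (P := @LocallyOfFinitePresentation) _ _ ‹_›
  obtain ⟨V, hVne, hflat⟩ := MonoIso.exists_flat_restrict q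
  -- the self product of `q` over `V` is closed over the source
  let qV := q ∣_ V
  have hqV : UniversallyClosed qV := by
    have : Surjective qV := ⟨fun v => by
      have hv : j (V.ι v) ∈ Set.range u.left := by rw [← hirange]; exact ⟨_, rfl⟩
      obtain ⟨g, hg⟩ := hv
      obtain ⟨z, -, hz2⟩ := Scheme.exists_preimage_of_isPullback (IsPullback.of_hasPullback u.left j) g (V.ι v) hg
      obtain ⟨w, -, hw2⟩ := Scheme.exists_preimage_of_isPullback (isPullback_morphismRestrict q V).flip z v hz2
      exact ⟨w, hw2⟩⟩
    have hsq : IsPullback (pullback.fst qV qV ≫ (q ⁻¹ᵁ V).ι ≫ j') (pullback.snd qV qV) u.left (qV ≫ V.ι ≫ j) := by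
      have h1 : IsPullback ((q ⁻¹ᵁ V).ι ≫ j') qV u.left (V.ι ≫ j) :=
        (isPullback_morphismRestrict q V).flip.paste_horiz (IsPullback.of_hasPullback u.left j)
      exact (IsPullback.of_hasPullback qV qV).paste_horiz h1
    have e : qV ≫ V.ι ≫ j = ((q ⁻¹ᵁ V).ι ≫ j') ≫ u.left := by
      rw [← Category.assoc, morphismRestrict_ι, Category.assoc, Category.assoc, ← pullback.condition]
    rw [e] at hsq
    have hsq2 : IsPullback
        (pullback.lift (pullback.fst qV qV ≫ (q ⁻¹ᵁ V).ι ≫ j') (pullback.snd qV qV ≫ (q ⁻¹ᵁ V).ι ≫ j')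
          (by simpa [Category.assoc] using hsq.w))
        (pullback.snd qV qV) (pullback.snd u.left u.left) ((q ⁻¹ᵁ V).ι ≫ j') := by
      refine IsPullback.of_right ?_ (pullback.lift_snd _ _ _) (IsPullback.of_hasPullback u.left u.left)
      rw [pullback.lift_fst]
      exact hsq
    have h2 : UniversallyClosed (pullback.snd qV qV) :=
      MorphismProperty.of_isPullback (P := @UniversallyClosed) hsq2 huu
    have : QuasiCompact qV := IsZariskiLocalAtTarget.restrict (P := @QuasiCompact) (inferInstanceAs (QuasiCompact q)) V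
    have : Flat qV := hflat
    exact MorphismProperty.of_isPullback_of_descendsAlong (P := @UniversallyClosed)
      (Q := (@Surjective ⊓ @Flat ⊓ @QuasiCompact : MorphismProperty Scheme.{u}))
      (IsPullback.of_hasPullback qV qV).flip ⟨⟨inferInstance, inferInstance⟩, inferInstance⟩ h2
  -- an open of `H` over which `u` is universally closed
  obtain ⟨V', hV'o, hV'⟩ := i.isClosedEmbedding.isInducing.isOpen_iff.1 ((YW.ι ''ᵁ V).2)
  let V₀ : H.left.Opens := ⟨V', hV'o⟩
  have hV₀ : UniversallyClosed (u.left ∣_ V₀) := by
    have hpre : i ⁻¹ᵁ V₀ = YW.ι ''ᵁ V := TopologicalSpace.Opens.ext hV'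
    -- restriction of the reduced image to the open
    let iV := i ∣_ V₀
    let qW := pullback.snd (u.left ∣_ V₀) iV
    have hsurj : Surjective (pullback.fst (u.left ∣_ V₀) iV) := by
      refine ⟨fun g => ?_⟩
      have hg : u.left ((u.left ⁻¹ᵁ V₀).ι g) ∈ Set.range i := by rw [hirange]; exact ⟨_, rfl⟩
      obtain ⟨y, hy⟩ := hg
      have hy' : y ∈ i ⁻¹ᵁ V₀ := by
        show i y ∈ V₀
        rw [hy]; exact g.2
      obtain ⟨z, hz, -⟩ := Scheme.exists_preimage_of_isPullback (IsPullback.of_hasPullback (u.left ∣_ V₀) iV) g ⟨y, hy'⟩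
        (V₀.ι.isOpenEmbedding.injective (by
          rw [← Scheme.Hom.comp_apply, morphismRestrict_ι, Scheme.Hom.comp_apply, ← hy, ← Scheme.Hom.comp_apply iV,
            morphismRestrict_ι, Scheme.Hom.comp_apply]
          rfl))
      exact ⟨z, hz⟩
    have hqW : UniversallyClosed qW := by
      -- `qW` is a base change of `qV`
      let l : (i ⁻¹ᵁ V₀ : I.subscheme.Opens).toScheme ⟶ (V : Scheme.{u}) :=
        IsOpenImmersion.lift (V.ι ≫ YW.ι) (i ⁻¹ᵁ V₀).ι (by
          rw [Scheme.Opens.range_ι, hpre, Scheme.Hom.comp_base, TopCat.coe_comp, Set.range_comp, Scheme.Opens.range_ι]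
          exact le_rfl)
      have hl : l ≫ V.ι ≫ YW.ι = (i ⁻¹ᵁ V₀).ι := IsOpenImmersion.lift_fac _ _ _
      have hA : IsPullback ((q ⁻¹ᵁ V).ι ≫ j') qV u.left (V.ι ≫ j) :=
        (isPullback_morphismRestrict q V).flip.paste_horiz (IsPullback.of_hasPullback u.left j)
      have hB : IsPullback (pullback.fst (u.left ∣_ V₀) iV ≫ (u.left ⁻¹ᵁ V₀).ι) qW u.left ((i ⁻¹ᵁ V₀).ι ≫ i) := by
        have := (IsPullback.of_hasPullback (u.left ∣_ V₀) iV).paste_horiz (isPullback_morphismRestrict u.left V₀).flip
        rwa [morphismRestrict_ι] at this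
      have e : (i ⁻¹ᵁ V₀).ι ≫ i = l ≫ V.ι ≫ j := by
        rw [← hl]; simp [j]
      rw [e] at hB
      refine MorphismProperty.of_isPullback (P := @UniversallyClosed)
        (f' := hA.lift (pullback.fst (u.left ∣_ V₀) iV ≫ (u.left ⁻¹ᵁ V₀).ι) (qW ≫ l) (by simpa [Category.assoc] using hB.w))
        (IsPullback.of_right ?_ (hA.lift_snd _ _ _) hA) hqV
      rw [hA.lift_fst]
      exact hB
    have hcomp : UniversallyClosed (pullback.fst (u.left ∣_ V₀) iV ≫ u.left ∣_ V₀) := by
      rw [pullback.condition]
      infer_instance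
    exact UniversallyClosed.of_comp_surjective (pullback.fst (u.left ∣_ V₀) iV) (u.left ∣_ V₀)
  -- spreading by translations
  let aH := HomImage.homAction u
  let aG := HomImage.homAction (𝟙 G)
  have heq : (G ◁ u) ≫ aH.act = aG.act ≫ u := by
    simp only [aH, aG, HomImage.homAction, MonObj.mul_eq_mul, MonObj.comp_mul, MonObj.mul_comp, Category.assoc,
      whiskerLeft_fst_assoc, whiskerLeft_snd, whiskerRight_fst, whiskerRight_snd, whiskerRight_fst_assoc,
      whiskerRight_snd_assoc, Category.id_comp, whiskerLeft_fst, Category.comp_id]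
  have := descendsAlong_uc.{u}
  obtain ⟨V₁, hV₁, hmax, hstab⟩ := StableLocus.exists_stable aG aH u heq (@UniversallyClosed : MorphismProperty Scheme.{u})
  -- outside the image there is nothing to check
  let O : H.left.Opens := ⟨(Set.range u.left)ᶜ, hclosed.isOpen_compl⟩
  have hO : UniversallyClosed (u.left ∣_ O) := by
    have : IsEmpty ↥(u.left ⁻¹ᵁ O : Scheme.{u}) := ⟨fun x => x.2 ⟨_, rfl⟩⟩
    infer_instance
  obtain ⟨v, hv⟩ := hVne
  have hjv : j v ∈ V₀ := by
    show YW.ι v ∈ i ⁻¹' V'
    rw [hV']
    exact ⟨v, hv, rfl⟩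
  have hall : ∀ y, y ∈ V₁ := by
    intro y
    by_cases hy : y ∈ Set.range u.left
    · obtain ⟨h, rfl⟩ := hy
      obtain ⟨g', hg'⟩ : j v ∈ Set.range u.left := by rw [← hirange]; exact ⟨_, rfl⟩
      obtain ⟨z, hz1, hz2⟩ := Scheme.exists_preimage_of_isPullback (Torsor.isPullback_fst G G) h g'
        (Subsingleton.elim (α := PrimeSpectrum k) _ _)
      let w : G ⊗ G ⟶ G ⊗ H := lift (fst G G * (snd G G)⁻¹) (snd G G ≫ u)
      have h1 : (snd G H).left (w.left z) ∈ V₁ := by
        rw [← GrpTop.left_comp_apply, lift_snd, GrpTop.left_comp_apply, hz2, hg']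
        exact hmax V₀ hV₀ hjv
      have h2 : aH.act.left (w.left z) ∈ V₁ := hstab h1
      have h3 : w ≫ aH.act = fst G G ≫ u := by
        show w ≫ ((u ▷ H) ≫ μ[H]) = _
        rw [MonObj.mul_eq_mul, MonObj.comp_mul, MonObj.comp_mul, whiskerRight_fst, whiskerRight_snd, lift_snd,
          lift_fst_assoc, MonObj.mul_comp, GrpObj.inv_comp, inv_mul_cancel_right]
      rw [← GrpTop.left_comp_apply, h3, GrpTop.left_comp_apply, hz1] at h2
      exact h2
    · exact hmax O hO hy
  have htop : V₁ = ⊤ := top_unique fun y _ => hall y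
  subst htop
  exact IsZariskiLocalAtTarget.of_iSup_eq_top (P := @UniversallyClosed)
    (fun _ : Unit => (⊤ : H.left.Opens)) (by simp) (fun _ => hV₁)

end field

section artinian

variable {A : Type u} [CommRing A] [IsArtinianRing A] [IsLocalRing A]
  {G H : Over (Spec (CommRingCat.of A))} [GrpObj G] [GrpObj H]

/-- the closed point -/
abbrev cl : Spec (CommRingCat.of (IsLocalRing.ResidueField A)) ⟶ Spec (CommRingCat.of A) :=
  Spec.map (CommRingCat.ofHom (IsLocalRing.residue A))

theorem surjective_cl : Surjective (cl (A := A)) :=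
  ⟨fun x => ⟨IsLocalRing.closedPoint (IsLocalRing.ResidueField A), Subsingleton.elim (α := PrimeSpectrum A) _ _⟩⟩

theorem isClosedImmersion_cl : IsClosedImmersion (cl (A := A)) :=
  IsClosedImmersion.spec_of_surjective _ IsLocalRing.residue_surjective

theorem exists_square {X Y : Over (Spec (CommRingCat.of A))} (f : X ⟶ Y) :
    IsPullback (pullback.fst X.hom cl) ((Over.pullback cl).map f).left f.left (pullback.fst Y.hom cl) := by
  refine IsPullback.of_bot ?_ ?_ (IsPullback.of_hasPullback _ _)
  · have e1 : ((Over.pullback cl).map f).left ≫ pullback.snd Y.hom cl = pullback.snd X.hom cl := Over.w _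
    rw [e1, Over.w f]
    exact IsPullback.of_hasPullback _ _
  · exact (pullback.lift_fst _ _ _).symm

theorem isSeparated (G : Over (Spec (CommRingCat.of A))) [GrpObj G] : IsSeparated G.hom := by
  have := surjective_cl (A := A)
  have := isClosedImmersion_cl (A := A)
  let G₀ : Over (Spec (CommRingCat.of (IsLocalRing.ResidueField A))) := Red.bc cl G
  letI : GrpObj G₀ := inferInstanceAs (GrpObj (Red.bc cl G))
  let p := pullback.snd G.hom cl
  have hs : IsSeparated p := Torsor.isSeparated G₀
  refine ⟨IsClosedImmersion.of_isPreimmersion _ ?_⟩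
  let j := pullback.fst G.hom cl
  let δ := pullback.diagonal G.hom
  let δ₀ := pullback.diagonal p
  let d := pullback.fst G.hom G.hom ≫ G.hom
  let jd := pullback.fst d cl
  let l : pullback G.hom cl ⟶ pullback d cl := pullback.lift (j ≫ δ) p (by
    simp [δ, d, j, p, pullback.condition])
  let m : pullback d cl ⟶ pullback p p :=
    pullback.lift (pullback.lift (jd ≫ pullback.fst G.hom G.hom) (pullback.snd d cl) (by
        rw [Category.assoc]; exact pullback.condition))
      (pullback.lift (jd ≫ pullback.snd G.hom G.hom) (pullback.snd d cl) (by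
        rw [Category.assoc, ← pullback.condition]; exact pullback.condition))
      ((pullback.lift_snd _ _ _).trans (pullback.lift_snd _ _ _).symm)
  have : IsClosedImmersion jd := MorphismProperty.pullback_fst (P := @IsClosedImmersion) _ _ ‹_›
  let jj : pullback p p ⟶ pullback G.hom G.hom :=
    pullback.map _ _ _ _ j j cl pullback.condition.symm pullback.condition.symm
  have hm : m ≫ jj = jd := by
    apply pullback.hom_ext <;>
    · simp only [m, jj, j, pullback.map, Category.assoc, pullback.lift_fst, pullback.lift_snd]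
      repeat (first | erw [pullback.lift_fst_assoc] | erw [pullback.lift_snd_assoc] | erw [pullback.lift_fst] | erw [pullback.lift_snd])
  have : Mono (m ≫ jj) := hm ▸ inferInstance
  have : Mono m := mono_of_mono m jj
  have hlm : l ≫ m = δ₀ := by
    apply pullback.hom_ext <;> apply pullback.hom_ext <;>
    · simp only [l, m, jd, δ₀, δ, j, Category.assoc, pullback.lift_fst, pullback.lift_snd]
      repeat (first | erw [pullback.lift_fst_assoc] | erw [pullback.lift_snd_assoc] | erw [pullback.lift_fst] | erw [pullback.lift_snd] | rw [Category.assoc])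
      all_goals simp [p]
  have : IsClosedImmersion δ₀ := inferInstance
  have : IsClosedImmersion (l ≫ m) := hlm ▸ inferInstance
  have : IsClosedImmersion l := IsClosedImmersion.of_comp l m
  have : Surjective j := MorphismProperty.pullback_fst (P := @Surjective) _ _ ‹_›
  have : UniversallyClosed (j ≫ δ) := by
    rw [← (pullback.lift_fst _ _ _ : l ≫ jd = j ≫ δ)]
    infer_instance
  have : UniversallyClosed δ := UniversallyClosed.of_comp_surjective j δ
  exact δ.isClosedMap.isClosed_range

/-- the reduction of a homomorphism to the residue field -/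
abbrev red (u : G ⟶ H) : Red.bc (cl (A := A)) G ⟶ Red.bc (cl (A := A)) H := (Over.pullback cl).map u

theorem isMonHom_red (u : G ⟶ H) [IsMonHom u] : IsMonHom (red u) :=
  inferInstanceAs (IsMonHom ((Over.pullback cl).map u))

/-- the kernel as an object over the base -/
abbrev ker (u : G ⟶ H) : Over (Spec (CommRingCat.of A)) :=
  Over.mk (pullback.snd u.left (η[H] : 𝟙_ (Over (Spec (CommRingCat.of A))) ⟶ H).left)

/-- the inclusion of the kernel -/
def kerι (u : G ⟶ H) : ker u ⟶ G :=
  Over.homMk (pullback.fst u.left (η[H] : 𝟙_ (Over (Spec (CommRingCat.of A))) ⟶ H).left) (by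
    rw [← Over.w u, pullback.condition_assoc]
    erw [Over.w η[H]]
    exact Category.comp_id _)

omit [IsArtinianRing A] [IsLocalRing A] [GrpObj G] in
theorem isKernel (u : G ⟶ H) : AlgGrp.IsKernel (kerι u) u := by
  refine IsPullback.of_map (Over.forget _) ?_ ?_
  · apply Over.OverMorphism.ext
    have e : (toUnit (ker u)).left = pullback.snd u.left (η[H] : 𝟙_ (Over (Spec (CommRingCat.of A))) ⟶ H).left := by
      simp
    simp only [kerι, Over.comp_left, Over.homMk_left, e]
    exact pullback.condition
  · exact IsPullback.of_hasPullback u.left (η[H] : 𝟙_ (Over (Spec (CommRingCat.of A))) ⟶ H).left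

theorem universallyClosed_of_ker [LocallyOfFiniteType G.hom] [LocallyOfFiniteType H.hom]
    (u : G ⟶ H) [IsMonHom u] [QuasiCompact u.left]
    (hK : UniversallyClosed (ker u).hom) : UniversallyClosed u.left := by
  have := surjective_cl (A := A)
  have hfst : UniversallyClosed (fst G (ker u)).left :=
    MorphismProperty.of_isPullback (P := @UniversallyClosed) (Torsor.isPullback_fst G (ker u)).flip hK
  have hT := Torsor.isPullback_self (kerι u) u (isKernel u)
  have hfst' : UniversallyClosed (pullback.fst u.left u.left) := by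
    rw [← hT.isoPullback_inv_fst]
    infer_instance
  have hsnd : UniversallyClosed (pullback.snd u.left u.left) := by
    rw [← pullbackSymmetry_hom_comp_fst]
    infer_instance
  let u₀ := red u
  have := isMonHom_red u
  have sq := exists_square u
  have : QuasiCompact u₀.left := MorphismProperty.of_isPullback (P := @QuasiCompact) sq ‹_›
  have : LocallyOfFiniteType (Red.bc (cl (A := A)) G).hom :=
    MorphismProperty.pullback_snd (P := @LocallyOfFiniteType) _ _ ‹_›
  have : LocallyOfFiniteType (Red.bc (cl (A := A)) H).hom :=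
    MorphismProperty.pullback_snd (P := @LocallyOfFiniteType) _ _ ‹_›
  have hsq : IsPullback (pullback.fst u₀.left u₀.left ≫ pullback.fst G.hom cl) (pullback.snd u₀.left u₀.left)
      u.left (u₀.left ≫ pullback.fst H.hom cl) :=
    (IsPullback.of_hasPullback u₀.left u₀.left).paste_horiz sq
  rw [← sq.w] at hsq
  have hsq2 : IsPullback
      (pullback.lift (pullback.fst u₀.left u₀.left ≫ pullback.fst G.hom cl)
        (pullback.snd u₀.left u₀.left ≫ pullback.fst G.hom cl) (by simpa [Category.assoc] using hsq.w))
      (pullback.snd u₀.left u₀.left) (pullback.snd u.left u.left) (pullback.fst G.hom cl) := by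
    refine IsPullback.of_right ?_ (pullback.lift_snd _ _ _) (IsPullback.of_hasPullback u.left u.left)
    rw [pullback.lift_fst]
    exact hsq
  have h0 : UniversallyClosed u₀.left :=
    universallyClosed_of_self u₀ (MorphismProperty.of_isPullback (P := @UniversallyClosed) hsq2 hsnd)
  have : Surjective (pullback.fst G.hom cl) := MorphismProperty.pullback_fst (P := @Surjective) _ _ ‹_›
  have := isClosedImmersion_cl (A := A)
  have : UniversallyClosed (pullback.fst G.hom cl ≫ u.left) := by
    rw [sq.w]
    infer_instance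
  exact UniversallyClosed.of_comp_surjective (pullback.fst G.hom cl) u.left

theorem isSeparated_hom_left (u : G ⟶ H) : IsSeparated u.left := by
  have : IsSeparated (u.left ≫ H.hom) := by rw [Over.w u]; exact isSeparated G
  exact IsSeparated.of_comp u.left H.hom

theorem locallyOfFiniteType_left [LocallyOfFiniteType G.hom] (u : G ⟶ H) : LocallyOfFiniteType u.left := by
  have : LocallyOfFiniteType (u.left ≫ H.hom) := by rw [Over.w u]; infer_instance
  exact locallyOfFiniteType_of_comp u.left H.hom

theorem isProper_iff [LocallyOfFiniteType G.hom] [LocallyOfFiniteType H.hom]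
    (u : G ⟶ H) [IsMonHom u] [QuasiCompact u.left] : IsProper u.left ↔ IsProper (ker u).hom := by
  refine ⟨fun h => MorphismProperty.pullback_snd (P := @IsProper) _ _ h, fun h => ?_⟩
  have := isSeparated_hom_left u
  have := locallyOfFiniteType_left u
  have := universallyClosed_of_ker u inferInstance
  exact ⟨⟩

theorem isClosedImmersion_of_mono [LocallyOfFiniteType G.hom] [LocallyOfFiniteType H.hom]
    (u : G ⟶ H) [IsMonHom u] [Mono u] [QuasiCompact u.left] : IsClosedImmersion u.left := by
  have : Mono u.left := (Over.forget _).map_mono u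
  have hw : η[G].left ≫ u.left = 𝟙 _ ≫ (η[H] : 𝟙_ (Over (Spec (CommRingCat.of A))) ⟶ H).left := by
    rw [← Over.comp_left, IsMonHom.one_hom, Category.id_comp]
  have : IsIso (ker u).hom := by
    show IsIso (pullback.snd u.left (η[H] : 𝟙_ (Over (Spec (CommRingCat.of A))) ⟶ H).left)
    refine ⟨pullback.lift η[G].left (𝟙 _) hw, ?_, pullback.lift_snd _ _ _⟩
    rw [← cancel_mono (pullback.snd u.left (η[H] : 𝟙_ (Over (Spec (CommRingCat.of A))) ⟶ H).left),
      Category.assoc, pullback.lift_snd, Category.id_comp]
    exact Category.comp_id _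
  exact (IsClosedImmersion.iff_isProper_and_mono _).2 ⟨(isProper_iff u).2 inferInstance, inferInstance⟩

theorem isFinite_iff [LocallyOfFiniteType G.hom] [LocallyOfFiniteType H.hom]
    (u : G ⟶ H) [IsMonHom u] [QuasiCompact u.left] :
    IsFinite u.left ↔ DiscreteTopology ↥(pullback u.left (η[H] : 𝟙_ (Over (Spec (CommRingCat.of A))) ⟶ H).left) := by
  let e := (η[H] : 𝟙_ (Over (Spec (CommRingCat.of A))) ⟶ H).left
  have : IsLocallyArtinian (𝟙_ (Over (Spec (CommRingCat.of A)))).left :=
    inferInstanceAs (IsLocallyArtinian (Spec (CommRingCat.of A)))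
  have : CompactSpace ↥(𝟙_ (Over (Spec (CommRingCat.of A)))).left :=
    inferInstanceAs (CompactSpace ↥(Spec (CommRingCat.of A)))
  constructor
  · intro h
    have : IsFinite (pullback.snd u.left e) := MorphismProperty.pullback_snd (P := @IsFinite) _ _ h
    have : IsLocallyArtinian (pullback u.left e) := .of_locallyQuasiFinite (pullback.snd u.left e)
    infer_instance
  · intro hd
    have := isSeparated_hom_left u
    have := locallyOfFiniteType_left u
    have : QuasiCompact (pullback.snd u.left e) := MorphismProperty.pullback_snd (P := @QuasiCompact) _ _ ‹_›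
    have : LocallyOfFiniteType (pullback.snd u.left e) := MorphismProperty.pullback_snd (P := @LocallyOfFiniteType) _ _ ‹_›
    have : CompactSpace ↥(pullback u.left e) := QuasiCompact.compactSpace_of_compactSpace (pullback.snd u.left e)
    have : Finite ↥(pullback u.left e) := finite_of_compact_of_discrete
    have : LocallyQuasiFinite (pullback.snd u.left e) :=
      LocallyQuasiFinite.of_finite_preimage_singleton _ fun _ => Set.toFinite _
    have hKf : IsFinite (ker u).hom := IsFinite.of_locallyQuasiFinite (pullback.snd u.left e)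
    have : IsProper u.left := (isProper_iff u).2 inferInstance
    have hfst : IsFinite (fst G (ker u)).left :=
      MorphismProperty.of_isPullback (P := @IsFinite) (Torsor.isPullback_fst G (ker u)).flip hKf
    have hT := Torsor.isPullback_self (kerι u) u (isKernel u)
    have : LocallyQuasiFinite u.left := by
      refine LocallyQuasiFinite.of_finite_preimage_singleton _ fun h => ?_
      by_cases hh : h ∈ Set.range u.left
      · obtain ⟨g₀, rfl⟩ := hh
        refine (((fst G (ker u)).left.finite_preimage_singleton g₀).image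
          ((fst G (ker u)) * (snd G (ker u) ≫ kerι u)).left).subset fun g hg => ?_
        obtain ⟨z, hz1, hz2⟩ := Scheme.exists_preimage_of_isPullback hT g₀ g (Eq.symm hg)
        exact ⟨z, hz1, hz2⟩
      · exact Set.Finite.subset Set.finite_empty fun g hg => hh ⟨g, hg⟩
    exact IsFinite.of_isProper_of_locallyQuasiFinite u.left

theorem isClosedImmersion_of_isImmersion (u : G ⟶ H) [IsMonHom u] [IsImmersion u.left] :
    IsClosedImmersion u.left := by
  have := surjective_cl (A := A)
  have := isClosedImmersion_cl (A := A)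
  have := isMonHom_red u
  have sq := exists_square u
  have : IsImmersion (red u).left := MorphismProperty.of_isPullback (P := @IsImmersion) sq ‹_›
  have h0 : IsClosedImmersion (red u).left := GrpTop.isClosedImmersion_of_isImmersion (red u)
  have : Surjective (pullback.fst G.hom cl) := MorphismProperty.pullback_fst (P := @Surjective) _ _ ‹_›
  refine IsClosedImmersion.of_isPreimmersion _ ?_
  have e : Set.range u.left = pullback.fst H.hom cl '' Set.range (red u).left := by
    rw [← Set.range_comp, ← TopCat.coe_comp, ← Scheme.Hom.comp_base, ← sq.w, Scheme.Hom.comp_base,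
      TopCat.coe_comp, Set.range_comp, (pullback.fst G.hom cl).surjective.range_eq, Set.image_univ]
  rw [e]
  exact (pullback.fst H.hom cl).isClosedMap _ (red u).left.isClosedMap.isClosed_range

end artinian

end Groth.Agent.HopfRep.KerProper

end
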