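import Groth.Agent.HopfRep.GroupLike
import Mathlib.RingTheory.Valuation.LocalSubring
import Mathlib.RingTheory.Jacobson.Artinian
import Mathlib.RingTheory.FiniteType
import Mathlib.FieldTheory.IsAlgClosed.AlgebraicClosure
import Mathlib.RingTheory.Finiteness.Nakayama
import Mathlib.RingTheory.Localization.AtPrime.Basic

/-!
A closed subgroup of a diagonalisable group `D(M)` over `K` which is trivial modulo a prime `p` is trivial on a
neighbourhood of `p`: the augmentation ideal is killed by some `f ≡ 1`, so geometric points over generisations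
of `p` form finite groups, hence are integral and specialise to the trivial point.
-/

universe u

noncomputable section

namespace Groth.Agent.HopfRep.KernelTrivial

open GroupLike MonoidAlgebra

variable {K : Type u} [CommRing K] {M : Type} [CommGroup M] (I : Ideal (MonoidAlgebra K M))

/-- a character is a point of the closed subscheme cut out by `I` -/
def IsPt {L : Type u} [CommRing L] [Algebra K L] (χ : M →* L) : Prop := ∀ z ∈ I, ev χ z = 0

theorem ev_map {L L' : Type u} [CommRing L] [Algebra K L] [CommRing L'] [Algebra K L'] (φ : L →ₐ[K] L')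
    (χ : M →* L) (z : MonoidAlgebra K M) : ev ((φ : L →* L').comp χ) z = φ (ev χ z) :=
  AlgHom.congr_fun (show ev ((φ : L →* L').comp χ) = φ.comp (ev χ) from
    MonoidAlgebra.algHom_ext (fun m => by simp [ev]) (Subsingleton.elim _ _)) z

theorem isPt_of {L : Type u} [CommRing L] [Algebra K L] (φ : MonoidAlgebra K M →ₐ[K] L) (hφ : ∀ z ∈ I, φ z = 0) :
    IsPt I ((φ : MonoidAlgebra K M →* L).comp (MonoidAlgebra.of K M)) := fun z hz => by
  have : ev ((φ : MonoidAlgebra K M →* L).comp (MonoidAlgebra.of K M)) = φ :=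
    (MonoidAlgebra.lift K L M).apply_symm_apply φ
  rw [this, hφ z hz]

theorem isNilpotent_of_forall_field {Al : Type u} [CommRing Al] [Algebra K Al] (x : Al)
    (h : ∀ (F : Type u) [Field F] [IsAlgClosed F] [Algebra K F] (g : Al →ₐ[K] F), g x = 0) : IsNilpotent x := by
  rw [nilpotent_iff_mem_prime]
  intro Q hQ
  let D := FractionRing (Al ⧸ Q)
  have h1 := h (AlgebraicClosure D) ((IsScalarTower.toAlgHom K D (AlgebraicClosure D)).comp
    ((IsScalarTower.toAlgHom K (Al ⧸ Q) D).comp (Ideal.Quotient.mkₐ K Q)))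
  rw [← Ideal.Quotient.eq_zero_iff_mem]
  exact (map_eq_zero_iff (algebraMap (Al ⧸ Q) D) (IsFractionRing.injective _ _)).1
    ((map_eq_zero (algebraMap D (AlgebraicClosure D))).1 h1)

/-- the inverse character -/
abbrev invChar {L : Type u} [CommRing L] (χ : M →* L) : M →* L := χ.comp (invMonoidHom (α := M))

theorem mul_invChar {L : Type u} [CommRing L] (χ : M →* L) : χ * invChar χ = 1 :=
  MonoidHom.ext fun m => by
    show χ m * χ m⁻¹ = 1
    rw [← map_mul, mul_inv_cancel, map_one]

/-- If some element equal to one at the unit kills the augmentation ideal, geometric point groups are finite. -/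
theorem finite_pts {L : Type u} [Field L] [IsAlgClosed L] [Algebra K L] [Monoid.FG M]
    (hmul : ∀ χ χ' : M →* L, IsPt I χ → IsPt I χ' → IsPt I (χ * invChar χ'))
    (f : MonoidAlgebra K M) (hf : ∀ m : M, f * (MonoidAlgebra.single m 1 - 1) ∈ I)
    (hf1 : ev (1 : M →* L) f ≠ 0) : {χ : M →* L | IsPt I χ}.Finite := by
  classical
  have hone : ∀ ψ : M →* L, IsPt I ψ → ev ψ f ≠ 0 → ψ = 1 := fun ψ hψ h => MonoidHom.ext fun m => by
    have h1 := hψ _ (hf m)
    rw [map_mul, mul_eq_zero, map_sub, map_one, sub_eq_zero] at h1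
    simpa [ev] using h1.resolve_left h
  let τ : (M →* L) → (MonoidAlgebra K M →ₐ[K] MonoidAlgebra L M) := fun χ₀ =>
    ev { toFun := fun m => MonoidAlgebra.single m (χ₀ m⁻¹)
         map_one' := by simp [MonoidAlgebra.one_def]
         map_mul' := fun a b => by
           rw [MonoidAlgebra.single_mul_single, ← map_mul, ← mul_inv] }
  have hτ : ∀ (χ₀ ψ : M →* L) z, MonoidAlgebra.lift L L M ψ (τ χ₀ z) = ev (ψ * invChar χ₀) z := fun χ₀ ψ z => by
    induction z using MonoidAlgebra.induction_linear with
    | zero => simp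
    | add x y hx hy => simp [hx, hy]
    | single m c => simp [τ, ev, Algebra.smul_def, mul_comm, mul_left_comm]
  let ι : MonoidAlgebra K M →ₐ[K] MonoidAlgebra L M := ev (MonoidAlgebra.of L M)
  have hι : ∀ (ψ : M →* L) z, MonoidAlgebra.lift L L M ψ (ι z) = ev ψ z := fun ψ z => by
    induction z using MonoidAlgebra.induction_linear with
    | zero => simp
    | add x y hx hy => simp [hx, hy]
    | single m c => simp [ι, ev, Algebra.smul_def]
  let T : Set (MonoidAlgebra L M) := (fun χ₀ => τ χ₀ f) '' {χ | IsPt I χ}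
  have htop : Ideal.span (ι '' (I : Set (MonoidAlgebra K M)) ∪ T) = ⊤ := by
    by_contra hne
    obtain ⟨Q, hQ, hle⟩ := Ideal.exists_le_maximal _ hne
    letI : Field (MonoidAlgebra L M ⧸ Q) := Ideal.Quotient.field Q
    have : Algebra.FiniteType L (MonoidAlgebra L M ⧸ Q) :=
      Algebra.FiniteType.of_surjective (Ideal.Quotient.mkₐ L Q) Ideal.Quotient.mk_surjective
    have := finite_of_finite_type_of_isJacobsonRing L (MonoidAlgebra L M ⧸ Q)
    let e := AlgEquiv.ofBijective (Algebra.ofId L (MonoidAlgebra L M ⧸ Q))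
      IsAlgClosed.algebraMap_bijective_of_isIntegral
    let π : MonoidAlgebra L M →ₐ[L] L := (e.symm : _ →ₐ[L] L).comp (Ideal.Quotient.mkₐ L Q)
    let ψ : M →* L := (π : MonoidAlgebra L M →* L).comp (MonoidAlgebra.of L M)
    have hπ : ∀ z, MonoidAlgebra.lift L L M ψ z = π z := fun z =>
      AlgHom.congr_fun ((MonoidAlgebra.lift L L M).apply_symm_apply π) z
    have hker : ∀ z ∈ ι '' (I : Set (MonoidAlgebra K M)) ∪ T, π z = 0 := fun z hz => by
      show e.symm (Ideal.Quotient.mk Q z) = 0
      rw [Ideal.Quotient.eq_zero_iff_mem.2 (hle (Ideal.subset_span hz)), map_zero]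
    have hψ : IsPt I ψ := fun z hz => by rw [← hι, hπ]; exact hker _ (Or.inl ⟨z, hz, rfl⟩)
    have h0 : ev (ψ * invChar ψ) f = 0 := by rw [← hτ, hπ]; exact hker _ (Or.inr ⟨ψ, hψ, rfl⟩)
    rw [mul_invChar] at h0
    exact hf1 h0
  obtain ⟨s, hs, h1⟩ := Submodule.mem_span_finite_of_mem_span ((Ideal.eq_top_iff_one _).1 htop)
  let pre : MonoidAlgebra L M → (M →* L) := fun z =>
    if h : ∃ χ, IsPt I χ ∧ τ χ f = z then h.choose else 1
  refine (s.finite_toSet.image pre).subset fun χ hχ => ?_
  by_contra hc
  refine one_ne_zero (α := L) ?_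
  rw [← map_one (MonoidAlgebra.lift L L M χ)]
  refine Submodule.span_induction (p := fun z _ => MonoidAlgebra.lift L L M χ z = 0) ?_ (map_zero _)
    (fun x y _ _ hx hy => by rw [map_add, hx, hy, add_zero]) (fun a x _ hx => by rw [smul_eq_mul, map_mul, hx, mul_zero]) h1
  intro z hz
  rcases hs hz with ⟨w, hw, rfl⟩ | ⟨χ₀, hχ₀, rfl⟩
  · rw [hι]; exact hχ w hw
  · by_contra hne
    have hex : ∃ χ', IsPt I χ' ∧ τ χ' f = τ χ₀ f := ⟨χ₀, hχ₀, rfl⟩
    apply hc
    refine ⟨τ χ₀ f, hz, ?_⟩
    show pre (τ χ₀ f) = χ
    simp only [pre, dif_pos hex]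
    have h2 : χ * invChar hex.choose = 1 := by
      refine hone _ (hmul _ _ hχ hex.choose_spec.1) ?_
      rw [← hτ, hex.choose_spec.2]
      exact hne
    calc hex.choose = (χ * invChar hex.choose) * hex.choose := by rw [h2, one_mul]
      _ = χ * (hex.choose * invChar hex.choose) := by rw [mul_assoc, mul_comm (invChar _)]
      _ = χ := by rw [mul_invChar, mul_one]

/-- A closed subgroup of `D(M)` which is trivial modulo `p` is trivial near `p`. -/
theorem exists_trivial [Group.FG M]
    (hone : IsPt I (1 : M →* K))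
    (hmul : ∀ (L : Type u) [Field L] [Algebra K L] (χ χ' : M →* L), IsPt I χ → IsPt I χ' → IsPt I (χ * invChar χ'))
    (p : Ideal K) [p.IsPrime]
    (hp : ∀ (L : Type u) [CommRing L] [Algebra K L], p.map (algebraMap K L) = ⊥ → ∀ χ : M →* L, IsPt I χ → χ = 1) :
    ∃ r : K, r ∉ p ∧ ∀ (L : Type u) [CommRing L] [Algebra K L], IsUnit (algebraMap K L r) →
      ∀ χ : M →* L, IsPt I χ → χ = 1 := by
  classical
  let B := MonoidAlgebra K M
  let A := B ⧸ I
  let q : B →ₐ[K] A := Ideal.Quotient.mkₐ K I
  let ε : A →ₐ[K] K := Ideal.Quotient.liftₐ I (ev (1 : M →* K)) fun z hz => hone z hz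
  let ξ : M →* A := (q : B →* A).comp (MonoidAlgebra.of K M)
  have hεξ : ∀ m, ε (ξ m) = 1 := fun m => by
    show ev (1 : M →* K) (MonoidAlgebra.of K M m) = 1
    simp [ev]
  have hξ : IsPt I ξ := isPt_of I q fun z hz => Ideal.Quotient.eq_zero_iff_mem.2 hz
  obtain ⟨T, hT⟩ := Monoid.FG.fg_top (M := M)
  let a : Ideal A := Ideal.span ((fun m => ξ m - 1) '' (T : Set M))
  have hm : ∀ m, ξ m - 1 ∈ a := by
    have h1 : (Ideal.Quotient.mk a : A →* A ⧸ a).comp ξ = 1 := MonoidHom.eq_of_eqOn_denseM hT fun t ht => by
      show Ideal.Quotient.mk a (ξ t) = 1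
      rw [← map_one (Ideal.Quotient.mk a), Ideal.Quotient.eq]
      exact Ideal.subset_span ⟨t, ht, rfl⟩
    intro m
    rw [← Ideal.Quotient.eq, map_one]
    exact DFunLike.congr_fun h1 m
  have hε : ∀ x : A, x - algebraMap K A (ε x) ∈ a := fun x => by
    obtain ⟨z, rfl⟩ := Ideal.Quotient.mk_surjective x
    induction z using MonoidAlgebra.induction_linear with
    | zero => simp
    | add x y hx hy =>
      have := a.add_mem hx hy
      simpa [add_sub_add_comm] using this
    | single m c =>
      have h1 : (Ideal.Quotient.mk I (MonoidAlgebra.single m c) : A) = algebraMap K A c * ξ m := by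
        show q _ = _
        rw [show MonoidAlgebra.single m c = algebraMap K B c * MonoidAlgebra.of K M m by simp [B],
          map_mul, AlgHom.commutes]
        rfl
      rw [h1, map_mul, AlgHom.commutes, hεξ, mul_one, Algebra.algebraMap_self, RingHom.id_apply,
        show algebraMap K A c * ξ m - algebraMap K A c = algebraMap K A c * (ξ m - 1) from by ring]
      exact a.mul_mem_left _ (hm m)
  let P : Ideal A := p.map (algebraMap K A)
  have haP : a ≤ P := by
    rw [Ideal.span_le]
    rintro _ ⟨t, -, rfl⟩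
    have h1 : p.map (algebraMap K (A ⧸ P) : K →+* A ⧸ P) = ⊥ := by
      rw [eq_bot_iff, Ideal.map_le_iff_le_comap]
      exact fun x hx => Ideal.Quotient.eq_zero_iff_mem.2 (Ideal.mem_map_of_mem _ hx)
    have h2 := hp (A ⧸ P) h1 _ (isPt_of I ((Ideal.Quotient.mkₐ K P).comp q) fun z hz => by
      show Ideal.Quotient.mk P (q z) = 0
      rw [show q z = 0 from Ideal.Quotient.eq_zero_iff_mem.2 hz, map_zero])
    show ξ t - 1 ∈ P
    rw [← Ideal.Quotient.eq, map_one]
    exact DFunLike.congr_fun h2 t
  have hin : a ≤ P • a := by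
    intro z hz
    have h1 : z ∈ p • (⊤ : Submodule K A) := by
      rw [Ideal.smul_top_eq_map]; exact haP hz
    have h2 : ∀ x ∈ p • (⊤ : Submodule K A), x - algebraMap K A (ε x) ∈ P • a := fun x hx => by
      refine Submodule.smul_induction_on hx (fun r hr y _ => ?_) (fun x y hx hy => ?_)
      · rw [show r • y - algebraMap K A (ε (r • y)) = algebraMap K A r * (y - algebraMap K A (ε y)) by
          rw [map_smul, smul_eq_mul (α := K), map_mul, Algebra.smul_def r y, mul_sub]]
        exact Submodule.smul_mem_smul (show algebraMap K A r ∈ P from Ideal.mem_map_of_mem (algebraMap K A) hr) (hε y)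
      · have := Submodule.add_mem _ hx hy
        simpa [add_sub_add_comm] using this
    have h3 : ε z = 0 := by
      have : a ≤ RingHom.ker ε.toRingHom := by
        rw [Ideal.span_le]
        rintro _ ⟨t, -, rfl⟩
        show ε (ξ t - 1) = 0
        rw [map_sub, map_one, hεξ, sub_self]
      exact this hz
    have := h2 z h1
    rwa [h3, map_zero, sub_zero] at this
  obtain ⟨f₀, hf₀, hfa⟩ := Submodule.exists_sub_one_mem_and_smul_eq_zero_of_fg_of_le_smul P a
    ⟨T.image fun m => ξ m - 1, by rw [Finset.coe_image]⟩ hin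
  obtain ⟨f, rfl⟩ := Ideal.Quotient.mk_surjective f₀
  have hf : ∀ m : M, f * (MonoidAlgebra.single m 1 - 1) ∈ I := fun m => by
    rw [← Ideal.Quotient.eq_zero_iff_mem, map_mul, map_sub, map_one]
    exact hfa _ (hm m)
  have hεf : ev (1 : M →* K) f - 1 ∈ p := by
    have h1 : P ≤ p.comap ε.toRingHom := by
      rw [Ideal.map_le_iff_le_comap]
      intro x hx
      show ε (algebraMap K A x) ∈ p
      rwa [AlgHom.commutes]
    have h2 : ε (Ideal.Quotient.mk I f - 1) ∈ p := h1 hf₀
    rw [map_sub, map_one] at h2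
    exact h2
  -- geometric points over generisations are trivial
  have key : ∀ (L : Type u) [Field L] [IsAlgClosed L] [Algebra K L], RingHom.ker (algebraMap K L) ≤ p →
      ∀ χ : M →* L, IsPt I χ → χ = 1 := by
    intro L _ _ _ hker χ hχ
    have hnp : ev (1 : M →* K) f ∉ p := fun h => by
      have h1 := p.sub_mem h hεf
      rw [sub_sub_cancel] at h1
      exact (Ideal.ne_top_iff_one p).1 (Ideal.IsPrime.ne_top ‹_›) h1
    have hnat : ∀ {L' : Type u} [CommRing L'] [Algebra K L'],
        ev (1 : M →* L') f = algebraMap K L' (ev (1 : M →* K) f) := fun {L'} _ _ => by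
      rw [show (1 : M →* L') = (Algebra.ofId K L' : K →* L').comp 1 by ext; simp, ev_map]
      rfl
    have hf1 : ev (1 : M →* L) f ≠ 0 := by
      rw [hnat]
      exact fun h => hnp (hker h)
    have hfin := finite_pts I (hmul L) f hf hf1
    have h1' : IsPt I (1 : M →* L) := fun z hz => by
      rw [show (1 : M →* L) = (Algebra.ofId K L : K →* L).comp 1 by ext; simp, ev_map, hone z hz, map_zero]
    have hinv : IsPt I (invChar χ) := by
      have := hmul L 1 χ h1' hχ
      rwa [one_mul] at this
    have hii : invChar (invChar χ) = χ := MonoidHom.ext fun m => by simp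
    have hpow : ∀ n : ℕ, IsPt I (χ ^ n) := fun n => by
      induction n with
      | zero => simpa using h1'
      | succ n ih =>
        have := hmul L _ _ ih hinv
        rwa [hii, ← pow_succ] at this
    -- torsion
    obtain ⟨n, hn, hχn⟩ : ∃ n, 0 < n ∧ χ ^ n = 1 := by
      obtain ⟨i, -, j, -, hij, he⟩ := Set.infinite_univ.exists_ne_map_eq_of_mapsTo
        (f := fun i : ℕ => χ ^ i) (fun i _ => hpow i) hfin
      wlog hlt : i < j generalizing i j
      · exact this j i hij.symm he.symm (lt_of_le_of_ne (not_lt.1 hlt) hij.symm)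
      refine ⟨j - i, by omega, ?_⟩
      have h2 : χ ^ j = χ ^ i * χ ^ (j - i) := by rw [← pow_add]; congr 1; omega
      change χ ^ i = χ ^ j at he
      rw [← he] at h2
      calc χ ^ (j - i) = (χ ^ i * invChar (χ ^ i)) * χ ^ (j - i) := by rw [mul_invChar, one_mul]
        _ = invChar (χ ^ i) * (χ ^ i * χ ^ (j - i)) := by rw [mul_comm (χ ^ i), mul_assoc]
        _ = 1 := by rw [← h2, mul_comm, mul_invChar]
    let f' : Localization.AtPrime p →+* L := IsLocalization.lift (M := p.primeCompl) (g := algebraMap K L)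
      fun y => isUnit_iff_ne_zero.2 fun h => y.2 (hker h)
    obtain ⟨V, hV, hloc⟩ := IsLocalRing.exists_factor_valuationRing f'
    have hKV : ∀ x : K, algebraMap K L x ∈ V := fun x => by
      have := hV (algebraMap K (Localization.AtPrime p) x)
      rwa [show f' (algebraMap K (Localization.AtPrime p) x) = algebraMap K L x from IsLocalization.lift_eq _ x] at this
    letI : Algebra K V := ((algebraMap K L).codRestrict V.toSubring hKV).toAlgebra
    let incl : V →ₐ[K] L := ⟨V.toSubring.subtype, fun x => rfl⟩
    have hmem : ∀ m, χ m ∈ V := fun m => by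
      rcases V.mem_or_inv_mem (χ m) with h | h
      · exact h
      have hx : χ m ^ n = 1 := DFunLike.congr_fun hχn m
      have : χ m = (χ m)⁻¹ ^ (n - 1) := by
        have hne : χ m ≠ 0 := fun h0 => by
          rw [h0, zero_pow hn.ne'] at hx; exact zero_ne_one hx
        rw [inv_pow]
        refine eq_inv_of_mul_eq_one_left ?_
        rw [← pow_succ', Nat.sub_add_cancel hn, hx]
      rw [this]
      exact pow_mem h _
    let χV : M →* V :=
      { toFun := fun m => ⟨χ m, hmem m⟩
        map_one' := Subtype.ext (map_one χ)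
        map_mul' := fun x y => Subtype.ext (map_mul χ x y) }
    have hevV : ∀ z, incl (ev χV z) = ev χ z := fun z => by
      rw [← ev_map]
      rfl
    have hχV : IsPt I χV := fun z hz => Subtype.coe_injective (by
      show incl (ev χV z) = 0
      rw [hevV, hχ z hz])
    let L' := IsLocalRing.ResidueField V
    let res : V →ₐ[K] L' := ⟨IsLocalRing.residue V, fun _ => rfl⟩
    have hpL : p.map (algebraMap K L') = ⊥ := by
      rw [eq_bot_iff, Ideal.map_le_iff_le_comap]
      intro x hx
      show IsLocalRing.residue V (algebraMap K V x) = 0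
      rw [IsLocalRing.residue_eq_zero_iff, IsLocalRing.mem_maximalIdeal]
      intro hu
      have hloc' := hloc
      have h2 : f'.codRestrict V.toSubring hV (algebraMap K _ x) = algebraMap K V x :=
        Subtype.ext (IsLocalization.lift_eq _ x)
      have h3 : IsUnit (algebraMap K (Localization.AtPrime p) x) := hloc'.map_nonunit _ (by rw [h2]; exact hu)
      exact ((IsLocalization.AtPrime.isUnit_to_map_iff (Localization.AtPrime p) p x).1 h3) hx
    have hres : (res : V →* L').comp χV = 1 :=
      hp L' hpL _ fun z hz => by rw [ev_map, hχV z hz, map_zero]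
    have hne : ev χ f ≠ 0 := fun h0 => hnp ?_
    swap
    · have h4 : ev χV f = 0 := Subtype.coe_injective (by
        show incl (ev χV f) = 0
        rw [hevV, h0])
      have h5 : algebraMap K L' (ev (1 : M →* K) f) = 0 := by
        rw [← hnat, ← hres, ev_map, h4, map_zero]
      by_contra h6
      have h7 : IsUnit (algebraMap K (Localization.AtPrime p) (ev (1 : M →* K) f)) :=
        (IsLocalization.AtPrime.isUnit_to_map_iff _ p _).2 h6
      have h8 : IsUnit (algebraMap K V (ev (1 : M →* K) f)) := by
        have := h7.map (f'.codRestrict V.toSubring hV)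
        rwa [show f'.codRestrict V.toSubring hV (algebraMap K _ (ev (1 : M →* K) f)) = algebraMap K V _ from
          Subtype.ext (IsLocalization.lift_eq _ _)] at this
      exact (h8.map res).ne_zero h5
    refine MonoidHom.ext fun m => ?_
    have h9 := hχ _ (hf m)
    rw [map_mul, mul_eq_zero, map_sub, map_one, sub_eq_zero] at h9
    simpa [ev] using h9.resolve_left hne
  -- conclusion
  let ξl : M →* (Localization (Algebra.algebraMapSubmonoid A p.primeCompl)) := (algebraMap A (Localization (Algebra.algebraMapSubmonoid A p.primeCompl)) : A →* (Localization (Algebra.algebraMapSubmonoid A p.primeCompl))).comp ξ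
  have hnil : ∀ x ∈ a, IsNilpotent (algebraMap A (Localization (Algebra.algebraMapSubmonoid A p.primeCompl)) x) := fun x hx =>
    isNilpotent_of_forall_field (K := K) (Al := Localization (Algebra.algebraMapSubmonoid A p.primeCompl)) _ fun F _ _ _ g₀ => by
    let g : A →ₐ[K] F := g₀.comp (IsScalarTower.toAlgHom K A (Localization (Algebra.algebraMapSubmonoid A p.primeCompl)))
    have hker : RingHom.ker (algebraMap K F) ≤ p := fun r hr => by
      by_contra hrp
      have h1 : IsUnit (algebraMap A (Localization (Algebra.algebraMapSubmonoid A p.primeCompl)) (algebraMap K A r)) :=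
        IsLocalization.map_units (M := Algebra.algebraMapSubmonoid A p.primeCompl) (Localization (Algebra.algebraMapSubmonoid A p.primeCompl))
          ⟨algebraMap K A r, r, hrp, rfl⟩
      have h2 : IsUnit (g (algebraMap K A r)) := h1.map g₀
      rw [AlgHom.commutes] at h2
      exact h2.ne_zero hr
    have h3 := key F hker _ (isPt_of I (g.comp q) fun z hz => by
      show g (q z) = 0
      rw [show q z = 0 from Ideal.Quotient.eq_zero_iff_mem.2 hz, map_zero])
    have : a ≤ RingHom.ker g.toRingHom := by
      rw [Ideal.span_le]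
      rintro _ ⟨t, -, rfl⟩
      show g (ξ t - 1) = 0
      rw [map_sub, map_one, sub_eq_zero]
      exact DFunLike.congr_fun h3 t
    exact this hx
  have hfu : IsUnit (algebraMap A (Localization (Algebra.algebraMapSubmonoid A p.primeCompl)) (Ideal.Quotient.mk I f)) := by
    have h1 : IsUnit (algebraMap A (Localization (Algebra.algebraMapSubmonoid A p.primeCompl)) (algebraMap K A (ev (1 : M →* K) f))) :=
      IsLocalization.map_units (M := Algebra.algebraMapSubmonoid A p.primeCompl) (Localization (Algebra.algebraMapSubmonoid A p.primeCompl))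
        ⟨_, ev (1 : M →* K) f, (fun h => by
          have h1 := p.sub_mem h hεf
          rw [sub_sub_cancel] at h1
          exact (Ideal.ne_top_iff_one p).1 (Ideal.IsPrime.ne_top ‹_›) h1), rfl⟩
    have h2 := (hnil _ (hε (Ideal.Quotient.mk I f))).isUnit_add_left_of_commute h1
      (mul_comm (G := Localization (Algebra.algebraMapSubmonoid A p.primeCompl)) _ _)
    rwa [← map_add, show algebraMap K A (ev (1 : M →* K) f) +
      (Ideal.Quotient.mk I f - algebraMap K A (ε (Ideal.Quotient.mk I f))) = Ideal.Quotient.mk I f from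
      add_sub_cancel _ _] at h2
  have hloc : ∀ t : M, ∃ r : K, r ∉ p ∧ algebraMap K A r * (ξ t - 1) = 0 := fun t => by
    have h1 : algebraMap A (Localization (Algebra.algebraMapSubmonoid A p.primeCompl)) (ξ t - 1) = 0 := by
      refine hfu.mul_right_eq_zero.1 ?_
      rw [← map_mul, show Ideal.Quotient.mk I f * (ξ t - 1) = 0 from hfa _ (hm t), map_zero]
    obtain ⟨⟨_, r, hr, rfl⟩, h2⟩ := (IsLocalization.map_eq_zero_iff (Algebra.algebraMapSubmonoid A p.primeCompl) (Localization (Algebra.algebraMapSubmonoid A p.primeCompl)) _).1 h1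
    exact ⟨r, hr, h2⟩
  choose r hr hra using hloc
  refine ⟨∏ t ∈ T, r t, fun h => ?_, fun L _ _ hu χ hχ => ?_⟩
  · obtain ⟨t, -, ht⟩ := (Ideal.IsPrime.prod_mem_iff).1 h
    exact hr t ht
  · refine MonoidHom.eq_of_eqOn_denseM hT fun t ht => ?_
    let g : A →ₐ[K] L := Ideal.Quotient.liftₐ I (ev χ) fun z hz => hχ z hz
    have h1 := congrArg g (hra t)
    rw [map_mul, map_zero, AlgHom.commutes, map_sub, map_one] at h1
    have h2 : IsUnit (algebraMap K L (r t)) := by
      rw [map_prod] at hu
      exact ((IsUnit.mul_iff (y := ∏ x ∈ T.erase t, algebraMap K L (r x))).1 (by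
        rwa [Finset.mul_prod_erase T (fun x => algebraMap K L (r x)) ht])).1
    have h3 := sub_eq_zero.1 (h2.mul_right_eq_zero.1 h1)
    show χ t = 1
    rw [← h3]
    show χ t = ev χ (MonoidAlgebra.of K M t)
    simp [ev]

end Groth.Agent.HopfRep.KernelTrivial

end
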