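import Groth.Agent.HopfRep.HomLocus
import Groth.Agent.HopfRep.KernelTrivialAlg
import Mathlib.AlgebraicGeometry.Morphisms.UniversallyOpen

/-!
A homomorphism from a group of multiplicative type and finite type to a separated group which has trivial kernel
on the fibre at `s` has trivial kernel over a neighbourhood of `s`.
-/

universe u

open CategoryTheory MonoidalCategory CartesianMonoidalCategory MonObj AlgebraicGeometry Limits

set_option linter.style.haveILetI false

noncomputable section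

namespace Groth.Agent.HopfRep.KernelTrivial

open DiagRigid GroupLike HomLocus

variable {S : Scheme.{u}} {H G : Over S} [GrpObj H] [GrpObj G] (u : H ⟶ G)

/-- `u` has trivial kernel on points over `τ` -/
def Tr {T : Scheme.{u}} (τ : T ⟶ S) : Prop :=
  ∀ (Y : Over S) (_ : Y ⟶ Over.mk τ) (h : Y ⟶ H), h ≫ u = 1 → h = 1

theorem Tr.comp {T T' : Scheme.{u}} {τ : T ⟶ S} (h : Tr u τ) (j : T' ⟶ T) {τ' : T' ⟶ S} (hj : j ≫ τ = τ') :
    Tr u τ' := fun Y q a => h Y (q ≫ (Over.homMk j hj : Over.mk τ' ⟶ Over.mk τ)) a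

theorem Tr.of_cover {T : Scheme.{u}} {τ : T ⟶ S} (h : ∀ x : T, ∃ O : T.Opens, x ∈ O ∧ Tr u (O.ι ≫ τ)) :
    Tr u τ := by
  intro Y q a ha
  ext1
  refine Scheme.hom_ext_of_forall _ _ fun y => ?_
  obtain ⟨O, hyO, hO⟩ := h (q.left y)
  refine ⟨q.left ⁻¹ᵁ O, hyO, ?_⟩
  let Y' : Over S := Over.mk ((q.left ⁻¹ᵁ O).ι ≫ Y.hom)
  let j : Y' ⟶ Y := Over.homMk (q.left ⁻¹ᵁ O).ι rfl
  let q' : Y' ⟶ Over.mk (O.ι ≫ τ) := Over.homMk (q.left ∣_ O) (by
    show (q.left ∣_ O) ≫ O.ι ≫ τ = _ ≫ Y.hom
    rw [← Category.assoc, morphismRestrict_ι, Category.assoc]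
    exact congrArg (_ ≫ ·) (Over.w q))
  have h1 := hO Y' q' (j ≫ a) (by rw [Category.assoc, ha, MonObj.comp_one])
  exact congrArg Over.Hom.left (h1.trans (MonObj.comp_one j).symm)

theorem Tr.of_flat_surjective {T T' : Scheme.{u}} {τ : T ⟶ S} (t : T' ⟶ T) [Flat t] [Surjective t]
    (h : Tr u (t ≫ τ)) : Tr u τ := by
  intro Y q a ha
  let p := pullback.fst q.left t
  have : Epi p := Flat.epi_of_flat_of_surjective p
  ext1
  rw [← cancel_epi p]
  let Y' : Over S := Over.mk (p ≫ Y.hom)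
  let j : Y' ⟶ Y := Over.homMk p rfl
  let q' : Y' ⟶ Over.mk (t ≫ τ) := Over.homMk (pullback.snd q.left t) (by
    show pullback.snd _ _ ≫ t ≫ τ = p ≫ Y.hom
    rw [← pullback.condition_assoc]
    exact congrArg (p ≫ ·) (Over.w q))
  have h1 := h Y' q' (j ≫ a) (by rw [Category.assoc, ha, MonObj.comp_one])
  exact congrArg Over.Hom.left (h1.trans (MonObj.comp_one j).symm)

theorem exists_ideal_of_closedImmersion {R : CommRingCat.{u}} {Z : Scheme.{u}} (z : Z ⟶ Spec R)
    [IsClosedImmersion z] : ∃ I : Ideal R, ∀ {L : CommRingCat.{u}} (φ : R ⟶ L),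
      I ≤ RingHom.ker φ.hom ↔ ∃ l, l ≫ z = Spec.map φ := by
  obtain ⟨I, e, he⟩ := IsClosedImmersion.Spec_iff.1 ‹IsClosedImmersion z›
  refine ⟨I, fun {L} φ => ⟨fun h => ?_, fun ⟨l, hl⟩ => ?_⟩⟩
  · refine ⟨Spec.map (CommRingCat.ofHom (Ideal.Quotient.lift I φ.hom h)) ≫ e.inv, ?_⟩
    rw [Category.assoc, he, Iso.inv_hom_id_assoc, ← Spec.map_comp]
    congr 1
  · rw [he, ← Category.assoc, ← Spec.map_preimage (l ≫ e.hom), ← Spec.map_comp] at hl
    intro r hr
    rw [RingHom.mem_ker, ← Spec.map_injective hl]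
    show (Spec.preimage (l ≫ e.hom)).hom (Ideal.Quotient.mk I r) = 0
    rw [Ideal.Quotient.eq_zero_iff_mem.2 hr, map_zero]

theorem exists_ker_ideal [IsSeparated G.hom] {K : Type u} [CommRing K] {s : Spec (CommRingCat.of K) ⟶ S}
    {B : Type u} [CommRing B] [Algebra K B] (a₀ : T s B ⟶ H) :
    ∃ I : Ideal B, ∀ (L : Type u) [CommRing L] [Algebra K L] (φ : B →ₐ[K] L),
      (∀ z ∈ I, φ z = 0) ↔ Tmap s φ ≫ a₀ ≫ u = 1 := by
  have hη : (η[G]).left ≫ G.hom = 𝟙 S := Over.w η[G]
  have : IsIso ((η[G]).left ≫ G.hom) := by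
    rw [hη]
    exact IsIso.id S
  have : IsClosedImmersion ((η[G]).left ≫ G.hom) := inferInstance
  have : IsClosedImmersion (η[G]).left := IsClosedImmersion.of_comp (η[G]).left G.hom
  obtain ⟨I, hI⟩ := exists_ideal_of_closedImmersion (R := CommRingCat.of B)
    (pullback.fst (a₀ ≫ u).left (η[G]).left)
  refine ⟨I, fun L _ _ φ => Iff.trans (hI (CommRingCat.ofHom φ.toRingHom)) ⟨fun ⟨l, hl⟩ => ?_, fun h => ?_⟩⟩
  · ext1
    let m := l ≫ pullback.snd (a₀ ≫ u).left (η[G]).left
    have h1 : (Tmap s φ ≫ a₀ ≫ u).left = m ≫ (η[G]).left := by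
      show Spec.map _ ≫ (a₀ ≫ u).left = _
      rw [← hl]
      simp only [m, Category.assoc, pullback.condition]
    have h2 : m = (T s L).hom := by
      rw [← Over.w (Tmap s φ ≫ a₀ ≫ u), h1, Category.assoc, hη]
      exact (Category.comp_id m).symm
    rw [h1, h2, Hom.one_def]
    rfl
  · refine ⟨pullback.lift (Spec.map (CommRingCat.ofHom φ.toRingHom)) (T s L).hom ?_, pullback.lift_fst _ _ _⟩
    have h2 := congrArg Over.Hom.left h
    rw [Hom.one_def] at h2
    exact h2

/-- Triviality of the kernel over a local ring spreads out. -/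
theorem exists_nhd_of_local [IsMonHom u] [IsSeparated G.hom] [IsAffineHom H.hom] [LocallyOfFiniteType H.hom]
    {K : Type u} [CommRing K] (s : Spec (CommRingCat.of K) ⟶ S) (p : Ideal K) [p.IsPrime]
    (h : Tr u (Spec.map (CommRingCat.ofHom (algebraMap K (Localization.AtPrime p))) ≫ s)) :
    ∃ r : K, r ∉ p ∧ Tr u (Spec.map (CommRingCat.ofHom (algebraMap K (Localization.Away r))) ≫ s) := by
  classical
  let X := pullback H.hom s
  have : IsAffine X := isAffine_of_isAffineHom (pullback.snd H.hom s)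
  let B : Type u := Γ(X, ⊤)
  let φB := Spec.preimage (X.isoSpec.inv ≫ pullback.snd H.hom s)
  letI : Algebra K B := φB.hom.toAlgebra
  have hφB : Spec.map φB = X.isoSpec.inv ≫ pullback.snd H.hom s := Spec.map_preimage _
  have hft : Algebra.FiniteType K B := by
    have h1 : LocallyOfFiniteType (Spec.map φB) := by
      rw [hφB]
      infer_instance
    exact (HasRingHomProperty.Spec_iff (P := @LocallyOfFiniteType)).1 h1
  let a₀ : T s B ⟶ H := Over.homMk (X.isoSpec.inv ≫ pullback.fst H.hom s) (by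
    show _ = Spec.map φB ≫ s
    rw [hφB, Category.assoc, Category.assoc, pullback.condition])
  have hinj : ∀ (L : Type u) [CommRing L] [Algebra K L] (φ φ' : B →ₐ[K] L),
      Tmap s φ ≫ a₀ = Tmap s φ' ≫ a₀ → φ = φ' := by
    intro L _ _ φ φ' e
    have h1 := congrArg Over.Hom.left e
    have h2 : ∀ ψ : B →ₐ[K] L, (Spec.map (CommRingCat.ofHom ψ.toRingHom) ≫ X.isoSpec.inv) ≫ pullback.snd H.hom s =
        Spec.map (CommRingCat.ofHom (algebraMap K L)) := fun ψ => by
      rw [Category.assoc, ← hφB, ← Spec.map_comp]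
      congr 1
      ext x
      exact ψ.commutes x
    have h3 : Spec.map (CommRingCat.ofHom φ.toRingHom) ≫ X.isoSpec.inv =
        Spec.map (CommRingCat.ofHom φ'.toRingHom) ≫ X.isoSpec.inv := by
      refine pullback.hom_ext ?_ (by rw [h2, h2])
      rw [Category.assoc, Category.assoc]
      exact h1
    exact AlgHom.ext fun x => RingHom.congr_fun (congrArg CommRingCat.Hom.hom (Spec.map_injective ((cancel_mono _).1 h3))) x
  have hlift : ∀ (L : Type u) [CommRing L] [Algebra K L] (a : T s L ⟶ H), ∃ φ : B →ₐ[K] L, Tmap s φ ≫ a₀ = a := by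
    intro L _ _ a
    let l : Spec (CommRingCat.of L) ⟶ X := pullback.lift a.left (Spec.map (CommRingCat.ofHom (algebraMap K L))) (Over.w a)
    let ψ := Spec.preimage (l ≫ X.isoSpec.hom)
    have hψ : φB ≫ ψ = CommRingCat.ofHom (algebraMap K L) := by
      apply Spec.map_injective
      rw [Spec.map_comp, Spec.map_preimage, hφB, Category.assoc, Iso.hom_inv_id_assoc, pullback.lift_snd]
    refine ⟨⟨ψ.hom, fun x => RingHom.congr_fun (congrArg CommRingCat.Hom.hom hψ) x⟩, ?_⟩
    ext1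
    show Spec.map ψ ≫ X.isoSpec.inv ≫ pullback.fst H.hom s = a.left
    rw [Spec.map_preimage, Category.assoc, Iso.hom_inv_id_assoc, pullback.lift_fst]
  obtain ⟨I, hI⟩ := exists_ker_ideal u a₀
  obtain ⟨ε, hε⟩ := hlift K 1
  have hε' : ∀ (L : Type u) [CommRing L] [Algebra K L],
      Tmap s ((Algebra.ofId K L).comp ε) ≫ a₀ = 1 := fun L _ _ => by
    rw [show Tmap s ((Algebra.ofId K L).comp ε) = Tmap s (Algebra.ofId K L) ≫ Tmap s ε from by
      ext1
      show Spec.map _ = Spec.map _ ≫ Spec.map _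
      rw [← Spec.map_comp]
      rfl, Category.assoc, hε, MonObj.comp_one]
  obtain ⟨gens, hgens⟩ := hft.out
  let A := B ⧸ I
  let Mq := Algebra.algebraMapSubmonoid A p.primeCompl
  let g : B →ₐ[K] Localization Mq := (IsScalarTower.toAlgHom K A (Localization Mq)).comp (Ideal.Quotient.mkₐ K I)
  have hg1 : g = (Algebra.ofId K (Localization Mq)).comp ε := by
    apply hinj
    rw [hε']
    let f' : Localization.AtPrime p →+* Localization Mq := IsLocalization.lift (M := p.primeCompl)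
      (g := algebraMap K (Localization Mq)) fun y => by
        rw [IsScalarTower.algebraMap_apply K A (Localization Mq)]
        exact IsLocalization.map_units (M := Mq) (Localization Mq) ⟨algebraMap K A y, y, y.2, rfl⟩
    refine h _ (Over.homMk (Spec.map (CommRingCat.ofHom f')) ?_) _ ?_
    · show Spec.map _ ≫ Spec.map _ ≫ s = Spec.map _ ≫ s
      rw [← Category.assoc, ← Spec.map_comp]
      congr 2
      ext x
      exact IsLocalization.lift_eq _ x
    · rw [Category.assoc]
      refine (hI _ g).1 fun z hz => ?_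
      show algebraMap A (Localization Mq) (Ideal.Quotient.mk I z) = 0
      rw [Ideal.Quotient.eq_zero_iff_mem.2 hz, map_zero]
  have hloc : ∀ b : B, ∃ r : K, r ∉ p ∧ algebraMap K B r * (b - algebraMap K B (ε b)) ∈ I := fun b => by
    have h1 : algebraMap A (Localization Mq) (Ideal.Quotient.mk I (b - algebraMap K B (ε b))) = 0 := by
      show g (b - algebraMap K B (ε b)) = 0
      rw [map_sub, AlgHom.commutes, sub_eq_zero]
      exact DFunLike.congr_fun hg1 b
    obtain ⟨⟨_, r, hr, rfl⟩, h2⟩ := (IsLocalization.map_eq_zero_iff Mq (Localization Mq) _).1 h1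
    refine ⟨r, hr, ?_⟩
    rw [← Ideal.Quotient.eq_zero_iff_mem, map_mul]
    exact h2
  choose r hr hrI using hloc
  refine ⟨∏ b ∈ gens, r b, fun hp => ?_, ?_⟩
  · obtain ⟨b, -, hb⟩ := (Ideal.IsPrime.prod_mem_iff).1 hp
    exact hr b hb
  intro Y q a ha
  let r₀ := ∏ b ∈ gens, r b
  ext1
  refine Y.left.affineOpenCover.openCover.hom_ext _ _ fun j => ?_
  let L : Type u := Y.left.affineOpenCover.X j
  let fj : Spec (CommRingCat.of L) ⟶ Y.left := Y.left.affineOpenCover.f j
  let χ := Spec.preimage (fj ≫ q.left)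
  letI : Algebra K L := (χ.hom.comp (algebraMap K (Localization.Away r₀))).toAlgebra
  let jY : T s L ⟶ Y := Over.homMk fj (by
    show _ = Spec.map (CommRingCat.ofHom (χ.hom.comp _)) ≫ s
    rw [CommRingCat.ofHom_comp, Spec.map_comp, show CommRingCat.ofHom χ.hom = χ from rfl, Spec.map_preimage]
    simp only [Category.assoc]
    exact congrArg (fj ≫ ·) (Over.w q).symm)
  obtain ⟨φ, hφ⟩ := hlift L (jY ≫ a)
  have hφI : ∀ z ∈ I, φ z = 0 := (hI L φ).2 (by
    rw [← Category.assoc, hφ, Category.assoc, ha, MonObj.comp_one])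
  have hu : IsUnit (algebraMap K L r₀) :=
    (IsLocalization.Away.algebraMap_isUnit (S := Localization.Away r₀) r₀).map χ.hom
  have hgen : φ = (Algebra.ofId K L).comp ε := by
    refine AlgHom.ext_of_adjoin_eq_top hgens fun b hb => ?_
    have h1 := hφI _ (hrI b)
    rw [map_mul, AlgHom.commutes, map_sub, AlgHom.commutes] at h1
    have h2 : IsUnit (algebraMap K L (r b)) := by
      rw [map_prod] at hu
      exact ((IsUnit.mul_iff (y := ∏ x ∈ gens.erase b, algebraMap K L (r x))).1 (by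
        rwa [Finset.mul_prod_erase gens (fun x => algebraMap K L (r x)) hb])).1
    exact sub_eq_zero.1 (h2.mul_right_eq_zero.1 h1)
  have h3 : jY ≫ a = 1 := by rw [← hφ, hgen, hε']
  exact congrArg Over.Hom.left (h3.trans (MonObj.comp_one jY).symm)

/-- On a trivialised piece, triviality at a point gives triviality nearby. -/
theorem exists_nhd_piece [IsMonHom u] [IsSeparated G.hom] [IsAffineHom H.hom] [LocallyOfFiniteType H.hom]
    {U : Scheme.{u}} {h : U ⟶ S} {M : Type} [AddCommGroup M] (hM : AddGroup.FG M)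
    (e : Grp.mk (Red.bc h H) ≅ Grp.mk (Red.DS U M)) {K : Type u} [CommRing K] (sU : Spec (CommRingCat.of K) ⟶ U)
    (q : Ideal K) [q.IsPrime]
    (hq : Tr u (Spec.map (CommRingCat.ofHom (algebraMap K q.ResidueField)) ≫ sU ≫ h)) :
    ∃ r : K, r ∉ q ∧ Tr u (Spec.map (CommRingCat.ofHom (algebraMap K (Localization.Away r))) ≫ sU ≫ h) := by
  refine exists_nhd_of_local u (sU ≫ h) q ?_
  let K₀ := Localization.AtPrime q
  let s₀ := Spec.map (CommRingCat.ofHom (algebraMap K K₀)) ≫ sU ≫ h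
  let P : CharPts s₀ M H := pts e (Spec.map (CommRingCat.ofHom (algebraMap K K₀)) ≫ sU) (Category.assoc _ _ _)
  obtain ⟨I, hI⟩ := exists_ker_ideal u (P.pt (MonoidAlgebra K₀ (Multiplicative M)) (MonoidAlgebra.of K₀ _))
  have hpt : ∀ (L : Type u) [CommRing L] [Algebra K₀ L] (χ : Multiplicative M →* L),
      IsPt I χ ↔ P.pt L χ ≫ u = 1 := fun L _ _ χ => by
    refine (hI L (ev χ)).trans ?_
    rw [← Category.assoc, P.pt_nat, CharHom.ev_comp_of]
  have hinv : ∀ (L : Type u) [CommRing L] [Algebra K₀ L] (χ : Multiplicative M →* L),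
      P.pt L χ ≫ u = 1 → P.pt L (invChar χ) ≫ u = 1 := fun L _ _ χ h1 => by
    have h2 := congrArg (· ≫ u) (P.pt_mul L χ (invChar χ))
    simp only [MonObj.mul_comp, h1, _root_.one_mul, mul_invChar, P.pt_one, MonObj.one_comp] at h2
    exact h2
  have : Group.FG (Multiplicative M) := AddGroup.fg_iff_mul_fg.1 hM
  obtain ⟨r, hr, hr1⟩ := exists_trivial I ((hpt K₀ 1).2 (by rw [P.pt_one, MonObj.one_comp]))
    (fun L _ _ χ χ' h1 h2 => (hpt L _).2 (by
      rw [← P.pt_mul, MonObj.mul_comp, (hpt L χ).1 h1, hinv L χ' ((hpt L χ').1 h2), _root_.one_mul]))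
    (IsLocalRing.maximalIdeal K₀) (fun L _ _ hL χ hχ => by
      let θ : q.ResidueField →+* L := Ideal.Quotient.lift _ (algebraMap K₀ L) fun x hx => by
        have := Ideal.mem_map_of_mem (algebraMap K₀ L) hx
        rwa [hL] at this
      have h1 : P.pt L χ = 1 := hq (T s₀ L) (Over.homMk (Spec.map (CommRingCat.ofHom θ)) (by
        show Spec.map _ ≫ Spec.map _ ≫ sU ≫ h = Spec.map _ ≫ s₀
        rw [← Category.assoc, ← Spec.map_comp]
        simp only [s₀, ← Category.assoc, ← Spec.map_comp]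
        rfl)) (P.pt L χ) ((hpt L χ).1 hχ)
      exact pts_inj e _ _ L (h1.trans (P.pt_one _ L).symm))
  have hru : IsUnit r := IsLocalRing.notMem_maximalIdeal.1 hr
  intro Y t a ha
  ext1
  refine Y.left.affineOpenCover.openCover.hom_ext _ _ fun j => ?_
  let L : Type u := Y.left.affineOpenCover.X j
  let fj : Spec (CommRingCat.of L) ⟶ Y.left := Y.left.affineOpenCover.f j
  let χ₀ := Spec.preimage (fj ≫ t.left)
  letI : Algebra K₀ L := χ₀.hom.toAlgebra
  let jY : T s₀ L ⟶ Y := Over.homMk fj (by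
    show _ = Spec.map χ₀ ≫ s₀
    rw [Spec.map_preimage, Category.assoc]
    exact congrArg (fj ≫ ·) (Over.w t).symm)
  obtain ⟨χ, hχ⟩ := P.pt_surjective L (jY ≫ a)
  have h1 := hr1 L (hru.map _) χ ((hpt L χ).2 (by rw [hχ, Category.assoc, ha, MonObj.comp_one]))
  rw [h1, P.pt_one] at hχ
  exact congrArg Over.Hom.left (hχ.symm.trans (MonObj.comp_one jY).symm)

/-- Trivial kernel on the fibre at `x` gives trivial kernel over a neighbourhood. -/
theorem exists_nhd [IsMonHom u] [IsSeparated G.hom] (hH : SGA3x.IsMultTypeFT H) (x : S)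
    (hx : Tr u (S.fromSpecResidueField x)) : ∃ U : S.Opens, x ∈ U ∧ Tr u U.ι := by
  classical
  have : IsAffineHom H.hom := by
    obtain ⟨S', f, h1, h2, h3, h4⟩ := hH
    exact FreeDiag.isAffineHom_of_multType
      ⟨S', f, h1, h2, h3, fun s' => let ⟨U, hU, M, hM, _, he⟩ := h4 s'; ⟨U, hU, M, hM, he⟩⟩
  have := EssFreeSGA.locallyOfFiniteType_of_multTypeFT hH
  obtain ⟨V, R', _, _, hff, hxV, hq⟩ := EssFreeSGA.exists_cover_of_multTypeFT hH x
  obtain ⟨v, rfl⟩ := V.2.range_fromSpec.ge hxV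
  let π := Spec.map (CommRingCat.ofHom (algebraMap Γ(S, V.1) R'))
  have hπ := (flat_and_surjective_SpecMap_iff (CommRingCat.ofHom (algebraMap Γ(S, V.1) R'))).2
    (RingHom.faithfullyFlat_algebraMap_iff.2 hff)
  have := hπ.1
  have := hπ.2
  have := V.2.isOpenImmersion_fromSpec
  let σ := V.2.fromSpec
  have hfield : ∀ (L : Type u) [Field L] (y : Spec (CommRingCat.of L) ⟶ S) (w : ↥(Spec (CommRingCat.of L))),
      Tr u y ↔ Tr u (S.fromSpecResidueField (y w)) := by
    intro L _ y w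
    obtain ⟨⟨x', ι₀⟩, hι⟩ := (S.SpecToEquivOfField L).symm.surjective y
    have hι' : Spec.map ι₀ ≫ S.fromSpecResidueField x' = y := hι
    subst hι'
    rw [show (Spec.map ι₀ ≫ S.fromSpecResidueField x') w = x' from by
      rw [Scheme.Hom.comp_apply]; exact Scheme.fromSpecResidueField_apply x' _]
    letI := ι₀.hom.toAlgebra
    have hflat := (flat_and_surjective_SpecMap_iff ι₀).2
      (RingHom.faithfullyFlat_algebraMap_iff.2 (inferInstance : Module.FaithfullyFlat (S.residueField x') L))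
    have := hflat.1
    have := hflat.2
    exact ⟨fun h => Tr.of_flat_surjective u (Spec.map ι₀) h, fun h => h.comp u (Spec.map ι₀) rfl⟩
  -- near a point over a point with trivial fibre
  have hnear : ∀ q' : ↥(Spec (CommRingCat.of R')), Tr u (S.fromSpecResidueField ((π ≫ σ) q')) →
      ∃ O : (Spec (CommRingCat.of R')).Opens, q' ∈ O ∧ Tr u (O.ι ≫ π ≫ σ) := by
    intro q' hq'
    obtain ⟨Ri, _, _, _, hoi, S', f, U, M, iM, a, ⟨Q, hQ⟩, hM, ⟨e⟩, ha⟩ := hq q'
    let Q' : PrimeSpectrum Ri := Q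
    let L := Q'.asIdeal.ResidueField
    have hQL : Spec.map (CommRingCat.ofHom (algebraMap Ri L)) (⊥ : PrimeSpectrum L) = Q' :=
      PrimeSpectrum.ext (Ideal.ker_algebraMap_residueField Q'.asIdeal)
    have h1 : Tr u (Spec.map (CommRingCat.ofHom (algebraMap Ri L)) ≫ a ≫ U.ι ≫ f) := by
      refine (hfield L _ (⊥ : PrimeSpectrum L)).2 ?_
      rw [ha]
      show Tr u (S.fromSpecResidueField ((Spec.map (CommRingCat.ofHom (algebraMap R' Ri)) ≫ π ≫ σ)
        (Spec.map (CommRingCat.ofHom (algebraMap Ri L)) (⊥ : PrimeSpectrum L))))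
      rw [hQL]
      rw [show (Spec.map (CommRingCat.ofHom (algebraMap R' Ri)) ≫ π ≫ σ) Q' = (π ≫ σ) q' from by
        rw [Scheme.Hom.comp_apply, ← hQ]]
      exact hq'
    obtain ⟨r, hr, hTr⟩ := exists_nhd_piece u hM e a Q'.asIdeal h1
    let ev' := Spec.map (CommRingCat.ofHom (algebraMap Ri (Localization.Away r))) ≫
      Spec.map (CommRingCat.ofHom (algebraMap R' Ri))
    have : IsOpenImmersion (Spec.map (CommRingCat.ofHom (algebraMap Ri (Localization.Away r)))) :=
      IsOpenImmersion.of_isLocalization r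
    refine ⟨ev'.opensRange, ?_, hTr.comp u ev'.isoOpensRange.inv ?_⟩
    · obtain ⟨z, hz⟩ := (PrimeSpectrum.localization_away_comap_range (Localization.Away r) r).ge
        (show Q' ∈ (PrimeSpectrum.basicOpen r : Set (PrimeSpectrum Ri)) from hr)
      refine ⟨z, ?_⟩
      rw [← hQ]
      show Spec.map (CommRingCat.ofHom (algebraMap R' Ri))
        (Spec.map (CommRingCat.ofHom (algebraMap Ri (Localization.Away r))) z) = _
      exact congrArg (fun t : ↥(Spec (CommRingCat.of Ri)) => Spec.map (CommRingCat.ofHom (algebraMap R' Ri)) t) hz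
    · rw [ha, ← Scheme.Hom.isoOpensRange_inv_comp ev']
      simp only [ev', Category.assoc]
      rfl
  -- fibres at generisations of `x`
  obtain ⟨q₀, hq₀⟩ := π.surjective v
  have hgen : ∀ t, t ⤳ v → Tr u (S.fromSpecResidueField (σ t)) := by
    intro t ht
    obtain ⟨O, hqO, hO⟩ := hnear q₀ (by rw [Scheme.Hom.comp_apply, hq₀]; exact hx)
    obtain ⟨q'', hq'', hπq⟩ := Flat.generalizingMap π (show t ⤳ π q₀ by rw [hq₀]; exact ht)
    let q1 : PrimeSpectrum R' := q''
    have hmem : q'' ∈ O := hq''.mem_open O.2 hqO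
    let L := q1.asIdeal.ResidueField
    let y := Spec.map (CommRingCat.ofHom (algebraMap R' L))
    have hy : y (⊥ : PrimeSpectrum L) = q1 :=
      PrimeSpectrum.ext (Ideal.ker_algebraMap_residueField q1.asIdeal)
    have h2 : Set.range y ⊆ Set.range O.ι := by
      rintro _ ⟨w, rfl⟩
      rw [Subsingleton.elim w (⊥ : PrimeSpectrum L), Scheme.Opens.range_ι, hy]
      exact hmem
    have h3 := (hfield L (y ≫ π ≫ σ) (⊥ : PrimeSpectrum L)).1
      (hO.comp u (IsOpenImmersion.lift O.ι y h2) (by rw [← Category.assoc, IsOpenImmersion.lift_fac]))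
    change Tr u (S.fromSpecResidueField (σ (π (y (⊥ : PrimeSpectrum L))))) at h3
    rw [hy, show π q1 = t from hπq] at h3
    exact h3
  -- triviality over the local ring
  let pV : PrimeSpectrum Γ(S, V.1) := v
  let ℓ := Spec.map (CommRingCat.ofHom (algebraMap Γ(S, V.1) (Localization.AtPrime pV.asIdeal)))
  have hloc : Tr u (ℓ ≫ σ) := by
    refine Tr.of_flat_surjective u (pullback.fst ℓ π) (Tr.of_cover u fun w => ?_)
    let q' := pullback.snd ℓ π w
    have hspec : π q' ⤳ v := by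
      rw [← Scheme.Hom.comp_apply, ← pullback.condition, Scheme.Hom.comp_apply]
      let w' : PrimeSpectrum (Localization.AtPrime pV.asIdeal) := pullback.fst ℓ π w
      refine (PrimeSpectrum.le_iff_specializes (PrimeSpectrum.comap (algebraMap _ _) w') pV).1 ?_
      intro r hr
      by_contra hrp
      exact w'.2.ne_top (Ideal.eq_top_of_isUnit_mem _ hr
        (IsLocalization.map_units (M := pV.asIdeal.primeCompl) (Localization.AtPrime pV.asIdeal) ⟨r, hrp⟩))
    obtain ⟨O, hqO, hO⟩ := hnear q' (by rw [Scheme.Hom.comp_apply]; exact hgen _ hspec)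
    refine ⟨pullback.snd ℓ π ⁻¹ᵁ O, hqO, hO.comp u (pullback.snd ℓ π ∣_ O) ?_⟩
    rw [← Category.assoc (pullback.snd ℓ π ∣_ O), morphismRestrict_ι, Category.assoc, pullback.condition_assoc]
  obtain ⟨r, hr, hTr⟩ := exists_nhd_of_local u σ pV.asIdeal hloc
  let ev₂ := Spec.map (CommRingCat.ofHom (algebraMap Γ(S, V.1) (Localization.Away r))) ≫ σ
  have : IsOpenImmersion (Spec.map (CommRingCat.ofHom (algebraMap Γ(S, V.1) (Localization.Away r)))) :=
    IsOpenImmersion.of_isLocalization r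
  refine ⟨ev₂.opensRange, ?_, hTr.comp u ev₂.isoOpensRange.inv (Scheme.Hom.isoOpensRange_inv_comp ev₂)⟩
  obtain ⟨z, hz⟩ := (PrimeSpectrum.localization_away_comap_range (Localization.Away r) r).ge
    (show pV ∈ (PrimeSpectrum.basicOpen r : Set (PrimeSpectrum Γ(S, V.1))) from hr)
  exact ⟨z, congrArg (fun t : ↥(Spec Γ(S, V.1)) => σ t) hz⟩

end Groth.Agent.HopfRep.KernelTrivial

end
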