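import Groth.Prelude.Def_HopfRep
import Groth.Prelude.Def_Hoch
import Mathlib.LinearAlgebra.TensorProduct.Basis
import Mathlib.LinearAlgebra.FreeModule.Basic
import Mathlib.LinearAlgebra.Basis.VectorSpace
import Mathlib.RingTheory.Flat.Basic
import Mathlib.RingTheory.Finiteness.Basic
import Mathlib.Order.Zorn

/-!
Comodules over a coalgebra over a field, handled through their slices
`v ↦ (id ⊗ f)(ρ v)` for functionals `f` on the coalgebra.
-/

universe u v w w'

open TensorProduct

noncomputable section

namespace Groth.Agent.HopfRep.Slice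

open _root_.HopfRep

variable (k : Type u) [Field k] {A : Type v} [AddCommGroup A] [Module k A]

/-- `x ⊗ a ↦ f a • x`. -/
def contr (V : Type w) [AddCommGroup V] [Module k V] (f : A →ₗ[k] k) : V ⊗[k] A →ₗ[k] V :=
  (TensorProduct.rid k V).toLinearMap ∘ₗ f.lTensor V

variable {k}

@[simp] theorem contr_tmul {V : Type w} [AddCommGroup V] [Module k V] (f : A →ₗ[k] k) (x : V) (a : A) :
    contr k V f (x ⊗ₜ a) = f a • x := by
  simp [contr]

theorem map_contr {V : Type w} {W : Type w'} [AddCommGroup V] [Module k V] [AddCommGroup W] [Module k W]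
    (g : V →ₗ[k] W) (f : A →ₗ[k] k) (x : V ⊗[k] A) :
    g (contr k V f x) = contr k W f (g.rTensor A x) := by
  induction x with
  | zero => simp
  | tmul a b => simp
  | add a b ha hb => simp [ha, hb]

theorem eq_of_contr {V : Type w} [AddCommGroup V] [Module k V] {x y : V ⊗[k] A}
    (h : ∀ f : A →ₗ[k] k, contr k V f x = contr k V f y) : x = y := by
  classical
  let b := Module.Free.chooseBasis k A
  apply (TensorProduct.equivFinsuppOfBasisRight b).injective
  ext i
  rw [TensorProduct.equivFinsuppOfBasisRight_apply, TensorProduct.equivFinsuppOfBasisRight_apply]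
  exact h (b.coord i)

theorem mem_range_iff {V : Type w} [AddCommGroup V] [Module k V] (W : Submodule k V) (x : V ⊗[k] A) :
    x ∈ LinearMap.range (W.subtype.rTensor A) ↔ ∀ f : A →ₗ[k] k, contr k V f x ∈ W := by
  classical
  refine ⟨?_, fun h => ?_⟩
  · rintro ⟨y, rfl⟩ f
    rw [← map_contr]
    exact (contr k W f y).2
  · let b := Module.Free.chooseBasis k A
    have hx := (TensorProduct.equivFinsuppOfBasisRight (M := V) b).symm_apply_apply x
    rw [TensorProduct.equivFinsuppOfBasisRight_symm_apply] at hx
    rw [← hx]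
    apply Submodule.sum_mem
    intro i _
    have hm : (TensorProduct.equivFinsuppOfBasisRight b) x i ∈ W := by
      rw [TensorProduct.equivFinsuppOfBasisRight_apply]
      exact h (b.coord i)
    exact ⟨(⟨_, hm⟩ : W) ⊗ₜ b i, by simp⟩

variable [Coalgebra k A]
variable (k) in
/-- `v ↦ (id ⊗ f) (ρ v)`. -/
def slice (V : Type w) [AddCommGroup V] [Module k V] [Comod k A V] (f : A →ₗ[k] k) : V →ₗ[k] V :=
  contr k V f ∘ₗ Comod.coact (k := k) (A := A)

variable {V : Type w} [AddCommGroup V] [Module k V] [Comod k A V]
variable {W : Type w'} [AddCommGroup W] [Module k W] [Comod k A W]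

theorem slice_apply (f : A →ₗ[k] k) (v : V) :
    slice k V f v = contr k V f (Comod.coact (k := k) (A := A) v) := rfl

theorem slice_counit (v : V) : slice k V (Coalgebra.counit (R := k) (A := A)) v = v := by
  have h := LinearMap.congr_fun (Comod.counit_comp (k := k) (A := A) (V := V)) v
  simp only [LinearMap.comp_apply, LinearMap.flip_apply, TensorProduct.mk_apply] at h
  simp [slice, contr, h]

theorem coassoc_apply (v : V) :
    (TensorProduct.assoc k V A A) ((Comod.coact (k := k) (A := A) (V := V)).rTensor A
        (Comod.coact (k := k) (A := A) v)) =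
      (Coalgebra.comul (R := k) (A := A)).lTensor V (Comod.coact (k := k) (A := A) v) :=
  LinearMap.congr_fun (Comod.coassoc (k := k) (A := A) (V := V)) v

/-- `ρ (slice f v) = (id ⊗ g_f) (ρ v)` with `g_f a = (id ⊗ f)(Δ a)`. -/
theorem coact_slice (f : A →ₗ[k] k) (v : V) :
    Comod.coact (k := k) (A := A) (slice k V f v) =
      (contr k A f ∘ₗ Coalgebra.comul (R := k) (A := A)).lTensor V (Comod.coact (k := k) (A := A) v) := by
  have h1 : ∀ y : (V ⊗[k] A) ⊗[k] A,
      contr k (V ⊗[k] A) f y = (contr k A f).lTensor V (TensorProduct.assoc k V A A y) := by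
    intro y
    induction y with
    | zero => simp
    | add a b ha hb => simp [ha, hb]
    | tmul y b =>
      induction y with
      | zero => simp
      | add p q hp hq => simp [TensorProduct.add_tmul, hp, hq]
      | tmul p a => simp [TensorProduct.tmul_smul]
  rw [slice_apply, map_contr, h1, coassoc_apply, LinearMap.lTensor_comp_apply]

theorem isSubcomod_iff {U : Submodule k V} :
    IsSubcomod (k := k) (A := A) U ↔ ∀ f : A →ₗ[k] k, ∀ x ∈ U, slice k V f x ∈ U :=
  ⟨fun h f x hx => (mem_range_iff U _).1 (h x hx) f, fun h x hx => (mem_range_iff U _).2 fun f => h f x hx⟩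

theorem map_slice {φ : V →ₗ[k] W} (hφ : Hoch.IsComodHom A φ) (f : A →ₗ[k] k) (v : V) :
    φ (slice k V f v) = slice k W f (φ v) := by
  rw [slice_apply, map_contr, slice_apply, ← LinearMap.comp_apply (f := Comod.coact) (g := φ), hφ,
    LinearMap.comp_apply]

theorem isComodHom_of_slice {φ : V →ₗ[k] W}
    (h : ∀ (f : A →ₗ[k] k) (v : V), φ (slice k V f v) = slice k W f (φ v)) : Hoch.IsComodHom A φ := by
  refine LinearMap.ext fun v => eq_of_contr fun f => ?_
  rw [LinearMap.comp_apply, LinearMap.comp_apply, ← map_contr, ← slice_apply, ← slice_apply, h]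

theorem isSubcomod_bot : IsSubcomod (k := k) (A := A) (⊥ : Submodule k V) :=
  isSubcomod_iff.2 fun f x hx => by simp_all

theorem isSubcomod_inf {U U' : Submodule k V} (h : IsSubcomod (k := k) (A := A) U)
    (h' : IsSubcomod (k := k) (A := A) U') : IsSubcomod (k := k) (A := A) (U ⊓ U') :=
  isSubcomod_iff.2 fun f x hx => ⟨isSubcomod_iff.1 h f x hx.1, isSubcomod_iff.1 h' f x hx.2⟩

theorem isSubcomod_sSup {S : Set (Submodule k V)} (h : ∀ U ∈ S, IsSubcomod (k := k) (A := A) U) :
    IsSubcomod (k := k) (A := A) (sSup S) := by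
  refine isSubcomod_iff.2 fun f x hx => ?_
  have : sSup S ≤ (sSup S).comap (slice k V f) :=
    sSup_le fun U hU y hy => (le_sSup hU : U ≤ sSup S) (isSubcomod_iff.1 (h U hU) f y hy)
  exact this hx

theorem isSubcomod_iSup {ι : Sort*} {U : ι → Submodule k V} (h : ∀ i, IsSubcomod (k := k) (A := A) (U i)) :
    IsSubcomod (k := k) (A := A) (⨆ i, U i) :=
  isSubcomod_sSup (by rintro _ ⟨i, rfl⟩; exact h i)

theorem isSubcomod_sup {U U' : Submodule k V} (h : IsSubcomod (k := k) (A := A) U)
    (h' : IsSubcomod (k := k) (A := A) U') : IsSubcomod (k := k) (A := A) (U ⊔ U') := by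
  rw [← sSup_pair]
  exact isSubcomod_sSup (by rintro X (rfl | rfl) <;> assumption)

theorem isSubcomod_map {φ : V →ₗ[k] W} (hφ : Hoch.IsComodHom A φ) {U : Submodule k V}
    (h : IsSubcomod (k := k) (A := A) U) : IsSubcomod (k := k) (A := A) (U.map φ) := by
  refine isSubcomod_iff.2 fun f x hx => ?_
  obtain ⟨y, hy, rfl⟩ := hx
  exact ⟨_, isSubcomod_iff.1 h f y hy, map_slice hφ f y⟩

theorem isSubcomod_comap {φ : V →ₗ[k] W} (hφ : Hoch.IsComodHom A φ) {U : Submodule k W}
    (h : IsSubcomod (k := k) (A := A) U) : IsSubcomod (k := k) (A := A) (U.comap φ) := by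
  refine isSubcomod_iff.2 fun f x hx => ?_
  rw [Submodule.mem_comap, map_slice hφ]
  exact isSubcomod_iff.1 h f _ hx

theorem isSubcomod_ker {φ : V →ₗ[k] W} (hφ : Hoch.IsComodHom A φ) :
    IsSubcomod (k := k) (A := A) (LinearMap.ker φ) :=
  isSubcomod_comap hφ isSubcomod_bot

/-- All slices of a vector, as a linear map in the functional. -/
def slices (v : V) : (A →ₗ[k] k) →ₗ[k] V where
  toFun f := slice k V f v
  map_add' f g := by simp [slice, contr, LinearMap.lTensor_add]
  map_smul' c f := by simp [slice, contr, LinearMap.lTensor_smul]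

variable (k A) in
/-- The subcomodule generated by a vector. -/
def gen (v : V) : Submodule k V := LinearMap.range (slices (A := A) v)

theorem mem_gen_self (v : V) : v ∈ gen k A v := ⟨Coalgebra.counit, slice_counit v⟩

theorem slice_slice (f g : A →ₗ[k] k) (v : V) :
    slice k V g (slice k V f v) =
      slice k V (g ∘ₗ contr k A f ∘ₗ Coalgebra.comul (R := k) (A := A)) v := by
  rw [slice_apply, coact_slice, slice_apply]
  simp [contr, ← LinearMap.lTensor_comp_apply]

theorem isSubcomod_gen (v : V) : IsSubcomod (k := k) (A := A) (gen k A v) := by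
  refine isSubcomod_iff.2 fun g x hx => ?_
  obtain ⟨f, rfl⟩ := hx
  exact ⟨_, (slice_slice f g v).symm⟩

theorem gen_le {v : V} {U : Submodule k V} (h : IsSubcomod (k := k) (A := A) U) (hv : v ∈ U) :
    gen k A v ≤ U := by
  rintro _ ⟨f, rfl⟩
  exact isSubcomod_iff.1 h f v hv

instance finite_gen (v : V) : Module.Finite k (gen k A v) := by
  classical
  obtain ⟨S, hS⟩ := TensorProduct.exists_finset (R := k) (Comod.coact (k := k) (A := A) v)
  rw [Module.Finite.iff_fg]
  refine Submodule.FG.of_le (T := Submodule.span k ((S.image Prod.fst : Finset V) : Set V))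
    ⟨S.image Prod.fst, rfl⟩ ?_
  rintro _ ⟨f, rfl⟩
  show contr k V f _ ∈ _
  rw [hS, map_sum]
  refine Submodule.sum_mem _ fun p hp => ?_
  rw [contr_tmul]
  exact Submodule.smul_mem _ _ (Submodule.subset_span (Finset.mem_coe.2 (Finset.mem_image_of_mem _ hp)))

theorem exists_finite_subcomod (S : Finset V) :
    ∃ U : Submodule k V, Module.Finite k U ∧ IsSubcomod (k := k) (A := A) U ∧ (S : Set V) ⊆ U ∧
      ∀ U' : Submodule k V, IsSubcomod (k := k) (A := A) U' → (S : Set V) ⊆ U' → U ≤ U' :=
  ⟨⨆ v : S, gen k A (v : V), inferInstance, isSubcomod_iSup fun v => isSubcomod_gen _,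
    fun v hv => Submodule.mem_iSup_of_mem ⟨v, hv⟩ (mem_gen_self v),
    fun _ h hS => iSup_le fun v => gen_le h (hS v.2)⟩

/-- The comodule structure of a subcomodule. -/
@[reducible] def restrict (U : Submodule k V) (hU : IsSubcomod (k := k) (A := A) U) : Comod k A U :=
  have hinj : Function.Injective (U.subtype.rTensor A) :=
    Module.Flat.rTensor_preserves_injective_linearMap _ U.injective_subtype
  let c : U →ₗ[k] U ⊗[k] A := (LinearEquiv.ofInjective (U.subtype.rTensor A) hinj).symm.toLinearMap ∘ₗ
    LinearMap.codRestrict (LinearMap.range (U.subtype.rTensor A))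
      (Comod.coact (k := k) (A := A) ∘ₗ U.subtype) (fun x => hU x x.2)
  have hc : ∀ x : U, U.subtype.rTensor A (c x) = Comod.coact (k := k) (A := A) (x : V) := by
    intro x
    simp only [c, LinearMap.comp_apply, LinearEquiv.coe_coe]
    exact congrArg Subtype.val ((LinearEquiv.ofInjective (U.subtype.rTensor A) hinj).apply_symm_apply _)
  { coact := c
    coassoc := by
      refine LinearMap.ext fun x => ?_
      apply Module.Flat.rTensor_preserves_injective_linearMap (M := A ⊗[k] A) _ U.injective_subtype
      have h1 : ∀ y : (U : Type w) ⊗[k] A,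
          U.subtype.rTensor (A ⊗[k] A) (TensorProduct.assoc k U A A (c.rTensor A y)) =
            TensorProduct.assoc k V A A ((Comod.coact (k := k) (A := A) (V := V)).rTensor A
              (U.subtype.rTensor A y)) := by
        intro y
        induction y with
        | zero => simp
        | add a b ha hb => simp [ha, hb]
        | tmul p a =>
          simp only [LinearMap.rTensor_tmul, Submodule.subtype_apply]
          rw [← hc p]
          generalize c p = z
          induction z with
          | zero => simp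
          | add a b ha hb => simp [TensorProduct.add_tmul, ha, hb]
          | tmul q b => simp
      have h2 : ∀ y : (U : Type w) ⊗[k] A,
          U.subtype.rTensor (A ⊗[k] A) ((Coalgebra.comul (R := k) (A := A)).lTensor U y) =
            (Coalgebra.comul (R := k) (A := A)).lTensor V (U.subtype.rTensor A y) := by
        intro y
        induction y with
        | zero => simp
        | add a b ha hb => simp [ha, hb]
        | tmul p a => simp
      simp only [LinearMap.comp_apply, LinearEquiv.coe_coe, h1, h2, hc]
      exact coassoc_apply _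
    counit_comp := by
      refine LinearMap.ext fun x => ?_
      apply Module.Flat.rTensor_preserves_injective_linearMap (M := k) _ U.injective_subtype
      have h2 : ∀ y : (U : Type w) ⊗[k] A,
          U.subtype.rTensor k ((Coalgebra.counit (R := k) (A := A)).lTensor U y) =
            (Coalgebra.counit (R := k) (A := A)).lTensor V (U.subtype.rTensor A y) := by
        intro y
        induction y with
        | zero => simp
        | add a b ha hb => simp [ha, hb]
        | tmul p a => simp
      simp only [LinearMap.comp_apply, h2, hc, LinearMap.flip_apply, TensorProduct.mk_apply,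
        LinearMap.rTensor_tmul, Submodule.subtype_apply]
      exact LinearMap.congr_fun (Comod.counit_comp (k := k) (A := A) (V := V)) (x : V) }

theorem isComodHom_subtype (U : Submodule k V) (hU : IsSubcomod (k := k) (A := A) U) :
    letI := restrict U hU
    Hoch.IsComodHom A U.subtype := by
  let hinj : Function.Injective (U.subtype.rTensor A) :=
    Module.Flat.rTensor_preserves_injective_linearMap _ U.injective_subtype
  refine LinearMap.ext fun x => ?_
  simp only [LinearMap.comp_apply, LinearEquiv.coe_coe]
  exact (congrArg Subtype.val ((LinearEquiv.ofInjective (U.subtype.rTensor A) hinj).apply_symm_apply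
    ⟨_, hU x x.2⟩)).symm

theorem slice_coe (U : Submodule k V) (hU : IsSubcomod (k := k) (A := A) U) (f : A →ₗ[k] k) (x : U) :
    (letI := restrict U hU; ((slice k U f x : U) : V)) = slice k V f (x : V) := by
  letI := restrict U hU
  exact map_slice (isComodHom_subtype U hU) f x

/-- The projection along complementary subcomodules is a comodule map. -/
theorem isComodHom_projection {U U' : Submodule k V} (hU : IsSubcomod (k := k) (A := A) U)
    (hU' : IsSubcomod (k := k) (A := A) U') (h : IsCompl U U') :
    Hoch.IsComodHom A (U.subtype ∘ₗ U.projectionOnto U' h) := by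
  refine isComodHom_of_slice fun f v => ?_
  obtain ⟨x, hx, y, hy, rfl⟩ := Submodule.mem_sup.1 (h.sup_eq_top.symm ▸ Submodule.mem_top : v ∈ U ⊔ U')
  have hy' : U.projectionOnto U' h y = 0 := Submodule.projectionOnto_apply_right h ⟨y, hy⟩
  have hys : U.projectionOnto U' h (slice k V f y) = 0 :=
    Submodule.projectionOnto_apply_right h ⟨_, isSubcomod_iff.1 hU' f y hy⟩
  have hx' : U.projectionOnto U' h x = ⟨x, hx⟩ := Submodule.projectionOnto_apply_left h ⟨x, hx⟩
  have hxs : U.projectionOnto U' h (slice k V f x) = ⟨_, isSubcomod_iff.1 hU f x hx⟩ :=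
    Submodule.projectionOnto_apply_left h ⟨_, isSubcomod_iff.1 hU f x hx⟩
  simp [map_add, hy', hys, hx', hxs]

/-- Semisimplicity is local: it suffices to split inside finite-dimensional subcomodules. -/
theorem isSemisimpleComod_of_finite
    (h : ∀ (V₀ : Submodule k V) (hV : IsSubcomod (k := k) (A := A) V₀), Module.Finite k V₀ →
      letI := restrict V₀ hV; IsSemisimpleComod k A V₀) :
    IsSemisimpleComod k A V := by
  intro U hU
  let S : Set (Submodule k V) := {C | IsSubcomod (k := k) (A := A) C ∧ Disjoint C U}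
  obtain ⟨C, -, hC⟩ := zorn_le_nonempty₀ S (fun c hc hchain x hx => ⟨sSup c,
    ⟨isSubcomod_sSup fun X hX => (hc hX).1,
      (DirectedOn.disjoint_sSup_left hchain.directedOn).2 fun X hX => (hc hX).2⟩,
    fun z hz => le_sSup hz⟩) ⊥ ⟨isSubcomod_bot, disjoint_bot_left⟩
  refine ⟨C, hC.prop.1, hC.prop.2.symm, codisjoint_iff.2 (eq_top_iff.2 fun v _ => ?_)⟩
  by_contra hv
  let V₀ := gen k A v
  letI := restrict V₀ (isSubcomod_gen (A := A) v)
  have hι : Hoch.IsComodHom A V₀.subtype := isComodHom_subtype V₀ (isSubcomod_gen v)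
  obtain ⟨D, hD, hcompl⟩ := h V₀ (isSubcomod_gen v) inferInstance ((U ⊔ C).comap V₀.subtype)
    (isSubcomod_comap hι (isSubcomod_sup hU hC.prop.1))
  have hD' : IsSubcomod (k := k) (A := A) (D.map V₀.subtype) := isSubcomod_map hι hD
  have hdisj : Disjoint (C ⊔ D.map V₀.subtype) U := by
    rw [Submodule.disjoint_def]
    intro x hx hxU
    obtain ⟨c, hc, d, ⟨d, hd, rfl⟩, rfl⟩ := Submodule.mem_sup.1 hx
    have hd0 : d = 0 := by
      refine Submodule.disjoint_def.1 hcompl.disjoint d ?_ hd
      show (d : V) ∈ U ⊔ C
      have : (d : V) = (c + (d : V)) - c := by abel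
      rw [this]
      exact Submodule.sub_mem _ (Submodule.mem_sup_left hxU) (Submodule.mem_sup_right hc)
    subst hd0
    rw [map_zero, add_zero] at hxU ⊢
    exact Submodule.disjoint_def.1 hC.prop.2 c hc hxU
  have hle : C ⊔ D.map V₀.subtype ≤ C :=
    hC.le_of_ge ⟨isSubcomod_sup hC.prop.1 hD', hdisj⟩ le_sup_left
  apply hv
  obtain ⟨a, ha, b, hb, hab⟩ := Submodule.mem_sup.1
    (hcompl.sup_eq_top.symm ▸ Submodule.mem_top :
      (⟨v, mem_gen_self v⟩ : V₀) ∈ (U ⊔ C).comap V₀.subtype ⊔ D)
  have hb' : (b : V) ∈ C := hle (Submodule.mem_sup_right ⟨b, hb, rfl⟩)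
  have : v = (a : V) + (b : V) := congrArg Subtype.val hab.symm
  rw [this]
  exact Submodule.add_mem _ ha (Submodule.mem_sup_right hb')

end Groth.Agent.HopfRep.Slice
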