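import Groth.Agent.HopfRep.TorusMonoIso
import Mathlib.LinearAlgebra.Dimension.Constructions

/-!
Maximal split subtori of groups of finite multiplicative type.
-/

universe u

open CategoryTheory MonoidalCategory CartesianMonoidalCategory MonObj AlgebraicGeometry Limits

set_option linter.style.haveILetI false
set_option backward.isDefEq.respectTransparency.types false

noncomputable section

namespace Groth.Agent.HopfRep.MaxSplit

open HomLocus TorusMonoIso

variable {S : Scheme.{u}}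

/-- base change of group schemes -/
abbrev bcGrp {S' : Scheme.{u}} (h : S' ⟶ S) : Grp (Over S) ⥤ Grp (Over S') := (Over.pullback h).mapGrp

/-- base change along a composite -/
def bcGrpComp {S' S'' : Scheme.{u}} (h : S' ⟶ S) (g : S'' ⟶ S') : bcGrp (g ≫ h) ≅ bcGrp h ⋙ bcGrp g :=
  Functor.mapGrpNatIso (Over.pullbackComp g h) ≪≫ Functor.mapGrpCompIso

/-- base change of a split group is split -/
def bcDS {S' : Scheme.{u}} (h : S' ⟶ S) (M : Type) [AddCommGroup M] :
    Grp.mk (Red.bc h (Red.DS S M)) ≅ Grp.mk (Red.DS S' M) :=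
  ((bcGrpComp (IsTerminal.from specULiftZIsTerminal S) h).app
      (Grp.mk (Red.diag (ULift.{u} ℤ) M))).symm ≪≫
    eqToIso (congrArg (fun t => (bcGrp t).obj (Grp.mk (Red.diag (ULift.{u} ℤ) M)))
      (specULiftZIsTerminal.hom_ext _ _))

theorem isSplitTorusWith_bc {S' : Scheme.{u}} (h : S' ⟶ S) {M : Type} [AddCommGroup M] {T : Over S} [GrpObj T]
    (hT : Red.IsSplitTorusWith M T) : Red.IsSplitTorusWith M (Red.bc h T) := by
  obtain ⟨e⟩ := hT
  exact ⟨(bcGrp h).mapIso e ≪≫ bcDS h M⟩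

theorem isTorus_of_split {r : ℕ} {T : Over S} [GrpObj T] (hT : Red.IsSplitTorusWith (Fin r → ℤ) T) :
    Red.IsTorus T := by
  refine ⟨S, 𝟙 S, inferInstance, inferInstance, fun V hV => ⟨V, hV.isCompact, by simp⟩, fun s' => ?_⟩
  exact ⟨⊤, trivial, r, isSplitTorusWith_bc _ hT⟩

theorem isMonHom_one {T G : Over S} [GrpObj T] [GrpObj G] : IsMonHom (1 : T ⟶ G) := by
  rw [Hom.one_def]
  infer_instance

theorem isMonHom_of_comp_mono {T T' G : Over S} [GrpObj T] [GrpObj T'] [GrpObj G] (g : T ⟶ T') (j : T' ⟶ G)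
    [IsMonHom j] [IsMonHom (g ≫ j)] [Mono j] : IsMonHom g := by
  refine ⟨(cancel_mono j).1 ?_, (cancel_mono j).1 ?_⟩
  · rw [Category.assoc, IsMonHom.one_hom (f := g ≫ j), IsMonHom.one_hom (f := j)]
  · rw [Category.assoc, IsMonHom.mul_hom (f := g ≫ j), Category.assoc, IsMonHom.mul_hom (f := j),
      ← Category.assoc, MonoidalCategory.tensorHom_comp_tensorHom]

theorem isIso_DS_hom (M : Type) [AddCommGroup M] [Subsingleton M] : IsIso (Red.DS S M).hom := by
  have hb : Function.Bijective (algebraMap (ULift.{u} ℤ) (MonoidAlgebra (ULift.{u} ℤ) (Multiplicative M))) := by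
    refine ⟨fun a b h => MonoidAlgebra.single_right_injective (m := (1 : Multiplicative M)) h, fun z => ?_⟩
    induction z using MonoidAlgebra.induction_linear with
    | zero => exact ⟨0, map_zero _⟩
    | add x y hx hy =>
      obtain ⟨a, rfl⟩ := hx
      obtain ⟨b, rfl⟩ := hy
      exact ⟨a + b, map_add _ _ _⟩
    | single m c =>
      refine ⟨c, ?_⟩
      rw [Subsingleton.elim m 1]
      rfl
  have : IsIso (Red.diag (ULift.{u} ℤ) M).hom := isIso_SpecMap_iff.2 hb
  show IsIso (pullback.snd (Red.diag (ULift.{u} ℤ) M).hom (IsTerminal.from specULiftZIsTerminal S))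
  infer_instance

theorem rank_le {r : ℕ} {T G : Over S} [GrpObj T] [GrpObj G] (hT : Red.IsSplitTorusWith (Fin r → ℤ) T)
    [IsAffineHom G.hom] (j : T ⟶ G) [IsMonHom j] [Mono j] {U : Scheme.{u}} (h : U ⟶ S) (x : U) {M : Type}
    [AddCommGroup M] [AddGroup.FG M] (e₂ : Grp.mk (Red.bc h G) ≅ Grp.mk (Red.DS U M)) {n : ℕ}
    (c : (Fin n → ℤ) →ₗ[ℤ] M) (hc : Function.Surjective c) : r ≤ n := by
  have : IsAffineHom T.hom := by
    obtain ⟨S', g, h1, h2, h3, h4⟩ := isMultTypeFT_of_isTorus (isTorus_of_split hT)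
    exact FreeDiag.isAffineHom_of_multType
      ⟨S', g, h1, h2, h3, fun s' => let ⟨U, hU, M, hM, _, he⟩ := h4 s'; ⟨U, hU, M, hM, he⟩⟩
  let L := AlgebraicClosure (U.residueField x)
  obtain ⟨e₁⟩ := isSplitTorusWith_bc h hT
  obtain ⟨r₀, φ, hr₀, hloc⟩ := exists_local_of j (f := h) (Category.id_comp _) (Category.id_comp _)
    e₁ e₂ (K := L) (Red.geomPt x) ⊥
  have hu : IsUnit (algebraMap L L r₀) := isUnit_iff_ne_zero.2 fun h => hr₀ (Ideal.mem_bot.2 h)
  have hmono : MorphismProperty.monomorphisms Scheme.{u}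
      (uS j (Spec.map (CommRingCat.ofHom (algebraMap L L)) ≫ Red.geomPt x ≫ h)) :=
    MorphismProperty.of_isPullback (isPullback_uS j _) (inferInstanceAs (Mono j.left))
  have hsur := (mono_dMap_iff φ).1 ((hloc L hu _).1 hmono)
  have hle := LinearMap.finrank_le_finrank_of_surjective
    (f := (AddMonoidHom.toMultiplicative.symm φ).toIntLinearMap.comp c) (hsur.comp hc)
  simpa using hle

theorem exists_maximal {G : Over S} [GrpObj G] (hG : SGA3x.IsMultTypeFT G) :
    ∃ (T : Over S) (_ : GrpObj T) (j : T ⟶ G) (r : ℕ), IsMonHom j ∧ Mono j ∧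
      Red.IsSplitTorusWith (Fin r → ℤ) T ∧
      ∀ (T' : Over S) [GrpObj T'] (j' : T' ⟶ G) [IsMonHom j'] [Mono j'] (r' : ℕ) (g : T ⟶ T'),
        Red.IsSplitTorusWith (Fin r' → ℤ) T' → g ≫ j' = j → IsIso g := by
  classical
  let P : ℕ → Prop := fun r => ∃ (T : Over S) (_ : GrpObj T) (j : T ⟶ G), IsMonHom j ∧ Mono j ∧
    Red.IsSplitTorusWith (Fin r → ℤ) T
  rcases isEmpty_or_nonempty (S : Type u) with hS | ⟨⟨s⟩⟩
  · let T := Red.DS S (Fin 0 → ℤ)
    have hall : ∀ {X Y : Over S} (g : X ⟶ Y), IsIso g := fun {X Y} g => by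
      have : IsEmpty ↥X.left := Function.isEmpty (fun x => X.hom.base x)
      have : IsEmpty ↥Y.left := Function.isEmpty (fun x => Y.hom.base x)
      have : IsIso g.left := isIso_of_isEmpty _
      have : IsIso ((Over.forget S).map g) := this
      exact isIso_of_reflects_iso g (Over.forget S)
    refine ⟨T, inferInstance, (1 : T ⟶ G), 0, isMonHom_one, ?_, ⟨Iso.refl _⟩, fun T' _ j' _ _ r' g _ _ => hall g⟩
    have := hall (1 : T ⟶ G)
    infer_instance
  obtain ⟨S', f, hf1, hf2, hf3, hf4⟩ := id hG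
  obtain ⟨s', rfl⟩ := f.surjective s
  obtain ⟨U, hU, M, iM, hM, ⟨e₂⟩⟩ := hf4 s'
  obtain ⟨n, c, hc⟩ : ∃ (n : ℕ) (c : (Fin n → ℤ) →ₗ[ℤ] M), Function.Surjective c := by
    have : Module.Finite ℤ M := Module.Finite.iff_addGroup_fg.2 hM
    exact Module.Finite.exists_fin' ℤ M
  have hbd : ∀ r, P r → r ≤ n := by
    rintro r ⟨T, iT, j, hj, hjm, hT⟩
    have : IsAffineHom G.hom := FreeDiag.isAffineHom_of_multType
        ⟨S', f, hf1, hf2, hf3, fun s' => let ⟨U, hU, M, hM, _, he⟩ := hf4 s'; ⟨U, hU, M, hM, he⟩⟩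
    exact rank_le hT j (U.ι ≫ f) ⟨s', hU⟩ e₂ c hc
  have h0 : P 0 := by
    let T := Red.DS S (Fin 0 → ℤ)
    have : Mono (1 : T ⟶ G) := by
      have : IsIso T.hom := isIso_DS_hom _
      constructor
      intro Z a b _
      ext
      rw [← cancel_mono T.hom, Over.w a, Over.w b]
    exact ⟨T, inferInstance, 1, isMonHom_one, this, ⟨Iso.refl _⟩⟩
  obtain ⟨T, iT, j, hj, hjm, hT⟩ := Nat.findGreatest_spec (Nat.zero_le n) h0
  refine ⟨T, iT, j, _, hj, hjm, hT, fun T' _ j' _ _ r' g hT' hg => ?_⟩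
  subst hg
  have : Mono g := mono_of_mono g j'
  have : IsMonHom g := isMonHom_of_comp_mono g j'
  have : IsAffineHom T'.hom := by
    obtain ⟨S', g, h1, h2, h3, h4⟩ := isMultTypeFT_of_isTorus (isTorus_of_split hT')
    exact FreeDiag.isAffineHom_of_multType
      ⟨S', g, h1, h2, h3, fun s' => let ⟨U, hU, M, hM, _, he⟩ := h4 s'; ⟨U, hU, M, hM, he⟩⟩
  obtain ⟨e'⟩ := isSplitTorusWith_bc (𝟙 S) hT'
  have hle : Nat.findGreatest P n ≤ r' := rank_le hT g (𝟙 S) (f s') e' LinearMap.id fun x => ⟨x, rfl⟩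
  have hge : r' ≤ Nat.findGreatest P n :=
    Nat.le_findGreatest (hbd r' ⟨T', inferInstance, j', inferInstance, inferInstance, hT'⟩)
      ⟨T', inferInstance, j', inferInstance, inferInstance, hT'⟩
  obtain rfl : r' = Nat.findGreatest P n := le_antisymm hge hle
  exact isIso_of_mono_of_tori (isTorus_of_split hT) (isTorus_of_split hT') g
    fun x => ⟨_, isSplitTorusWith_bc _ hT, isSplitTorusWith_bc _ hT'⟩

end Groth.Agent.HopfRep.MaxSplit

end
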