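import Mathlib.CategoryTheory.Monoidal.Cartesian.Grp

/-!
A monomorphism whose points form subgroups is a group object and a homomorphism.
-/

universe v u

open CategoryTheory MonoidalCategory CartesianMonoidalCategory MonObj GrpObj

noncomputable section

namespace Groth.Agent.HopfRep.MonoSubgroup

variable {C : Type u} [Category.{v} C] [CartesianMonoidalCategory C] {N G : C} [GrpObj G]

theorem exists_grpObj (n : N ⟶ G) [Mono n] (h1 : ∃ e : 𝟙_ C ⟶ N, e ≫ n = 1)
    (hm : ∀ (T : C) (a b : T ⟶ N), ∃ c : T ⟶ N, c ≫ n = (a ≫ n) * (b ≫ n))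
    (hi : ∀ (T : C) (a : T ⟶ N), ∃ c : T ⟶ N, c ≫ n = (a ≫ n)⁻¹) :
    ∃ _ : GrpObj N, IsMonHom n := by
  obtain ⟨e, he⟩ := h1
  obtain ⟨m, hm⟩ := hm (N ⊗ N) (fst N N) (snd N N)
  obtain ⟨ι', hι⟩ := hi N (𝟙 N)
  rw [Category.id_comp] at hι
  letI : MonObj N :=
    { one := e
      mul := m
      one_mul := by
        rw [← cancel_mono n, Category.assoc, hm, MonObj.comp_mul, whiskerRight_fst_assoc, whiskerRight_snd_assoc, he,
          MonObj.comp_one, _root_.one_mul, leftUnitor_hom]
      mul_one := by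
        rw [← cancel_mono n, Category.assoc, hm, MonObj.comp_mul, whiskerLeft_fst_assoc, whiskerLeft_snd_assoc, he,
          MonObj.comp_one, _root_.mul_one, rightUnitor_hom]
      mul_assoc := by
        rw [← cancel_mono n]
        simp only [Category.assoc, hm, MonObj.comp_mul, whiskerRight_fst_assoc, whiskerRight_snd_assoc,
          whiskerLeft_fst_assoc, whiskerLeft_snd_assoc, associator_hom_fst_assoc, associator_hom_snd_fst_assoc,
          associator_hom_snd_snd_assoc, _root_.mul_assoc] }
  letI : GrpObj N :=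
    { inv := ι'
      left_inv := by
        rw [← cancel_mono n, Category.assoc]
        show lift ι' (𝟙 N) ≫ m ≫ n = (toUnit N ≫ e) ≫ n
        rw [hm, MonObj.comp_mul, lift_fst_assoc, lift_snd_assoc, hι, Category.id_comp, inv_mul_cancel,
          Category.assoc, he, MonObj.comp_one]
      right_inv := by
        rw [← cancel_mono n, Category.assoc]
        show lift (𝟙 N) ι' ≫ m ≫ n = (toUnit N ≫ e) ≫ n
        rw [hm, MonObj.comp_mul, lift_fst_assoc, lift_snd_assoc, hι, Category.id_comp, mul_inv_cancel,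
          Category.assoc, he, MonObj.comp_one] }
  refine ⟨inferInstance, ⟨?_, ?_⟩⟩
  · show e ≫ n = η[G]
    rw [he, MonObj.one_eq_one]
  · show m ≫ n = (n ⊗ₘ n) ≫ μ[G]
    rw [hm, MonObj.mul_eq_mul, MonObj.comp_mul, tensorHom_fst, tensorHom_snd]

end Groth.Agent.HopfRep.MonoSubgroup

end
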