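import Groth.Agent.HopfRep.HomScheme
import Groth.Prelude.Def_Flatn

/-! The functor of relative morphisms is representable by an affine scheme. -/

universe u

open CategoryTheory MonoidalCategory CartesianMonoidalCategory AlgebraicGeometry Limits

set_option backward.isDefEq.respectTransparency.types false

noncomputable section

namespace Groth.Agent.HopfRep.MorS

theorem exists_representableBy {Z X S : Scheme.{u}} (g : Z ⟶ S) (f : X ⟶ S) [IsFinite g] [Flat g]
    [LocallyOfFinitePresentation g] [IsAffineHom f] :
    ∃ W : Over S, IsAffineHom W.hom ∧ Nonempty ((Flatn.morS g f).RepresentableBy W) := by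
  have : IsFinite (Over.mk g).hom := ‹_›
  have : Flat (Over.mk g).hom := ‹_›
  have : LocallyOfFinitePresentation (Over.mk g).hom := ‹_›
  have : IsAffineHom (Over.mk f).hom := ‹_›
  obtain ⟨M, ev, hM, -, -, h⟩ := HomScheme.exists_rep (Over.mk g) (Over.mk f)
  let θ : ∀ T : Over S, (Over.map g).obj ((Over.pullback g).obj T) ≅ Over.mk g ⊗ T := fun T =>
    Over.isoMk (pullbackSymmetry T.hom g) (by
      show (pullbackSymmetry T.hom g).hom ≫ pullback.fst g T.hom ≫ g = pullback.snd T.hom g ≫ g
      simp)
  have hnat : ∀ {T T' : Over S} (φ : T' ⟶ T),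
      (θ T').hom ≫ (Over.mk g ◁ φ) = (Over.map g).map ((Over.pullback g).map φ) ≫ (θ T).hom := by
    intro T T' φ
    apply Over.OverMorphism.ext
    refine pullback.hom_ext (f := g) (g := T.hom) ?_ ?_
    · show ((θ T').hom.left ≫ (Over.mk g ◁ φ).left) ≫ (fst (Over.mk g) T).left =
        ((Over.map g).map ((Over.pullback g).map φ)).left ≫ ((θ T).hom.left ≫ (fst (Over.mk g) T).left)
      rw [Category.assoc, ← Over.comp_left, whiskerLeft_fst]
      show (pullbackSymmetry T'.hom g).hom ≫ pullback.fst g T'.hom =
        ((Over.pullback g).map φ).left ≫ (pullbackSymmetry T.hom g).hom ≫ pullback.fst g T.hom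
      simp
      all_goals first | exact (pullback.lift_fst _ _ _).symm | exact (pullback.lift_snd _ _ _).symm
    · show ((θ T').hom.left ≫ (Over.mk g ◁ φ).left) ≫ (snd (Over.mk g) T).left =
        ((Over.map g).map ((Over.pullback g).map φ)).left ≫ ((θ T).hom.left ≫ (snd (Over.mk g) T).left)
      rw [Category.assoc, ← Over.comp_left, whiskerLeft_snd]
      show (pullbackSymmetry T'.hom g).hom ≫ pullback.snd g T'.hom ≫ φ.left =
        ((Over.pullback g).map φ).left ≫ (pullbackSymmetry T.hom g).hom ≫ pullback.snd g T.hom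
      simp
      all_goals first | exact (pullback.lift_fst _ _ _).symm | exact (pullback.lift_snd _ _ _).symm
  refine ⟨M, hM, ⟨?_⟩⟩
  exact
    { homEquiv := fun {T} =>
        { toFun := fun v => (θ T).hom ≫ (Over.mk g ◁ v) ≫ ev
          invFun := fun b => (h T ((θ T).inv ≫ b)).exists.choose
          left_inv := fun v => (h T _).unique (h T ((θ T).inv ≫ (θ T).hom ≫ (Over.mk g ◁ v) ≫ ev)).exists.choose_spec
            ((θ T).inv_hom_id_assoc _).symm
          right_inv := fun b => by
            show (θ T).hom ≫ _ = b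
            rw [(h T ((θ T).inv ≫ b)).exists.choose_spec]
            exact (θ T).hom_inv_id_assoc b }
      homEquiv_comp := fun {T T'} φ v => by
        show (θ T).hom ≫ (Over.mk g ◁ (φ ≫ v)) ≫ ev =
          (Over.map g).map ((Over.pullback g).map φ) ≫ (θ T').hom ≫ (Over.mk g ◁ v) ≫ ev
        rw [MonoidalCategory.whiskerLeft_comp, Category.assoc, reassoc_of% (hnat φ)] }

end Groth.Agent.HopfRep.MorS

end
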