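import Groth.Agent.ResidueExt.Construction
import Groth.Agent.Locus.EtaleCriterion
import Mathlib.RingTheory.Unramified.LocalRing

/-!
A local homomorphism `R → S` of isomorphic Noetherian local rings with `m_R S = m_S` and trivial residue
extension is flat.
-/

universe u

open IsLocalRing

noncomputable section

namespace Groth.Agent.HopfRep.NearEndo

theorem injective_of_surjective_endo {A : Type u} [CommRing A] [IsNoetherianRing A] (f : A →+* A)
    (hf : Function.Surjective f) : Function.Injective f := by
  let F : ℕ → (A →+* A) := fun n => Nat.rec (RingHom.id A) (fun _ g => g.comp f) n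
  have hF : ∀ n x, F (n + 1) x = F n (f x) := fun n x => rfl
  have hsurj : ∀ n, Function.Surjective (F n) := fun n => by
    induction n with
    | zero => exact Function.surjective_id
    | succ n ih => exact ih.comp hf
  have hswap : ∀ n x, F n (f x) = f (F n x) := fun n => by
    induction n with
    | zero => intro x; rfl
    | succ n ih => intro x; rw [hF, hF, ih]
  have hmono : Monotone fun n => RingHom.ker (F n) :=
    monotone_nat_of_le_succ fun n x hx => by
      rw [RingHom.mem_ker] at hx ⊢
      rw [hF, hswap, hx, map_zero]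
  obtain ⟨N, hN⟩ := monotone_stabilizes_iff_noetherian.2 (inferInstance : IsNoetherian A A) ⟨_, hmono⟩
  refine (injective_iff_map_eq_zero f).2 fun x hx => ?_
  obtain ⟨y, rfl⟩ := hsurj N x
  have h1 : y ∈ RingHom.ker (F (N + 1)) := by rw [RingHom.mem_ker, hF, hswap, hx]
  have h2 : RingHom.ker (F N) = RingHom.ker (F (N + 1)) := hN (N + 1) (Nat.le_succ N)
  rw [← h2] at h1
  exact RingHom.mem_ker.1 h1

variable {R S : Type u} [CommRing R] [CommRing S] [IsNoetherianRing R] [IsNoetherianRing S] [IsLocalRing R]
  [IsLocalRing S] [Algebra R S]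

theorem exists_sub_mem (hm : (maximalIdeal R).map (algebraMap R S) = maximalIdeal S)
    (hres : ∀ s, ∃ r, s - algebraMap R S r ∈ maximalIdeal S) (k : ℕ) (s : S) :
    ∃ r, s - algebraMap R S r ∈ maximalIdeal S ^ k := by
  induction k generalizing s with
  | zero => exact ⟨0, by simp⟩
  | succ k ih =>
    obtain ⟨r, hr⟩ := ih s
    have hk : maximalIdeal S ^ k = (maximalIdeal R ^ k).map (algebraMap R S) := by rw [Ideal.map_pow, hm]
    suffices h : ∀ t ∈ (maximalIdeal R ^ k).map (algebraMap R S),
        ∃ r, t - algebraMap R S r ∈ maximalIdeal S ^ (k + 1) by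
      obtain ⟨r', hr'⟩ := h _ (hk ▸ hr)
      exact ⟨r + r', by rwa [map_add, ← sub_sub]⟩
    intro t ht
    induction ht using Submodule.span_induction with
    | mem x hx =>
      obtain ⟨a, -, rfl⟩ := hx
      exact ⟨a, by simp⟩
    | zero => exact ⟨0, by simp⟩
    | add x y _ _ hx hy =>
      obtain ⟨a, ha⟩ := hx
      obtain ⟨b, hb⟩ := hy
      exact ⟨a + b, by rw [map_add, add_sub_add_comm]; exact add_mem ha hb⟩
    | smul c x hxm hx =>
      obtain ⟨a, ha⟩ := hx
      obtain ⟨d, hd⟩ := hres c
      refine ⟨d * a, ?_⟩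
      have e : c • x - algebraMap R S (d * a) =
          (c - algebraMap R S d) * x + algebraMap R S d * (x - algebraMap R S a) := by
        rw [map_mul, smul_eq_mul]; ring
      rw [e]
      refine add_mem ?_ (Ideal.mul_mem_left _ _ ha)
      rw [pow_succ']
      exact Ideal.mul_mem_mul hd (hk ▸ hxm)

theorem flat (ε : R ≃+* S) (hm : (maximalIdeal R).map (algebraMap R S) = maximalIdeal S)
    (hres : ∀ s, ∃ r, s - algebraMap R S r ∈ maximalIdeal S) : Module.Flat R S := by
  haveI : IsLocalHom (algebraMap R S) :=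
    ((local_hom_TFAE (algebraMap R S)).out 0 2).2 hm.le
  refine Groth.Agent.ResidueExt.Construction.flat_of_dense (A := R) (B := S) (B₀ := R) (Algebra.linearMap R S) ?_ ?_
  · intro k b
    obtain ⟨r, hr⟩ := exists_sub_mem hm hres k b
    refine ⟨r, ?_⟩
    rw [Ideal.smul_top_eq_map, Ideal.map_pow, hm]
    exact hr
  · intro k r hr
    rw [Ideal.smul_top_eq_map, Ideal.map_pow, hm] at hr
    rw [smul_eq_mul, Ideal.mul_top]
    let I := maximalIdeal R ^ k
    have hε : ∀ x, x ∈ maximalIdeal S ^ k ↔ ε.symm x ∈ I := by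
      intro x
      have e : (maximalIdeal R).map ε.toRingHom = maximalIdeal S :=
        IsLocalRing.eq_maximalIdeal (Ideal.map_isMaximal_of_equiv ε)
      have e2 : maximalIdeal S ^ k = I.map ε.toRingHom := by rw [Ideal.map_pow, e]
      rw [e2]
      exact Ideal.mem_map_of_equiv ε x |>.trans ⟨fun ⟨a, ha, h⟩ => by rw [← h]; simpa using ha,
        fun h => ⟨_, h, ε.apply_symm_apply x⟩⟩
    let g : R →+* R := (ε.symm : S →+* R).comp (algebraMap R S)
    have hgI : I ≤ I.comap g := fun x hx => by
      rw [Ideal.mem_comap]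
      refine (hε _).1 ?_
      rw [← hm, ← Ideal.map_pow]
      exact Ideal.mem_map_of_mem _ hx
    let gb : R ⧸ I →+* R ⧸ I := Ideal.quotientMap I g hgI
    have hgb : Function.Surjective gb := by
      intro y
      obtain ⟨y, rfl⟩ := Ideal.Quotient.mk_surjective y
      obtain ⟨x, hx⟩ := exists_sub_mem hm hres k (ε y)
      refine ⟨Ideal.Quotient.mk I x, ?_⟩
      have h := (hε _).1 hx
      rw [map_sub, RingEquiv.symm_apply_apply] at h
      rw [Ideal.quotientMap_mk]
      exact (Ideal.Quotient.eq.2 h).symm
    have h0 : gb (Ideal.Quotient.mk I r) = 0 := by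
      rw [Ideal.quotientMap_mk, Ideal.Quotient.eq_zero_iff_mem]
      exact (hε _).1 hr
    exact Ideal.Quotient.eq_zero_iff_mem.1
      (injective_of_surjective_endo gb hgb (by rw [h0, map_zero]))

end Groth.Agent.HopfRep.NearEndo

end
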