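import Groth.Agent.HopfRep.DiagExt
import Groth.Agent.HopfRep.GrpSmooth
import Mathlib.AlgebraicGeometry.Noetherian
import Mathlib.RingTheory.Nakayama
import Mathlib.CategoryTheory.Monoidal.Cartesian.Grp

/-!
A non-reduced group scheme of finite type over an algebraically closed field has a non-zero
nilpotent global function: spread the top nilpotent power at one point by translations.
-/

universe u

open TensorProduct CategoryTheory CartesianMonoidalCategory MonObj AlgebraicGeometry Limits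

set_option linter.style.haveILetI false

noncomputable section

namespace Groth.Agent.HopfRep.NilpFun

open DiagExt

variable {k : Type u} [Field k] {N : Over (Spec (CommRingCat.of k))}

/-- Sections over an open as an algebra over the base field. -/
@[instance_reducible] def secAlg (U : N.left.Opens) : Algebra k Γ(N.left, U) :=
  ((Scheme.ΓSpecIso (CommRingCat.of k)).inv ≫ N.hom.appLE ⊤ U le_top).hom.toAlgebra

attribute [local instance] secAlg

/-- The spectrum over the base. -/
abbrev spc (A : Type u) [CommRing A] [Algebra k A] : Over (Spec (CommRingCat.of k)) :=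
  Over.mk (Spec.map (CommRingCat.ofHom (algebraMap k A)))

/-- The functoriality of the spectrum. -/
abbrev spcMap {A B : Type u} [CommRing A] [Algebra k A] [CommRing B] [Algebra k B] (ψ : A →ₐ[k] B) :
    spc (k := k) B ⟶ spc A :=
  Over.homMk (Spec.map (CommRingCat.ofHom ψ.toRingHom)) (by
    show Spec.map _ ≫ Spec.map _ = Spec.map _
    rw [← Spec.map_comp]
    congr 1
    ext x
    exact ψ.commutes x)

theorem spcMap_comp {A B C : Type u} [CommRing A] [Algebra k A] [CommRing B] [Algebra k B] [CommRing C]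
    [Algebra k C] (ψ : A →ₐ[k] B) (ψ' : B →ₐ[k] C) : spcMap ψ' ≫ spcMap ψ = spcMap (ψ'.comp ψ) := by
  ext1
  show Spec.map _ ≫ Spec.map _ = Spec.map _
  rw [← Spec.map_comp]; rfl

theorem spcMap_id {A : Type u} [CommRing A] [Algebra k A] : spcMap (AlgHom.id k A) = 𝟙 (spc A) := by
  ext1
  exact Spec.map_id _

/-- The inclusion of an affine chart. -/
def chartι (U : N.left.affineOpens) : spc (k := k) Γ(N.left, U.1) ⟶ N :=
  Over.homMk U.2.fromSpec (by
    show U.2.fromSpec ≫ N.hom = Spec.map (_ ≫ _)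
    rw [Spec.map_comp, ← IsAffineOpen.SpecMap_appLE_fromSpec N.hom (isAffineOpen_top _) U.2,
      IsAffineOpen.fromSpec_top, Scheme.isoSpec_Spec_inv]
    all_goals first | rfl | exact le_top)

/-- Restriction as a morphism of algebras. -/
def res {U W : N.left.affineOpens} (h : W.1 ≤ U.1) : Γ(N.left, U.1) →ₐ[k] Γ(N.left, W.1) :=
  { (N.left.presheaf.map (homOfLE h).op).hom with
    commutes' := fun r => by
      exact DFunLike.congr_fun (congrArg CommRingCat.Hom.hom
        (congrArg ((Scheme.ΓSpecIso (CommRingCat.of k)).inv ≫ ·)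
          (N.hom.appLE_map (U := ⊤) le_top (homOfLE h).op))) r }

theorem spcMap_res {U W : N.left.affineOpens} (h : W.1 ≤ U.1) : spcMap (res h) ≫ chartι U = chartι W := by
  ext1
  exact U.2.map_fromSpec W.2 (homOfLE h).op

/-- A constant point. -/
abbrev cpt (V : N.left.affineOpens) (χ : Γ(N.left, V.1) →ₐ[k] k) (A : Type u) [CommRing A] [Algebra k A] :
    spc (k := k) A ⟶ N :=
  spcMap ((Algebra.ofId k A).comp χ) ≫ chartι V

variable [GrpObj N]

/-- Translation from the diagonal to the chosen point. -/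
def qT (V : N.left.affineOpens) (χ : Γ(N.left, V.1) →ₐ[k] k) (U : N.left.affineOpens) :
    spc (k := k) (red Γ(N.left, U.1) ⊗[k] Γ(N.left, U.1)) ⟶ N :=
  cpt V χ _ *
    (spcMap ((Algebra.TensorProduct.includeLeft : red Γ(N.left, U.1) →ₐ[k] _).comp
      (Ideal.Quotient.mkₐ k _)) ≫ chartι U)⁻¹ *
    (spcMap (Algebra.TensorProduct.includeRight : Γ(N.left, U.1) →ₐ[k] _) ≫ chartι U)

theorem qT_natural (V : N.left.affineOpens) (χ : Γ(N.left, V.1) →ₐ[k] k) {U W : N.left.affineOpens}
    (h : W.1 ≤ U.1) : spcMap (tMap k (res h)) ≫ qT V χ U = qT V χ W := by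
  simp only [qT, cpt, MonObj.comp_mul, GrpObj.comp_inv, ← Category.assoc, spcMap_comp]
  have e1 : (tMap k (res h)).comp
      ((Algebra.TensorProduct.includeLeft : red Γ(N.left, U.1) →ₐ[k] _).comp (Ideal.Quotient.mkₐ k _)) =
      ((Algebra.TensorProduct.includeLeft : red Γ(N.left, W.1) →ₐ[k] _).comp (Ideal.Quotient.mkₐ k _)).comp (res h) := by
    ext x; simp
  have e2 : (tMap k (res h)).comp (Algebra.TensorProduct.includeRight : Γ(N.left, U.1) →ₐ[k] _) =
      (Algebra.TensorProduct.includeRight : Γ(N.left, W.1) →ₐ[k] _).comp (res h) := by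
    ext x; simp
  have e3 : (tMap k (res h)).comp ((Algebra.ofId k _).comp χ) = (Algebra.ofId k _).comp χ := by
    ext x; simp [Algebra.ofId_apply]
  rw [e1, e2, e3, ← spcMap_comp (res h), ← spcMap_comp (res h), Category.assoc, Category.assoc, spcMap_res]

theorem diag_qT (V : N.left.affineOpens) (χ : Γ(N.left, V.1) →ₐ[k] k) (U : N.left.affineOpens) :
    spcMap (diag k Γ(N.left, U.1)) ≫ qT V χ U = cpt V χ _ := by
  simp only [qT, cpt, MonObj.comp_mul, GrpObj.comp_inv, ← Category.assoc, spcMap_comp]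
  have e1 : (diag k Γ(N.left, U.1)).comp ((Algebra.TensorProduct.includeLeft : red Γ(N.left, U.1) →ₐ[k] _).comp
      (Ideal.Quotient.mkₐ k _)) = Ideal.Quotient.mkₐ k _ := by ext x; simp
  have e2 : (diag k Γ(N.left, U.1)).comp Algebra.TensorProduct.includeRight = Ideal.Quotient.mkₐ k _ := by ext x; simp
  rw [e1, e2, inv_mul_cancel_right]
  congr 2
  ext x; simp [Algebra.ofId_apply]

variable (m : ℕ) (hm : ∀ U : N.left.affineOpens, nilradical Γ(N.left, U.1) ^ (m + 1) = ⊥)

/-- The value of the spread function on a chart. -/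
def IsVal (V : N.left.affineOpens) (χ : Γ(N.left, V.1) →ₐ[k] k) (f : Γ(N.left, V.1))
    (U : N.left.affineOpens) (s : Γ(N.left, U.1)) : Prop :=
  ∃ (h : red Γ(N.left, U.1) ⊗[k] Γ(N.left, U.1)) (n : ℕ)
    (z : red Γ(N.left, U.1) ⊗[k] jet k m Γ(N.left, U.1))
    (φ : Γ(N.left, V.1) ⟶ CommRingCat.of (Localization.Away h)),
    diag k _ h = 1 ∧
    Spec.map φ ≫ V.2.fromSpec =
      Spec.map (CommRingCat.ofHom (algebraMap _ (Localization.Away h))) ≫ (qT V χ U).left ∧
    φ.hom f * algebraMap _ (Localization.Away h) (h ^ n) =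
      algebraMap _ (Localization.Away h) (incl k m _ z) ∧
    act k m (hm U) z = s

variable {m} {V : N.left.affineOpens} {χ : Γ(N.left, V.1) →ₐ[k] k} {f : Γ(N.left, V.1)}

theorem exists_isVal [IsAlgClosed k] [LocallyOfFiniteType N.hom]
    (hf : f ∈ nilradical Γ(N.left, V.1) ^ m) (U : N.left.affineOpens) :
    ∃ s, IsVal m hm V χ f U s := by
  have : Algebra.FiniteType k Γ(N.left, U.1) := by
    refine RingHom.FiniteType.comp (HasRingHomProperty.appLE @LocallyOfFiniteType N.hom inferInstance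
      ⟨⊤, isAffineOpen_top _⟩ U le_top) ?_
    exact RingHom.FiniteType.of_surjective _
      (Scheme.ΓSpecIso (CommRingCat.of k)).symm.commRingCatIsoToRingEquiv.surjective
  let T := red Γ(N.left, U.1) ⊗[k] Γ(N.left, U.1)
  let q := (qT V χ U).left
  let d := diag k Γ(N.left, U.1)
  obtain ⟨I, hI⟩ := (PrimeSpectrum.isClosed_iff_zeroLocus_ideal _).1
    ((q ⁻¹ᵁ V.1).2.isClosed_compl : IsClosed ((q ⁻¹' (V.1 : Set N.left))ᶜ : Set (PrimeSpectrum T)))
  have hd : ∀ p : PrimeSpectrum (red Γ(N.left, U.1)),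
      q (PrimeSpectrum.comap d.toRingHom p) ∈ V.1 := fun p => by
    show (spcMap d ≫ qT V χ U).left p ∈ V.1
    rw [diag_qT]
    exact V.2.range_fromSpec.le ⟨_, rfl⟩
  have htop : I.map d.toRingHom = ⊤ := by
    by_contra hne
    obtain ⟨M, hM, hle⟩ := Ideal.exists_le_maximal _ hne
    have : PrimeSpectrum.comap d.toRingHom ⟨M, hM.isPrime⟩ ∈ ((q ⁻¹' (V.1 : Set N.left))ᶜ : Set (PrimeSpectrum T)) := by
      refine hI.symm.le ?_
      exact fun x hx => hle (Ideal.mem_map_of_mem _ hx)
    exact this (hd _)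
  have hdsurj : Function.Surjective d := fun a => ⟨a ⊗ₜ 1, by simp [d]⟩
  obtain ⟨h, hhI, hh⟩ := (Ideal.mem_map_iff_of_surjective d.toRingHom hdsurj).1 (htop ▸ Submodule.mem_top : (1 : red Γ(N.left, U.1)) ∈ I.map d.toRingHom)
  let a := Spec.map (CommRingCat.ofHom (algebraMap T (Localization.Away h))) ≫ q
  have hr : Set.range a ⊆ Set.range V.2.fromSpec := by
    rw [V.2.range_fromSpec]
    rintro _ ⟨p, rfl⟩
    by_contra hp
    have h1 : h ∈ (PrimeSpectrum.comap (algebraMap T (Localization.Away h)) p).asIdeal := by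
      have : PrimeSpectrum.comap (algebraMap T (Localization.Away h)) p ∈ PrimeSpectrum.zeroLocus (I : Set T) :=
        hI.le hp
      exact this hhI
    exact p.2.ne_top (Ideal.eq_top_of_isUnit_mem _ h1 (IsLocalization.Away.algebraMap_isUnit h))
  have : IsOpenImmersion V.2.fromSpec := IsAffineOpen.isOpenImmersion_fromSpec V.2
  let φ := Spec.preimage (IsOpenImmersion.lift V.2.fromSpec a hr)
  have hx : φ.hom f ∈ nilradical (Localization.Away h) ^ m :=
    map_pow_nilradical_le φ.hom m (Ideal.mem_map_of_mem _ hf)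
  obtain ⟨n, z, hz⟩ := exists_incl_eq k m h hx
  exact ⟨_, h, n, z, φ, hh, by rw [Spec.map_preimage, IsOpenImmersion.lift_fac], hz, rfl⟩

theorem isVal_unique {U : N.left.affineOpens} {s₁ s₂ : Γ(N.left, U.1)}
    (h₁ : IsVal m hm V χ f U s₁) (h₂ : IsVal m hm V χ f U s₂) : s₁ = s₂ := by
  obtain ⟨a, n, z, φ, ha, hφ, hz, rfl⟩ := h₁
  obtain ⟨b, n', z', φ', hb, hφ', hz', rfl⟩ := h₂
  let T := red Γ(N.left, U.1) ⊗[k] Γ(N.left, U.1)
  let S := Localization.Away (a * b)
  have hu : IsUnit (algebraMap T S (a * b)) := IsLocalization.Away.algebraMap_isUnit _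
  rw [map_mul, IsUnit.mul_iff] at hu
  let α : Localization.Away a →+* S := IsLocalization.Away.lift a hu.1
  let β : Localization.Away b →+* S := IsLocalization.Away.lift b hu.2
  have hα : α.comp (algebraMap T _) = algebraMap T S := IsLocalization.Away.lift_comp _ _
  have hβ : β.comp (algebraMap T _) = algebraMap T S := IsLocalization.Away.lift_comp _ _
  have hαβ : φ ≫ CommRingCat.ofHom α = φ' ≫ CommRingCat.ofHom β := by
    apply Spec.map_injective
    have : IsOpenImmersion V.2.fromSpec := IsAffineOpen.isOpenImmersion_fromSpec V.2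
    rw [← cancel_mono V.2.fromSpec, Spec.map_comp, Spec.map_comp, Category.assoc, Category.assoc, hφ, hφ',
      ← Category.assoc, ← Category.assoc, ← Spec.map_comp, ← Spec.map_comp, ← CommRingCat.ofHom_comp,
      ← CommRingCat.ofHom_comp, hα, hβ]
  have hf' : α (φ.hom f) = β (φ'.hom f) := DFunLike.congr_fun (congrArg CommRingCat.Hom.hom hαβ) f
  have hα' : ∀ t : red Γ(N.left, U.1) ⊗[k] Γ(N.left, U.1), α (algebraMap _ _ t) = algebraMap _ S t :=
    fun t => DFunLike.congr_fun hα t
  have hβ' : ∀ t : red Γ(N.left, U.1) ⊗[k] Γ(N.left, U.1), β (algebraMap _ _ t) = algebraMap _ S t :=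
    fun t => DFunLike.congr_fun hβ t
  have e₁ := congrArg α hz
  have e₂ := congrArg β hz'
  rw [map_mul, hα', hα'] at e₁
  rw [map_mul, hβ', hβ'] at e₂
  have key : algebraMap T S (b ^ n' * incl k m _ z) = algebraMap T S (a ^ n * incl k m _ z') := by
    rw [map_mul, map_mul, ← e₁, ← e₂, hf']; ring
  obtain ⟨⟨_, j, rfl⟩, hc⟩ := IsLocalization.exists_of_eq (M := Submonoid.powers (a * b)) key
  simp only [← _root_.mul_assoc] at hc
  exact act_eq_of_eq k m (hm U) (by simp [ha, hb]) (by simp [ha, hb]) hc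

theorem isVal_res {U W : N.left.affineOpens} (h : W.1 ≤ U.1) {s : Γ(N.left, U.1)}
    (hs : IsVal m hm V χ f U s) : IsVal m hm V χ f W (res h s) := by
  obtain ⟨a, n, z, φ, ha, hφ, hz, rfl⟩ := hs
  obtain ⟨z', hz₁, hz₂⟩ := exists_map k m (hm U) (hm W) (res h) z
  let T := red Γ(N.left, U.1) ⊗[k] Γ(N.left, U.1)
  let T' := red Γ(N.left, W.1) ⊗[k] Γ(N.left, W.1)
  let τ : T →ₐ[k] T' := tMap k (res h)
  let α : Localization.Away a →+* Localization.Away (τ a) :=
    IsLocalization.Away.lift a (g := (algebraMap T' _).comp τ.toRingHom)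
      (IsLocalization.Away.algebraMap_isUnit (τ a))
  have hα : α.comp (algebraMap T _) = (algebraMap T' _).comp τ.toRingHom := IsLocalization.Away.lift_comp _ _
  refine ⟨τ a, n, z', φ ≫ CommRingCat.ofHom α, ?_, ?_, ?_, hz₂⟩
  · rw [diag_tMap, ha, map_one]
  · rw [← qT_natural V χ h, Spec.map_comp, Category.assoc, hφ, ← Category.assoc, ← Spec.map_comp,
      ← CommRingCat.ofHom_comp, hα, CommRingCat.ofHom_comp, Spec.map_comp, Category.assoc]
    rfl
  · have hα' : ∀ t : red Γ(N.left, U.1) ⊗[k] Γ(N.left, U.1), α (algebraMap _ _ t) = algebraMap _ _ (τ t) :=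
      fun t => DFunLike.congr_fun hα t
    have := congrArg α hz
    rw [map_mul, hα', hα'] at this
    rw [hz₁, ← map_pow]
    exact this

theorem mem_of_isVal {s : Γ(N.left, V.1)} (hf : f ∈ nilradical Γ(N.left, V.1) ^ m)
    (hs : IsVal m hm V χ f V s) (h0 : s = 0) :
    f ∈ RingHom.ker χ * nilradical Γ(N.left, V.1) ^ m := by
  obtain ⟨a, n, z, φ, ha, hφ, hz, rfl⟩ := hs
  let B := Γ(N.left, V.1)
  let χ' : red B →ₐ[k] k := Ideal.Quotient.liftₐ _ χ fun x hx =>
    (IsNilpotent.map (mem_nilradical.1 hx) χ).eq_zero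
  have hχ : χ'.comp (Ideal.Quotient.mkₐ k _) = χ := by ext x; rfl
  let ev : red B ⊗[k] B →ₐ[k] B :=
    Algebra.TensorProduct.lift ((Algebra.ofId k B).comp χ') (AlgHom.id k B) fun _ _ => Commute.all _ _
  have hg : χ (ev a) = 1 := by
    have : χ.comp ev = χ'.comp (diag k B) := by
      apply Algebra.TensorProduct.ext
      · ext x
        show χ (ev (x ⊗ₜ 1)) = χ' (DiagExt.diag k B (x ⊗ₜ 1))
        simp only [ev, Algebra.TensorProduct.lift_tmul, map_one, _root_.mul_one, diag_tmul, AlgHom.comp_apply,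
          Algebra.ofId_apply]
        exact χ.commutes _
      · ext x
        show χ (ev (1 ⊗ₜ x)) = χ' (DiagExt.diag k B (1 ⊗ₜ x))
        simp only [ev, Algebra.TensorProduct.lift_tmul, map_one, _root_.one_mul, diag_tmul, AlgHom.id_apply]
        exact (DFunLike.congr_fun hχ x).symm
    exact (DFunLike.congr_fun this a).trans (by rw [AlgHom.comp_apply, ha, map_one])
  have hev : spcMap ev ≫ qT V χ V = chartι V := by
    simp only [qT, cpt, MonObj.comp_mul, GrpObj.comp_inv, ← Category.assoc, spcMap_comp]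
    have e1 : ev.comp ((Algebra.TensorProduct.includeLeft : red B →ₐ[k] _).comp (Ideal.Quotient.mkₐ k _)) =
        (Algebra.ofId k B).comp χ := by
      ext x
      simp only [AlgHom.comp_apply, ev, Algebra.TensorProduct.includeLeft_apply, Algebra.TensorProduct.lift_tmul,
        map_one, _root_.mul_one]
      exact congrArg (algebraMap k B) (DFunLike.congr_fun hχ x)
    have e2 : ev.comp Algebra.TensorProduct.includeRight = AlgHom.id k B := by ext x; simp [ev]
    have e3 : ev.comp ((Algebra.ofId k _).comp χ) = (Algebra.ofId k B).comp χ := by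
      ext x; exact ev.commutes (χ x)
    rw [e1, e2, e3, spcMap_id, Category.id_comp, mul_inv_cancel, _root_.one_mul]
  let α : Localization.Away a →+* Localization.Away (ev a) :=
    IsLocalization.Away.lift a (g := (algebraMap B _).comp ev.toRingHom)
      (IsLocalization.Away.algebraMap_isUnit (ev a))
  have hα : α.comp (algebraMap _ _) = (algebraMap B _).comp ev.toRingHom := IsLocalization.Away.lift_comp _ _
  have hαφ : φ ≫ CommRingCat.ofHom α = CommRingCat.ofHom (algebraMap B (Localization.Away (ev a))) := by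
    apply Spec.map_injective
    have : IsOpenImmersion V.2.fromSpec := IsAffineOpen.isOpenImmersion_fromSpec V.2
    rw [← cancel_mono V.2.fromSpec, Spec.map_comp, Category.assoc, hφ, ← Category.assoc, ← Spec.map_comp,
      ← CommRingCat.ofHom_comp, hα, CommRingCat.ofHom_comp, Spec.map_comp, Category.assoc]
    exact congrArg (_ ≫ ·) (congrArg CommaMorphism.left hev)
  have hα' : ∀ t : red Γ(N.left, V.1) ⊗[k] Γ(N.left, V.1), α (algebraMap _ _ t) = algebraMap _ _ (ev t) :=
    fun t => DFunLike.congr_fun hα t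
  have e := congrArg α hz
  rw [map_mul, hα', hα', show α (φ.hom f) = algebraMap B (Localization.Away (ev a)) f from
    DFunLike.congr_fun (congrArg CommRingCat.Hom.hom hαφ) f] at e
  simp only [B, ← map_mul] at e
  obtain ⟨⟨_, j, rfl⟩, hc⟩ := IsLocalization.exists_of_eq (M := Submonoid.powers (ev a)) e
  have h2 : ev (incl k m B z) ∈ RingHom.ker χ * nilradical B ^ m := by
    have := act_sub_mem k m (hm V) χ' z
    rw [h0, zero_sub, neg_mem_iff, hχ] at this
    exact this
  have h3 : ev a ^ (j + n) * f ∈ RingHom.ker χ * nilradical B ^ m := by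
    rw [pow_add, _root_.mul_assoc, mul_comm (ev a ^ n), ← map_pow ev a n]
    exact (Eq.symm hc) ▸ Ideal.mul_mem_left _ _ h2
  have h4 : (ev a ^ (j + n) - 1) * f ∈ RingHom.ker χ * nilradical B ^ m :=
    Ideal.mul_mem_mul (by simp [RingHom.mem_ker, hg]) hf
  rw [sub_mul, _root_.one_mul] at h4
  simpa using sub_mem h3 h4

/-- If the zero function is the only nilpotent one then the group scheme is reduced. -/
theorem isReduced_of_forall [IsAlgClosed k] [LocallyOfFiniteType N.hom] [QuasiCompact N.hom]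
    (hO : ∀ s : Γ(N.left, ⊤), IsNilpotent s → s = 0) : IsReduced N.left := by
  classical
  have hft : ∀ U : N.left.affineOpens, Algebra.FiniteType k Γ(N.left, U.1) := fun U => by
    refine RingHom.FiniteType.comp (HasRingHomProperty.appLE @LocallyOfFiniteType N.hom inferInstance
      ⟨⊤, isAffineOpen_top _⟩ U le_top) ?_
    exact RingHom.FiniteType.of_surjective _
      (Scheme.ΓSpecIso (CommRingCat.of k)).symm.commRingCatIsoToRingEquiv.surjective
  have : IsLocallyNoetherian N.left := LocallyOfFiniteType.isLocallyNoetherian N.hom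
  have hnoe : ∀ U : N.left.affineOpens, IsNoetherianRing Γ(N.left, U.1) := fun U =>
    IsLocallyNoetherian.component_noetherian U
  have : CompactSpace N.left := QuasiCompact.compactSpace_of_compactSpace N.hom
  have hsep : ∀ (U : N.left.Opens) (s t : Γ(N.left, U)),
      (∀ x ∈ U, ∃ (W : N.left.Opens) (h : W ≤ U), x ∈ W ∧
        N.left.presheaf.map (homOfLE h).op s = N.left.presheaf.map (homOfLE h).op t) → s = t := by
    intro U s t h
    choose W hW hxW hWe using h
    exact N.left.sheaf.eq_of_locally_eq' (fun x : U => W x.1 x.2) U (fun x => homOfLE (hW x.1 x.2))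
      (fun x hx => TopologicalSpace.Opens.mem_iSup.2 ⟨⟨x, hx⟩, hxW x hx⟩) s t fun x => hWe x.1 x.2
  have hP : ∃ n, ∀ U : N.left.affineOpens, nilradical Γ(N.left, U.1) ^ (n + 1) = ⊥ := by
    obtain ⟨t, ht⟩ := isCompact_univ.elim_finite_subcover (fun U : N.left.affineOpens => (U.1 : Set N.left))
      (fun U => U.1.2) (by
        intro x _
        obtain ⟨_, ⟨W, hW, rfl⟩, hxW, -⟩ := N.left.isBasis_affineOpens.exists_subset_of_mem_open (Set.mem_univ x) isOpen_univ
        exact Set.mem_iUnion.2 ⟨⟨W, hW⟩, hxW⟩)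
    have hnil : ∀ U : N.left.affineOpens, ∃ n, nilradical Γ(N.left, U.1) ^ n = ⊥ := fun U =>
      IsNoetherianRing.isNilpotent_nilradical _
    choose e he using hnil
    refine ⟨t.sup e, fun U => eq_bot_iff.2 fun x hx => (Submodule.mem_bot _).2 (hsep _ x 0 fun p hp => ?_)⟩
    obtain ⟨Ui, hUi, hpUi⟩ := Set.mem_iUnion₂.1 (ht (Set.mem_univ p))
    obtain ⟨g, hg, hpg⟩ := Ui.2.exists_basicOpen_le ⟨p, hp⟩ hpUi
    refine ⟨_, hg, hpg, ?_⟩
    rw [map_zero]
    have hle : N.left.basicOpen g ≤ Ui.1 := N.left.basicOpen_le g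
    have := Ui.2.isLocalization_basicOpen g
    have h1 := map_pow_nilradical_le (N.left.presheaf.map (homOfLE hg).op).hom (t.sup e + 1)
      (Ideal.mem_map_of_mem _ hx)
    have h2 : nilradical Γ(N.left, N.left.basicOpen g) ^ (t.sup e + 1) = ⊥ := by
      rw [eq_bot_iff]
      refine (Ideal.pow_right_mono (nilradical_le_map g) _).trans ?_
      rw [← Ideal.map_pow, Ideal.map_le_iff_le_comap]
      refine (Ideal.pow_le_pow_right ((Finset.le_sup hUi).trans (Nat.le_succ _))).trans ?_
      rw [he]; exact bot_le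
    rw [h2] at h1
    exact (Submodule.mem_bot _).1 h1
  by_contra hred
  let m := Nat.find hP
  have hm : ∀ U : N.left.affineOpens, nilradical Γ(N.left, U.1) ^ (m + 1) = ⊥ := Nat.find_spec hP
  obtain ⟨m₀, hm₀⟩ : ∃ m₀, m = m₀ + 1 := by
    rcases Nat.eq_zero_or_pos m with h | h
    · refine (hred ?_).elim
      have hz : ∀ U : N.left.affineOpens, _root_.IsReduced Γ(N.left, U.1) := fun U =>
        ⟨fun x hx => by
          have := hm U
          rw [h, _root_.zero_add, pow_one] at this
          exact (Submodule.mem_bot _).1 (this.le (mem_nilradical.2 hx))⟩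
      refine ⟨fun U => ⟨fun s hs => hsep U s 0 fun p hp => ?_⟩⟩
      obtain ⟨_, ⟨W, hW, rfl⟩, hpW, hWU⟩ := N.left.isBasis_affineOpens.exists_subset_of_mem_open hp U.2
      refine ⟨W, hWU, hpW, ?_⟩
      rw [map_zero]
      exact (hz ⟨W, hW⟩).eq_zero _ (hs.map _)
    · exact ⟨m - 1, by omega⟩
  obtain ⟨V, hV⟩ : ∃ V : N.left.affineOpens, nilradical Γ(N.left, V.1) ^ m ≠ ⊥ := by
    by_contra h
    push Not at h
    exact Nat.find_min hP (m := m₀) (by omega) fun U => by rw [← hm₀]; exact h U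
  have := hft V
  have := hnoe V
  obtain ⟨M, hM, hJ⟩ : ∃ M : Ideal Γ(N.left, V.1), M.IsMaximal ∧
      ¬ nilradical Γ(N.left, V.1) ^ m ≤ M * nilradical Γ(N.left, V.1) ^ m := by
    by_contra h
    push Not at h
    refine hV ?_
    let J := nilradical Γ(N.left, V.1) ^ m
    have htop : J.annihilator = ⊤ := by
      by_contra hne
      obtain ⟨M, hM, hle⟩ := Ideal.exists_le_maximal _ hne
      obtain ⟨r, hr, hrJ⟩ := Submodule.exists_sub_one_mem_and_smul_eq_zero_of_fg_of_le_smul M J
        (IsNoetherian.noetherian J) (h M hM)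
      have : r ∈ M := hle (Submodule.mem_annihilator.2 hrJ)
      exact hM.ne_top ((Ideal.eq_top_iff_one _).2 (by simpa using sub_mem this hr))
    exact Submodule.annihilator_eq_top_iff.1 htop
  obtain ⟨f, hf, hfM⟩ := SetLike.not_le_iff_exists.1 hJ
  obtain ⟨χ, rfl⟩ := exists_point (k := k) M
  choose sf hsf using exists_isVal (χ := χ) hm hf
  have hcompat : TopCat.Presheaf.IsCompatible N.left.sheaf.1 (fun U : N.left.affineOpens => U.1) sf := by
    intro i j
    refine hsep _ _ _ fun p hp => ?_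
    obtain ⟨_, ⟨W, hW, rfl⟩, hpW, hWU⟩ := N.left.isBasis_affineOpens.exists_subset_of_mem_open hp (i.1 ⊓ j.1).2
    refine ⟨W, hWU, hpW, ?_⟩
    have h1 := isVal_res hm (W := ⟨W, hW⟩) (fun y hy => (hWU hy).1) (hsf i)
    have h2 := isVal_res hm (W := ⟨W, hW⟩) (fun y hy => (hWU hy).2) (hsf j)
    have h3 := isVal_unique hm h1 h2
    show (N.left.presheaf.map (TopologicalSpace.Opens.infLELeft i.1 j.1).op ≫ N.left.presheaf.map (homOfLE hWU).op).hom (sf i) =
      (N.left.presheaf.map (TopologicalSpace.Opens.infLERight i.1 j.1).op ≫ N.left.presheaf.map (homOfLE hWU).op).hom (sf j)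
    erw [← Functor.map_comp, ← Functor.map_comp]
    exact h3
  obtain ⟨s, hs, -⟩ := N.left.sheaf.existsUnique_gluing' (fun U : N.left.affineOpens => U.1) ⊤
    (fun _ => homOfLE le_top) (fun x _ => by
      obtain ⟨_, ⟨W, hW, rfl⟩, hxW, -⟩ := N.left.isBasis_affineOpens.exists_subset_of_mem_open (Set.mem_univ x) isOpen_univ
      exact TopologicalSpace.Opens.mem_iSup.2 ⟨⟨W, hW⟩, hxW⟩) sf hcompat
  have hs0 : s = 0 := hO s ⟨2, hsep _ _ _ fun p _ => by
    obtain ⟨_, ⟨W, hW, rfl⟩, hpW, -⟩ := N.left.isBasis_affineOpens.exists_subset_of_mem_open (Set.mem_univ p) isOpen_univ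
    refine ⟨W, le_top, hpW, ?_⟩
    rw [map_zero]
    refine (map_pow (N.left.presheaf.map (homOfLE (le_top : W ≤ ⊤)).op).hom s 2).trans ?_
    have hW' : sf ⟨W, hW⟩ ∈ nilradical Γ(N.left, W) ^ m := by
      obtain ⟨a, n, z, φ, -, -, -, hz⟩ := hsf ⟨W, hW⟩
      rw [← hz]; exact act_mem k m _ z
    have h2 : sf ⟨W, hW⟩ ^ 2 ∈ nilradical Γ(N.left, W) ^ (m + 1) := by
      refine Ideal.pow_le_pow_right (show m + 1 ≤ m * 2 by omega) ?_
      rw [pow_mul]; exact Ideal.pow_mem_pow hW' 2
    rw [hm ⟨W, hW⟩] at h2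
    exact (congrArg (· ^ 2) (hs ⟨W, hW⟩)).trans ((Submodule.mem_bot _).1 h2)⟩
  exact hfM (mem_of_isVal hm hf (hsf V) ((hs V).symm.trans ((congrArg _ hs0).trans (map_zero _))))

end Groth.Agent.HopfRep.NilpFun

end
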