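import Groth.Agent.HopfRep.DiagRigid
import Groth.Agent.HopfRep.FreeDiag
import Groth.Agent.HopfRep.GrpTop
import Mathlib.AlgebraicGeometry.ResidueField
import Mathlib.RingTheory.Spectrum.Prime.Topology

/-!
A normal subgroup of multiplicative type of a connected group scheme over a field is central: the locus where
the conjugation is trivial on characters is cut out by idempotents, hence clopen, and it contains the unit.
-/

universe u

open CategoryTheory MonoidalCategory CartesianMonoidalCategory MonObj AlgebraicGeometry Limits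

set_option linter.style.haveILetI false

noncomputable section

namespace Groth.Agent.HopfRep.NormalRigid

open DiagRigid

variable {S : Scheme.{u}} {K H : Over S} [GrpObj K] [GrpObj H] (i : H ⟶ K)

/-- `g` centralises `H`. -/
def Cen {Y : Over S} (g : Y ⟶ K) : Prop :=
  (fst Y H ≫ g) * (snd Y H ≫ i) = (snd Y H ≫ i) * (fst Y H ≫ g)

theorem Cen.comp {Y Y' : Over S} {g : Y ⟶ K} (h : Cen i g) (j : Y' ⟶ Y) : Cen i (j ≫ g) := by
  have h1 := congrArg (fun z => (j ▷ H) ≫ z) h
  simp only [MonObj.comp_mul, whiskerRight_fst_assoc, whiskerRight_snd_assoc] at h1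
  exact h1

theorem Cen.apply {Y : Over S} {g : Y ⟶ K} (h : Cen i g) (y : Y ⟶ H) : g * (y ≫ i) = (y ≫ i) * g := by
  have h1 := congrArg (fun z => lift (𝟙 Y) y ≫ z) h
  simpa [MonObj.comp_mul] using h1

theorem isPullback_whiskerRight {Y Y' : Over S} (j : Y' ⟶ Y) :
    IsPullback (fst Y' H) (j ▷ H) j (fst Y H) :=
  IsPullback.of_isLimit' ⟨by simp⟩ (PullbackCone.IsLimit.mk _ (fun c => lift c.fst (c.snd ≫ snd Y H))
    (fun c => by simp) (fun c => by
      apply CartesianMonoidalCategory.hom_ext
      · simp [c.condition]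
      · simp)
    (fun c m h1 h2 => by
      apply CartesianMonoidalCategory.hom_ext
      · simpa using h1
      · rw [lift_snd, ← h2]; simp))

theorem Cen.of_comp {Y Y' : Over S} {g : Y ⟶ K} (j : Y' ⟶ Y) [Flat j.left] [Surjective j.left]
    (h : Cen i (j ≫ g)) : Cen i g := by
  have hp := (isPullback_whiskerRight (H := H) j).map (Over.forget S)
  have : Flat (j ▷ H).left := MorphismProperty.of_isPullback (P := @Flat) hp ‹_›
  have : Surjective (j ▷ H).left := MorphismProperty.of_isPullback (P := @Surjective) hp ‹_›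
  have : Epi (j ▷ H).left := Flat.epi_of_flat_of_surjective _
  have : Epi (j ▷ H) := (Over.forget S).epi_of_epi_map (by exact this)
  rw [Cen, ← cancel_epi (j ▷ H), MonObj.comp_mul, MonObj.comp_mul, whiskerRight_fst_assoc, whiskerRight_snd_assoc]
  exact h

theorem cen_one (Y : Over S) : Cen i (1 : Y ⟶ K) := by
  rw [Cen, MonObj.comp_one, _root_.one_mul, _root_.mul_one]

/-- the point of `K` attached to a point of a scheme over it -/
abbrev resObj {P : Scheme.{u}} (m : P ⟶ K.left) (x : P) : Over S := Over.mk (P.fromSpecResidueField x ≫ m ≫ K.hom)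

/-- the tautological point at `x` -/
def resPt {P : Scheme.{u}} (m : P ⟶ K.left) (x : P) : resObj m x ⟶ K :=
  Over.homMk (P.fromSpecResidueField x ≫ m) (Category.assoc _ _ _)

theorem cen_field_iff {P : Scheme.{u}} (m : P ⟶ K.left) (F : Type u) [Field F]
    (l : Spec (CommRingCat.of F) ⟶ P) {Y : Over S} (e : Y.left ≅ Spec (CommRingCat.of F)) (g : Y ⟶ K)
    (hg : g.left = e.hom ≫ l ≫ m) :
    Cen i g ↔ Cen i (resPt m (l (IsLocalRing.closedPoint F))) := by
  obtain ⟨⟨x, φ⟩, hφ⟩ := (P.SpecToEquivOfField F).symm.surjective l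
  have hφ' : Spec.map φ ≫ P.fromSpecResidueField x = l := hφ
  have hx : l (IsLocalRing.closedPoint F) = x := by
    rw [← hφ']
    show P.fromSpecResidueField x (Spec.map φ _) = x
    exact Scheme.fromSpecResidueField_apply x _
  rw [hx]
  let j : Y ⟶ resObj m x := Over.homMk (e.hom ≫ Spec.map φ) (by
    show _ ≫ _ ≫ m ≫ K.hom = Y.hom
    rw [Category.assoc, ← Category.assoc (Spec.map φ), hφ', ← Over.w g, hg]
    simp)
  have hj : j ≫ resPt m x = g := by
    ext1
    show (e.hom ≫ Spec.map φ) ≫ _ ≫ m = g.left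
    rw [hg, Category.assoc, ← Category.assoc (Spec.map φ), hφ']
  have : Flat (Spec.map φ) := by
    rw [HasRingHomProperty.Spec_iff (P := @Flat)]
    letI := φ.hom.toAlgebra
    exact RingHom.flat_algebraMap_iff.2 (Module.Flat.of_free (R := P.residueField x) (M := F))
  have : Surjective (Spec.map φ) := ⟨fun p => ⟨IsLocalRing.closedPoint F,
    Subsingleton.elim (α := PrimeSpectrum (P.residueField x)) _ _⟩⟩
  have : Flat j.left := inferInstanceAs (Flat (e.hom ≫ Spec.map φ))
  have : Surjective j.left := inferInstanceAs (Surjective (e.hom ≫ Spec.map φ))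
  exact ⟨fun h => Cen.of_comp i j (hj.symm ▸ h), fun h => hj ▸ h.comp i j⟩

section Chart

variable [IsMonHom i] [Mono i] {R : Type u} [CommRing R] {t : Spec (CommRingCat.of R) ⟶ S}
  {M : Type} [AddCommGroup M] (Q : CharPts t M H)
  (hQ : ∀ (B : Type u) [CommRing B] [Algebra R B], Function.Injective (Q.pt B))
  {A : Type u} [CommRing A] [Algebra R A] {w : Spec (CommRingCat.of A) ⟶ pullback K.hom t}
  (hw : w ≫ pullback.snd K.hom t = Spec.map (CommRingCat.ofHom (algebraMap R A)))
  (hn : AlgGrp.IsNormalHom i)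

include hQ hn in
theorem exists_conj : ∃ z : Multiplicative M →* MonoidAlgebra A (Multiplicative M),
    ∀ (B : Type u) [CommRing B] [Algebra R B] (χ : Multiplicative M →* B) (α : A →ₐ[R] B),
      xpt t hw α * (Q.pt B χ ≫ i) * (xpt t hw α)⁻¹ = Q.pt B ((evMap χ α : _ →* B).comp z) ≫ i := by
  obtain ⟨h', hh'⟩ := hn (T t (MonoidAlgebra A (Multiplicative M))) (xpt t hw incl)
    (Q.pt _ (MonoidAlgebra.of A (Multiplicative M)))
  obtain ⟨z, hz⟩ := Q.pt_surjective _ h'
  refine ⟨z, fun B _ _ χ α => ?_⟩
  have h1 := congrArg (fun f => Tmap t (evMap χ α) ≫ f) hh'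
  rw [← hz] at h1
  simp only [MonObj.comp_mul, GrpObj.comp_inv, ← Category.assoc, Q.pt_nat, Tmap_xpt] at h1
  have e1 : (evMap χ α : MonoidAlgebra A (Multiplicative M) →* B).comp (MonoidAlgebra.of A (Multiplicative M)) = χ := by
    refine MonoidHom.ext fun m => ?_
    simp [evMap_single]
  have e2 : (evMap χ α).comp incl = α := by
    refine AlgHom.ext fun c => ?_
    simp [incl_apply, evMap_single]
  rw [e1, e2] at h1
  exact h1

variable {z : Multiplicative M →* MonoidAlgebra A (Multiplicative M)}
  (hz : ∀ (B : Type u) [CommRing B] [Algebra R B] (χ : Multiplicative M →* B) (α : A →ₐ[R] B),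
      xpt t hw α * (Q.pt B χ ≫ i) * (xpt t hw α)⁻¹ = Q.pt B ((evMap χ α : _ →* B).comp z) ≫ i)

include hQ hz in
theorem ev_mul (B : Type u) [CommRing B] [Algebra R B] (χ₁ χ₂ : Multiplicative M →* B) (α : A →ₐ[R] B)
    (m : Multiplicative M) : evMap (χ₁ * χ₂) α (z m) = evMap χ₁ α (z m) * evMap χ₂ α (z m) := by
  have h1 : Q.pt B ((evMap (χ₁ * χ₂) α : _ →* B).comp z) =
      Q.pt B (((evMap χ₁ α : _ →* B).comp z) * ((evMap χ₂ α : _ →* B).comp z)) := by
    rw [← cancel_mono i, ← hz, ← Q.pt_mul, ← Q.pt_mul, MonObj.mul_comp, MonObj.mul_comp, ← hz, ← hz]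
    group
  exact DFunLike.congr_fun (hQ B h1) m

include hQ hz in
theorem ev_one (B : Type u) [CommRing B] [Algebra R B] (α : A →ₐ[R] B)
    (m : Multiplicative M) : evMap (1 : Multiplicative M →* B) α (z m) = 1 := by
  have h1 : Q.pt B ((evMap (1 : Multiplicative M →* B) α : _ →* B).comp z) = Q.pt B 1 := by
    rw [← cancel_mono i, ← hz, CharPts.pt_one _ Q B, MonObj.one_comp, _root_.mul_one, mul_inv_cancel]
  exact DFunLike.congr_fun (hQ B h1) m

open Classical in
include hQ hz in
theorem coeff_mul (m n n' : Multiplicative M) :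
    (z m).coeff n * (z m).coeff n' = if n = n' then (z m).coeff n else 0 := by
  classical
  let AM := MonoidAlgebra A (Multiplicative M)
  let AMM := MonoidAlgebra AM (Multiplicative M)
  let inc₂ : AM →ₐ[R] AMM := incl
  let χ₁ : Multiplicative M →* AMM := MonoidAlgebra.of AM (Multiplicative M)
  let χ₂ : Multiplicative M →* AMM := (inc₂ : AM →* AMM).comp (MonoidAlgebra.of A (Multiplicative M))
  let α₂ : A →ₐ[R] AMM := inc₂.comp incl
  have h := ev_mul i Q hQ hw hz AMM χ₁ χ₂ α₂ m
  have hl : ∀ v : AM, (evMap (χ₁ * χ₂) α₂ v).coeff n = MonoidAlgebra.single n (v.coeff n) := by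
    intro v
    induction v using MonoidAlgebra.induction_linear with
    | zero =>
      rw [map_zero]
      show (0 : AM) = MonoidAlgebra.single n (0 : A)
      simp
    | add x y hx hy =>
      rw [map_add]
      erw [MonoidAlgebra.coeff_add, Finsupp.add_apply, hx, hy]
      exact (MonoidAlgebra.single_add n _ _).symm
    | single k d =>
      rw [evMap_single]
      show (MonoidAlgebra.single 1 (MonoidAlgebra.single 1 d) *
        (MonoidAlgebra.single k 1 * MonoidAlgebra.single 1 (MonoidAlgebra.single k (1 : A))) : AMM).coeff n = _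
      rw [MonoidAlgebra.single_mul_single, MonoidAlgebra.single_mul_single, _root_.one_mul, _root_.mul_one,
        _root_.one_mul, MonoidAlgebra.single_mul_single, _root_.one_mul, _root_.mul_one]
      by_cases hn : k = n
      · subst hn; simp
      · simp [hn, Ne.symm hn]
  have hr1 : ∀ v : AM, evMap χ₂ α₂ v = inc₂ v := by
    intro v
    induction v using MonoidAlgebra.induction_linear with
    | zero => simp
    | add x y hx hy => simp [hx, hy]
    | single k d =>
      rw [evMap_single]
      show inc₂ ((incl : A →ₐ[R] AM) d) * inc₂ (MonoidAlgebra.of A (Multiplicative M) k) = inc₂ _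
      rw [← map_mul]
      congr 1
      show MonoidAlgebra.single 1 d * MonoidAlgebra.single k 1 = _
      rw [MonoidAlgebra.single_mul_single, _root_.one_mul, _root_.mul_one]
  have hr2 : ∀ v : AM, (evMap χ₁ α₂ v).coeff n = MonoidAlgebra.single 1 (v.coeff n) := by
    intro v
    induction v using MonoidAlgebra.induction_linear with
    | zero =>
      rw [map_zero]
      show (0 : AM) = MonoidAlgebra.single 1 (0 : A)
      simp
    | add x y hx hy =>
      rw [map_add]
      erw [MonoidAlgebra.coeff_add, Finsupp.add_apply, hx, hy]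
      exact (MonoidAlgebra.single_add 1 _ _).symm
    | single k d =>
      rw [evMap_single]
      show (MonoidAlgebra.single 1 (MonoidAlgebra.single 1 d) * MonoidAlgebra.single k (1 : AM) : AMM).coeff n = _
      rw [MonoidAlgebra.single_mul_single, _root_.one_mul, _root_.mul_one]
      by_cases hn : k = n
      · subst hn; simp
      · simp [hn, Ne.symm hn]
  have h2 := congrArg (fun v : AMM => (v.coeff n).coeff n') h
  simp only [hr1] at h2
  have h3 : ∀ (v : MonoidAlgebra AM (Multiplicative M)) (x : AM), (v * MonoidAlgebra.single 1 x).coeff n = v.coeff n * x := fun v x => by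
    rw [MonoidAlgebra.coeff_mul_single_apply, inv_one, _root_.mul_one]
  have h4 : (MonoidAlgebra.single 1 ((z m).coeff n) * (z m) : AM).coeff n' = (z m).coeff n * (z m).coeff n' := by
    rw [MonoidAlgebra.coeff_single_mul_apply, inv_one, _root_.one_mul]
  rw [show inc₂ (z m) = MonoidAlgebra.single 1 (z m) from rfl, h3, hl, hr2, h4] at h2
  rw [← h2, MonoidAlgebra.coeff_single, Finsupp.single_apply]

include hQ hz in
theorem coeff_map_eq {F : Type u} [CommRing F] [Algebra R F] (α : A →ₐ[R] F) (m : Multiplicative M)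
    (hm : α ((z m).coeff m) = 1) (χ : Multiplicative M →* F) : evMap χ α (z m) = χ m := by
  classical
  conv_lhs => rw [← MonoidAlgebra.sum_coeff_single (z m)]
  simp only [Finsupp.sum, map_sum, evMap_single]
  have h0 : ∀ n, n ≠ m → α ((z m).coeff n) = 0 := fun n hn => by
    rw [← _root_.mul_one (α ((z m).coeff n)), ← hm, ← map_mul, coeff_mul i Q hQ hw hz, if_neg hn, map_zero]
  rw [Finset.sum_eq_single m (fun n _ hn => by rw [h0 n hn, MulZeroClass.zero_mul]) (fun h => by
    rw [Finsupp.notMem_support_iff.1 h, map_zero, MulZeroClass.zero_mul])]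
  rw [hm, _root_.one_mul]

include hQ hz in
/-- A chart point centralises iff it kills the off-diagonal idempotents. -/
theorem cen_xpt_iff (G₀ : Set (Multiplicative M)) (hG₀ : Subgroup.closure G₀ = ⊤)
    (F : Type u) [CommRing F] [Algebra R F] (α : A →ₐ[R] F) :
    Cen i (xpt t hw α) ↔ ∀ m ∈ G₀, α ((z m).coeff m) = 1 := by
  classical
  constructor
  · intro h m _
    let B := MonoidAlgebra F (Multiplicative M)
    let inc : F →ₐ[R] B := incl
    let χ : Multiplicative M →* B := MonoidAlgebra.of F (Multiplicative M)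
    have h1 := (h.comp i (Tmap t inc)).apply i (Q.pt B χ)
    rw [Tmap_xpt, ← mul_inv_eq_iff_eq_mul, hz, cancel_mono] at h1
    have h2 := congrArg (fun v : B => v.coeff m) (DFunLike.congr_fun (hQ B h1) m)
    have key : ∀ v : MonoidAlgebra A (Multiplicative M), (evMap χ (inc.comp α) v).coeff m = α (v.coeff m) := by
      intro v
      induction v using MonoidAlgebra.induction_linear with
      | zero => rw [map_zero]; exact (map_zero α).symm
      | add x y hx hy =>
        rw [map_add]
        erw [MonoidAlgebra.coeff_add, Finsupp.add_apply, hx, hy]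
        exact (map_add α _ _).symm
      | single k d =>
        rw [evMap_single]
        show (MonoidAlgebra.single 1 (α d) * MonoidAlgebra.single k (1 : F) : B).coeff m = _
        rw [MonoidAlgebra.single_mul_single, _root_.one_mul, _root_.mul_one]
        by_cases hn : k = m
        · subst hn; simp
        · simp [hn, Ne.symm hn]
    simp only [MonoidHom.comp_apply] at h2
    rw [show (evMap χ (inc.comp α) : MonoidAlgebra A (Multiplicative M) →* B) (z m) = evMap χ (inc.comp α) (z m) from rfl,
      key] at h2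
    refine h2.trans ?_
    show (MonoidAlgebra.single m (1 : F) : B).coeff m = 1
    simp
  · intro h
    unfold Cen
    ext1
    refine Scheme.hom_ext_of_forall _ _ fun y => ?_
    obtain ⟨_, ⟨O, hO, rfl⟩, hyO, -⟩ := (T t F ⊗ H).left.isBasis_affineOpens.exists_subset_of_mem_open
      (Set.mem_univ y) isOpen_univ
    have hOa : IsAffineOpen O := hO
    refine ⟨O, hyO, ?_⟩
    rw [← cancel_epi hOa.isoSpec.inv, IsAffineOpen.isoSpec_inv_ι_assoc, IsAffineOpen.isoSpec_inv_ι_assoc]
    let B : Type u := Γ((T t F ⊗ H).left, O)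
    let ψ : CommRingCat.of F ⟶ Γ((T t F ⊗ H).left, O) := Spec.preimage (hOa.fromSpec ≫ (fst (T t F) H).left)
    letI : Algebra R B := (ψ.hom.comp (algebraMap R F)).toAlgebra
    let ψ' : F →ₐ[R] B := { ψ.hom with commutes' := fun _ => rfl }
    let j : T t B ⟶ T t F ⊗ H := Over.homMk hOa.fromSpec (by
      show _ = Spec.map _ ≫ t
      rw [← Over.w (fst (T t F) H)]
      show hOa.fromSpec ≫ (fst (T t F) H).left ≫ Spec.map _ ≫ t = _
      rw [← Category.assoc, show hOa.fromSpec ≫ (fst (T t F) H).left = Spec.map ψ from (Spec.map_preimage _).symm,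
        ← Category.assoc, ← Spec.map_comp]
      rfl)
    have hjf : j ≫ fst (T t F) H = Tmap t ψ' := by
      ext1
      exact (Spec.map_preimage _).symm
    obtain ⟨χ, hχ⟩ := Q.pt_surjective B (j ≫ snd (T t F) H)
    have h1 : j ≫ ((fst (T t F) H ≫ xpt t hw α) * (snd (T t F) H ≫ i)) =
        j ≫ ((snd (T t F) H ≫ i) * (fst (T t F) H ≫ xpt t hw α)) := by
      simp only [MonObj.comp_mul, ← Category.assoc, hjf, ← hχ, Tmap_xpt]
      rw [← mul_inv_eq_iff_eq_mul, hz]
      congr 1
      congr 1
      refine MonoidHom.eq_of_eqOn_top ?_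
      rw [← hG₀]
      intro m hm
      induction hm using Subgroup.closure_induction with
      | mem m hm =>
        exact coeff_map_eq i Q hQ hw hz _ m (by rw [AlgHom.comp_apply, h m hm, map_one]) χ
      | one => simp
      | mul x y _ _ hx hy => rw [map_mul, map_mul, hx, hy]
      | inv x _ hx =>
        apply left_inv_eq_right_inv (a := (χ x))
        · rw [← hx, ← map_mul, inv_mul_cancel, map_one]
        · rw [← map_mul, mul_inv_cancel, map_one]
    exact congrArg Over.Hom.left h1

include hQ hz in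
theorem isIdempotentElem_coeff (m n : Multiplicative M) : IsIdempotentElem ((z m).coeff n) := by
  show _ * _ = _
  rw [coeff_mul i Q hQ hw hz, if_pos rfl]

end Chart

set_option backward.isDefEq.respectTransparency.types false in
/-- A normal subgroup which becomes diagonalisable after a field extension centralises a connected group. -/
theorem cen_univ [IsMonHom i] [Mono i] {κ : Type u} [Field κ] (t₀ : Spec (CommRingCat.of κ) ⟶ S)
    (hconn : ConnectedSpace ↥(pullback K.hom t₀)) (hn : AlgGrp.IsNormalHom i) {L : Type u} [Field L] [Algebra κ L]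
    {M : Type} [AddCommGroup M] (hM : AddGroup.FG M)
    (Q : CharPts (Spec.map (CommRingCat.ofHom (algebraMap κ L)) ≫ t₀) M H)
    (hQ : ∀ (B : Type u) [CommRing B] [Algebra L B], Function.Injective (Q.pt B)) :
    Cen i (Over.homMk (pullback.fst K.hom t₀) rfl : Over.mk (pullback.fst K.hom t₀ ≫ K.hom) ⟶ K) := by
  classical
  let t := Spec.map (CommRingCat.ofHom (algebraMap κ L)) ≫ t₀
  let P₀ := pullback K.hom t₀
  let P := pullback K.hom t
  let π : P ⟶ P₀ := pullback.map K.hom t K.hom t₀ (𝟙 _) (Spec.map (CommRingCat.ofHom (algebraMap κ L))) (𝟙 _)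
    (by simp) (by simp [t])
  have hπ : π ≫ pullback.fst K.hom t₀ = pullback.fst K.hom t := (pullback.lift_fst _ _ _).trans (Category.comp_id _)
  have hσ : IsPullback π (pullback.snd K.hom t) (pullback.snd K.hom t₀) (Spec.map (CommRingCat.ofHom (algebraMap κ L))) := by
    refine IsPullback.of_right ?_ (pullback.lift_snd _ _ _) (IsPullback.of_hasPullback K.hom t₀)
    rw [hπ]
    exact IsPullback.of_hasPullback K.hom t
  have hflat : Flat (Spec.map (CommRingCat.ofHom (algebraMap κ L))) := by
    rw [HasRingHomProperty.Spec_iff (P := @Flat)]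
    exact RingHom.flat_algebraMap_iff.2 inferInstance
  have : Subsingleton ↥(Spec (CommRingCat.of κ)) := inferInstanceAs (Subsingleton (PrimeSpectrum κ))
  have hsurj : Surjective (Spec.map (CommRingCat.ofHom (algebraMap κ L))) :=
    ⟨fun p => ⟨IsLocalRing.closedPoint L, Subsingleton.elim _ _⟩⟩
  have hopen : UniversallyOpen (Spec.map (CommRingCat.ofHom (algebraMap κ L))) :=
    Mor.OpenGen.universallyOpen_of_subsingleton _
  have : Flat π := MorphismProperty.of_isPullback (P := @Flat) hσ.flip hflat
  have : Surjective π := MorphismProperty.of_isPullback (P := @Surjective) hσ.flip hsurj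
  have : UniversallyOpen π := MorphismProperty.of_isPullback (P := @UniversallyOpen) hσ.flip hopen
  -- the locus upstairs
  let Fs : Set P := {x | Cen i (resPt (pullback.fst K.hom t) x)}
  let Zs : Set P₀ := {x | Cen i (resPt (pullback.fst K.hom t₀) x)}
  have hpre : π ⁻¹' Zs = Fs := by
    ext x
    refine Iff.symm ((cen_field_iff i (pullback.fst K.hom t₀) (P.residueField x) (P.fromSpecResidueField x ≫ π)
      (Y := resObj (pullback.fst K.hom t) x) (Iso.refl _) (resPt (pullback.fst K.hom t) x) ?_).trans ?_)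
    · show P.fromSpecResidueField x ≫ pullback.fst K.hom t = 𝟙 _ ≫ (_ ≫ π) ≫ _
      rw [Category.id_comp, Category.assoc, hπ]
    · rw [Scheme.Hom.comp_apply, Scheme.fromSpecResidueField_apply]
      rfl
  obtain ⟨G₀, hG₀⟩ := (AddGroup.fg_iff_mul_fg.1 hM).out
  -- charts
  have hchart : ∀ x : P, ∃ (A : Type u) (_ : CommRing A) (_ : Algebra L A) (w : Spec (CommRingCat.of A) ⟶ P)
      (hw : w ≫ pullback.snd K.hom t = Spec.map (CommRingCat.ofHom (algebraMap L A)))
      (z : Multiplicative M →* MonoidAlgebra A (Multiplicative M)),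
      IsOpenImmersion w ∧ x ∈ Set.range w ∧
      (∀ (B : Type u) [CommRing B] [Algebra L B] (χ : Multiplicative M →* B) (α : A →ₐ[L] B),
        xpt t hw α * (Q.pt B χ ≫ i) * (xpt t hw α)⁻¹ = Q.pt B ((evMap χ α : _ →* B).comp z) ≫ i) ∧
      w ⁻¹' Fs = ⋂ m ∈ (G₀ : Set (Multiplicative M)), (PrimeSpectrum.basicOpen ((z m).coeff m) : Set (PrimeSpectrum A)) := by
    intro x
    obtain ⟨_, ⟨V, hV, rfl⟩, hxV, -⟩ := P.isBasis_affineOpens.exists_subset_of_mem_open (Set.mem_univ x) isOpen_univ
    have hVa : IsAffineOpen V := hV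
    let A : Type u := Γ(P, V)
    letI : Algebra L A := (Spec.preimage (R := CommRingCat.of L) (hVa.fromSpec ≫ pullback.snd K.hom t)).hom.toAlgebra
    have hw : hVa.fromSpec ≫ pullback.snd K.hom t = Spec.map (CommRingCat.ofHom (algebraMap L A)) :=
      (Spec.map_preimage (R := CommRingCat.of L) _).symm
    obtain ⟨z, hz⟩ := exists_conj i Q hQ hw hn
    refine ⟨A, inferInstance, inferInstance, hVa.fromSpec, hw, z, hVa.isOpenImmersion_fromSpec,
      hVa.range_fromSpec.ge hxV, hz, ?_⟩
    ext q
    let α : A →ₐ[L] q.asIdeal.ResidueField := IsScalarTower.toAlgHom L A _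
    let l : Spec (CommRingCat.of q.asIdeal.ResidueField) ⟶ P := Spec.map (CommRingCat.ofHom α.toRingHom) ≫ hVa.fromSpec
    have h1 := cen_field_iff i (pullback.fst K.hom t) q.asIdeal.ResidueField l
      (Y := T t q.asIdeal.ResidueField) (Iso.refl _) (xpt t hw α) (by
        show Spec.map _ ≫ _ ≫ _ = 𝟙 _ ≫ (_ ≫ _) ≫ _
        rw [Category.id_comp, Category.assoc])
    have hlq : l (IsLocalRing.closedPoint q.asIdeal.ResidueField) = hVa.fromSpec q := by
      show hVa.fromSpec (Spec.map _ _) = _
      congr 1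
      refine PrimeSpectrum.ext ?_
      show Ideal.comap (algebraMap A q.asIdeal.ResidueField) (IsLocalRing.maximalIdeal _) = _
      rw [IsLocalRing.maximalIdeal_eq_bot]
      exact Ideal.ker_algebraMap_residueField q.asIdeal
    rw [hlq, cen_xpt_iff i Q hQ hw hz _ hG₀] at h1
    refine h1.symm.trans ?_
    refine Iff.trans ?_ Set.mem_iInter₂.symm
    refine forall₂_congr fun m _ => ?_
    show α ((z m).coeff m) = 1 ↔ (z m).coeff m ∉ q.asIdeal
    have hid : IsIdempotentElem (α ((z m).coeff m)) := (isIdempotentElem_coeff i Q hQ hw hz m m).map α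
    rw [← Ideal.algebraMap_residueField_eq_zero (I := q.asIdeal)]
    constructor
    · intro h h'
      exact one_ne_zero (h.symm.trans h')
    · intro h
      exact (IsIdempotentElem.iff_eq_zero_or_one.1 hid).resolve_left h
  have hclopen : IsClopen Fs := by
    have hloc : ∀ x : P, ∃ U : Set P, IsOpen U ∧ x ∈ U ∧ IsOpen (U ∩ Fs) ∧ IsOpen (U ∩ Fsᶜ) := by
      intro x
      obtain ⟨A, _, _, w, hw, z, hwo, hxw, hz, heq⟩ := hchart x
      have hcl : IsClopen (w ⁻¹' Fs) := by
        rw [heq]
        refine G₀.finite_toSet.isClopen_biInter fun m _ => ?_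
        exact PrimeSpectrum.isClopen_iff.2 ⟨_, isIdempotentElem_coeff i Q hQ hw hz m m, rfl⟩
      refine ⟨Set.range w, w.isOpenEmbedding.isOpen_range, hxw, ?_, ?_⟩
      · rw [← Set.image_preimage_eq_range_inter]
        exact w.isOpenEmbedding.isOpenMap _ hcl.2
      · rw [← Set.image_preimage_eq_range_inter]
        exact w.isOpenEmbedding.isOpenMap _ hcl.compl.2
    choose U hUo hxU hU1 hU2 using hloc
    have h1 : ∀ s : Set P, (∀ x, IsOpen (U x ∩ s)) → IsOpen s := fun s hs => by
      rw [show s = ⋃ x, U x ∩ s by ext y; simp only [Set.mem_iUnion, Set.mem_inter_iff]; exact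
        ⟨fun hy => ⟨y, hxU y, hy⟩, fun ⟨_, _, hy⟩ => hy⟩]
      exact isOpen_iUnion hs
    exact ⟨isOpen_compl_iff.1 (h1 _ hU2), h1 _ hU1⟩
  have hq := π.isOpenMap.isQuotientMap π.continuous π.surjective
  have hZ : IsClopen Zs := by
    refine ⟨?_, ?_⟩
    · rw [← hq.isCoinducing.isClosed_preimage, hpre]; exact hclopen.1
    · rw [← hq.isCoinducing.isOpen_preimage, hpre]; exact hclopen.2
  have hne : Zs.Nonempty := by
    let Y : Over S := Over.mk t₀
    let e : Spec (CommRingCat.of κ) ⟶ P₀ := pullback.lift ((1 : Y ⟶ K)).left (𝟙 _) (by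
      rw [Over.w, Category.id_comp]; rfl)
    refine ⟨e (IsLocalRing.closedPoint κ), ?_⟩
    exact (cen_field_iff i (pullback.fst K.hom t₀) κ e (Y := Y) (Iso.refl _) 1 (by
      show _ = 𝟙 _ ≫ e ≫ _
      rw [Category.id_comp, pullback.lift_fst])).1 (cen_one i Y)
  have hFu : Fs = Set.univ := by
    rw [← hpre, IsClopen.eq_univ hZ hne, Set.preimage_univ]
  -- conclusion
  let gP : Over.mk (pullback.fst K.hom t ≫ K.hom) ⟶ K := Over.homMk (pullback.fst K.hom t) rfl
  have hgP : Cen i gP := by
    unfold Cen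
    ext1
    refine Scheme.hom_ext_of_forall _ _ fun y => ?_
    obtain ⟨A, _, _, w, hw, z, hwo, hxw, hz, heq⟩ := hchart ((fst (Over.mk (pullback.fst K.hom t ≫ K.hom)) H).left y)
    have hA : Cen i (xpt t hw (AlgHom.id L A)) := by
      rw [cen_xpt_iff i Q hQ hw hz _ hG₀]
      intro m hm
      have hidem := isIdempotentElem_coeff i Q hQ hw hz m m
      have hall : ∀ q : PrimeSpectrum A, (z m).coeff m ∉ q.asIdeal := fun q => by
        have hq : q ∈ w ⁻¹' Fs := by rw [hFu]; trivial
        rw [heq] at hq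
        exact Set.mem_iInter₂.1 hq m hm
      have hu : IsUnit ((z m).coeff m) := by
        by_contra h
        obtain ⟨q, hq, hmem⟩ := exists_max_ideal_of_mem_nonunits h
        exact hall ⟨q, hq.isPrime⟩ hmem
      exact (IsIdempotentElem.iff_eq_one_of_isUnit hu).1 hidem
    let j : T t A ⟶ Over.mk (pullback.fst K.hom t ≫ K.hom) := Over.homMk w (by
      show w ≫ _ ≫ _ = Spec.map _ ≫ t
      rw [pullback.condition, reassoc_of% hw])
    have hj : Cen i (j ≫ gP) := by
      have e1 : j ≫ gP = xpt t hw (AlgHom.id L A) := by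
        ext1
        show w ≫ _ = Spec.map _ ≫ w ≫ _
        rw [show CommRingCat.ofHom (AlgHom.id L A).toRingHom = 𝟙 _ from rfl, Spec.map_id, Category.id_comp]
        rfl
      rw [e1]; exact hA
    have hp := (isPullback_whiskerRight (H := H) j).map (Over.forget S)
    have : IsOpenImmersion (j ▷ H).left := MorphismProperty.of_isPullback (P := @IsOpenImmersion) hp hwo
    refine ⟨(j ▷ H).left.opensRange, ?_, ?_⟩
    · obtain ⟨a, ha⟩ := hxw
      obtain ⟨y', hy', -⟩ := Scheme.exists_preimage_of_isPullback hp.flip y a ha.symm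
      exact ⟨y', hy'⟩
    · rw [← cancel_epi (j ▷ H).left.isoOpensRange.hom]
      simp only [Scheme.Hom.isoOpensRange_hom_ι_assoc]
      rw [← Over.comp_left, ← Over.comp_left]
      congr 1
      simp only [MonObj.comp_mul, whiskerRight_fst_assoc, whiskerRight_snd_assoc]
      exact hj
  let jπ : Over.mk (pullback.fst K.hom t ≫ K.hom) ⟶ Over.mk (pullback.fst K.hom t₀ ≫ K.hom) :=
    Over.homMk π (by show π ≫ _ ≫ _ = _; rw [reassoc_of% hπ]; rfl)
  have : Flat jπ.left := ‹Flat π›
  have : Surjective jπ.left := ‹Surjective π›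
  refine Cen.of_comp i jπ ?_
  have e2 : jπ ≫ (Over.homMk (pullback.fst K.hom t₀) rfl : Over.mk (pullback.fst K.hom t₀ ≫ K.hom) ⟶ K) = gP := by
    ext1
    exact hπ
  rw [e2]
  exact hgP

end Groth.Agent.HopfRep.NormalRigid

end
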