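import Groth.Prelude.Def_Red
import Groth.Prelude.Def_Mor2
import Groth.Agent.HopfRep.AffinePts
import Groth.Agent.HopfRep.Order
import Mathlib.AlgebraicGeometry.Morphisms.FlatRank

/-!
A finite locally free group scheme of rank `n` is killed by `n` if the base is reduced or the group commutative.
-/

universe u

open CategoryTheory MonoidalCategory CartesianMonoidalCategory MonObj AlgebraicGeometry Limits TensorProduct WithConv

set_option linter.unusedSimpArgs false
set_option backward.isDefEq.respectTransparency.types false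

noncomputable section

namespace Groth.Agent.HopfRep.PowRank

open DiagRigid CharHom AffinePts
open scoped Coalgebra

section affine

variable {K : Type u} [CommRing K]

theorem pow_eq_one_affine (E : Over (Spec (CommRingCat.of K))) [GrpObj E] (n : ℕ)
    (h₁ : IsFinite E.hom) (h₂ : Flat E.hom) (h₃ : LocallyOfFinitePresentation E.hom)
    (hn : ∀ s, E.hom.finrank s = n) (h : _root_.IsReduced K ∨ IsCommMonObj E) :
    (𝟙 E : E ⟶ E) ^ n = 1 := by
  have : IsAffine E.left := isAffine_of_isAffineHom E.hom
  obtain ⟨A, _, _, σ, hmul, hone⟩ := exists_hopf E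
  have hw : σ.inv.left ≫ (Tp (K := K) A).hom = E.hom := Over.w σ.inv
  have : IsIso σ.inv.left := inferInstanceAs (IsIso ((Over.forget _).map σ.inv))
  have hspec : (Tp (K := K) A).hom = Spec.map (CommRingCat.ofHom (algebraMap K A)) := Category.comp_id _
  have f1 : IsFinite (Spec.map (CommRingCat.ofHom (algebraMap K A))) := by
    rw [← hspec, ← MorphismProperty.cancel_left_of_respectsIso @IsFinite σ.inv.left, hw]; exact h₁
  have f2 : Flat (Spec.map (CommRingCat.ofHom (algebraMap K A))) := by
    rw [← hspec, ← MorphismProperty.cancel_left_of_respectsIso @Flat σ.inv.left, hw]; exact h₂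
  have f3 : LocallyOfFinitePresentation (Spec.map (CommRingCat.ofHom (algebraMap K A))) := by
    rw [← hspec, ← MorphismProperty.cancel_left_of_respectsIso @LocallyOfFinitePresentation σ.inv.left, hw]; exact h₃
  have : Module.Finite K A := RingHom.finite_algebraMap.1 ((IsFinite.SpecMap_iff _).1 f1)
  have : Module.Flat K A := RingHom.flat_algebraMap_iff.1 (Flat.SpecMap_iff.1 f2)
  have : Algebra.FinitePresentation K A :=
    RingHom.finitePresentation_algebraMap.1 ((LocallyOfFinitePresentation.SpecMap_iff _).1 f3)
  have := Module.FinitePresentation.of_finite_of_finitePresentation (R := K) (S := A)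
  have : Module.Projective K A := Module.Flat.projective_of_finitePresentation
  have hr : ∀ p : PrimeSpectrum K, Module.rankAtStalk (R := K) A p = n := fun p => by
    have e1 := hn p
    rw [← hw, hspec, Scheme.Hom.finrank_comp_left_of_isIso] at e1
    rw [← e1]
    exact (Scheme.Hom.finrank_SpecMap_algebraMap K A p).symm
  have hid : toConv (AlgHom.id K A) ^ n = 1 := by
    rcases h with hred | hcomm
    · exact Order.pow_eq_one_of_isReduced n hr
    · have : Coalgebra.IsCocomm K A := by
        let i₁ : A →ₐ[K] A ⊗[K] A := Algebra.TensorProduct.includeLeft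
        let i₂ : A →ₐ[K] A ⊗[K] A := Algebra.TensorProduct.includeRight
        have e := e_injective σ ((hmul _ i₂ i₁).symm.trans ((mul_comm _ _).trans (hmul _ i₁ i₂)))
        refine ⟨LinearMap.ext fun a => ?_⟩
        have e' := AlgHom.congr_fun e a
        have c1 : Algebra.TensorProduct.lift i₂ i₁ (fun _ _ => .all _ _) =
            (Algebra.TensorProduct.comm K A A).toAlgHom := by ext <;> simp [i₁, i₂]
        have c2 : Algebra.TensorProduct.lift i₁ i₂ (fun _ _ => .all _ _) = AlgHom.id K (A ⊗[K] A) := by
          ext <;> simp [i₁, i₂]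
        rw [c1, c2] at e'
        exact e'
      exact Order.deligne n hr
  have hpow : ∀ m : ℕ, (σ.hom) ^ m = e σ (toConv (AlgHom.id K A) ^ m).ofConv := by
    intro m
    induction m with
    | zero => rw [pow_zero, pow_zero, ← hone]; rfl
    | succ m ih =>
      have e0 : e σ (AlgHom.id K A) = σ.hom := by rw [e, tmap_id, Category.id_comp]
      rw [pow_succ, pow_succ, ih]
      conv_lhs => arg 2; rw [← e0]
      rw [hmul]
      congr 1
      apply AlgHom.ext
      intro a
      simp only [AlgHom.convMul_def, AlgHom.comp_apply, Bialgebra.comulAlgHom_apply]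
      rw [← (ℛ K a).eq]
      simp
  rw [← cancel_epi σ.hom, MonObj.comp_pow, Category.comp_id, MonObj.comp_one, hpow, hid, ← hone]
  rfl

end affine

theorem pow_eq_one {S : Scheme.{u}} (G : Over S) [GrpObj G] (n : ℕ)
    (h₁ : IsFinite G.hom) (h₂ : Flat G.hom) (h₃ : LocallyOfFinitePresentation G.hom)
    (hn : ∀ s, G.hom.finrank s = n) (h : AlgebraicGeometry.IsReduced S ∨ IsCommMonObj G) :
    (𝟙 G : G ⟶ G) ^ n = 1 := by
  apply Over.OverMorphism.ext
  refine Scheme.Cover.hom_ext (S.affineCover.pullback₁ G.hom) _ _ fun i => ?_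
  let R : CommRingCat.{u} := S.affineOpenCover.X i
  let g : Spec R ⟶ S := S.affineOpenCover.f i
  let E : Over (Spec (CommRingCat.of R)) := Red.bc g G
  letI : GrpObj E := inferInstanceAs (GrpObj (Red.bc g G))
  have hc : _root_.IsReduced R ∨ IsCommMonObj E := by
    rcases h with hS | hC
    · have : AlgebraicGeometry.IsReduced (Spec R) := isReduced_of_isOpenImmersion g
      exact Or.inl ((affine_isReduced_iff R).1 this)
    · exact Or.inr (inferInstanceAs (IsCommMonObj ((Over.pullback g).obj G)))
  have hE : (𝟙 E : E ⟶ E) ^ n = 1 := pow_eq_one_affine E n (MorphismProperty.pullback_snd _ _ h₁)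
    (MorphismProperty.pullback_snd _ _ h₂) (MorphismProperty.pullback_snd _ _ h₃)
    (fun s => (Scheme.Hom.finrank_pullback_snd G.hom g s).trans (hn _)) hc
  have key : ∀ m : ℕ, (Over.pullback g).map ((𝟙 G : G ⟶ G) ^ m) = (𝟙 E : E ⟶ E) ^ m := fun m => by
    induction m with
    | zero => simp only [pow_zero]; exact Functor.map_one _
    | succ m ih => simp only [pow_succ]; rw [Functor.map_mul, ih, CategoryTheory.Functor.map_id]
  have hpb : ∀ φ : G ⟶ G, ((Over.pullback g).map φ).left ≫ pullback.fst G.hom g = pullback.fst G.hom g ≫ φ.left :=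
    fun φ => pullback.lift_fst _ _ _
  have h2 : pullback.fst G.hom g ≫ ((𝟙 G : G ⟶ G) ^ n).left = pullback.fst G.hom g ≫ (1 : G ⟶ G).left := by
    rw [← hpb, ← hpb, key, hE, Functor.map_one]
  exact h2

end Groth.Agent.HopfRep.PowRank

end
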