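import Groth.Agent.HopfRep.Flag
import Mathlib

/-!
Finite commutative algebras generated by nilpotent primitive elements, and the dimension of the
quotients of a finite Hopf algebra by powers of the augmentation ideal.
-/

universe u v w

open TensorProduct

noncomputable section

namespace Groth.Agent.HopfRep.PrimGen

open Groth.Agent.HopfRep.Slice Groth.Agent.HopfRep.Flag

variable {k : Type u} [Field k]

section prim

variable {Q : Type v} [CommRing Q] [Algebra k Q]

/-- The subalgebra spanned by a primitive generating family. -/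
theorem exists_pow_expChar (q : ℕ) [ExpChar k q] (Δ : Q →ₐ[k] Q ⊗[k] Q) (ε : Q →ₐ[k] k) [Module.Finite k Q] :
    ∀ (B : Subalgebra k Q) (T : Finset Q), Algebra.adjoin k (T : Set Q) = B →
      (∀ t ∈ T, Δ t = t ⊗ₜ[k] 1 + 1 ⊗ₜ[k] t ∧ ε t = 0 ∧ IsNilpotent t) →
      ∃ s : ℕ, Module.finrank k B = q ^ s := by
  intro B
  generalize hn : Module.finrank k B = n
  induction n using Nat.strong_induction_on generalizing B with
  | _ n ih =>
  intro T hT hprim
  classical
  have hnt : Nontrivial Q := ε.toRingHom.domain_nontrivial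
  let m : Ideal Q := Ideal.span (T : Set Q)
  have hm : IsNilpotent m := by
    rw [← Ideal.FG.isNilpotent_iff_le_nilradical ⟨T, rfl⟩ |>.symm.trans Iff.rfl]
    exact Ideal.span_le.2 fun t ht => (hprim t ht).2.2
  by_cases hall : ∀ t ∈ T, t ∈ m ^ 2
  · have hle : m ≤ m ^ 2 := Ideal.span_le.2 hall
    obtain ⟨N, hN⟩ := hm
    have hpow : ∀ j, m ≤ m ^ (j + 1) := by
      intro j
      induction j with
      | zero => simp
      | succ j hj =>
        calc m ≤ m ^ 2 := hle
          _ = m * m := pow_two m
          _ ≤ m ^ (j + 1) * m := Ideal.mul_mono_left hj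
          _ = m ^ (j + 1 + 1) := (pow_succ m (j + 1)).symm
    have hm0 : m = ⊥ := by
      refine le_bot_iff.1 ((hpow N).trans ?_)
      rw [pow_succ, hN]
      simp
    refine ⟨0, ?_⟩
    have hB : B = ⊥ := by
      rw [← hT]
      refine le_bot_iff.1 (Algebra.adjoin_le fun t ht => ?_)
      rw [(Submodule.eq_bot_iff _).1 hm0 t (Ideal.subset_span ht)]
      exact zero_mem _
    rw [pow_zero, ← hn, hB, Subalgebra.finrank_bot]
  push Not at hall
  obtain ⟨x, hxT, hx⟩ := hall
  -- a point derivation which is one at `x`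
  have hx' : x ∉ (m ^ 2).restrictScalars k ⊔ Submodule.span k {(1 : Q)} := by
    intro hmem
    obtain ⟨y, hy, z, hz, hyz⟩ := Submodule.mem_sup.1 hmem
    obtain ⟨c, rfl⟩ := Submodule.mem_span_singleton.1 hz
    have hεm : m ≤ RingHom.ker ε := Ideal.span_le.2 fun t ht => (hprim t ht).2.1
    have : ε y = 0 := hεm (Ideal.pow_le_self two_ne_zero hy)
    have h0 := congrArg ε hyz
    rw [map_add, this, zero_add, map_smul, map_one, (hprim x hxT).2.1, smul_eq_mul, mul_one] at h0
    rw [h0, zero_smul, add_zero] at hyz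
    exact hx (hyz ▸ hy)
  obtain ⟨φ₀, hφ₀, hφker⟩ := Submodule.exists_le_ker_of_notMem hx'
  let φ : Q →ₗ[k] k := (φ₀ x)⁻¹ • φ₀
  have hφx : φ x = 1 := by simp [φ, inv_mul_cancel₀ hφ₀]
  have hφ1 : φ 1 = 0 := by
    simp [φ, LinearMap.mem_ker.1 (hφker (Submodule.mem_sup_right (Submodule.mem_span_singleton_self 1)))]
  have hφm : ∀ a ∈ m ^ 2, φ a = 0 := fun a ha => by
    simp [φ, LinearMap.mem_ker.1 (hφker (Submodule.mem_sup_left (show a ∈ (m ^ 2).restrictScalars k from ha)))]
  have hBmem : ∀ b ∈ B, b - algebraMap k Q (ε b) ∈ m := by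
    intro b hb
    rw [← hT] at hb
    induction hb using Algebra.adjoin_induction with
    | mem t ht => rw [(hprim t ht).2.1, map_zero, sub_zero]; exact Ideal.subset_span ht
    | algebraMap r => simp
    | add a b _ _ ha hb =>
      rw [map_add, map_add]
      have : a + b - (algebraMap k Q (ε a) + algebraMap k Q (ε b)) =
          (a - algebraMap k Q (ε a)) + (b - algebraMap k Q (ε b)) := by ring
      rw [this]; exact add_mem ha hb
    | mul a b _ _ ha hb =>
      rw [map_mul, map_mul]
      have : a * b - algebraMap k Q (ε a) * algebraMap k Q (ε b) =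
          (a - algebraMap k Q (ε a)) * b + algebraMap k Q (ε a) * (b - algebraMap k Q (ε b)) := by ring
      rw [this]; exact add_mem (m.mul_mem_right _ ha) (m.mul_mem_left _ hb)
  have hφder : ∀ a ∈ B, ∀ b ∈ B, φ (a * b) = ε a * φ b + ε b * φ a := by
    intro a ha b hb
    have h := hφm ((a - algebraMap k Q (ε a)) * (b - algebraMap k Q (ε b)))
      (by rw [pow_two]; exact Ideal.mul_mem_mul (hBmem a ha) (hBmem b hb))
    have e : (a - algebraMap k Q (ε a)) * (b - algebraMap k Q (ε b)) =
        a * b - ε a • b - ε b • a + (ε a * ε b) • (1 : Q) := by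
      simp only [Algebra.smul_def, map_mul]; ring
    rw [e, map_add, map_sub, map_sub, map_smul, map_smul, map_smul, hφ1, smul_zero, add_zero, smul_eq_mul,
      smul_eq_mul, sub_eq_zero] at h
    linear_combination h
  have hΔB : ∀ b ∈ B, ∀ B' : Subalgebra k Q, (∀ t ∈ T, t ∈ B') →
      Δ b ∈ (Algebra.TensorProduct.map B'.val B'.val).range := by
    intro b hb B' hB'
    rw [← hT] at hb
    induction hb using Algebra.adjoin_induction with
    | mem t ht =>
      rw [(hprim t ht).1]
      exact add_mem ⟨⟨t, hB' t ht⟩ ⊗ₜ[k] 1, by simp⟩ ⟨1 ⊗ₜ[k] ⟨t, hB' t ht⟩, by simp⟩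
    | algebraMap r => rw [AlgHom.commutes]; exact Subalgebra.algebraMap_mem _ r
    | add a b _ _ ha hb => rw [map_add]; exact add_mem ha hb
    | mul a b _ _ ha hb => rw [map_mul]; exact mul_mem ha hb
  let D : Q →ₗ[k] Q := dcontr Q φ ∘ₗ Δ.toLinearMap
  let E : Q →ₗ[k] Q := dcontr Q ε.toLinearMap ∘ₗ Δ.toLinearMap
  have hE : ∀ b ∈ B, E b = b := by
    intro b hb
    rw [← hT] at hb
    have hEmul : ∀ u v : Q ⊗[k] Q, dcontr Q ε.toLinearMap (u * v) =
        dcontr Q ε.toLinearMap u * dcontr Q ε.toLinearMap v := by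
      intro u v
      induction u with
      | zero => simp
      | add p r hp hr => simp only [add_mul, map_add, hp, hr]
      | tmul p r =>
        induction v with
        | zero => simp
        | add a c ha hc => simp only [mul_add, map_add, ha, hc]
        | tmul a c => simp [Algebra.TensorProduct.tmul_mul_tmul, mul_comm, smul_smul]
    induction hb using Algebra.adjoin_induction with
    | mem t ht => simp [E, (hprim t ht).1, (hprim t ht).2.1]
    | algebraMap r =>
      show dcontr Q ε.toLinearMap (Δ (algebraMap k Q r)) = _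
      rw [AlgHom.commutes, Algebra.algebraMap_eq_smul_one, Algebra.algebraMap_eq_smul_one, map_smul,
        Algebra.TensorProduct.one_def, dcontr_tmul, AlgHom.toLinearMap_apply, map_one, one_smul]
    | add a b _ _ ha hb => rw [map_add, ha, hb]
    | mul a b _ _ ha hb =>
      show dcontr Q ε.toLinearMap (Δ (a * b)) = a * b
      rw [map_mul, hEmul]
      exact congrArg₂ (· * ·) ha hb
  have hD : ∀ a ∈ B, ∀ b ∈ B, D (a * b) = a * D b + b * D a := by
    intro a ha b hb
    obtain ⟨u, hu⟩ := hΔB a ha B (fun t ht => hT ▸ Algebra.subset_adjoin ht)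
    obtain ⟨v, hv⟩ := hΔB b hb B (fun t ht => hT ▸ Algebra.subset_adjoin ht)
    change Algebra.TensorProduct.map B.val B.val u = Δ a at hu
    change Algebra.TensorProduct.map B.val B.val v = Δ b at hv
    rw [show a * D b + b * D a = E a * D b + E b * D a by rw [hE a ha, hE b hb]]
    show dcontr Q φ (Δ (a * b)) = dcontr Q ε.toLinearMap (Δ a) * dcontr Q φ (Δ b) +
      dcontr Q ε.toLinearMap (Δ b) * dcontr Q φ (Δ a)
    rw [map_mul, ← hu, ← hv]
    clear hu hv
    induction u with
    | zero => simp
    | add p r hp hr => simp only [map_add, add_mul, mul_add, hp, hr]; abel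
    | tmul p r =>
      induction v with
      | zero => simp
      | add c d hc hd => simp only [map_add, add_mul, mul_add, hc, hd]; abel
      | tmul c d =>
        simp only [Algebra.TensorProduct.map_tmul, Subalgebra.coe_val, Algebra.TensorProduct.tmul_mul_tmul,
          dcontr_tmul, AlgHom.toLinearMap_apply, hφder _ p.2 _ c.2, smul_mul_smul_comm, add_smul]
        rw [mul_comm (d : Q) (r : Q)]
  have hDt : ∀ t ∈ T, D t = φ t • (1 : Q) := by
    intro t ht
    simp [D, (hprim t ht).1, hφ1]
  -- smaller generating family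
  let T' : Finset Q := insert (x ^ q) ((T.erase x).image fun t => t - φ t • x)
  let B' : Subalgebra k Q := Algebra.adjoin k (T' : Set Q)
  have hxB : x ∈ B := hT ▸ Algebra.subset_adjoin hxT
  have hxprim := hprim x hxT
  have hqpos : 0 < q := expChar_pos k q
  have hT'prim : ∀ t ∈ T', Δ t = t ⊗ₜ[k] 1 + 1 ⊗ₜ[k] t ∧ ε t = 0 ∧ IsNilpotent t := by
    intro t ht
    rcases Finset.mem_insert.1 ht with rfl | ht
    · refine ⟨?_, by rw [map_pow, hxprim.2.1, zero_pow hqpos.ne'], hxprim.2.2.pow_of_pos hqpos.ne'⟩
      have : ExpChar (Q ⊗[k] Q) q := expChar_of_injective_algebraMap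
        (FaithfulSMul.algebraMap_injective k (Q ⊗[k] Q)) q
      rw [map_pow, hxprim.1, add_pow_expChar]
      simp [Algebra.TensorProduct.tmul_pow]
    · obtain ⟨s, hs, rfl⟩ := Finset.mem_image.1 ht
      have hs' := hprim s (Finset.mem_of_mem_erase hs)
      refine ⟨?_, by rw [map_sub, map_smul, hs'.2.1, hxprim.2.1, smul_zero, sub_zero],
        (Commute.all _ _).isNilpotent_sub hs'.2.2 (hxprim.2.2.smul _)⟩
      rw [map_sub, map_smul, hs'.1, hxprim.1]
      simp only [smul_add, TensorProduct.sub_tmul, TensorProduct.tmul_sub, TensorProduct.smul_tmul',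
        TensorProduct.tmul_smul]
      abel
  have hB'le : B' ≤ B := Algebra.adjoin_le fun t ht => by
    rcases Finset.mem_insert.1 (Finset.mem_coe.1 ht) with rfl | ht
    · exact pow_mem hxB q
    · obtain ⟨s, hs, rfl⟩ := Finset.mem_image.1 ht
      exact sub_mem (hT ▸ Algebra.subset_adjoin (Finset.mem_of_mem_erase hs)) (Subalgebra.smul_mem _ hxB _)
  have hDx : D x = 1 := by rw [hDt x hxT, hφx, one_smul]
  have hDone : D 1 = 0 := by
    show dcontr Q φ (Δ 1) = 0
    rw [map_one, Algebra.TensorProduct.one_def, dcontr_tmul, hφ1, zero_smul]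
  have hDpow : ∀ j : ℕ, D (x ^ (j + 1)) = ((j + 1 : ℕ) : k) • x ^ j := by
    intro j
    induction j with
    | zero => simpa using hDx
    | succ j hj =>
      rw [pow_succ, hD _ (pow_mem hxB _) _ hxB, hDx, hj, mul_one, mul_smul_comm, ← pow_succ',
        Nat.cast_succ (j + 1), add_smul, one_smul, add_comm]
  have hDB' : ∀ b ∈ B', D b = 0 := by
    intro b hb
    induction hb using Algebra.adjoin_induction with
    | mem t ht =>
      rcases Finset.mem_insert.1 (Finset.mem_coe.1 ht) with rfl | ht
      · obtain ⟨j, hj⟩ := Nat.exists_eq_succ_of_ne_zero hqpos.ne'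
        rcases ‹ExpChar k q› with _ | ⟨hp⟩
        · -- characteristic zero
          exfalso
          obtain ⟨N, hN⟩ := hxprim.2.2
          have key : ∀ M, x ^ M = 0 → False := by
            intro M
            induction M with
            | zero => intro h; rw [pow_zero] at h; exact one_ne_zero h
            | succ M hM =>
              intro h
              have := hDpow M
              rw [h, map_zero] at this
              exact hM ((smul_eq_zero.1 this.symm).resolve_left (Nat.cast_ne_zero.2 (by omega)))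
          exact key N hN
        · rw [hj, hDpow, ← Nat.succ_eq_add_one, ← hj, CharP.cast_eq_zero, zero_smul]
      · obtain ⟨s, hs, rfl⟩ := Finset.mem_image.1 ht
        rw [map_sub, map_smul, hDt s (Finset.mem_of_mem_erase hs), hDx, sub_self]
    | algebraMap r => rw [Algebra.algebraMap_eq_smul_one, map_smul, hDone, smul_zero]
    | add a b _ _ ha hb => rw [map_add, ha, hb, add_zero]
    | mul a b ha' hb' ha hb => rw [hD _ (hB'le ha') _ (hB'le hb'), ha, hb, mul_zero, mul_zero, add_zero]
  rcases ‹ExpChar k q› with _ | ⟨hp⟩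
  · -- characteristic zero: impossible
    exfalso
    obtain ⟨N, hN⟩ := hxprim.2.2
    have key : ∀ M, x ^ M = 0 → False := by
      intro M
      induction M with
      | zero => intro h; rw [pow_zero] at h; exact one_ne_zero h
      | succ M hM =>
        intro h
        have := hDpow M
        rw [h, map_zero] at this
        exact hM ((smul_eq_zero.1 this.symm).resolve_left (Nat.cast_ne_zero.2 (by omega)))
    exact key N hN
  -- truncated freeness
  let F : (Fin q → B') →ₗ[k] Q :=
    { toFun := fun c => ∑ i, (c i : Q) * x ^ (i : ℕ)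
      map_add' := fun c d => by simp [add_mul, Finset.sum_add_distrib]
      map_smul' := fun r c => by simp [Finset.smul_sum] }
  have hFzero : ∀ M : ℕ, M ≤ q → ∀ c : ℕ → B', ∑ i ∈ Finset.range M, (c i : Q) * x ^ i = 0 →
      ∀ i < M, c i = 0 := by
    intro M
    induction M with
    | zero => intro _ c _ i hi; omega
    | succ M hM =>
      intro hMq c hc
      have hcD : ∑ i ∈ Finset.range M, ((((i + 1 : ℕ) : k) • c (i + 1) : B') : Q) * x ^ i = 0 := by
        have := congrArg D hc
        rw [map_zero, map_sum, Finset.sum_range_succ'] at this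
        have h0 : D ((c 0 : Q) * x ^ 0) = 0 := by rw [pow_zero, mul_one]; exact hDB' _ (c 0).2
        rw [h0, add_zero] at this
        rw [← this]
        refine Finset.sum_congr rfl fun i _ => ?_
        rw [hD _ (hB'le (c (i + 1)).2) _ (pow_mem hxB _), hDB' _ (c (i + 1)).2, mul_zero, add_zero, hDpow,
          SetLike.val_smul, smul_mul_assoc, mul_smul_comm]
      have hhigh : ∀ i < M, c (i + 1) = 0 := fun i hi => by
        refine (smul_eq_zero.1 (hM (by omega) _ hcD i hi)).resolve_left fun h => ?_
        rw [CharP.cast_eq_zero_iff k q] at h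
        exact absurd (Nat.le_of_dvd (by omega) h) (by omega)
      intro i hi
      rcases i with _ | i
      · rw [Finset.sum_range_succ'] at hc
        rw [Finset.sum_eq_zero fun i hi => by rw [hhigh i (Finset.mem_range.1 hi)]; simp] at hc
        simpa using hc
      · exact hhigh i (by omega)
  have hF : ∀ c, F c = ∑ i, (c i : Q) * x ^ (i : ℕ) := fun c => rfl
  have hFinj : Function.Injective F := by
    refine (injective_iff_map_eq_zero F).2 fun c hc => funext fun i => ?_
    have := hFzero q le_rfl (fun j => if h : j < q then c ⟨j, h⟩ else 0) (by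
      rw [← Fin.sum_univ_eq_sum_range]
      refine Eq.trans (Finset.sum_congr rfl fun j _ => ?_) hc
      simp) i i.2
    simpa using this
  have hFrange : LinearMap.range F = B.toSubmodule := by
    refine le_antisymm ?_ ?_
    · rintro _ ⟨c, rfl⟩
      rw [hF, Subalgebra.mem_toSubmodule]
      exact Subalgebra.sum_mem B fun i _ => mul_mem (hB'le (c i).2) (pow_mem hxB (i : ℕ))
    · have hS : ∀ b' ∈ B', ∀ j : ℕ, b' * x ^ j ∈ LinearMap.range F := by
        intro b' hb' j
        refine ⟨Pi.single ⟨j % q, Nat.mod_lt _ hqpos⟩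
          ⟨b' * (x ^ q) ^ (j / q), mul_mem hb' (pow_mem (Algebra.subset_adjoin (Finset.mem_insert_self _ _)) _)⟩, ?_⟩
        rw [hF]
        rw [Finset.sum_eq_single ⟨j % q, Nat.mod_lt _ hqpos⟩]
        · rw [Pi.single_eq_same]
          show b' * (x ^ q) ^ (j / q) * x ^ (j % q) = b' * x ^ j
          rw [mul_assoc, ← pow_mul, ← pow_add, Nat.div_add_mod]
        · intro i _ hi
          simp [Pi.single_eq_of_ne hi]
        · simp
      have hmul : ∀ a ∈ LinearMap.range F, ∀ b ∈ LinearMap.range F, a * b ∈ LinearMap.range F := by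
        rintro _ ⟨c, rfl⟩ _ ⟨d, rfl⟩
        rw [hF, hF]
        rw [Finset.sum_mul_sum]
        refine Submodule.sum_mem _ fun i _ => Submodule.sum_mem _ fun j _ => ?_
        rw [mul_mul_mul_comm, ← pow_add]
        exact hS _ (mul_mem (c i).2 (d j).2) _
      intro b hb
      change b ∈ B at hb
      rw [← hT] at hb
      induction hb using Algebra.adjoin_induction with
      | mem t ht =>
        by_cases htx : t = x
        · simpa [htx] using hS 1 (one_mem _) 1
        · have h1 := hS _ (show t - φ t • x ∈ B' from Algebra.subset_adjoin (Finset.mem_coe.2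
            (Finset.mem_insert_of_mem (Finset.mem_image_of_mem _ (Finset.mem_erase.2 ⟨htx, ht⟩))))) 0
          have h2 := hS _ (Subalgebra.algebraMap_mem B' (φ t)) 1
          have := add_mem h1 h2
          simpa [Algebra.smul_def] using this
      | algebraMap r => simpa using hS _ (Subalgebra.algebraMap_mem B' r) 0
      | add a b _ _ ha hb => exact add_mem ha hb
      | mul a b _ _ ha hb => exact hmul a ha b hb
  have hdim : Module.finrank k B = q * Module.finrank k B' := by
    have h1 := LinearMap.finrank_range_of_inj hFinj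
    rw [hFrange, Module.finrank_pi_fintype] at h1
    simpa using h1
  have hB'pos : 0 < Module.finrank k B' := Module.finrank_pos
  have hlt : Module.finrank k B' < n := by
    rw [← hn, hdim]
    calc Module.finrank k B' = 1 * Module.finrank k B' := (one_mul _).symm
      _ < q * Module.finrank k B' := Nat.mul_lt_mul_of_pos_right hp.one_lt hB'pos
  obtain ⟨s, hs⟩ := ih _ hlt B' rfl T' rfl hT'prim
  exact ⟨s + 1, by rw [← hn, hdim, hs, pow_succ']⟩

end prim

section gr

variable {A : Type v} [CommRing A] [HopfAlgebra k A] [Module.Finite k A]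

variable (k A) in
/-- The augmentation ideal. -/
abbrev aug : Ideal A := RingHom.ker (Bialgebra.counitAlgHom k A)

theorem sub_counit_mem (a : A) : a - algebraMap k A (Coalgebra.counit (R := k) a) ∈ aug k A := by
  rw [RingHom.mem_ker, map_sub, AlgHom.commutes]
  simp

variable (k A) in
/-- The kernel of `ε ⊗ ε`. -/
abbrev WW : Ideal (A ⊗[k] A) :=
  Ideal.map (Algebra.TensorProduct.includeLeft : A →ₐ[k] A ⊗[k] A) (aug k A) ⊔
    Ideal.map (Algebra.TensorProduct.includeRight : A →ₐ[k] A ⊗[k] A) (aug k A)

theorem comul_sub_mem {a : A} (ha : a ∈ aug k A) :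
    Coalgebra.comul (R := k) a - (a ⊗ₜ[k] (1 : A) + (1 : A) ⊗ₜ[k] a) ∈ WW k A ^ 2 := by
  have hε : Coalgebra.counit (R := k) a = 0 := ha
  have key : ∀ z : A ⊗[k] A, z - (TensorProduct.rid k A ((Coalgebra.counit (R := k) (A := A)).lTensor A z)) ⊗ₜ[k] (1 : A)
      - (1 : A) ⊗ₜ[k] (TensorProduct.lid k A ((Coalgebra.counit (R := k) (A := A)).rTensor A z))
      + (LinearMap.mul' k k (TensorProduct.map Coalgebra.counit Coalgebra.counit z)) • (1 : A ⊗[k] A) ∈ WW k A ^ 2 := by
    intro z
    induction z with
    | zero => simp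
    | add p q hp hq =>
      convert add_mem hp hq using 1
      simp only [map_add, TensorProduct.add_tmul, TensorProduct.tmul_add, add_smul]
      abel
    | tmul p r =>
      have h := Ideal.mul_mem_mul
        (Ideal.mem_sup_left (T := Ideal.map (Algebra.TensorProduct.includeRight : A →ₐ[k] A ⊗[k] A) (aug k A))
          (Ideal.mem_map_of_mem (Algebra.TensorProduct.includeLeft : A →ₐ[k] A ⊗[k] A) (sub_counit_mem (k := k) p)))
        (Ideal.mem_sup_right (S := Ideal.map (Algebra.TensorProduct.includeLeft : A →ₐ[k] A ⊗[k] A) (aug k A))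
          (Ideal.mem_map_of_mem (Algebra.TensorProduct.includeRight : A →ₐ[k] A ⊗[k] A) (sub_counit_mem (k := k) r)))
      rw [pow_two]
      convert h using 1
      simp only [LinearMap.lTensor_tmul, LinearMap.rTensor_tmul, TensorProduct.rid_tmul, TensorProduct.lid_tmul,
        TensorProduct.map_tmul, LinearMap.mul'_apply, map_sub, AlgHom.commutes, Algebra.algebraMap_eq_smul_one,
        Algebra.TensorProduct.includeLeft_apply, Algebra.TensorProduct.includeRight_apply, sub_mul, mul_sub,
        Algebra.TensorProduct.tmul_mul_tmul, mul_one, one_mul, TensorProduct.smul_tmul',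
        TensorProduct.tmul_smul, smul_mul_assoc, mul_smul_comm, smul_smul, Algebra.TensorProduct.one_def]
      rw [mul_comm (Coalgebra.counit (R := k) r) (Coalgebra.counit (R := k) p)]
      abel
  have h := key (Coalgebra.comul (R := k) a)
  have e : LinearMap.mul' k k (TensorProduct.map Coalgebra.counit Coalgebra.counit (Coalgebra.comul (R := k) a)) = 0 := by
    rw [← LinearMap.rTensor_comp_lTensor, LinearMap.comp_apply, Coalgebra.lTensor_counit_comul]
    simp [hε]
  rw [Coalgebra.lTensor_counit_comul, Coalgebra.rTensor_counit_comul, e, zero_smul, add_zero] at h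
  simp only [TensorProduct.rid_tmul, TensorProduct.lid_tmul, one_smul] at h
  rwa [sub_sub] at h

theorem comul_mem_WW {a : A} (ha : a ∈ aug k A) : Coalgebra.comul (R := k) a ∈ WW k A := by
  have h1 : a ⊗ₜ[k] (1 : A) + (1 : A) ⊗ₜ[k] a ∈ WW k A :=
    add_mem (Ideal.mem_sup_left (Ideal.mem_map_of_mem (Algebra.TensorProduct.includeLeft : A →ₐ[k] A ⊗[k] A) ha))
      (Ideal.mem_sup_right (Ideal.mem_map_of_mem (Algebra.TensorProduct.includeRight : A →ₐ[k] A ⊗[k] A) ha))
  have := add_mem (Ideal.pow_le_self two_ne_zero (comul_sub_mem ha)) h1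
  rwa [sub_add_cancel] at this

theorem comul_pow_mem (n : ℕ) {a : A} (ha : a ∈ aug k A ^ n) : Coalgebra.comul (R := k) a ∈ WW k A ^ n := by
  have h : Ideal.map (Bialgebra.comulAlgHom k A) (aug k A ^ n) ≤ WW k A ^ n := by
    rw [Ideal.map_pow]
    exact Ideal.pow_right_mono (Ideal.map_le_iff_le_comap.2 fun x hx => comul_mem_WW hx) n
  exact h (Ideal.mem_map_of_mem _ ha)

theorem sup_pow_le {R : Type*} [CommRing R] (I J : Ideal R) (i j : ℕ) :
    (I ⊔ J) ^ (i + j + 1) ≤ I ^ (i + 1) ⊔ J ^ (j + 1) := by
  rw [← Ideal.add_eq_sup, add_pow, Ideal.sum_eq_sup, Finset.sup_le_iff]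
  intro l hl
  rcases lt_or_ge i l with h | h
  · refine le_trans (le_trans ?_ (Ideal.pow_le_pow_right (I := I) (show i + 1 ≤ l from h))) le_sup_left
    exact le_trans Ideal.mul_le_left (Ideal.mul_le_left)
  · refine le_trans (le_trans ?_ (Ideal.pow_le_pow_right (I := J) (show j + 1 ≤ i + j + 1 - l by omega))) le_sup_right
    exact le_trans Ideal.mul_le_left (Ideal.mul_le_right)

theorem contr_vanish {i j : ℕ} (L M : A →ₗ[k] k) (hL : ∀ a ∈ aug k A ^ (i + 1), L a = 0)
    (hM : ∀ a ∈ aug k A ^ (j + 1), M a = 0) {z : A ⊗[k] A} (hz : z ∈ WW k A ^ (i + j + 1)) :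
    L (contr k A M z) = 0 := by
  have hz' := sup_pow_le _ _ i j hz
  rw [← Ideal.map_pow, ← Ideal.map_pow] at hz'
  obtain ⟨a, ha, b, hb, rfl⟩ := Submodule.mem_sup.1 hz'
  have hla : ∀ (a : A ⊗[k] A), a ∈ Ideal.map (Algebra.TensorProduct.includeLeft : A →ₐ[k] A ⊗[k] A) (aug k A ^ (i + 1)) →
      L (contr k A M a) = 0 := by
    intro a ha
    suffices H : ∀ c : A ⊗[k] A, L (contr k A M (c * a)) = 0 by simpa using H 1
    refine Submodule.span_induction (p := fun a _ => ∀ c : A ⊗[k] A, L (contr k A M (c * a)) = 0) ?_ ?_ ?_ ?_ ha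
    · rintro _ ⟨y, hy, rfl⟩ c
      induction c with
      | zero => simp
      | add p q hp hq => simp only [add_mul, map_add, hp, hq, add_zero]
      | tmul p q =>
        simp [Algebra.TensorProduct.tmul_mul_tmul, hL _ ((aug k A ^ (i + 1)).mul_mem_left p hy)]
    · simp
    · intro p q _ _ hp hq c; simp only [mul_add, map_add, hp, hq, add_zero]
    · intro r p _ hp c; rw [smul_eq_mul, ← mul_assoc]; exact hp _
  have hrb : ∀ (a : A ⊗[k] A), a ∈ Ideal.map (Algebra.TensorProduct.includeRight : A →ₐ[k] A ⊗[k] A) (aug k A ^ (j + 1)) →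
      L (contr k A M a) = 0 := by
    intro a ha
    suffices H : ∀ c : A ⊗[k] A, L (contr k A M (c * a)) = 0 by simpa using H 1
    refine Submodule.span_induction (p := fun a _ => ∀ c : A ⊗[k] A, L (contr k A M (c * a)) = 0) ?_ ?_ ?_ ?_ ha
    · rintro _ ⟨y, hy, rfl⟩ c
      induction c with
      | zero => simp
      | add p q hp hq => simp only [add_mul, map_add, hp, hq, add_zero]
      | tmul p q =>
        simp [Algebra.TensorProduct.tmul_mul_tmul, hM _ ((aug k A ^ (j + 1)).mul_mem_left q hy)]
    · simp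
    · intro p q _ _ hp hq c; simp only [mul_add, map_add, hp, hq, add_zero]
    · intro r p _ hp c; rw [smul_eq_mul, ← mul_assoc]; exact hp _
  rw [map_add, map_add, hla a ha, hrb b hb, add_zero]

end gr

end Groth.Agent.HopfRep.PrimGen
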