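import Groth.Agent.RegularLocal.GlobalDim
import Mathlib

/-! Corepresentations over regular rings of dimension at most two. -/

universe u

open TensorProduct CategoryTheory

noncomputable section

namespace Groth.Agent.HopfRep.ProjComod

variable {R : Type u} [CommRing R]

theorem projective_ker_localRing [IsRegularLocalRing R] (hdim : ringKrullDim R ≤ 2) {P Q : Type u}
    [AddCommGroup P] [Module R P] [Module.Projective R P] [AddCommGroup Q] [Module R Q] [Module.Projective R Q]
    (f : P →ₗ[R] Q) : Module.Projective R (LinearMap.ker f) := by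
  open Groth.Agent.RegularLocal.GlobalDim in
  have hs : (IsLocalRing.maximalIdeal R).spanFinrank ≤ 2 := by
    have h : ((IsLocalRing.maximalIdeal R).spanFinrank : WithBot ℕ∞) ≤ 2 := by
      rwa [IsRegularLocalRing.spanFinrank_maximalIdeal]
    exact_mod_cast h
  let L := LinearMap.range f
  have h3 : HasProjectiveDimensionLT (ModuleCat.of R (Q ⧸ L)) 3 := by
    have := pdLT (R := R) (Q ⧸ L)
    exact hasProjectiveDimensionLT_of_ge (ModuleCat.of R (Q ⧸ L)) ((IsLocalRing.maximalIdeal R).spanFinrank + 1) 3 (by omega)
  have h2 : HasProjectiveDimensionLT (ModuleCat.of R L) 2 :=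
    pdLT_congr (LinearEquiv.ofEq _ _ L.ker_mkQ) ((pdLT_syzygy L.mkQ L.mkQ_surjective 1).1 h3)
  have h1 := (pdLT_syzygy f.rangeRestrict f.surjective_rangeRestrict 0).1 h2
  exact pdLT_one.1 (pdLT_congr (LinearEquiv.ofEq _ _ f.ker_rangeRestrict) h1)

theorem projective_ker [IsRegularRing R] (hdim : ringKrullDim R ≤ 2) {P Q : Type u} [AddCommGroup P] [Module R P]
    [Module.Projective R P] [Module.Finite R P] [AddCommGroup Q] [Module R Q] [Module.Projective R Q]
    (f : P →ₗ[R] Q) : Module.Projective R (LinearMap.ker f) := by
  let K := LinearMap.ker f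
  have : Module.Finite R K := Module.Finite.iff_fg.2 (IsNoetherian.noetherian _)
  have : Module.FinitePresentation R K := Module.finitePresentation_of_finite R K
  refine Module.projective_of_localization_maximal fun m hm => ?_
  let S := Localization.AtPrime m
  have hdS : ringKrullDim S ≤ 2 := by
    rw [IsLocalization.AtPrime.ringKrullDim_eq_height m]
    exact (Ideal.height_le_ringKrullDim_of_isPrime).trans hdim
  have := projective_ker_localRing hdS (f.baseChange S)
  have hi : Function.Injective (K.subtype.baseChange S) :=
    Module.Flat.lTensor_preserves_injective_linearMap _ K.injective_subtype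
  have hr : LinearMap.range (K.subtype.baseChange S) = LinearMap.ker (f.baseChange S) := by
    have hex : Function.Exact (K.subtype.baseChange S) (f.baseChange S) :=
      Module.Flat.lTensor_exact S (LinearMap.exact_subtype_ker_map f)
    exact hex.linearMap_ker_eq.symm
  have : Module.Projective S (S ⊗[R] K) := Module.Projective.of_equiv
    ((LinearEquiv.ofInjective _ hi).trans (LinearEquiv.ofEq _ _ hr)).symm
  exact Module.Projective.of_equiv (LocalizedModule.equivTensorProduct m.primeCompl K).symm

theorem projective_dual [IsRegularRing R] (hdim : ringKrullDim R ≤ 2) (M : Type u) [AddCommGroup M] [Module R M]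
    [Module.Finite R M] : Module.Projective R (Module.Dual R M) ∧ Module.Finite R (Module.Dual R M) := by
  obtain ⟨b, π, hπ⟩ := Module.Finite.exists_fin' R M
  have : Module.Finite R (LinearMap.ker π) := Module.Finite.iff_fg.2 (IsNoetherian.noetherian _)
  obtain ⟨a, u', hu'⟩ := Module.Finite.exists_fin' R (LinearMap.ker π)
  let f : Module.Dual R (Fin b → R) →ₗ[R] Module.Dual R (Fin a → R) := ((LinearMap.ker π).subtype ∘ₗ u').dualMap
  have hinj : Function.Injective π.dualMap := LinearMap.dualMap_injective_of_surjective hπ
  have hr : LinearMap.range π.dualMap = LinearMap.ker f := by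
    ext φ
    constructor
    · rintro ⟨ψ, rfl⟩
      refine LinearMap.mem_ker.2 (LinearMap.ext fun x => ?_)
      show ψ (π (u' x : Fin b → R)) = 0
      rw [LinearMap.mem_ker.1 (u' x).2, map_zero]
    · intro hφ
      refine ⟨(LinearMap.ker π).liftQ φ (fun x hx => ?_) ∘ₗ (π.quotKerEquivOfSurjective hπ).symm.toLinearMap, ?_⟩
      · obtain ⟨y, hy⟩ := hu' ⟨x, hx⟩
        have := DFunLike.congr_fun (LinearMap.mem_ker.1 hφ) y
        simp only [f, LinearMap.dualMap_apply, LinearMap.comp_apply, hy, Submodule.subtype_apply] at this
        exact this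
      · refine LinearMap.ext fun x => ?_
        have : (π.quotKerEquivOfSurjective hπ).symm (π x) = Submodule.Quotient.mk x :=
          (LinearEquiv.symm_apply_eq _).2 rfl
        simp [this]
  let e : Module.Dual R M ≃ₗ[R] LinearMap.ker f :=
    (LinearEquiv.ofInjective _ hinj).trans (LinearEquiv.ofEq _ _ hr)
  have : Module.Finite R (LinearMap.ker f) := Module.Finite.iff_fg.2 (IsNoetherian.noetherian _)
  have := projective_ker hdim f
  exact ⟨Module.Projective.of_equiv e.symm, Module.Finite.equiv e.symm⟩

section hom

variable (R) (A : Type u) [AddCommGroup A] [Module R A] (M : Type u) [AddCommGroup M] [Module R M]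

/-- `A ⊗ M^∨ → Hom(M, A)`. -/
def toHom : A ⊗[R] Module.Dual R M →ₗ[R] M →ₗ[R] A :=
  TensorProduct.lift (LinearMap.mk₂ R (fun a φ => φ.smulRight a)
    (fun a b φ => LinearMap.ext fun m => by simp) (fun r a φ => LinearMap.ext fun m => smul_comm (φ m) r a)
    (fun a φ ψ => LinearMap.ext fun m => by simp [add_smul]) (fun r a φ => LinearMap.ext fun m => by simp [mul_smul]))

@[simp] theorem toHom_tmul (a : A) (φ : Module.Dual R M) (m : M) : toHom R A M (a ⊗ₜ φ) m = φ m • a := rfl

variable [Module.Flat R A] [Module.Finite R M]

theorem toHom_injective : Function.Injective (toHom R A M) := by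
  obtain ⟨b, π, hπ⟩ := Module.Finite.exists_fin' R M
  let E : Module.Dual R M →ₗ[R] (Fin b → R) := LinearMap.pi fun i => LinearMap.applyₗ (π (Pi.single i 1))
  have hE : Function.Injective E := fun φ ψ h => by
    refine LinearMap.ext fun m => ?_
    obtain ⟨x, rfl⟩ := hπ m
    have : φ ∘ₗ π = ψ ∘ₗ π := by
      refine LinearMap.pi_ext' fun i => LinearMap.ext_ring ?_
      exact congrFun h i
    exact DFunLike.congr_fun this x
  have hl : Function.Injective (E.lTensor A) := Module.Flat.lTensor_preserves_injective_linearMap E hE
  have key : ∀ z i, TensorProduct.piScalarRight R R A (Fin b) (E.lTensor A z) i = toHom R A M z (π (Pi.single i 1)) := by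
    intro z i
    induction z with
    | zero => simp
    | add p q hp hq => simp only [map_add, Pi.add_apply, LinearMap.add_apply, hp, hq]
    | tmul a φ => simp [E, TensorProduct.piScalarRight_apply, TensorProduct.piScalarRightHom_tmul]
  intro z w h
  exact hl ((TensorProduct.piScalarRight R R A (Fin b)).injective (funext fun i => by rw [key, key, h]))

theorem toHom_bijective [Module.FinitePresentation R M] : Function.Bijective (toHom R A M) := by
  refine ⟨toHom_injective R A M, fun f => ?_⟩
  obtain ⟨n, h₂, h₃, rfl⟩ := Module.Flat.exists_factorization_of_finitePresentation f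
  refine ⟨∑ i, h₃ (Finsupp.single i 1) ⊗ₜ[R] ((Finsupp.lapply i) ∘ₗ h₂), LinearMap.ext fun m => ?_⟩
  simp only [map_sum, LinearMap.sum_apply, toHom_tmul, LinearMap.comp_apply, Finsupp.lapply_apply]
  conv_rhs => rw [← (Finsupp.univ_sum_single (h₂ m)), map_sum]
  refine Finset.sum_congr rfl fun i _ => ?_
  rw [← map_smul, Finsupp.smul_single, smul_eq_mul, mul_one]

end hom

variable {A : Type u} [CommRing A] [HopfAlgebra R A]

/-- A finite set lies in a finite subcomodule of the regular comodule. -/
theorem exists_subcomod [IsNoetherianRing R] [Module.Flat R A] (F : Finset A) :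
    ∃ (N : Submodule R A) (ρ : N →ₗ[R] N ⊗[R] A), Module.Finite R N ∧ (F : Set A) ⊆ N ∧
      ∀ y : N, N.subtype.rTensor A (ρ y) = Coalgebra.comul (R := R) (y : A) := by
  classical
  choose s hs using fun a : A => TensorProduct.exists_finset (Coalgebra.comul (R := R) a)
  let E := Submodule.span R ((F.biUnion fun a => (s a).image Prod.fst : Finset A) : Set A)
  let θ : A →ₗ[R] (A ⧸ E) ⊗[R] A := E.mkQ.rTensor A ∘ₗ Coalgebra.comul
  let N := LinearMap.ker θ
  have hNE : N ≤ E := by
    intro y hy
    rw [← Submodule.Quotient.mk_eq_zero]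
    have h := congrArg (fun z => TensorProduct.rid R _ ((Coalgebra.counit (R := R) (A := A)).lTensor (A ⧸ E) z))
      (LinearMap.mem_ker.1 hy)
    have e : ∀ z : A ⊗[R] A, TensorProduct.rid R _ ((Coalgebra.counit (R := R) (A := A)).lTensor (A ⧸ E)
        (E.mkQ.rTensor A z)) = E.mkQ (TensorProduct.rid R A ((Coalgebra.counit (R := R) (A := A)).lTensor A z)) := by
      intro z
      induction z with
      | zero => simp
      | add p q hp hq => simp only [map_add, hp, hq]
      | tmul p q => simp
    simp only [θ, LinearMap.comp_apply, e, Coalgebra.lTensor_counit_comul] at h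
    simpa using h
  have : Module.Finite R E := Module.Finite.span_of_finite R (Finset.finite_toSet _)
  have : Module.Finite R N :=
    Module.Finite.of_injective (Submodule.inclusion hNE) (Submodule.inclusion_injective hNE)
  have hFN : (F : Set A) ⊆ N := by
    intro a ha
    rw [SetLike.mem_coe, LinearMap.mem_ker]
    show E.mkQ.rTensor A (Coalgebra.comul (R := R) a) = 0
    rw [hs a, map_sum]
    refine Finset.sum_eq_zero fun p hp => ?_
    have : E.mkQ p.1 = 0 := (Submodule.Quotient.mk_eq_zero E).2
      (Submodule.subset_span (Finset.mem_biUnion.2 ⟨a, ha, Finset.mem_image.2 ⟨p, hp, rfl⟩⟩))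
    rw [LinearMap.rTensor_tmul, this, TensorProduct.zero_tmul]
  have hex : Function.Exact (N.subtype.rTensor A) (θ.rTensor A) :=
    Module.Flat.rTensor_exact A (LinearMap.exact_subtype_ker_map θ)
  have hmem : ∀ y : N, Coalgebra.comul (R := R) (y : A) ∈ LinearMap.range (N.subtype.rTensor A) := by
    intro y
    refine (hex _).1 ?_
    apply (TensorProduct.assoc R (A ⧸ E) A A).injective
    rw [map_zero]
    have e : ∀ z : A ⊗[R] A, TensorProduct.assoc R (A ⧸ E) A A (θ.rTensor A z) =
        E.mkQ.rTensor (A ⊗[R] A) (TensorProduct.assoc R A A A ((Coalgebra.comul (R := R) (A := A)).rTensor A z)) := by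
      intro z
      induction z with
      | zero => simp
      | add p q hp hq => simp only [map_add, hp, hq]
      | tmul p q =>
        simp only [θ, LinearMap.rTensor_tmul, LinearMap.comp_apply]
        generalize Coalgebra.comul (R := R) p = z
        induction z with
        | zero => simp
        | add a b ha hb => simp only [map_add, TensorProduct.add_tmul, ha, hb]
        | tmul a b => simp
    rw [e, Coalgebra.coassoc_apply]
    have e2 : ∀ z : A ⊗[R] A, E.mkQ.rTensor (A ⊗[R] A) ((Coalgebra.comul (R := R) (A := A)).lTensor A z) =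
        (Coalgebra.comul (R := R) (A := A)).lTensor (A ⧸ E) (E.mkQ.rTensor A z) := by
      intro z
      induction z with
      | zero => simp
      | add p q hp hq => simp only [map_add, hp, hq]
      | tmul p q => simp
    rw [e2, show E.mkQ.rTensor A (Coalgebra.comul (R := R) (y : A)) = 0 from LinearMap.mem_ker.1 y.2, map_zero]
  have hinj : Function.Injective (N.subtype.rTensor A) :=
    Module.Flat.rTensor_preserves_injective_linearMap _ N.injective_subtype
  refine ⟨N, (LinearEquiv.ofInjective _ hinj).symm.toLinearMap ∘ₗ
    LinearMap.codRestrict _ ((Coalgebra.comul (R := R)) ∘ₗ N.subtype) hmem, inferInstance, hFN, fun y => ?_⟩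
  exact congrArg Subtype.val ((LinearEquiv.ofInjective _ hinj).apply_symm_apply _)

/-- A comodule with projective dual has a corepresentation carrying all its matrix coefficients. -/
theorem exists_corep_of_comod [Module.Flat R A] (N : Type u) [AddCommGroup N] [Module R N] [Module.Finite R N]
    [Module.FinitePresentation R N] [Module.Projective R (Module.Dual R N)] [Module.Finite R (Module.Dual R N)]
    (ρ : N →ₗ[R] N ⊗[R] A)
    (hcoassoc : ∀ x : N, TensorProduct.assoc R N A A (ρ.rTensor A (ρ x)) =
      (Coalgebra.comul (R := R) (A := A)).lTensor N (ρ x))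
    (hcounit : ∀ x : N, TensorProduct.rid R N ((Coalgebra.counit (R := R) (A := A)).lTensor N (ρ x)) = x) :
    ∃ (d : ℕ) (a : Matrix (Fin d) (Fin d) A),
      (∀ i j, Coalgebra.comul (R := R) (a i j) = ∑ l, a i l ⊗ₜ[R] a l j) ∧
      (∀ i j, Coalgebra.counit (R := R) (a i j) = if i = j then 1 else 0) ∧
      ∀ (φ : Module.Dual R N) (x : N), TensorProduct.lid R A (φ.rTensor A (ρ x)) ∈
        Submodule.span R (Set.range fun p : Fin d × Fin d => a p.1 p.2) := by
  classical
  let T := LinearEquiv.ofBijective _ (toHom_bijective R A N)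
  let T₂ := toHom R (A ⊗[R] A) N
  have hT₂ : Function.Injective T₂ := toHom_injective R (A ⊗[R] A) N
  let β : Module.Dual R N →ₗ[R] N →ₗ[R] A :=
    { toFun := fun φ => (TensorProduct.lid R A).toLinearMap ∘ₗ φ.rTensor A ∘ₗ ρ
      map_add' := fun φ ψ => LinearMap.ext fun x => by simp [LinearMap.rTensor_add]
      map_smul' := fun r φ => LinearMap.ext fun x => by simp [LinearMap.rTensor_smul] }
  let δ : Module.Dual R N →ₗ[R] A ⊗[R] Module.Dual R N := T.symm.toLinearMap ∘ₗ β
  have hδ : ∀ φ x, toHom R A N (δ φ) x = TensorProduct.lid R A (φ.rTensor A (ρ x)) := by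
    intro φ x
    show T (T.symm (β φ)) x = _
    rw [T.apply_symm_apply]
    rfl
  -- coassociativity of `δ`
  have hδδ : ∀ φ, (TensorProduct.assoc R A A (Module.Dual R N)).symm (δ.lTensor A (δ φ)) =
      (Coalgebra.comul (R := R) (A := A)).rTensor _ (δ φ) := by
    intro φ
    apply hT₂
    refine LinearMap.ext fun x => ?_
    have e1 : ∀ z : A ⊗[R] Module.Dual R N, T₂ ((Coalgebra.comul (R := R) (A := A)).rTensor _ z) x =
        Coalgebra.comul (R := R) (toHom R A N z x) := by
      intro z
      induction z with
      | zero => simp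
      | add p q hp hq => simp only [map_add, LinearMap.add_apply, hp, hq]
      | tmul p q => simp [T₂]
    have e2 : ∀ z : A ⊗[R] Module.Dual R N, T₂ ((TensorProduct.assoc R A A _).symm (δ.lTensor A z)) x =
        (toHom R A N z).rTensor A (ρ x) := by
      intro z
      induction z with
      | zero => simp
      | add p q hp hq => simp only [map_add, LinearMap.add_apply, LinearMap.rTensor_add, hp, hq]
      | tmul p q =>
        rw [LinearMap.lTensor_tmul]
        have e3 : ∀ w : A ⊗[R] Module.Dual R N, T₂ ((TensorProduct.assoc R A A _).symm (p ⊗ₜ w)) x =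
            p ⊗ₜ[R] toHom R A N w x := by
          intro w
          induction w with
          | zero => simp
          | add a b ha hb => simp only [TensorProduct.tmul_add, map_add, LinearMap.add_apply, ha, hb]
          | tmul a b => simp [T₂, TensorProduct.tmul_smul]
        rw [e3, hδ]
        generalize ρ x = w
        induction w with
        | zero => simp
        | add a b ha hb => simp only [map_add, TensorProduct.tmul_add, ha, hb]
        | tmul a b => simp [TensorProduct.smul_tmul', TensorProduct.tmul_smul]
    rw [e1, e2, hδ]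
    have e4 : ∀ w : N ⊗[R] A, Coalgebra.comul (R := R) (TensorProduct.lid R A (φ.rTensor A w)) =
        TensorProduct.lid R _ (φ.rTensor (A ⊗[R] A) ((Coalgebra.comul (R := R) (A := A)).lTensor N w)) := by
      intro w
      induction w with
      | zero => simp
      | add a b ha hb => simp only [map_add, ha, hb]
      | tmul a b => simp
    rw [e4, ← hcoassoc]
    generalize ρ x = w
    induction w with
    | zero => simp
    | add a b ha hb => simp only [map_add, ha, hb]
    | tmul a b =>
      rw [LinearMap.rTensor_tmul, LinearMap.rTensor_tmul, hδ]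
      generalize ρ a = v
      induction v with
      | zero => simp
      | add c d hc hd => simp only [map_add, TensorProduct.add_tmul, hc, hd]
      | tmul c d => simp [TensorProduct.smul_tmul']
  have hδε : ∀ φ, TensorProduct.lid R _ ((Coalgebra.counit (R := R) (A := A)).rTensor _ (δ φ)) = φ := by
    intro φ
    refine LinearMap.ext fun x => ?_
    have e : ∀ z : A ⊗[R] Module.Dual R N, TensorProduct.lid R _ ((Coalgebra.counit (R := R) (A := A)).rTensor _ z) x =
        Coalgebra.counit (R := R) (toHom R A N z x) := by
      intro z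
      induction z with
      | zero => simp
      | add p q hp hq => simp only [map_add, LinearMap.add_apply, hp, hq]
      | tmul p q => simp [mul_comm]
    rw [e, hδ]
    have e' : ∀ w : N ⊗[R] A, Coalgebra.counit (R := R) (TensorProduct.lid R A (φ.rTensor A w)) =
        φ (TensorProduct.rid R N ((Coalgebra.counit (R := R) (A := A)).lTensor N w)) := by
      intro w
      induction w with
      | zero => simp
      | add a b ha hb => simp only [map_add, ha, hb]
      | tmul a b => simp [mul_comm]
    rw [e', hcounit]
  obtain ⟨d, f, g, -, -, hfg⟩ := Module.Finite.exists_comp_eq_id_of_projective R (Module.Dual R N)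
  let π' : (Fin d → R) →ₗ[R] (Fin d → R) := LinearMap.id - g ∘ₗ f
  let γ : (Fin d → R) →ₗ[R] A ⊗[R] (Fin d → R) :=
    g.lTensor A ∘ₗ δ ∘ₗ f + (TensorProduct.mk R A (Fin d → R) 1) ∘ₗ π'
  let e : A ⊗[R] (Fin d → R) ≃ₗ[R] (Fin d → A) := TensorProduct.piScalarRight R R A (Fin d)
  let c : Matrix (Fin d) (Fin d) A := fun i l => e (γ (Pi.single i 1)) l
  have hfg' : ∀ φ, f (g φ) = φ := fun φ => DFunLike.congr_fun hfg φ
  have hexp : ∀ i, γ (Pi.single i 1) = ∑ l, c i l ⊗ₜ[R] (Pi.single l 1 : Fin d → R) := by
    intro i
    apply e.injective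
    ext l
    simp [c, e, TensorProduct.piScalarRight_apply, TensorProduct.piScalarRightHom_tmul, Pi.single_apply]
  have hγγ : ∀ v, (TensorProduct.assoc R A A _).symm (γ.lTensor A (γ v)) =
      (Coalgebra.comul (R := R) (A := A)).rTensor _ (γ v) := by
    intro v
    have h1 : ∀ z : A ⊗[R] Module.Dual R N, (TensorProduct.assoc R A A _).symm (γ.lTensor A (g.lTensor A z)) =
        g.lTensor (A ⊗[R] A) ((TensorProduct.assoc R A A _).symm (δ.lTensor A z)) := by
      intro z
      induction z with
      | zero => simp
      | add p q hp hq => simp only [map_add, hp, hq]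
      | tmul p q =>
        simp only [LinearMap.lTensor_tmul, γ, π', LinearMap.add_apply, LinearMap.comp_apply, LinearMap.sub_apply,
          LinearMap.id_apply, hfg', sub_self, map_zero, add_zero]
        generalize δ q = w
        induction w with
        | zero => simp
        | add a b ha hb => simp only [map_add, TensorProduct.tmul_add, ha, hb]
        | tmul a b => simp
    have h2 : ∀ z : A ⊗[R] Module.Dual R N, (Coalgebra.comul (R := R) (A := A)).rTensor _ (g.lTensor A z) =
        g.lTensor (A ⊗[R] A) ((Coalgebra.comul (R := R) (A := A)).rTensor _ z) := by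
      intro z
      induction z with
      | zero => simp
      | add p q hp hq => simp only [map_add, hp, hq]
      | tmul p q => simp
    have h3 : γ (π' v) = (1 : A) ⊗ₜ[R] π' v := by
      simp [γ, π', hfg', map_sub, TensorProduct.tmul_sub]
    show (TensorProduct.assoc R A A _).symm (γ.lTensor A (g.lTensor A (δ (f v)) + (1 : A) ⊗ₜ[R] π' v)) =
      (Coalgebra.comul (R := R) (A := A)).rTensor _ (g.lTensor A (δ (f v)) + (1 : A) ⊗ₜ[R] π' v)
    rw [map_add, map_add, map_add, h1, hδδ, h2, LinearMap.lTensor_tmul, h3, LinearMap.rTensor_tmul,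
      Bialgebra.comul_one]
    rfl
  have hγε : ∀ v, TensorProduct.lid R _ ((Coalgebra.counit (R := R) (A := A)).rTensor _ (γ v)) = v := by
    intro v
    have h2 : ∀ z : A ⊗[R] Module.Dual R N, TensorProduct.lid R _ ((Coalgebra.counit (R := R) (A := A)).rTensor _ (g.lTensor A z)) =
        g (TensorProduct.lid R _ ((Coalgebra.counit (R := R) (A := A)).rTensor _ z)) := by
      intro z
      induction z with
      | zero => simp
      | add p q hp hq => simp only [map_add, hp, hq]
      | tmul p q => simp
    simp [γ, π', h2, hδε]
  refine ⟨d, c, fun i j => ?_, fun i j => ?_, fun φ x => ?_⟩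
  · have h := hγγ (Pi.single i 1)
    have := congrArg (fun z => TensorProduct.piScalarRight R R (A ⊗[R] A) (Fin d) z j) h
    rw [hexp] at this
    simp only [map_sum, LinearMap.lTensor_tmul, LinearMap.rTensor_tmul, hexp, TensorProduct.tmul_sum,
      TensorProduct.assoc_symm_tmul, Finset.sum_apply, TensorProduct.piScalarRight_apply,
      TensorProduct.piScalarRightHom_tmul, Pi.single_apply, ite_smul, one_smul, zero_smul,
      Finset.sum_ite_eq, Finset.mem_univ, if_true] at this
    exact this.symm
  · have h := congrFun (hγε (Pi.single i 1)) j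
    rw [hexp] at h
    simpa [Finset.sum_apply, Pi.single_apply, eq_comm] using h
  · let v := g φ
    have hδγ : δ φ = f.lTensor A (γ v) := by
      have : ∀ z : A ⊗[R] Module.Dual R N, f.lTensor A (g.lTensor A z) = z := fun z => by
        rw [← LinearMap.comp_apply, ← LinearMap.lTensor_comp, hfg, LinearMap.lTensor_id, LinearMap.id_apply]
      simp [γ, π', v, hfg', this]
    rw [← hδ, hδγ, show v = ∑ i, v i • (Pi.single i 1 : Fin d → R) from (pi_eq_sum_univ' v), map_sum]
    simp only [map_smul, hexp, map_sum, LinearMap.lTensor_tmul, LinearMap.sum_apply, LinearMap.smul_apply, toHom_tmul]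
    exact Submodule.sum_mem _ fun i _ => Submodule.smul_mem _ _ (Submodule.sum_mem _ fun l _ =>
      Submodule.smul_mem _ _ (Submodule.subset_span ⟨(i, l), rfl⟩))

theorem exists_corep [IsRegularRing R] (hdim : ringKrullDim R ≤ 2) [Module.Flat R A] (F : Finset A) :
    ∃ (d : ℕ) (a : Matrix (Fin d) (Fin d) A),
      (∀ i j, Coalgebra.comul (R := R) (a i j) = ∑ l, a i l ⊗ₜ[R] a l j) ∧
      (∀ i j, Coalgebra.counit (R := R) (a i j) = if i = j then 1 else 0) ∧
      (F : Set A) ⊆ Submodule.span R (Set.range fun p : Fin d × Fin d => a p.1 p.2) := by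
  classical
  obtain ⟨N, ρ, hfin, hFN, hρ⟩ := exists_subcomod (R := R) F
  have : Module.FinitePresentation R N := Module.finitePresentation_of_finite R N
  obtain ⟨hP, hPf⟩ := projective_dual hdim N
  have hcoassoc : ∀ x : N, TensorProduct.assoc R N A A (ρ.rTensor A (ρ x)) =
      (Coalgebra.comul (R := R) (A := A)).lTensor N (ρ x) := by
    intro x
    apply Module.Flat.rTensor_preserves_injective_linearMap (M := A ⊗[R] A) _ N.injective_subtype
    have e1 : ∀ z : N ⊗[R] A, N.subtype.rTensor (A ⊗[R] A) (TensorProduct.assoc R N A A (ρ.rTensor A z)) =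
        TensorProduct.assoc R A A A ((Coalgebra.comul (R := R) (A := A)).rTensor A (N.subtype.rTensor A z)) := by
      intro z
      induction z with
      | zero => simp
      | add p q hp hq => simp only [map_add, hp, hq]
      | tmul p q =>
        simp only [LinearMap.rTensor_tmul, Submodule.subtype_apply, ← hρ p]
        generalize ρ p = w
        induction w with
        | zero => simp
        | add a b ha hb => simp only [map_add, TensorProduct.add_tmul, ha, hb]
        | tmul a b => simp
    have e2 : ∀ z : N ⊗[R] A, N.subtype.rTensor (A ⊗[R] A) ((Coalgebra.comul (R := R) (A := A)).lTensor N z) =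
        (Coalgebra.comul (R := R) (A := A)).lTensor A (N.subtype.rTensor A z) := by
      intro z
      induction z with
      | zero => simp
      | add p q hp hq => simp only [map_add, hp, hq]
      | tmul p q => simp
    rw [e1, e2, hρ, Coalgebra.coassoc_apply]
  have hcounit : ∀ x : N, TensorProduct.rid R N ((Coalgebra.counit (R := R) (A := A)).lTensor N (ρ x)) = x := by
    intro x
    apply Subtype.ext
    have e'' : ∀ w : N ⊗[R] A, ((TensorProduct.rid R N ((Coalgebra.counit (R := R) (A := A)).lTensor N w) : N) : A) =
        TensorProduct.rid R A ((Coalgebra.counit (R := R) (A := A)).lTensor A (N.subtype.rTensor A w)) := by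
      intro w
      induction w with
      | zero => simp
      | add a b ha hb => simp only [map_add, Submodule.coe_add, ha, hb]
      | tmul a b => simp
    rw [e'', hρ, Coalgebra.lTensor_counit_comul]
    simp
  obtain ⟨d, c, hc1, hc2, hc3⟩ := exists_corep_of_comod N ρ hcoassoc hcounit
  refine ⟨d, c, hc1, hc2, fun x hx => ?_⟩
  let φ : Module.Dual R N := (Coalgebra.counit (R := R) (A := A)) ∘ₗ N.subtype
  have : ∀ w : N ⊗[R] A, TensorProduct.lid R A (φ.rTensor A w) =
      TensorProduct.lid R A ((Coalgebra.counit (R := R) (A := A)).rTensor A (N.subtype.rTensor A w)) := by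
    intro w
    induction w with
    | zero => simp
    | add a b ha hb => simp only [map_add, ha, hb]
    | tmul a b => simp [φ]
  have h := hc3 φ ⟨x, hFN hx⟩
  rw [this, hρ, Coalgebra.rTensor_counit_comul] at h
  simpa using h

end Groth.Agent.HopfRep.ProjComod
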