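import Groth.Agent.HopfRep.GrpSmooth
import Mathlib.AlgebraicGeometry.Properties
import Mathlib.RingTheory.Noetherian.Basic

/-!
A point of a locally Noetherian scheme with reduced local ring has a reduced neighbourhood; a group
scheme over a field is smooth when its geometric unit has reduced local ring.
-/

universe u

open CategoryTheory AlgebraicGeometry MonObj

noncomputable section

namespace Groth.Agent.HopfRep.ReducedNhd

theorem exists_away {A : Type u} [CommRing A] [IsNoetherianRing A] (p : Ideal A) [p.IsPrime] (L : Type u)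
    [CommRing L] [Algebra A L] [IsLocalization.AtPrime L p] [_root_.IsReduced L] :
    ∃ f ∉ p, _root_.IsReduced (Localization.Away f) := by
  classical
  obtain ⟨S, hS⟩ := (isNoetherianRing_iff_ideal_fg A).1 inferInstance (nilradical A)
  have h : ∀ a ∈ S, ∃ s ∉ p, s * a = 0 := by
    intro a ha
    have ha' : a ∈ nilradical A := hS ▸ Ideal.subset_span ha
    have h0 : algebraMap A L a = 0 := (mem_nilradical.1 ha' |>.map _).eq_zero
    obtain ⟨⟨s, hs⟩, hsa⟩ := (IsLocalization.map_eq_zero_iff p.primeCompl L a).1 h0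
    exact ⟨s, hs, hsa⟩
  choose! s hs hsa using h
  let f := ∏ a ∈ S, s a
  have hf : f ∉ p := fun hmem => by
    obtain ⟨a, ha, ha'⟩ := ((inferInstance : p.IsPrime).prod_mem_iff).1 hmem
    exact hs a ha ha'
  have hfn : ∀ x ∈ nilradical A, f * x = 0 := by
    intro x hx
    rw [← hS] at hx
    induction hx using Submodule.span_induction with
    | mem y hy =>
      obtain ⟨c, hc⟩ : s y ∣ f := Finset.dvd_prod_of_mem s hy
      rw [hc, mul_right_comm, hsa y hy, zero_mul]
    | zero => simp
    | add y z _ _ hy hz => rw [mul_add, hy, hz, add_zero]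
    | smul c y _ hy => rw [smul_eq_mul, mul_left_comm, hy, mul_zero]
  refine ⟨f, hf, ⟨fun z ⟨n, hn⟩ => ?_⟩⟩
  obtain ⟨⟨x, ⟨_, m, rfl⟩⟩, hz⟩ := IsLocalization.surj (Submonoid.powers f) z
  simp only at hz
  have hx : algebraMap A (Localization.Away f) (x ^ n) = 0 := by
    rw [map_pow, ← hz, mul_pow, hn, zero_mul]
  obtain ⟨⟨_, l, rfl⟩, hl⟩ := (IsLocalization.map_eq_zero_iff (Submonoid.powers f) _ _).1 hx
  have hnil : IsNilpotent (f ^ l * x) := by
    refine ⟨n + 1, ?_⟩
    have hl' : f ^ l * x ^ n = 0 := hl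
    rw [mul_pow, pow_succ x n, ← pow_mul, show l * (n + 1) = l + l * n by ring, pow_add]
    calc f ^ l * f ^ (l * n) * (x ^ n * x) = f ^ (l * n) * (f ^ l * x ^ n) * x := by ring
      _ = 0 := by rw [hl', mul_zero, zero_mul]
  have h2 : f * (f ^ l * x) = 0 := hfn _ (mem_nilradical.2 hnil)
  have hu : IsUnit (algebraMap A (Localization.Away f) f) := IsLocalization.Away.algebraMap_isUnit f
  have h3 : algebraMap A (Localization.Away f) x = 0 := by
    have h4 := congrArg (algebraMap A (Localization.Away f)) h2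
    rw [map_mul, map_mul, map_zero, map_pow] at h4
    exact (hu.pow l).mul_right_eq_zero.1 (hu.mul_right_eq_zero.1 h4)
  rw [h3] at hz
  exact (IsUnit.mul_left_eq_zero (by rw [map_pow]; exact hu.pow m)).1 hz

theorem exists_reduced_nhd {X : Scheme.{u}} [IsLocallyNoetherian X] (x : X)
    [_root_.IsReduced (X.presheaf.stalk x)] : ∃ U : X.Opens, x ∈ U ∧ IsReduced (U : Scheme.{u}) := by
  obtain ⟨_, ⟨U, hU, rfl⟩, hxU, -⟩ := X.isBasis_affineOpens.exists_subset_of_mem_open (Set.mem_univ x) isOpen_univ
  let A := Γ(X, U)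
  have : IsNoetherianRing A := IsLocallyNoetherian.component_noetherian ⟨U, hU⟩
  have hloc := hU.isLocalization_stalk ⟨x, hxU⟩
  letI := TopCat.Presheaf.algebra_section_stalk X.presheaf (⟨x, hxU⟩ : U)
  obtain ⟨f, hf, hred⟩ := exists_away (hU.primeIdealOf ⟨x, hxU⟩).asIdeal (X.presheaf.stalk x)
  have hV := hU.basicOpen f
  refine ⟨X.basicOpen f, ?_, ?_⟩
  · have hU' : IsAffineOpen U := hU
    have h1 : hU'.fromSpec (hU'.primeIdealOf ⟨x, hxU⟩) ∈ X.basicOpen f := by
      change hU'.primeIdealOf ⟨x, hxU⟩ ∈ hU'.fromSpec ⁻¹ᵁ X.basicOpen f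
      rw [IsAffineOpen.fromSpec_preimage_basicOpen]
      exact hf
    rwa [hU'.fromSpec_primeIdealOf ⟨x, hxU⟩] at h1
  · have := hU.isLocalization_basicOpen f
    have e := IsLocalization.algEquiv (Submonoid.powers f) Γ(X, X.basicOpen f) (Localization.Away f)
    have : _root_.IsReduced Γ(X, X.basicOpen f) := isReduced_of_injective e e.injective
    exact isReduced_of_isOpenImmersion hV.isoSpec.hom

theorem smooth_of_isReduced_stalk {k : Type u} [Field k] [PerfectField k]
    (G : Over (Spec (CommRingCat.of k))) [GrpObj G] [LocallyOfFiniteType G.hom] (x : G.left)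
    [_root_.IsReduced (G.left.presheaf.stalk x)] : Smooth G.hom := by
  have : IsLocallyNoetherian G.left := LocallyOfFiniteType.isLocallyNoetherian G.hom
  obtain ⟨U, hxU, hU⟩ := exists_reduced_nhd x
  have : Nonempty (U : Scheme.{u}) := ⟨⟨x, hxU⟩⟩
  obtain ⟨y, hy⟩ := (U.ι ≫ G.hom).dense_smoothLocus_of_perfectField.nonempty
  rw [← Scheme.Hom.preimage_smoothLocus_eq] at hy
  refine GrpSmooth.smooth_of_smooth_open G G.hom.smoothLocus ⟨U.ι y, hy⟩ ?_
  rw [← Scheme.Hom.smoothLocus_eq_top_iff, ← Scheme.Hom.preimage_smoothLocus_eq]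
  exact Scheme.Opens.ι_preimage_self _

set_option backward.isDefEq.respectTransparency.types false in
theorem smooth_of_geometric {k : Type u} [Field k] (G : Over (Spec (CommRingCat.of k)))
    [LocallyOfFiniteType G.hom]
    (h : Smooth (Limits.pullback.snd G.hom
      (Spec.map (CommRingCat.ofHom (algebraMap k (AlgebraicClosure k)))))) : Smooth G.hom := by
  let g : Spec (.of (AlgebraicClosure k)) ⟶ Spec (.of k) :=
    Spec.map (CommRingCat.ofHom <| algebraMap k (AlgebraicClosure k))
  have : Surjective g := inferInstance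
  apply MorphismProperty.of_pullback_snd_of_descendsAlong
    (Q := @Surjective ⊓ @Flat ⊓ @QuasiCompact) (g := g)
  · exact ⟨⟨inferInstance, inferInstance⟩, inferInstance⟩
  · exact h

end Groth.Agent.HopfRep.ReducedNhd

end
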