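import Groth.Prelude.Def_GLin
import Groth.Prelude.Def_W4c1tameactTame
import Groth.Agent.HopfRep.Integral

/-!
The Reynolds operator `slice β` on comodule algebras and equivariant modules.
-/

universe u v w w'

open TensorProduct

noncomputable section

namespace Groth.Agent.HopfRep.Reynolds

open _root_.HopfRep Groth.Agent.HopfRep.Slice Groth.Agent.HopfRep.Integral

variable {k : Type u} [Field k] {A : Type v} [CommRing A] [HopfAlgebra k A]
variable {R : Type w} [CommRing R] [Algebra k R] [Comod k A R] [GLin.IsCoactAlg k A R]
variable {M : Type w'} [AddCommGroup M] [Module k M] [Module R M] [IsScalarTower k R M]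
  [Comod k A M] [TameAct.IsHopfMod k A R M]

theorem slice_mul {a : R} (ha : a ∈ GLin.invariants k A R) (f : A →ₗ[k] k) (r : R) :
    slice k R f (a * r) = a * slice k R f r := by
  rw [slice_apply, GLin.IsCoactAlg.coact_mul, slice_apply, (GLin.mem_invariants_iff k A R a).1 ha]
  generalize Comod.coact (k := k) (A := A) r = x
  induction x with
  | zero => simp
  | add p q hp hq => simp [mul_add, hp, hq]
  | tmul p q => simp

theorem slice_smul {r : R} (hr : r ∈ GLin.invariants k A R) (f : A →ₗ[k] k) (m : M) :
    slice k M f (r • m) = r • slice k M f m := by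
  rw [slice_apply, TameAct.IsHopfMod.coact_smul, slice_apply, (GLin.mem_invariants_iff k A R r).1 hr]
  generalize Comod.coact (k := k) (A := A) m = x
  induction x with
  | zero => simp
  | add p q hp hq => simp [hp, hq, smul_add]
  | tmul p q =>
    rw [TameAct.hmSMul_tmul, one_mul, contr_tmul, contr_tmul]
    exact (smul_comm r (f q) p).symm

theorem slice_smul_fixed {m : M} (hm : m ∈ fixedPts k A M) (f : A →ₗ[k] k) (r : R) :
    slice k M f (r • m) = slice k R f r • m := by
  rw [slice_apply, TameAct.IsHopfMod.coact_smul, slice_apply,
    show Comod.coact (k := k) (A := A) m = m ⊗ₜ[k] (1 : A) from hm]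
  generalize Comod.coact (k := k) (A := A) r = x
  induction x with
  | zero => simp
  | add p q hp hq => simp [hp, hq, add_smul]
  | tmul p q =>
    rw [TameAct.hmSMul_tmul, mul_one, contr_tmul, contr_tmul, smul_assoc]

variable {β : A →ₗ[k] k}

theorem slice_mem_invariants (hβ : IsIntegral k A β) (r : R) : slice k R β r ∈ GLin.invariants k A R :=
  slice_mem hβ r

theorem slice_invariant (hβ : IsIntegral k A β) {r : R} (hr : r ∈ GLin.invariants k A R) :
    slice k R β r = r := slice_of_fixed hβ hr

theorem comap_map_invariants (hβ : IsIntegral k A β) (I : Ideal (GLin.invariants k A R)) :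
    Ideal.comap (GLin.invariants k A R).val.toRingHom
      (Ideal.map (GLin.invariants k A R).val.toRingHom I) = I := by
  refine le_antisymm (fun x hx => ?_) Ideal.le_comap_map
  have key : ∀ y ∈ Ideal.map (GLin.invariants k A R).val.toRingHom I,
      (⟨slice k R β y, slice_mem_invariants hβ y⟩ : GLin.invariants k A R) ∈ I := by
    have aux : ∀ y ∈ Ideal.map (GLin.invariants k A R).val.toRingHom I, ∀ r : R,
        (⟨slice k R β (r * y), slice_mem_invariants hβ _⟩ : GLin.invariants k A R) ∈ I := by
      intro y hy
      induction hy using Submodule.span_induction with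
      | mem y hy =>
        obtain ⟨a, ha, rfl⟩ := hy
        intro r
        have e : (⟨slice k R β (r * (a : R)), slice_mem_invariants hβ _⟩ : GLin.invariants k A R) =
            a * ⟨slice k R β r, slice_mem_invariants hβ _⟩ :=
          Subtype.ext (by show slice k R β (r * (a : R)) = (a : R) * slice k R β r; rw [mul_comm r, slice_mul a.2])
        show (⟨slice k R β (r * (a : R)), slice_mem_invariants hβ _⟩ : GLin.invariants k A R) ∈ I
        rw [e]
        exact I.mul_mem_right _ ha
      | zero =>
        intro r
        simp only [mul_zero, map_zero]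
        exact I.zero_mem
      | add p q _ _ hp hq =>
        intro r
        simp only [mul_add, map_add]
        exact I.add_mem (hp r) (hq r)
      | smul c p _ hp =>
        intro r
        simp only [smul_eq_mul, ← mul_assoc]
        exact hp (r * c)
    intro y hy
    simpa using aux y hy 1
  have := key _ (Ideal.mem_comap.1 hx)
  have e : (⟨slice k R β (x : R), slice_mem_invariants hβ _⟩ : GLin.invariants k A R) = x :=
    Subtype.ext (slice_invariant hβ x.2)
  exact e ▸ this

theorem isNoetherianRing_invariants (hβ : IsIntegral k A β) [IsNoetherianRing R] :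
    IsNoetherianRing (GLin.invariants k A R) := by
  rw [isNoetherianRing_iff, isNoetherian_iff']
  refine StrictMono.wellFoundedGT (f := Ideal.map (GLin.invariants k A R).val.toRingHom) ?_
  exact Monotone.strictMono_of_injective (fun _ _ h => Ideal.map_mono h)
    (Function.LeftInverse.injective (comap_map_invariants hβ))

theorem exists_fixedPts_generating (hβ : IsIntegral k A β) [IsNoetherian R M] :
    ∃ s : Finset M, (↑s : Set M) ⊆ ↑(fixedPts k A M) ∧
      (↑(fixedPts k A M) : Set M) ⊆
        ↑(Submodule.span ↥(GLin.invariants k A R) (↑s : Set M)) := by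
  obtain ⟨s, hs, hspan⟩ := Submodule.fg_span_iff_fg_span_finset_subset (fixedPts k A M : Set M) |>.1
    (IsNoetherian.noetherian (Submodule.span R (fixedPts k A M : Set M)))
  refine ⟨s, hs, fun m hm => ?_⟩
  have key : ∀ y ∈ Submodule.span R (↑s : Set M), ∀ r : R,
      slice k M β (r • y) ∈ Submodule.span ↥(GLin.invariants k A R) (↑s : Set M) := by
    intro y hy
    induction hy using Submodule.span_induction with
    | mem y hy =>
      intro r
      rw [slice_smul_fixed (hs hy)]
      exact Submodule.smul_mem _ (⟨_, slice_mem_invariants hβ r⟩ : GLin.invariants k A R)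
        (Submodule.subset_span hy)
    | zero => intro r; simp
    | add p q _ _ hp hq => intro r; rw [smul_add, map_add]; exact Submodule.add_mem _ (hp r) (hq r)
    | smul c p _ hp => intro r; rw [smul_smul]; exact hp (r * c)
  have hm' : m ∈ Submodule.span R (↑s : Set M) := hspan ▸ Submodule.subset_span hm
  have := key m hm' 1
  rwa [one_smul, slice_of_fixed hβ hm] at this

end Groth.Agent.HopfRep.Reynolds
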