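import Groth.Agent.HopfRep.HomImage
import Mathlib.AlgebraicGeometry.Morphisms.SchemeTheoreticallyDominant
import Mathlib.AlgebraicGeometry.Stalk
import Mathlib.AlgebraicGeometry.Pullbacks
import Mathlib.RingTheory.Filtration

/-!
Rigidity for schemes without nonconstant global functions.
-/

universe u

open CategoryTheory MonoidalCategory CartesianMonoidalCategory AlgebraicGeometry Limits IsLocalRing
open scoped TensorProduct

set_option linter.style.haveILetI false

noncomputable section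

namespace Groth.Agent.HopfRep.Rigidity

variable {k : Type u} [Field k]

/-- `Spec R` over `k`. -/
abbrev specOver {R : CommRingCat.{u}} (φ : CommRingCat.of k ⟶ R) : Over (Spec (CommRingCat.of k)) :=
  Over.mk (Spec.map φ)

/-- Functions are constant along an antiaffine factor. -/
theorem appTop_injective {X : Over (Spec (CommRingCat.of k))} [QuasiCompact X.hom] [QuasiSeparated X.hom]
    (hX : Function.Bijective ((Scheme.ΓSpecIso (CommRingCat.of k)).inv ≫ X.hom.appTop).hom)
    {R : CommRingCat.{u}} (φ : CommRingCat.of k ⟶ R) (s : specOver φ ⟶ X ⊗ specOver φ)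
    (hs : s ≫ snd X (specOver φ) = 𝟙 _) : IsIso s.left.appTop := by
  have h1 : IsIso ((Scheme.ΓSpecIso (CommRingCat.of k)).inv ≫ X.hom.appTop) :=
    (ConcreteCategory.isIso_iff_bijective _).2 hX
  have : IsIso X.hom.appTop := IsIso.of_isIso_comp_left (Scheme.ΓSpecIso (CommRingCat.of k)).inv _
  have : CompactSpace X.left := QuasiCompact.compactSpace_of_compactSpace X.hom
  have : QuasiSeparatedSpace X.left := quasiSeparatedSpace_of_quasiSeparated X.hom
  have : Flat (Spec.map φ) := inferInstance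
  have H : IsPullback (fst X (specOver φ)).left (snd X (specOver φ)).left X.hom (Spec.map φ) :=
    IsPullback.of_hasPullback _ _
  have hiso := isIso_pushoutSection_of_isQuasiSeparated_of_flat_right H (US := ⊤) (UT := ⊤)
    (UX := ⊤) (UY := ⊤) le_top le_top (by simp) (isAffineOpen_top (Spec (CommRingCat.of k))) (isAffineOpen_top (Spec R))
    isCompact_univ (isQuasiSeparated_univ_iff.mpr inferInstance)
  have hpo : IsPushout X.hom.appTop (Spec.map φ).appTop (fst X (specOver φ)).left.appTop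
      (snd X (specOver φ)).left.appTop := by
    simpa [Scheme.Hom.app_eq_appLE] using (isIso_pushoutSection_iff _ _ _ _).mp hiso
  have := hpo.isIso_inr_of_isIso
  have h2 : (snd X (specOver φ)).left.appTop ≫ s.left.appTop = 𝟙 _ := by
    rw [← Scheme.Hom.comp_appTop, ← Over.comp_left, hs]
    exact Scheme.Hom.id_appTop
  rw [show s.left.appTop = inv (snd X (specOver φ)).left.appTop by
    rw [← cancel_epi (snd X (specOver φ)).left.appTop, IsIso.hom_inv_id]; exact h2]
  infer_instance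

/-- Morphisms into an affine open agreeing on a section of an antiaffine family agree. -/
theorem eq_of_range_subset {X Z : Over (Spec (CommRingCat.of k))} [QuasiCompact X.hom] [QuasiSeparated X.hom]
    (hX : Function.Bijective ((Scheme.ΓSpecIso (CommRingCat.of k)).inv ≫ X.hom.appTop).hom)
    {R : CommRingCat.{u}} (φ : CommRingCat.of k ⟶ R) (x₀ : 𝟙_ _ ⟶ X) (W : Z.left.Opens) (hW : IsAffineOpen W)
    (h₁ h₂ : X ⊗ specOver φ ⟶ Z) (hr₁ : Set.range h₁.left ⊆ W) (hr₂ : Set.range h₂.left ⊆ W)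
    (h : lift (toUnit _ ≫ x₀) (𝟙 _) ≫ h₁ = lift (toUnit _ ≫ x₀) (𝟙 _) ≫ h₂) : h₁ = h₂ := by
  have := appTop_injective hX φ (lift (toUnit _ ≫ x₀) (𝟙 _)) (by simp)
  have : IsAffine (W : Scheme.{u}) := hW
  have hl : ∀ {j : X ⊗ specOver φ ⟶ Z}, Set.range j.left ⊆ W → Set.range j.left ⊆ Set.range W.ι := fun h => by
    rwa [Scheme.Opens.range_ι]
  let u₁ := IsOpenImmersion.lift W.ι h₁.left (hl hr₁)
  let u₂ := IsOpenImmersion.lift W.ι h₂.left (hl hr₂)
  have : u₁ = u₂ := by
    refine ext_of_isAffine ?_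
    rw [← cancel_mono (lift (toUnit _ ≫ x₀) (𝟙 (specOver φ))).left.appTop, ← Scheme.Hom.comp_appTop,
      ← Scheme.Hom.comp_appTop]
    congr 1
    rw [← cancel_mono W.ι, Category.assoc, Category.assoc, IsOpenImmersion.lift_fac, IsOpenImmersion.lift_fac,
      ← Over.comp_left, ← Over.comp_left, h]
  ext
  rw [← IsOpenImmersion.lift_fac W.ι h₁.left (hl hr₁), ← IsOpenImmersion.lift_fac W.ι h₂.left (hl hr₂)]
  exact congrArg (· ≫ W.ι) this

theorem tmul_eq_zero_of_forall (O : Type u) [CommRing O] [Algebra k O] [IsNoetherianRing O] [IsLocalRing O]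
    (B : Type u) [CommRing B] [Algebra k B] (x : B ⊗[k] O)
    (hx : ∀ n : ℕ, Algebra.TensorProduct.map (AlgHom.id k B) (Ideal.Quotient.mkₐ k (maximalIdeal O ^ n)) x = 0) :
    x = 0 := by
  refine GeomReduced.eq_zero_of_forall B (fun n => Ideal.Quotient.mkₐ k (maximalIdeal O ^ n)) (fun a ha => ?_) x hx
  have : a ∈ ⨅ n, maximalIdeal O ^ n := Submodule.mem_iInf _ |>.2 fun n => Ideal.Quotient.eq_zero_iff_mem.1 (ha n)
  rwa [Ideal.iInf_pow_eq_bot_of_isLocalRing _ (maximalIdeal.isMaximal O).ne_top] at this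

theorem isIso_chart (O : Type u) [CommRing O] [Algebra k O] [IsNoetherianRing O] [IsLocalRing O]
    {X : Scheme.{u}} (f : X ⟶ Spec (CommRingCat.of k)) {Z : Scheme.{u}}
    (c : Z ⟶ pullback f (Spec.map (CommRingCat.ofHom (algebraMap k O)))) [IsClosedImmersion c]
    (B : Type u) [CommRing B] [Algebra k B] (ι : Spec (CommRingCat.of B) ⟶ X)
    (m : Spec (CommRingCat.of (B ⊗[k] O)) ⟶ pullback f (Spec.map (CommRingCat.ofHom (algebraMap k O))))
    (hm₁ : m ≫ pullback.fst _ _ = Spec.map (CommRingCat.ofHom Algebra.TensorProduct.includeLeftRingHom) ≫ ι)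
    (hm₂ : m ≫ pullback.snd _ _ = Spec.map (CommRingCat.ofHom (Algebra.TensorProduct.includeRight (R := k) (A := B) (B := O)).toRingHom))
    (h : ∀ n : ℕ, ∃ t, t ≫ c = pullback.map f (Spec.map (CommRingCat.ofHom (algebraMap k (O ⧸ maximalIdeal O ^ n))))
      f (Spec.map (CommRingCat.ofHom (algebraMap k O))) (𝟙 X)
      (Spec.map (CommRingCat.ofHom (Ideal.Quotient.mk (maximalIdeal O ^ n)))) (𝟙 _) (by simp)
      (by rw [Category.comp_id, ← Spec.map_comp]; rfl)) : IsIso (pullback.snd c m) := by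
  refine IsClosedImmersion.isIso_of_injective_of_isAffine ((injective_iff_map_eq_zero _).2 fun s hs => ?_)
  obtain ⟨x, rfl⟩ : ∃ x, (Scheme.ΓSpecIso (CommRingCat.of (B ⊗[k] O))).inv x = s :=
    ⟨_, Iso.hom_inv_id_apply _ _⟩
  suffices x = 0 by rw [this, map_zero]
  refine tmul_eq_zero_of_forall O B x fun n => ?_
  obtain ⟨t, ht⟩ := h n
  let q := Algebra.TensorProduct.map (AlgHom.id k B) (Ideal.Quotient.mkₐ k (maximalIdeal O ^ n))
  let p₁ := Spec.map (CommRingCat.ofHom (Algebra.TensorProduct.includeLeftRingHom : B →+* B ⊗[k] (O ⧸ maximalIdeal O ^ n)))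
  let p₂ := Spec.map (CommRingCat.ofHom (Algebra.TensorProduct.includeRight (R := k) (A := B) (B := O ⧸ maximalIdeal O ^ n)).toRingHom)
  have hp₁ : Spec.map (CommRingCat.ofHom q.toRingHom) ≫
      Spec.map (CommRingCat.ofHom (Algebra.TensorProduct.includeLeftRingHom : B →+* B ⊗[k] O)) = p₁ := by
    rw [← Spec.map_comp, ← CommRingCat.ofHom_comp]
    congr 2
  have hp₂ : Spec.map (CommRingCat.ofHom q.toRingHom) ≫
      Spec.map (CommRingCat.ofHom (Algebra.TensorProduct.includeRight (R := k) (A := B) (B := O)).toRingHom) =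
      p₂ ≫ Spec.map (CommRingCat.ofHom (Ideal.Quotient.mk (maximalIdeal O ^ n))) := by
    simp only [p₂]
    rw [← Spec.map_comp, ← Spec.map_comp, ← CommRingCat.ofHom_comp, ← CommRingCat.ofHom_comp]
    congr 2
  have hw : (p₁ ≫ ι) ≫ f = p₂ ≫ Spec.map (CommRingCat.ofHom (algebraMap k (O ⧸ maximalIdeal O ^ n))) := by
    have e : (m ≫ pullback.fst _ _) ≫ f = (m ≫ pullback.snd _ _) ≫ Spec.map (CommRingCat.ofHom (algebraMap k O)) := by
      rw [Category.assoc, pullback.condition, Category.assoc]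
    rw [hm₁, hm₂] at e
    rw [← hp₁, Category.assoc, Category.assoc, ← Category.assoc _ ι f, e, ← Category.assoc, hp₂, Category.assoc]
    congr 1
    rw [← Spec.map_comp]; rfl
  let v := pullback.lift (p₁ ≫ ι) p₂ hw
  let l := pullback.lift (v ≫ t) (Spec.map (CommRingCat.ofHom q.toRingHom)) (f := c) (g := m) (by
    rw [Category.assoc, ht]
    apply pullback.hom_ext
    · rw [Category.assoc, Category.assoc, pullback.lift_fst, Category.comp_id, pullback.lift_fst, hm₁,
        reassoc_of% hp₁]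
    · rw [Category.assoc, Category.assoc, pullback.lift_snd, pullback.lift_snd_assoc, hm₂, hp₂])
  have h2 : (l ≫ pullback.snd c m).appTop ((Scheme.ΓSpecIso (CommRingCat.of (B ⊗[k] O))).inv x) = 0 := by
    rw [Scheme.Hom.comp_appTop]
    simp only [CommRingCat.comp_apply, hs, map_zero]
  rw [pullback.lift_snd] at h2
  have h3 : (Scheme.ΓSpecIso (CommRingCat.of (B ⊗[k] (O ⧸ maximalIdeal O ^ n)))).inv (q x) = 0 := by
    rw [← h2]
    exact congrArg (fun φ => φ x) (Scheme.ΓSpecIso_inv_naturality (CommRingCat.ofHom q.toRingHom))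
  exact (ConcreteCategory.bijective_of_isIso (Scheme.ΓSpecIso _).inv).1 (h3.trans (map_zero _).symm)

/-- A closed subscheme of `X × Spec O` containing all infinitesimal neighbourhoods is everything. -/
theorem isIso_of_infinitesimal (O : Type u) [CommRing O] [Algebra k O] [IsNoetherianRing O] [IsLocalRing O]
    {X : Scheme.{u}} (f : X ⟶ Spec (CommRingCat.of k)) {Z : Scheme.{u}}
    (c : Z ⟶ pullback f (Spec.map (CommRingCat.ofHom (algebraMap k O)))) [IsClosedImmersion c]
    (h : ∀ n : ℕ, ∃ t, t ≫ c = pullback.map f (Spec.map (CommRingCat.ofHom (algebraMap k (O ⧸ maximalIdeal O ^ n))))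
      f (Spec.map (CommRingCat.ofHom (algebraMap k O))) (𝟙 X)
      (Spec.map (CommRingCat.ofHom (Ideal.Quotient.mk (maximalIdeal O ^ n)))) (𝟙 _) (by simp)
      (by rw [Category.comp_id, ← Spec.map_comp]; rfl)) : IsIso c := by
  let g := Spec.map (CommRingCat.ofHom (algebraMap k O))
  let 𝒰₀ := X.affineOpenCover
  let 𝒰 := Scheme.Pullback.openCoverOfLeft 𝒰₀.openCover f g
  refine (IsZariskiLocalAtTarget.iff_of_openCover (P := MorphismProperty.isomorphisms Scheme.{u}) 𝒰).2 ?_
  intro (i : 𝒰₀.I₀)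
  show IsIso (pullback.snd c (𝒰.f i))
  let R := Spec.preimage (𝒰₀.f i ≫ f)
  letI : Algebra k (𝒰₀.X i) := R.hom.toAlgebra
  have hR : Spec.map (CommRingCat.ofHom (algebraMap k (𝒰₀.X i))) = 𝒰₀.f i ≫ f := Spec.map_preimage _
  let alg : Algebra k (𝒰₀.X i) := R.hom.toAlgebra
  let e₀ : pullback (Spec.map (CommRingCat.ofHom (algebraMap k (𝒰₀.X i)))) g ≅ 𝒰.X i := pullback.congrHom hR rfl
  let e : 𝒰.X i ≅ Spec (CommRingCat.of ((𝒰₀.X i) ⊗[k] O)) := e₀.symm ≪≫ pullbackSpecIso k (𝒰₀.X i) O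
  let m := e.inv ≫ 𝒰.f i
  have hf₁ : 𝒰.f i ≫ pullback.fst f g = pullback.fst (𝒰₀.f i ≫ f) g ≫ 𝒰₀.f i := pullback.lift_fst _ _ _
  have hf₂ : 𝒰.f i ≫ pullback.snd f g = pullback.snd (𝒰₀.f i ≫ f) g := (pullback.lift_snd _ _ _).trans (Category.comp_id _)
  have he₁ : e₀.hom ≫ pullback.fst (𝒰₀.f i ≫ f) g = pullback.fst _ _ := (pullback.lift_fst _ _ _).trans (Category.comp_id _)
  have he₂ : e₀.hom ≫ pullback.snd (𝒰₀.f i ≫ f) g = pullback.snd _ _ := (pullback.lift_snd _ _ _).trans (Category.comp_id _)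
  have := @isIso_chart k _ O _ _ _ _ X f Z c _ (𝒰₀.X i) _ alg (𝒰₀.f i) m
    (((Category.assoc _ _ _).trans (congrArg (e.inv ≫ ·) hf₁)).trans (by
      simp only [e, Iso.trans_inv, Iso.symm_inv, Category.assoc]
      exact (Category.assoc _ _ _).trans ((congrArg ((pullbackSpecIso k (𝒰₀.X i) O).inv ≫ ·)
        ((Category.assoc _ _ _).symm.trans (congrArg (· ≫ 𝒰₀.f i) he₁))).trans
        (pullbackSpecIso_inv_fst_assoc k (𝒰₀.X i) O _))))
    (((Category.assoc _ _ _).trans (congrArg (e.inv ≫ ·) hf₂)).trans (by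
      simp only [e, Iso.trans_inv, Iso.symm_inv, Category.assoc]
      exact (Category.assoc _ _ _).trans ((congrArg ((pullbackSpecIso k (𝒰₀.X i) O).inv ≫ ·) he₂).trans
        (pullbackSpecIso_inv_snd k (𝒰₀.X i) O)))) h
  have h1 : IsPullback (pullback.fst c m) (pullback.snd c m ≫ e.inv) c (𝒰.f i) :=
    IsPullback.of_iso (IsPullback.of_hasPullback c m) (Iso.refl _) (Iso.refl _) e.symm (Iso.refl _)
      (by simp) (by simp) (by simp) (by simp [m])
  rw [show pullback.snd c (𝒰.f i) = h1.isoPullback.inv ≫ pullback.snd c m ≫ e.inv by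
    rw [h1.isoPullback_inv_snd]]
  exact IsIso.comp_isIso' inferInstance (IsIso.comp_isIso' this inferInstance)

/-- Two morphisms from `X × Spec O` agree when they send the closed fibre into an affine open and agree
on one section. -/
theorem eq_of_local {X Z : Over (Spec (CommRingCat.of k))} [QuasiCompact X.hom] [QuasiSeparated X.hom]
    [IsSeparated Z.hom]
    (hX : Function.Bijective ((Scheme.ΓSpecIso (CommRingCat.of k)).inv ≫ X.hom.appTop).hom)
    {O : CommRingCat.{u}} [IsNoetherianRing O] [IsLocalRing O] (φ : CommRingCat.of k ⟶ O) (x₀ : 𝟙_ _ ⟶ X)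
    (W : Z.left.Opens) (hW : IsAffineOpen W) (h₁ h₂ : X ⊗ specOver φ ⟶ Z)
    (hr₁ : ∀ z, (snd X (specOver φ)).left z = closedPoint O → h₁.left z ∈ W)
    (hr₂ : ∀ z, (snd X (specOver φ)).left z = closedPoint O → h₂.left z ∈ W)
    (h : lift (toUnit _ ≫ x₀) (𝟙 _) ≫ h₁ = lift (toUnit _ ≫ x₀) (𝟙 _) ≫ h₂) : h₁ = h₂ := by
  letI := φ.hom.toAlgebra
  have hdiag : IsClosedImmersion (lift (𝟙 Z) (𝟙 Z)).left := by
    have : (lift (𝟙 Z) (𝟙 Z)).left = pullback.diagonal Z.hom := by
      apply pullback.hom_ext <;> simp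
      · exact pullback.lift_fst ..
      · exact pullback.lift_snd ..
    rw [this]; infer_instance
  let c := pullback.snd (lift (𝟙 Z) (𝟙 Z)).left (lift h₁ h₂).left
  have hc : IsClosedImmersion c := inferInstanceAs (IsClosedImmersion (pullback.snd _ _))
  suffices IsIso c by
    have e : (inv c ≫ pullback.fst _ _) ≫ (lift (𝟙 Z) (𝟙 Z)).left = (lift h₁ h₂).left := by
      rw [Category.assoc, pullback.condition, IsIso.inv_hom_id_assoc]
    have e1 := congrArg (· ≫ (fst Z Z).left) e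
    have e2 := congrArg (· ≫ (snd Z Z).left) e
    simp only [Category.assoc, ← Over.comp_left, lift_fst, lift_snd] at e1 e2
    exact Over.OverMorphism.ext (e1.symm.trans e2)
  refine isIso_of_infinitesimal (k := k) O X.hom c fun n => ?_
  let I := maximalIdeal O ^ n
  let ψ : CommRingCat.of k ⟶ CommRingCat.of (O ⧸ I) := CommRingCat.ofHom (algebraMap k (O ⧸ I))
  let ι : specOver ψ ⟶ specOver φ := Over.homMk (Spec.map (CommRingCat.ofHom (Ideal.Quotient.mk I))) (by
    show _ ≫ Spec.map φ = Spec.map ψ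
    rw [← Spec.map_comp]; rfl)
  have hpt : ∀ z : (X ⊗ specOver ψ).left, (snd X (specOver φ)).left ((X ◁ ι).left z) = closedPoint O := by
    intro z
    show ((X ◁ ι) ≫ snd X (specOver φ)).left z = _
    rw [whiskerLeft_snd]
    show Spec.map _ ((snd X (specOver ψ)).left z) = _
    generalize (snd X (specOver ψ)).left z = p
    refine PrimeSpectrum.ext ((IsLocalRing.maximalIdeal.isMaximal O).eq_of_le (Ideal.IsPrime.ne_top'
      (I := (PrimeSpectrum.comap (Ideal.Quotient.mk I) p).asIdeal)) ?_).symm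
    intro a ha
    show Ideal.Quotient.mk I a ∈ p.asIdeal
    refine p.isPrime.mem_of_pow_mem n ?_
    rw [← map_pow, Ideal.Quotient.eq_zero_iff_mem.2 (Ideal.pow_mem_pow ha n)]
    exact zero_mem _
  have heq : (X ◁ ι) ≫ h₁ = (X ◁ ι) ≫ h₂ := by
    refine eq_of_range_subset hX ψ x₀ W hW _ _ ?_ ?_ ?_
    · rintro _ ⟨z, rfl⟩; exact hr₁ _ (hpt z)
    · rintro _ ⟨z, rfl⟩; exact hr₂ _ (hpt z)
    · have e : lift (toUnit (specOver ψ) ≫ x₀) (𝟙 _) ≫ (X ◁ ι) = ι ≫ lift (toUnit (specOver φ) ≫ x₀) (𝟙 _) := by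
        simp [comp_lift]
      rw [reassoc_of% e, reassoc_of% e, h]
  refine ⟨pullback.lift ((X ◁ ι) ≫ h₁).left (X ◁ ι).left ?_, pullback.lift_snd _ _ _⟩
  rw [← Over.comp_left, ← Over.comp_left, comp_lift, comp_lift, Category.comp_id, heq]

/-- The local scheme at a point as an object over `k`. -/
def stalkOver (Y : Over (Spec (CommRingCat.of k))) (y : Y.left) : CommRingCat.of k ⟶ Y.left.presheaf.stalk y :=
  Spec.preimage (Y.left.fromSpecStalk y ≫ Y.hom)

def stalkι (Y : Over (Spec (CommRingCat.of k))) (y : Y.left) : specOver (stalkOver Y y) ⟶ Y :=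
  Over.homMk (Y.left.fromSpecStalk y) (Spec.map_preimage _).symm

theorem flat_fromSpecStalk {Y : Scheme.{u}} (y : Y) : Flat (Y.fromSpecStalk y) := by
  obtain ⟨_, ⟨U, hU, rfl⟩, hyU, -⟩ := Y.isBasis_affineOpens.exists_subset_of_mem_open (Set.mem_univ y) isOpen_univ
  rw [← IsAffineOpen.fromSpecStalk_eq_fromSpecStalk (U := U) hU hyU]
  show Flat (Spec.map (Y.presheaf.germ U y hyU) ≫ IsAffineOpen.fromSpec hU)
  have hloc := IsAffineOpen.isLocalization_stalk hU ⟨y, hyU⟩
  letI := TopCat.Presheaf.algebra_section_stalk Y.presheaf (⟨y, hyU⟩ : U)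
  have : Flat (Spec.map (Y.presheaf.germ U y hyU)) :=
    Flat.SpecMap_iff.2 (RingHom.flat_algebraMap_iff.2
      (IsLocalization.flat (Y.presheaf.stalk y) (IsAffineOpen.primeIdealOf hU ⟨y, hyU⟩).asIdeal.primeCompl))
  have hU' : IsAffineOpen U := hU
  exact MorphismProperty.comp_mem @Flat _ _ this (inferInstance : Flat hU'.fromSpec)

/-- Rigidity: integral parameter space. -/
theorem eq_of_integral {X Y Z : Over (Spec (CommRingCat.of k))} [QuasiCompact X.hom] [QuasiSeparated X.hom]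
    [QuasiSeparated Y.hom] [IsLocallyNoetherian Y.left] [IrreducibleSpace Y.left] [IsReduced Y.left] [IsSeparated Z.hom]
    (hX : Function.Bijective ((Scheme.ΓSpecIso (CommRingCat.of k)).inv ≫ X.hom.appTop).hom)
    (x₀ : 𝟙_ _ ⟶ X) (y : Y.left) (W : Z.left.Opens) (hW : IsAffineOpen W) (h₁ h₂ : X ⊗ Y ⟶ Z)
    (hr₁ : ∀ z, (snd X Y).left z = y → h₁.left z ∈ W)
    (hr₂ : ∀ z, (snd X Y).left z = y → h₂.left z ∈ W)
    (h : lift (toUnit _ ≫ x₀) (𝟙 _) ≫ h₁ = lift (toUnit _ ≫ x₀) (𝟙 _) ≫ h₂) : h₁ = h₂ := by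
  have hfib : ∀ z, (snd X (specOver (stalkOver Y y))).left z = closedPoint (Y.left.presheaf.stalk y) →
      (snd X Y).left ((X ◁ stalkι Y y).left z) = y := fun z hz => by
    show ((X ◁ stalkι Y y) ≫ snd X Y).left z = y
    rw [whiskerLeft_snd]
    show Y.left.fromSpecStalk y ((snd X _).left z) = y
    rw [hz]
    exact Scheme.fromSpecStalk_closedPoint
  have e : lift (toUnit (specOver (stalkOver Y y)) ≫ x₀) (𝟙 _) ≫ (X ◁ stalkι Y y) =
      stalkι Y y ≫ lift (toUnit Y ≫ x₀) (𝟙 _) := by simp [comp_lift]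
  have heq := eq_of_local hX (stalkOver Y y) x₀ W hW ((X ◁ stalkι Y y) ≫ h₁) ((X ◁ stalkι Y y) ≫ h₂)
    (fun z hz => hr₁ _ (hfib z hz)) (fun z hz => hr₂ _ (hfib z hz)) (by rw [reassoc_of% e, reassoc_of% e, h])
  have : QuasiCompact (stalkι Y y).left := by
    have : QuasiCompact ((stalkι Y y).left ≫ Y.hom) := by
      rw [Over.w]; exact inferInstanceAs (QuasiCompact (Spec.map _))
    exact QuasiCompact.of_comp _ Y.hom
  have : IsDominant (stalkι Y y).left := by
    rw [isDominant_iff]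
    refine Dense.mono ?_ (dense_iff_closure_eq.2 (genericPoint_spec Y.left))
    rintro z rfl
    show genericPoint Y.left ∈ Set.range (Y.left.fromSpecStalk y)
    rw [Scheme.range_fromSpecStalk]
    exact (genericPoint_spec Y.left).specializes trivial
  have : IsSchemeTheoreticallyDominant (stalkι Y y).left := .of_isDominant _
  have : Flat (snd X Y).left :=
    MorphismProperty.of_isPullback (P := @Flat) (Torsor.isPullback_fst X Y) (inferInstance : Flat X.hom)
  have : IsSchemeTheoreticallyDominant (X ◁ stalkι Y y).left :=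
    .of_isPullback (Torsor.isPullback_left (Orbit.isPullback_whiskerLeft (T := X) (stalkι Y y))).flip
  have hdiag : IsClosedImmersion (lift (𝟙 Z) (𝟙 Z)).left := by
    have : (lift (𝟙 Z) (𝟙 Z)).left = pullback.diagonal Z.hom := by
      apply pullback.hom_ext <;> simp
      · exact pullback.lift_fst ..
      · exact pullback.lift_snd ..
    rw [this]; infer_instance
  let c := pullback.snd (lift (𝟙 Z) (𝟙 Z)).left (lift h₁ h₂).left
  have hc : IsClosedImmersion c := inferInstanceAs (IsClosedImmersion (pullback.snd _ _))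
  have : IsIso c := HomImage.isIso_of_factor (X ◁ stalkι Y y).left c
    (pullback.lift ((X ◁ stalkι Y y) ≫ h₁).left _ (by
      rw [← Over.comp_left, ← Over.comp_left, comp_lift, comp_lift, Category.comp_id, heq]))
    (pullback.lift_snd _ _ _)
  have e : (inv c ≫ pullback.fst _ _) ≫ (lift (𝟙 Z) (𝟙 Z)).left = (lift h₁ h₂).left := by
    rw [Category.assoc, pullback.condition, IsIso.inv_hom_id_assoc]
  have e1 := congrArg (· ≫ (fst Z Z).left) e
  have e2 := congrArg (· ≫ (snd Z Z).left) e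
  simp only [Category.assoc, ← Over.comp_left, lift_fst, lift_snd] at e1 e2
  exact Over.OverMorphism.ext (e1.symm.trans e2)

end Groth.Agent.HopfRep.Rigidity

end
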