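import Groth.Agent.HopfRep.Rigidity
import Mathlib.RingTheory.RingHom.FaithfullyFlat
import Mathlib.RingTheory.Ideal.GoingDown

/-!
Rigidity with a connected parameter space over an algebraically closed field.
-/

universe u

open CategoryTheory MonoidalCategory CartesianMonoidalCategory AlgebraicGeometry Limits

set_option linter.style.haveILetI false

noncomputable section

namespace Groth.Agent.HopfRep.Rigidity2

open Rigidity

theorem injective_of_flat {A B : CommRingCat.{u}} [IsLocalRing A] [IsLocalRing B] (φ : A ⟶ B)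
    [IsLocalHom φ.hom] (h : φ.hom.Flat) : Function.Injective φ.hom := by
  algebraize [φ.hom]
  have : IsLocalHom (algebraMap A B) := ‹IsLocalHom φ.hom›
  have : Module.FaithfullyFlat A B := Module.FaithfullyFlat.of_flat_of_isLocalHom
  exact FaithfulSMul.algebraMap_injective A B

set_option backward.isDefEq.respectTransparency.types false in
theorem isIso_of_flat_cover {Z P : Scheme.{u}} (c : Z ⟶ P) [IsClosedImmersion c]
    (h : ∀ p : P, ∃ (V : Scheme.{u}) (φ : V ⟶ P) (v : V) (l : V ⟶ Z), Flat φ ∧ φ v = p ∧ l ≫ c = φ) : IsIso c := by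
  have : Surjective c := ⟨fun p => by
    obtain ⟨V, φ, v, l, -, hv, hl⟩ := h p
    exact ⟨l v, by rw [← hv, ← hl]; rfl⟩⟩
  have hstalk : ∀ z : Z, IsIso (c.stalkMap z) := fun z => by
    obtain ⟨V, φ, v, l, hφ, hv, hl⟩ := h (c z)
    have hlv : l v = z := c.isEmbedding.injective (by rw [← hv, ← hl]; rfl)
    subst hlv hl
    rw [ConcreteCategory.isIso_iff_bijective]
    refine ⟨fun a b hab => ?_, c.stalkMap_surjective _⟩
    apply injective_of_flat ((l ≫ c).stalkMap v) (Flat.stalkMap _ _)
    rw [Scheme.Hom.stalkMap_comp]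
    exact congrArg (l.stalkMap v) hab
  have : IsOpenImmersion c := IsOpenImmersion.iff_isIso_stalkMap.mpr
    ⟨⟨c.isEmbedding, by rw [Set.range_eq_univ.2 c.surjective]; exact isOpen_univ⟩, hstalk⟩
  have : Epi c.base := (TopCat.epi_iff_surjective _).2 c.surjective
  exact IsOpenImmersion.isIso c

variable {k : Type u} [Field k] [IsAlgClosed k]

theorem rigidity {X Y Z : Over (Spec (CommRingCat.of k))} [LocallyOfFiniteType X.hom] [QuasiCompact X.hom]
    [LocallyOfFiniteType Y.hom] [QuasiCompact Y.hom] [IsSeparated Z.hom] [LocallyOfFiniteType Z.hom]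
    (hX : Function.Bijective ((Scheme.ΓSpecIso (CommRingCat.of k)).inv ≫ X.hom.appTop).hom)
    [ConnectedSpace Y.left] (f : X ⊗ Y ⟶ Z) (y₀ : 𝟙_ (Over (Spec (CommRingCat.of k))) ⟶ Y)
    (z₀ : 𝟙_ (Over (Spec (CommRingCat.of k))) ⟶ Z) (hf : (X ◁ y₀) ≫ f = toUnit _ ≫ z₀)
    (x₀ : 𝟙_ (Over (Spec (CommRingCat.of k))) ⟶ X) :
    f = snd X Y ≫ lift (toUnit Y ≫ x₀) (𝟙 Y) ≫ f := by
  have : IsLocallyNoetherian Y.left := LocallyOfFiniteType.isLocallyNoetherian Y.hom
  have : CompactSpace Y.left := QuasiCompact.compactSpace_of_compactSpace Y.hom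
  have : IsNoetherian Y.left := ⟨⟩
  have : IsLocallyNoetherian X.left := LocallyOfFiniteType.isLocallyNoetherian X.hom
  have : Subsingleton ↥(Spec (CommRingCat.of k)) := inferInstanceAs (Subsingleton (PrimeSpectrum k))
  have hXY : LocallyOfFiniteType (X ⊗ Y).hom := by dsimp; infer_instance
  have := OrbitClosed.jacobson Y.hom
  have := OrbitClosed.jacobson (X ⊗ Y).hom
  let pt : ∀ {W : Over (Spec (CommRingCat.of k))} [LocallyOfFiniteType W.hom] (c : W.left),
      c ∈ closedPoints W.left → (𝟙_ (Over (Spec (CommRingCat.of k))) ⟶ W) :=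
    fun {W} _ c hc => Over.homMk (pointOfClosedPoint W.hom c hc) (pointOfClosedPoint_comp W.hom c hc)
  have hpt : ∀ {W : Over (Spec (CommRingCat.of k))} [LocallyOfFiniteType W.hom] (c : W.left) (hc : c ∈ closedPoints W.left),
      (pt c hc).left (IsLocalRing.closedPoint k) = c := fun {W} _ c hc => pointOfClosedPoint_apply W.hom c hc _
  have hdiag : IsClosedImmersion (lift (𝟙 Z) (𝟙 Z)).left := by
    have : (lift (𝟙 Z) (𝟙 Z)).left = pullback.diagonal Z.hom := by
      apply pullback.hom_ext <;> simp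
      · exact pullback.lift_fst ..
      · exact pullback.lift_snd ..
    rw [this]; infer_instance
  let g := lift (toUnit Y ≫ x₀) (𝟙 Y) ≫ f
  let m : (𝟙_ (Over (Spec (CommRingCat.of k))) ⟶ X) → (Y ⟶ X ⊗ Y) := fun P => lift (toUnit Y ≫ P) (𝟙 Y)
  let E := fun P => Set.range (pullback.snd (lift (𝟙 Z) (𝟙 Z)).left (lift (m P ≫ f) g).left)
  have hE : ∀ P {T : Over (Spec (CommRingCat.of k))} (a : T ⟶ Y) (t : T.left),
      a ≫ m P ≫ f = a ≫ g → a.left t ∈ E P := by
    intro P T a t h
    refine ⟨pullback.lift (a ≫ g).left a.left ?_ t, ?_⟩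
    · rw [← Over.comp_left, ← Over.comp_left, comp_lift, comp_lift, Category.comp_id, h]
    · rw [← Scheme.Hom.comp_apply, pullback.lift_snd]
  have hE' : ∀ P y, y ∈ E P → (m P ≫ f).left y = g.left y := by
    rintro P _ ⟨w, rfl⟩
    have hw := pullback.condition (f := (lift (𝟙 Z) (𝟙 Z)).left) (g := (lift (m P ≫ f) g).left)
    have e1 := congrArg (· ≫ (fst Z Z).left) hw
    have e2 := congrArg (· ≫ (snd Z Z).left) hw
    simp only [Category.assoc, ← Over.comp_left, lift_fst, lift_snd] at e1 e2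
    have := congrArg (fun φ => φ w) (e1.symm.trans e2)
    exact this
  let S : Set Y.left := ⋂ P, E P
  have hS : IsClosed S := isClosed_iInter fun P =>
    (pullback.snd (lift (𝟙 Z) (𝟙 Z)).left _).isClosedEmbedding.isClosed_range
  have hloc : ∀ y : Y.left, IsClosed {y} → y ∈ S →
      (X ◁ stalkι Y y) ≫ f = (X ◁ stalkι Y y) ≫ snd X Y ≫ g := by
    intro y hy hyS
    obtain ⟨_, ⟨W, hW, rfl⟩, hzW, -⟩ := Z.left.isBasis_affineOpens.exists_subset_of_mem_open
      (Set.mem_univ (g.left y)) isOpen_univ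
    have hmem : ∀ z, (snd X Y).left z = y → f.left z ∈ W := by
      intro z hz
      by_contra hzn
      obtain ⟨c, ⟨hcy, hcW⟩, hc⟩ := nonempty_inter_closedPoints
        (Z := (snd X Y).left ⁻¹' {y} ∩ f.left ⁻¹' (W : Set Z.left)ᶜ) ⟨z, hz, hzn⟩
        ((hy.preimage (snd X Y).left.continuous).inter
          (W.2.isClosed_compl.preimage f.left.continuous)).isLocallyClosed
      let u := pt c hc
      have hy' : (u ≫ snd X Y).left (IsLocalRing.closedPoint k) = y := by
        show (snd X Y).left (u.left (IsLocalRing.closedPoint k)) = y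
        exact (congrArg _ (hpt c hc)).trans hcy
      have hu : u = (u ≫ snd X Y) ≫ m (u ≫ fst X Y) := by
        apply CartesianMonoidalCategory.hom_ext
        · simp only [m, Category.assoc, lift_fst, comp_toUnit_assoc, toUnit_unique (toUnit (𝟙_ (Over (Spec (CommRingCat.of k))))) (𝟙 _), Category.id_comp]
        · simp [m]
      refine hcW ?_
      have h1 : f.left c = (m (u ≫ fst X Y) ≫ f).left y := by
        conv_lhs => rw [← hpt c hc]
        have e : pt c hc ≫ f = (u ≫ snd X Y) ≫ m (u ≫ fst X Y) ≫ f := by rw [← Category.assoc, ← hu]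
        exact (congrArg (fun φ : 𝟙_ _ ⟶ Z => φ.left (IsLocalRing.closedPoint k)) e).trans
          (congrArg (m (u ≫ fst X Y) ≫ f).left hy')
      show f.left c ∈ W
      rw [h1, hE' _ _ (Set.mem_iInter.1 hyS _)]
      exact hzW
    have hfib : ∀ z, (snd X (specOver (stalkOver Y y))).left z = IsLocalRing.closedPoint (Y.left.presheaf.stalk y) →
        (snd X Y).left ((X ◁ stalkι Y y).left z) = y := fun z hz => by
      show ((X ◁ stalkι Y y) ≫ snd X Y).left z = y
      rw [whiskerLeft_snd]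
      show Y.left.fromSpecStalk y ((snd X _).left z) = y
      rw [hz]
      exact Scheme.fromSpecStalk_closedPoint
    have e : lift (toUnit (specOver (stalkOver Y y)) ≫ x₀) (𝟙 _) ≫ (X ◁ stalkι Y y) =
        stalkι Y y ≫ lift (toUnit Y ≫ x₀) (𝟙 _) := by simp [comp_lift]
    refine eq_of_local hX (stalkOver Y y) x₀ W hW _ _ (fun z hz => hmem _ (hfib z hz)) (fun z hz => ?_) ?_
    · show g.left ((snd X Y).left ((X ◁ stalkι Y y).left z)) ∈ W
      rw [hfib z hz]; exact hzW
    · rw [reassoc_of% e, reassoc_of% e]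
      simp [g]
  have hgen : ∀ y : Y.left, IsClosed {y} → y ∈ S → ∀ y', y' ⤳ y → y' ∈ S := by
    intro y hy hyS y' hy'
    obtain ⟨v, hv⟩ : y' ∈ Set.range (Y.left.fromSpecStalk y) := by rw [Scheme.range_fromSpecStalk]; exact hy'
    refine Set.mem_iInter.2 fun P => hv ▸ hE P (stalkι Y y) v ?_
    have e : stalkι Y y ≫ m P = lift (toUnit _ ≫ P) (𝟙 _) ≫ (X ◁ stalkι Y y) := by simp [m, comp_lift]
    rw [reassoc_of% e, hloc y hy hyS]
    simp [comp_lift_assoc]
  have hst : StableUnderGeneralization S := by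
    intro w w' hww hw
    obtain ⟨y, hyw, hy⟩ := nonempty_inter_closedPoints (Z := closure {w}) ⟨w, subset_closure rfl⟩
      isClosed_closure.isLocallyClosed
    exact hgen y hy (closure_minimal (Set.singleton_subset_iff.2 hw) hS hyw) w'
      (hww.trans (specializes_iff_mem_closure.2 hyw))
  have hopen : IsOpen S := ConstrTop.Basic.isOpen_of_stable (ConstrTop.Basic.isConstructible_closed hS) hst
  have hy₀ : y₀.left (IsLocalRing.closedPoint k) ∈ S := Set.mem_iInter.2 fun P => by
    refine hE P y₀ _ ?_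
    have e : ∀ Q : 𝟙_ (Over (Spec (CommRingCat.of k))) ⟶ X, y₀ ≫ lift (toUnit Y ≫ Q) (𝟙 Y) =
        lift Q (𝟙 _) ≫ (X ◁ y₀) := fun Q => by
      rw [comp_lift, Category.comp_id, comp_toUnit_assoc, toUnit_unique (toUnit _) (𝟙 _), Category.id_comp]
      simp
    simp only [m, g]
    rw [reassoc_of% e P, reassoc_of% e x₀, hf, comp_toUnit_assoc, comp_toUnit_assoc]
  have huniv : S = Set.univ := IsClopen.eq_univ ⟨hS, hopen⟩ ⟨_, hy₀⟩
  let c := pullback.snd (lift (𝟙 Z) (𝟙 Z)).left (lift f (snd X Y ≫ g)).left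
  have hc : IsClosedImmersion c := inferInstanceAs (IsClosedImmersion (pullback.snd _ _))
  have : IsIso c := by
    refine isIso_of_flat_cover c fun p => ?_
    obtain ⟨y, hyp, hy⟩ := nonempty_inter_closedPoints (Z := closure {(snd X Y).left p})
      ⟨_, subset_closure rfl⟩ isClosed_closure.isLocallyClosed
    obtain ⟨v, hv⟩ : (snd X Y).left p ∈ Set.range (Y.left.fromSpecStalk y) := by
      rw [Scheme.range_fromSpecStalk]; exact specializes_iff_mem_closure.2 hyp
    have hsq := Torsor.isPullback_left (Orbit.isPullback_whiskerLeft (T := X) (stalkι Y y))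
    obtain ⟨w, hw, -⟩ := Scheme.exists_preimage_of_isPullback hsq p v hv.symm
    have hflat := flat_fromSpecStalk (Y := Y.left) y
    refine ⟨_, (X ◁ stalkι Y y).left, w,
      pullback.lift ((X ◁ stalkι Y y) ≫ f).left (X ◁ stalkι Y y).left ?_,
      MorphismProperty.of_isPullback (P := @Flat) hsq.flip hflat, hw, pullback.lift_snd _ _ _⟩
    rw [← Over.comp_left, ← Over.comp_left, comp_lift, comp_lift, Category.comp_id,
      ← hloc y hy (huniv ▸ Set.mem_univ _)]
  have e : (inv c ≫ pullback.fst _ _) ≫ (lift (𝟙 Z) (𝟙 Z)).left = (lift f (snd X Y ≫ g)).left := by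
    rw [Category.assoc, pullback.condition, IsIso.inv_hom_id_assoc]
  have e1 := congrArg (· ≫ (fst Z Z).left) e
  have e2 := congrArg (· ≫ (snd Z Z).left) e
  simp only [Category.assoc, ← Over.comp_left, lift_fst, lift_snd] at e1 e2
  exact Over.OverMorphism.ext (e1.symm.trans e2)

theorem exists_point {X : Over (Spec (CommRingCat.of k))} [LocallyOfFiniteType X.hom]
    (hX : Function.Bijective ((Scheme.ΓSpecIso (CommRingCat.of k)).inv ≫ X.hom.appTop).hom) :
    Nonempty (𝟙_ (Over (Spec (CommRingCat.of k))) ⟶ X) := by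
  have := OrbitClosed.jacobson X.hom
  have hne : Nonempty X.left := by
    by_contra h
    rw [not_nonempty_iff] at h
    have : Subsingleton Γ(X.left, ⊤) := CommRingCat.subsingleton_of_isTerminal (X.left.sheaf.isTerminalOfEqEmpty
      (TopologicalSpace.Opens.ext (Set.eq_empty_of_isEmpty _)))
    exact one_ne_zero (hX.1 (Subsingleton.elim _ _) : (1 : k) = 0)
  obtain ⟨z⟩ := hne
  obtain ⟨c, -, hc⟩ := nonempty_inter_closedPoints (Z := (Set.univ : Set X.left)) ⟨z, trivial⟩ isClosed_univ.isLocallyClosed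
  exact ⟨Over.homMk (pointOfClosedPoint X.hom c hc) (pointOfClosedPoint_comp X.hom c hc)⟩

end Groth.Agent.HopfRep.Rigidity2

end
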