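import Groth.Agent.EtAlg.Chart.Basic
import Mathlib.RingTheory.Etale.Field
import Mathlib.RingTheory.Spectrum.Prime.Chevalley
import Mathlib.Algebra.MvPolynomial.Funext
import Mathlib.FieldTheory.IsSepClosed
import Mathlib.AlgebraicGeometry.Morphisms.Smooth

/-!
Rational points of smooth algebras and schemes over separably closed fields.
-/

universe u

open TensorProduct CategoryTheory AlgebraicGeometry

set_option linter.style.haveILetI false

noncomputable section

namespace Groth.Agent.HopfRep.SepPoints

theorem infinite_of_isSepClosed (K : Type u) [Field K] [IsSepClosed K] : Infinite K := by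
  by_contra h
  rw [not_infinite_iff_finite] at h
  haveI : PerfectField K := inferInstance
  haveI : IsAlgClosed K := IsSepClosed.isAlgClosed_of_perfectField K
  exact not_finite K

/-- A standard smooth algebra has etale coordinates. -/
theorem exists_etale_coordinates (k S : Type u) [CommRing k] [CommRing S] [Algebra k S]
    [Nontrivial S] [Algebra.IsStandardSmooth k S] :
    ∃ (I : Type) (_ : Finite I) (φ : MvPolynomial I k →ₐ[k] S), φ.toRingHom.Etale := by
  obtain ⟨-, I, b, hb⟩ := (Algebra.IsStandardSmooth.iff_exists_basis_kaehlerDifferential (R := k) (S := S)).1 inferInstance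
  choose s hs using fun i => hb ⟨i, rfl⟩
  have : Finite I := Module.Finite.finite_basis b
  let φ : MvPolynomial I k →ₐ[k] S := MvPolynomial.aeval s
  letI := φ.toRingHom.toAlgebra
  have : IsScalarTower k (MvPolynomial I k) S := IsScalarTower.of_algebraMap_eq fun r => (φ.commutes r).symm
  refine ⟨I, inferInstance, φ, ?_⟩
  have hbij : Function.Bijective (KaehlerDifferential.mapBaseChange k (MvPolynomial I k) S) := by
    let bP : Module.Basis I S (S ⊗[MvPolynomial I k] Ω[MvPolynomial I k⁄k]) :=
      (KaehlerDifferential.mvPolynomialBasis k I).baseChange S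
    have heq : KaehlerDifferential.mapBaseChange k (MvPolynomial I k) S =
        (bP.equiv b (Equiv.refl I)).toLinearMap := by
      refine bP.ext fun i => ?_
      rw [LinearEquiv.coe_coe, Module.Basis.equiv_apply, Equiv.refl_apply,
        Module.Basis.baseChange_apply, KaehlerDifferential.mvPolynomialBasis_apply]
      erw [KaehlerDifferential.mapBaseChange_tmul]
      rw [one_smul, KaehlerDifferential.map_D, ← hs i]
      exact congrArg _ (MvPolynomial.aeval_X s i)
    rw [heq]
    exact (bP.equiv b (Equiv.refl I)).bijective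
  have := Groth.Agent.EtAlg.Chart.Basic.formallyEtale_of_bijective k S hbij
  have : Algebra.FinitePresentation (MvPolynomial I k) S :=
    Algebra.FinitePresentation.of_restrict_scalars_finitePresentation k _ _
  exact (RingHom.etale_algebraMap (R := MvPolynomial I k) (S := S)).2 ⟨inferInstance, inferInstance⟩

/-- A nonzero standard smooth algebra over a separably closed field has a rational point. -/
theorem nonempty_algHom (k S : Type u) [Field k] [IsSepClosed k] [CommRing S] [Algebra k S]
    [Nontrivial S] [Algebra.IsStandardSmooth k S] : Nonempty (S →ₐ[k] k) := by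
  classical
  have := infinite_of_isSepClosed k
  obtain ⟨I, _, φ, hφ⟩ := exists_etale_coordinates k S
  let P := MvPolynomial I k
  letI := φ.toRingHom.toAlgebra
  have : IsScalarTower k P S := IsScalarTower.of_algebraMap_eq fun r => (φ.commutes r).symm
  have : Algebra.Etale P S := RingHom.etale_algebraMap.1 hφ
  have hop : IsOpenMap (PrimeSpectrum.comap (algebraMap P S)) :=
    PrimeSpectrum.isOpenMap_comap_of_hasGoingDown_of_finitePresentation
  obtain ⟨q₀⟩ : Nonempty (PrimeSpectrum S) := inferInstance
  obtain ⟨_, ⟨f, rfl⟩, hq₀, hsub⟩ := PrimeSpectrum.isTopologicalBasis_basic_opens.exists_subset_of_mem_open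
    (Set.mem_range_self (f := PrimeSpectrum.comap (algebraMap P S)) q₀) hop.isOpen_range
  have hf : f ≠ 0 := fun h => hq₀ (h ▸ Ideal.zero_mem _)
  obtain ⟨a, ha⟩ : ∃ a : I → k, MvPolynomial.eval a f ≠ 0 := by
    by_contra! h
    exact hf (MvPolynomial.funext fun x => by simpa using h x)
  let ev : P →+* k := MvPolynomial.eval a
  have hker : (RingHom.ker ev).IsPrime := RingHom.ker_isPrime ev
  obtain ⟨q, hq⟩ := hsub (show (⟨RingHom.ker ev, hker⟩ : PrimeSpectrum P) ∈ PrimeSpectrum.basicOpen f from ha)
  letI : Algebra P k := ev.toAlgebra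
  have hq' : ∀ p : P, (Ideal.Quotient.mk q.asIdeal) (algebraMap P S p) =
      (Ideal.Quotient.mk q.asIdeal) (algebraMap k S (ev p)) := fun p => by
    rw [Ideal.Quotient.eq, IsScalarTower.algebraMap_apply k P S, ← map_sub]
    have : p - algebraMap k P (ev p) ∈ RingHom.ker ev := by
      show p - MvPolynomial.C (ev p) ∈ RingHom.ker ev
      rw [RingHom.mem_ker, map_sub, sub_eq_zero]
      exact (MvPolynomial.eval_C (f := a) (ev p)).symm
    exact (congrArg PrimeSpectrum.asIdeal hq).ge this
  let g : k →ₐ[P] S ⧸ q.asIdeal :=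
    { (Ideal.Quotient.mk q.asIdeal).comp (algebraMap k S) with commutes' := fun p => (hq' p).symm }
  let θ : k ⊗[P] S →ₐ[P] S ⧸ q.asIdeal :=
    Algebra.TensorProduct.lift g (Ideal.Quotient.mkₐ P q.asIdeal) fun _ _ => .all _ _
  have : Nontrivial (S ⧸ q.asIdeal) := Ideal.Quotient.nontrivial_iff.2 q.isPrime.ne_top
  have : Nontrivial (k ⊗[P] S) := θ.toRingHom.domain_nontrivial
  obtain ⟨r⟩ : Nonempty (PrimeSpectrum (k ⊗[P] S)) := inferInstance
  let e := Algebra.FormallyEtale.equivPiOfIsSepClosed k (k ⊗[P] S)
  let χ : k ⊗[P] S →ₐ[k] k := (Pi.evalAlgHom k _ r).comp e.toAlgHom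
  refine ⟨{ χ.toRingHom.comp (Algebra.TensorProduct.includeRight (R := P) (A := k) (B := S)).toRingHom with commutes' := fun c => ?_ }⟩
  show χ ((1 : k) ⊗ₜ[P] algebraMap k S c) = c
  have : algebraMap k S c = algebraMap P S (MvPolynomial.C c) := by
    rw [IsScalarTower.algebraMap_apply k P S]; rfl
  rw [this, Algebra.algebraMap_eq_smul_one, ← TensorProduct.smul_tmul,
    Algebra.smul_def, show algebraMap P k (MvPolynomial.C c) = c from MvPolynomial.eval_C c, _root_.mul_one]
  exact χ.commutes c

set_option backward.isDefEq.respectTransparency.types false in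
/-- A nonempty smooth scheme over a separably closed field has a rational point. -/
theorem exists_section {K : Type u} [Field K] [IsSepClosed K] {X : Scheme.{u}}
    (f : X ⟶ Spec (CommRingCat.of K)) [Smooth f] [Nonempty X] :
    ∃ s : Spec (CommRingCat.of K) ⟶ X, s ≫ f = 𝟙 _ := by
  obtain ⟨x⟩ := ‹Nonempty X›
  obtain ⟨U, hU, V, hV, hx, e, hsm⟩ := Smooth.exists_isStandardSmooth f x
  have hUtop : U = ⊤ := by
    haveI : Subsingleton ↥(Spec (CommRingCat.of K)) := inferInstanceAs (Subsingleton (PrimeSpectrum K))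
    exact TopologicalSpace.Opens.ext (Set.eq_univ_of_forall fun y => Subsingleton.elim (f x) y ▸ e hx)
  subst hUtop
  let σ : K →+* Γ(X, V) := ((Scheme.ΓSpecIso (CommRingCat.of K)).inv ≫ f.appLE ⊤ V e).hom
  letI := σ.toAlgebra
  have : Nonempty V := ⟨⟨x, hx⟩⟩
  have : Nontrivial Γ(X, V) := inferInstance
  have h2 : σ.IsStandardSmooth :=
    RingHom.isStandardSmooth_respectsIso.2 (f.appLE ⊤ V e).hom
      (Scheme.ΓSpecIso (CommRingCat.of K)).symm.commRingCatIsoToRingEquiv hsm
  have : Algebra.IsStandardSmooth K Γ(X, V) := RingHom.isStandardSmooth_algebraMap.1 h2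
  obtain ⟨ψ⟩ := nonempty_algHom K Γ(X, V)
  refine ⟨Spec.map (CommRingCat.ofHom ψ.toRingHom) ≫ hV.fromSpec, ?_⟩
  rw [Category.assoc, ← IsAffineOpen.SpecMap_appLE_fromSpec f hU hV e, IsAffineOpen.fromSpec_top,
    Scheme.isoSpec_Spec_inv, ← Spec.map_comp, ← Spec.map_comp, ← Spec.map_id]
  congr 1
  ext c
  exact ψ.commutes c

end Groth.Agent.HopfRep.SepPoints

end
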