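import Groth.Agent.HopfRep.MaxSplit
import Groth.Prelude.Def_AlgGrp
import Mathlib.LinearAlgebra.FreeModule.PID

/-!
Exact sequences of split tori over a field split.
-/

universe u

open CategoryTheory MonoidalCategory CartesianMonoidalCategory MonObj AlgebraicGeometry Limits

set_option linter.style.haveILetI false
set_option backward.isDefEq.respectTransparency.types false

noncomputable section

namespace Groth.Agent.HopfRep.SplitExact

open DiagRigid CharHom GroupLike HomLocus MaxSplit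

variable {k : Type u} [Field k]

theorem exists_pts {M : Type} [AddCommGroup M] {G : Over (Spec (CommRingCat.of k))} [GrpObj G]
    (hG : Red.IsSplitTorusWith M G) :
    ∃ P : CharPts (𝟙 (Spec (CommRingCat.of k))) M G, Inj P := by
  obtain ⟨e⟩ := isSplitTorusWith_bc (𝟙 _) hG
  have hs : 𝟙 (Spec (CommRingCat.of k)) ≫ 𝟙 (Spec (CommRingCat.of k)) = 𝟙 _ := Category.comp_id _
  exact ⟨pts e (𝟙 _) hs, fun L _ _ => pts_inj e (𝟙 _) hs L⟩

theorem exists_charMap {M M' : Type} [AddCommGroup M] [AddCommGroup M'] [AddGroup.FG M']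
    {G H : Over (Spec (CommRingCat.of k))} [GrpObj G] [GrpObj H]
    (P : CharPts (𝟙 (Spec (CommRingCat.of k))) M G) (P' : CharPts (𝟙 (Spec (CommRingCat.of k))) M' H)
    (hP' : Inj P') (u : G ⟶ H) [IsMonHom u] :
    ∃ φ : Multiplicative M' →* Multiplicative M,
      ∀ (L : Type u) [CommRing L] [Algebra k L] (χ : Multiplicative M →* L), P.pt L χ ≫ u = P'.pt L (χ.comp φ) := by
  obtain ⟨g, hg, key⟩ := exists_char P P' hP' u
  obtain ⟨r, φ, hr, hφ⟩ := exists_single_hom g hg (⊥ : Ideal k)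
  refine ⟨φ, fun L _ _ χ => (key L χ).trans (congrArg _ (MonoidHom.ext fun m => ?_))⟩
  have h1 := hφ k (RingHom.id k) (isUnit_iff_ne_zero.2 fun h => hr (Ideal.mem_bot.2 h)) m
  rw [MonoidAlgebra.mapRingHom_id, RingHom.id_apply] at h1
  show ev χ (g m) = χ (φ m)
  rw [h1]
  simp [ev]

theorem exists_section {K G Q : Over (Spec (CommRingCat.of k))} [GrpObj K] [GrpObj G] [GrpObj Q] {nK nG nQ : ℕ}
    (hK : Red.IsSplitTorusWith (Fin nK → ℤ) K) (hG : Red.IsSplitTorusWith (Fin nG → ℤ) G)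
    (hQ : Red.IsSplitTorusWith (Fin nQ → ℤ) Q)
    (i : K ⟶ G) [IsMonHom i] (π : G ⟶ Q) [IsMonHom π] [Flat π.left] [Surjective π.left]
    (hker : AlgGrp.IsKernel i π) : ∃ s : Q ⟶ G, IsMonHom s ∧ s ≫ π = 𝟙 Q := by
  classical
  have : IsAffine Q.left := by
    have : IsAffineHom Q.hom := by
      obtain ⟨S', g, h1, h2, h3, h4⟩ := TorusMonoIso.isMultTypeFT_of_isTorus (isTorus_of_split hQ)
      exact FreeDiag.isAffineHom_of_multType
        ⟨S', g, h1, h2, h3, fun s' => let ⟨U, hU, M, hM, _, he⟩ := h4 s'; ⟨U, hU, M, hM, he⟩⟩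
    exact isAffine_of_isAffineHom Q.hom
  obtain ⟨PK, hPK⟩ := exists_pts hK
  obtain ⟨PG, hPG⟩ := exists_pts hG
  obtain ⟨PQ, hPQ⟩ := exists_pts hQ
  obtain ⟨ψ, hψ⟩ := exists_charMap PK PG hPG i
  obtain ⟨φ, hφ⟩ := exists_charMap PG PQ hPQ π
  have hepi : Epi π := by
    have := Flat.epi_of_flat_of_surjective π.left
    exact Over.epi_of_epi_left π
  let φ' : (Fin nQ → ℤ) →ₗ[ℤ] (Fin nG → ℤ) := (AddMonoidHom.toMultiplicative.symm φ).toIntLinearMap
  let ψ' : (Fin nG → ℤ) →ₗ[ℤ] (Fin nK → ℤ) := (AddMonoidHom.toMultiplicative.symm ψ).toIntLinearMap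
  have hψφ : ∀ x, ψ' (φ' x) = 0 := fun x => by
    have h1 : PK.pt _ (MonoidAlgebra.of k (Multiplicative (Fin nK → ℤ))) ≫ i ≫ π = 1 := by
      rw [hker.w, ← Category.assoc, Hom.one_def]
      congr 1
      exact toUnit_unique _ _
    rw [← Category.assoc, hψ, hφ, ← PQ.pt_one] at h1
    have h2 := DFunLike.congr_fun (hPQ _ h1) (Multiplicative.ofAdd x)
    exact MonoidAlgebra.single_left_injective (R := k) one_ne_zero h2
  have hφinj : Function.Injective φ' := by
    rw [injective_iff_map_eq_zero]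
    intro x hx
    rcases isEmpty_or_nonempty (Fin nQ) with hn | ⟨⟨j⟩⟩
    · exact Subsingleton.elim _ _
    let E : (Fin nQ → ℤ) →ₗ[ℤ] (Fin nQ → ℤ) := LinearMap.id + LinearMap.smulRight (LinearMap.proj j) x
    let E' : Multiplicative (Fin nQ → ℤ) →* Multiplicative (Fin nQ → ℤ) :=
      AddMonoidHom.toMultiplicative E.toAddMonoidHom
    obtain ⟨v, -, hv⟩ := exists_hom PQ hPQ (fun L _ _ χ => PQ.pt L (χ.comp E'))
      (fun L L' _ _ _ _ f χ => PQ.pt_nat L L' f _)
      (fun L _ _ χ χ' => by rw [MonoidHom.mul_comp, PQ.pt_mul])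
    have hπv : π ≫ v = π := pts_ext fun L _ _ a => by
      obtain ⟨χ, rfl⟩ := PG.pt_surjective L a
      rw [← Category.assoc, hφ, hv]
      congr 1
      refine MonoidHom.ext fun m => ?_
      show χ (Multiplicative.ofAdd (φ' (E (Multiplicative.toAdd m)))) = χ (φ m)
      simp only [E, LinearMap.add_apply, LinearMap.id_apply, LinearMap.smulRight_apply, map_add, map_smul, hx,
        smul_zero, _root_.add_zero]
      rfl
    have hv1 : v = 𝟙 Q := (cancel_epi π).1 (hπv.trans (Category.comp_id π).symm)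
    have h1 := hv _ (MonoidAlgebra.of k (Multiplicative (Fin nQ → ℤ)))
    rw [hv1, Category.comp_id] at h1
    have h2 := DFunLike.congr_fun (hPQ _ h1) (Multiplicative.ofAdd (Pi.single j 1))
    have h3 : Pi.single j 1 = E (Pi.single j (1 : ℤ)) :=
      MonoidAlgebra.single_left_injective (R := k) one_ne_zero h2
    simpa [E] using h3
  let C := (Fin nG → ℤ) ⧸ LinearMap.range φ'
  have : Module.IsTorsionFree ℤ C := by
    refine Module.isTorsionFree_iff_smul_eq_zero.2 fun N c hc => ?_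
    obtain ⟨m, rfl⟩ := Submodule.mkQ_surjective _ c
    by_cases hN : N = 0
    · exact Or.inl hN
    right
    rw [← map_smul, Submodule.mkQ_apply, Submodule.Quotient.mk_eq_zero] at hc
    obtain ⟨x, hx⟩ := hc
    have hm : ψ' m = 0 := by
      have := hψφ x
      rw [hx, map_smul, smul_eq_zero] at this
      exact this.resolve_left hN
    let χu : Multiplicative (Fin nG → ℤ) →* MonoidAlgebra k (Multiplicative C) :=
      (MonoidAlgebra.of k (Multiplicative C)).comp
        (AddMonoidHom.toMultiplicative (LinearMap.range φ').mkQ.toAddMonoidHom)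
    have h1 : PG.pt _ χu ≫ π = toUnit _ ≫ η[Q] := by
      rw [hφ, ← Hom.one_def, ← PQ.pt_one]
      congr 1
      refine MonoidHom.ext fun z => ?_
      show MonoidAlgebra.of k _ (Multiplicative.ofAdd ((LinearMap.range φ').mkQ (φ' (Multiplicative.toAdd z)))) = 1
      rw [show (LinearMap.range φ').mkQ (φ' (Multiplicative.toAdd z)) = 0 from
        (Submodule.Quotient.mk_eq_zero _).2 ⟨_, rfl⟩]
      exact map_one _
    obtain ⟨g, hg⟩ := PK.pt_surjective _ (hker.lift (PG.pt _ χu) (toUnit _) h1)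
    have h2 := hker.lift_fst (PG.pt _ χu) (toUnit _) h1
    rw [← hg, hψ] at h2
    have h3 : g (Multiplicative.ofAdd (ψ' m)) = χu (Multiplicative.ofAdd m) :=
      DFunLike.congr_fun (hPG _ h2) (Multiplicative.ofAdd m)
    rw [hm, ofAdd_zero, map_one] at h3
    have h4 : (1 : Multiplicative C) = Multiplicative.ofAdd ((LinearMap.range φ').mkQ m) :=
      MonoidAlgebra.single_left_injective (R := k) one_ne_zero h3
    exact (congrArg Multiplicative.toAdd h4).symm
  obtain ⟨σ, hσ⟩ := Module.projective_lifting_property (LinearMap.range φ').mkQ LinearMap.id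
    (Submodule.mkQ_surjective _)
  let p : (Fin nG → ℤ) →ₗ[ℤ] LinearMap.range φ' :=
    LinearMap.codRestrict _ (LinearMap.id - σ.comp (LinearMap.range φ').mkQ) fun m => by
      rw [← Submodule.Quotient.mk_eq_zero, ← Submodule.mkQ_apply]
      simp only [LinearMap.sub_apply, LinearMap.id_apply, LinearMap.comp_apply, map_sub]
      rw [show (LinearMap.range φ').mkQ (σ ((LinearMap.range φ').mkQ m)) = (LinearMap.range φ').mkQ m from
        LinearMap.congr_fun hσ _, sub_self]
  let R := (LinearEquiv.ofInjective φ' hφinj).symm.toLinearMap.comp p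
  have hR : ∀ x, R (φ' x) = x := fun x => by
    show (LinearEquiv.ofInjective φ' hφinj).symm (p (φ' x)) = x
    rw [LinearEquiv.symm_apply_eq]
    refine Subtype.ext ?_
    show φ' x - σ ((LinearMap.range φ').mkQ (φ' x)) = φ' x
    rw [show (LinearMap.range φ').mkQ (φ' x) = 0 from (Submodule.Quotient.mk_eq_zero _).2 ⟨_, rfl⟩, map_zero,
      sub_zero]
  let R' : Multiplicative (Fin nG → ℤ) →* Multiplicative (Fin nQ → ℤ) :=
    AddMonoidHom.toMultiplicative R.toAddMonoidHom
  obtain ⟨s, hs, hs'⟩ := exists_hom PQ hPQ (fun L _ _ χ => PG.pt L (χ.comp R'))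
    (fun L L' _ _ _ _ f χ => PG.pt_nat L L' f _)
    (fun L _ _ χ χ' => by rw [MonoidHom.mul_comp, PG.pt_mul])
  refine ⟨s, hs, pts_ext fun L _ _ a => ?_⟩
  obtain ⟨χ, rfl⟩ := PQ.pt_surjective L a
  rw [Category.comp_id, ← Category.assoc, hs', hφ]
  congr 1
  refine MonoidHom.ext fun m => ?_
  show χ (Multiplicative.ofAdd (R (φ' (Multiplicative.toAdd m)))) = χ m
  rw [hR]
  rfl

end Groth.Agent.HopfRep.SplitExact

end
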