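import Groth.Agent.HopfRep.HomLocusCases
import Groth.Prelude.Def_Red
import Mathlib.RingTheory.Finiteness.Basic

/-!
A monomorphism between tori of the same rank is an isomorphism.
-/

universe u

open CategoryTheory MonoidalCategory CartesianMonoidalCategory MonObj AlgebraicGeometry Limits

set_option linter.style.haveILetI false

noncomputable section

namespace Groth.Agent.HopfRep.TorusMonoIso

open HomLocus

variable {S : Scheme.{u}}

theorem isMultTypeFT_of_isTorus {T : Over S} [GrpObj T] (hT : Red.IsTorus T) : SGA3x.IsMultTypeFT T := by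
  obtain ⟨S', f, h1, h2, h3, h4⟩ := hT
  exact ⟨S', f, h1, h2, h3, fun s' => let ⟨U, hU, r, he⟩ := h4 s'; ⟨U, hU, Fin r → ℤ, inferInstance, inferInstance, he⟩⟩

theorem bijective_of_surjective_endo {r : ℕ}
    (φ : Multiplicative (Fin r → ℤ) →* Multiplicative (Fin r → ℤ)) (h : Function.Surjective φ) :
    Function.Bijective φ := by
  let g : (Fin r → ℤ) →ₗ[ℤ] (Fin r → ℤ) := (AddMonoidHom.toMultiplicative.symm φ).toIntLinearMap
  exact ⟨OrzechProperty.injective_of_surjective_endomorphism g h, h⟩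

theorem isIso_of_mono_of_tori {T T' : Over S} [GrpObj T] [GrpObj T'] (hT : Red.IsTorus T) (hT' : Red.IsTorus T')
    (f : T ⟶ T') [IsMonHom f] [Mono f]
    (hrk : ∀ s : ↥S, ∃ r : ℕ, Red.IsSplitTorusWith (Fin r → ℤ) (Red.geomFibre s T) ∧
      Red.IsSplitTorusWith (Fin r → ℤ) (Red.geomFibre s T')) : IsIso f := by
  have hG := isMultTypeFT_of_isTorus hT
  have hH := isMultTypeFT_of_isTorus hT'
  obtain ⟨U, -, hU, hiso⟩ := exists_locus f hG hH (MorphismProperty.isomorphisms Scheme.{u})
    (fun {A B} g => Function.Bijective g) (fun L _ _ _ _ _ _ φ => iso_dMap_iff φ)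
  have : IsAffineHom T.hom := by
    obtain ⟨S', g, h1, h2, h3, h4⟩ := hG
    exact FreeDiag.isAffineHom_of_multType
      ⟨S', g, h1, h2, h3, fun s' => let ⟨U, hU, M, hM, _, he⟩ := h4 s'; ⟨U, hU, M, hM, he⟩⟩
  have : IsAffineHom T'.hom := by
    obtain ⟨S', g, h1, h2, h3, h4⟩ := hH
    exact FreeDiag.isAffineHom_of_multType
      ⟨S', g, h1, h2, h3, fun s' => let ⟨U, hU, M, hM, _, he⟩ := h4 s'; ⟨U, hU, M, hM, he⟩⟩
  have hml : Mono f.left := inferInstance
  have hall : U = ⊤ := by
    refine top_unique fun x _ => (hU x).2 ?_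
    obtain ⟨r, ⟨e₁⟩, ⟨e₂⟩⟩ := hrk x
    let k := AlgebraicClosure (S.residueField x)
    obtain ⟨r₀, φ, hr₀, hloc⟩ := exists_local_of f (f := Red.geomPt x) (Category.id_comp _) (Category.id_comp _)
      e₁ e₂ (K := k) (𝟙 _) ⊥
    have hu : IsUnit (algebraMap k k r₀) := isUnit_iff_ne_zero.2 fun h => hr₀ (Ideal.mem_bot.2 h)
    have hc : Spec.map (CommRingCat.ofHom (algebraMap k k)) ≫ 𝟙 _ ≫ Red.geomPt x = Red.geomPt x := by
      rw [Category.id_comp, show CommRingCat.ofHom (algebraMap k k) = 𝟙 _ from rfl, Spec.map_id, Category.id_comp]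
    have hmono : MorphismProperty.monomorphisms Scheme.{u} (uS f (Red.geomPt x)) :=
      MorphismProperty.of_isPullback (isPullback_uS f (Red.geomPt x)) hml
    rw [← hc] at hmono
    have hbij := bijective_of_surjective_endo φ ((mono_dMap_iff φ).1 ((hloc k hu _).1 hmono))
    have hiso' := (hloc k hu (MorphismProperty.isomorphisms Scheme.{u})).2 ((iso_dMap_iff φ).2 hbij)
    rw [hc] at hiso'
    exact (uS_comp_iff f (Spec.map (CommRingCat.ofHom (algebraMap (S.residueField x) k))) _).1 hiso'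
  subst hall
  have hi : IsIso (uS f (⊤ : S.Opens).ι) := hiso
  have : IsIso (⊤ : S.Opens).ι := inferInstanceAs (IsIso S.topIso.hom)
  have := isIso_of_isPullback f
  exact this
where
  isIso_of_isPullback {T T' : Over S} (f : T ⟶ T') [IsIso (uS f (⊤ : S.Opens).ι)] [IsIso (⊤ : S.Opens).ι] :
      IsIso f := by
    have h1 := (isPullback_uS f (⊤ : S.Opens).ι).w
    have : IsIso f.left := by
      have : IsIso (pullback.fst T.hom (⊤ : S.Opens).ι ≫ f.left) := by rw [h1]; infer_instance
      exact IsIso.of_isIso_comp_left (pullback.fst T.hom (⊤ : S.Opens).ι) _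
    have : IsIso ((Over.forget S).map f) := this
    exact isIso_of_reflects_iso f (Over.forget S)

end Groth.Agent.HopfRep.TorusMonoIso

end
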