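import Groth.Agent.HopfRep.FaithFlat
import Mathlib.RingTheory.Smooth.Fiber
import Mathlib.RingTheory.Unramified.Finite

/-!
A finite commutative Hopf algebra over a field whose rank is invertible is etale: the trace form is
invariant and hence nondegenerate.
-/

universe u v

open TensorProduct WithConv

noncomputable section

namespace Groth.Agent.HopfRep.TraceEtale

variable {k : Type u} [Field k] {A : Type v} [CommRing A] [HopfAlgebra k A]

/-- `a ⊗ x ↦ (a ⊗ 1) Δ x`. -/
def shear : A ⊗[k] A →ₐ[A] A ⊗[k] A :=
  Algebra.TensorProduct.lift (Algebra.ofId A (A ⊗[k] A)) (Bialgebra.comulAlgHom k A) fun _ _ => Commute.all _ _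

theorem shear_tmul (a x : A) : shear (k := k) (a ⊗ₜ[k] x) = (a ⊗ₜ[k] (1 : A)) * Coalgebra.comul (R := k) x := by
  simp [shear, Algebra.ofId_apply]

theorem shear_surjective : Function.Surjective (shear (k := k) (A := A)) := by
  let L : A →ₐ[k] A ⊗[k] A := Algebra.TensorProduct.includeLeft
  let R : A →ₐ[k] A ⊗[k] A := Algebra.TensorProduct.includeRight
  let D : A →ₐ[k] A ⊗[k] A := Bialgebra.comulAlgHom k A
  have hD : toConv D = toConv L * toConv R := by
    apply WithConv.ext
    apply AlgHom.ext
    intro a
    simp only [AlgHom.convMul_apply, D, Bialgebra.comulAlgHom_apply]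
    generalize Coalgebra.comul (R := k) a = z
    induction z with
    | zero => simp
    | add p q hp hq => simp only [map_add, ← hp, ← hq]
    | tmul p q => simp [L, R]
  have hR : (toConv (L.comp (HopfAlgebra.antipodeAlgHom k A)) * toConv D).ofConv = R := by
    rw [hD]
    exact (FaithFlat.conv_cancel L R).2
  have key : ∀ x, (1 : A) ⊗ₜ[k] x ∈ (shear (k := k) (A := A)).range := by
    intro x
    have e : (1 : A) ⊗ₜ[k] x = (toConv (L.comp (HopfAlgebra.antipodeAlgHom k A)) * toConv D).ofConv x := by
      rw [hR]
      rfl
    rw [e, AlgHom.convMul_apply]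
    generalize Coalgebra.comul (R := k) x = z
    induction z with
    | zero => simp
    | add p q hp hq => simp only [map_add]; exact add_mem hp hq
    | tmul p q =>
      refine ⟨HopfAlgebraStruct.antipode k p ⊗ₜ[k] q, ?_⟩
      show shear (k := k) _ = _
      rw [shear_tmul]
      simp [L, D]
  intro z
  induction z with
  | zero => exact ⟨0, map_zero _⟩
  | add p q hp hq =>
    obtain ⟨a, ha⟩ := hp
    obtain ⟨b, hb⟩ := hq
    exact ⟨a + b, by rw [map_add, ha, hb]⟩
  | tmul p q =>
    obtain ⟨b, hb⟩ := key q
    refine ⟨p • b, ?_⟩
    rw [map_smul]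
    change p • shear (k := k) b = _
    rw [show shear (k := k) b = (1 : A) ⊗ₜ[k] q from hb, TensorProduct.smul_tmul', smul_eq_mul, mul_one]

variable [Module.Finite k A]

theorem trace_tmul (a x : A) :
    Algebra.trace A (A ⊗[k] A) (a ⊗ₜ[k] x) = Algebra.trace k A x • a := by
  have h : (a ⊗ₜ[k] x : A ⊗[k] A) = a • ((1 : A) ⊗ₜ[k] x) := by
    rw [TensorProduct.smul_tmul', smul_eq_mul, mul_one]
  rw [h, map_smul, Algebra.trace_apply, Algebra.trace_apply]
  have e : Algebra.lmul A (A ⊗[k] A) ((1 : A) ⊗ₜ[k] x) = (Algebra.lmul k A x).baseChange A := by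
    refine LinearMap.ext fun z => ?_
    induction z with
    | zero => simp
    | add p q hp hq => simp only [map_add, hp, hq]
    | tmul p q => simp
  rw [e, LinearMap.trace_baseChange, smul_eq_mul, Algebra.smul_def]
  ring

theorem trace_shear (z : A ⊗[k] A) :
    Algebra.trace A (A ⊗[k] A) (shear (k := k) z) = Algebra.trace A (A ⊗[k] A) z :=
  Algebra.trace_eq_of_algEquiv
    (AlgEquiv.ofBijective (shear (k := k) (A := A))
      ⟨OrzechProperty.injective_of_surjective_endomorphism (shear (k := k) (A := A)).toLinearMap shear_surjective,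
        shear_surjective⟩) z

theorem traceForm_nondegenerate (h : (Module.finrank k A : k) ≠ 0) :
    (Algebra.traceForm k A).Nondegenerate := by
  let T : A →ₗ[k] Module.Dual k A := Algebra.traceForm k A
  have hN : ∀ x, T x = 0 → ∀ y, Algebra.trace k A (x * y) = 0 := fun x hx y => by
    simpa [T] using LinearMap.congr_fun hx y
  have hsub : ∀ x, T x = 0 →
      Coalgebra.comul (R := k) x ∈ LinearMap.range ((LinearMap.ker T).subtype.lTensor A) := by
    intro x hx
    have h1 : ∀ z, Algebra.trace A (A ⊗[k] A) (Coalgebra.comul (R := k) x * z) = 0 := by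
      intro z
      obtain ⟨w, rfl⟩ := shear_surjective (k := k) (A := A) z
      rw [show Coalgebra.comul (R := k) x = shear (k := k) ((1 : A) ⊗ₜ[k] x) by simp [shear_tmul, ← Algebra.TensorProduct.one_def],
        ← map_mul, trace_shear]
      induction w with
      | zero => simp
      | add p q hp hq => simp only [mul_add, map_add, hp, hq, add_zero]
      | tmul p q => simp [trace_tmul, hN x hx q]
    have h2 : T.lTensor A (Coalgebra.comul (R := k) x) = 0 := by
      have hinj : Function.Injective
          (dualTensorHom k A A ∘ₗ (TensorProduct.comm k A (Module.Dual k A)).toLinearMap) :=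
        (dualTensorHomEquiv k A A).injective.comp (TensorProduct.comm k A (Module.Dual k A)).injective
      apply hinj
      rw [map_zero]
      refine LinearMap.ext fun y => ?_
      have e : ∀ w : A ⊗[k] A,
          (dualTensorHom k A A ∘ₗ (TensorProduct.comm k A (Module.Dual k A)).toLinearMap) (T.lTensor A w) y =
            Algebra.trace A (A ⊗[k] A) (w * ((1 : A) ⊗ₜ[k] y)) := by
        intro w
        induction w with
        | zero => simp
        | add p q hp hq => simp only [map_add, LinearMap.add_apply, hp, hq, add_mul]
        | tmul p q => simp [trace_tmul, T]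
      rw [e, h1, LinearMap.zero_apply]
    have hex : Function.Exact (LinearMap.ker T).subtype T := LinearMap.exact_subtype_ker_map T
    exact (Module.Flat.lTensor_exact A hex _).1 h2
  have hε : ∀ x, T x = 0 → Coalgebra.counit (R := k) x = 0 := by
    intro x hx
    have h3 : algebraMap k A (Coalgebra.counit (R := k) x) ∈ LinearMap.ker T := by
      rw [← HopfAlgebra.mul_antipode_rTensor_comul_apply (R := k) x]
      obtain ⟨z, hz⟩ := hsub x hx
      rw [← hz]
      clear hz
      induction z with
      | zero => simp
      | add p q hp hq => simp only [map_add]; exact add_mem hp hq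
      | tmul p q =>
        rw [LinearMap.mem_ker]
        refine LinearMap.ext fun y => ?_
        have := hN _ q.2 (HopfAlgebraStruct.antipode k p * y)
        simpa [T, mul_comm, mul_left_comm, mul_assoc] using this
    have h4 := hN _ h3 1
    rw [mul_one, Algebra.trace_algebraMap, nsmul_eq_mul] at h4
    exact (mul_eq_zero.1 h4).resolve_left h
  have hker : ∀ x, T x = 0 → x = 0 := by
    intro x hx
    obtain ⟨z, hz⟩ := hsub x hx
    have h5 := Coalgebra.lTensor_counit_comul (R := k) x
    rw [← hz] at h5
    have h6 : ∀ z : A ⊗[k] LinearMap.ker T,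
        (Coalgebra.counit (R := k) (A := A)).lTensor A ((LinearMap.ker T).subtype.lTensor A z) = 0 := by
      intro z
      induction z with
      | zero => simp
      | add p q hp hq => simp only [map_add, hp, hq, add_zero]
      | tmul p q => simp [hε _ q.2]
    rw [h6] at h5
    simpa using congrArg (TensorProduct.rid k A) h5.symm
  refine ⟨fun x hx => hker x (LinearMap.ext hx), fun y hy => hker y (LinearMap.ext fun x => ?_)⟩
  simpa [T, mul_comm] using hy x

theorem etale_of_finrank_ne_zero (h : (Module.finrank k A : k) ≠ 0) : Algebra.Etale k A := by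
  classical
  have hB := traceForm_nondegenerate h
  let b := Module.finBasis k A
  let d := LinearMap.BilinForm.dualBasis (Algebra.traceForm k A) hB b
  have hd : ∀ y : A, y = ∑ j, Algebra.trace k A (y * b j) • d j := by
    intro y
    conv_lhs => rw [← d.sum_repr y]
    simp only [d, LinearMap.BilinForm.dualBasis_repr_apply, Algebra.traceForm_apply]
  have hbd : ∀ i j, Algebra.trace k A (b i * d j) = if i = j then 1 else 0 := fun i j => by
    have := LinearMap.BilinForm.apply_dualBasis_left hB b j i
    simpa [mul_comm] using this
  have hb : ∀ y : A, y = ∑ i, Algebra.trace k A (y * d i) • b i := by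
    intro y
    have hr : ∀ i, Algebra.trace k A (y * d i) = b.repr y i := by
      intro i
      conv_lhs => rw [← b.sum_repr y]
      simp only [Finset.sum_mul, map_sum, smul_mul_assoc, map_smul, hbd, smul_eq_mul, mul_ite, mul_one, mul_zero,
        Finset.sum_ite_eq', Finset.mem_univ, if_true]
    simp only [hr, b.sum_repr]
  let t : A ⊗[k] A := ∑ i, b i ⊗ₜ[k] d i
  have hfu : Algebra.FormallyUnramified k A := by
    rw [Algebra.FormallyUnramified.iff_exists_tensorProduct]
    refine ⟨t, fun s => ?_, ?_⟩
    · rw [sub_mul, sub_eq_zero]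
      simp only [t, Finset.mul_sum, Algebra.TensorProduct.tmul_mul_tmul, one_mul]
      conv_lhs => enter [2, i]; rw [hd (s * d i), TensorProduct.tmul_sum]
      conv_rhs => enter [2, i]; rw [hb (s * b i), TensorProduct.sum_tmul]
      rw [Finset.sum_comm]
      simp only [TensorProduct.tmul_smul, TensorProduct.smul_tmul']
      refine Finset.sum_congr rfl fun i _ => Finset.sum_congr rfl fun j _ => ?_
      rw [mul_right_comm]
    · simp only [t, map_sum, Algebra.TensorProduct.lmul'_apply_tmul]
      have hc : ∀ y, Algebra.trace k A ((∑ i, b i * d i) * y) = Algebra.trace k A y := by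
        intro y
        rw [Finset.sum_mul, map_sum, Algebra.trace_apply (R := k) (x := y), LinearMap.trace_eq_matrix_trace k b,
          Matrix.trace]
        refine Finset.sum_congr rfl fun i _ => ?_
        rw [Matrix.diag_apply, LinearMap.toMatrix_apply]
        conv_rhs => rw [show Algebra.lmul k A y (b i) = y * b i from rfl, hb (y * b i)]
        simp [Finsupp.single_apply, mul_comm, mul_left_comm]
      refine sub_eq_zero.1 (hB.1 _ fun y => ?_)
      rw [Algebra.traceForm_apply, sub_mul, map_sub, hc, one_mul, sub_self]
  haveI := hfu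
  haveI : Algebra.FinitePresentation k A := Algebra.FinitePresentation.of_finiteType.1 inferInstance
  exact Algebra.Etale.of_formallyUnramified_of_flat

end Groth.Agent.HopfRep.TraceEtale

end
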