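import Groth.Agent.HopfRep.EtaleFixed

/-!
A homogeneous space of a group with connected fibres is separated.
-/

universe u

open CategoryTheory MonoidalCategory CartesianMonoidalCategory MonObj AlgebraicGeometry Limits

noncomputable section

set_option backward.isDefEq.respectTransparency.types false

namespace Groth.Agent.HopfRep.TransSep

theorem isIrreducible_preimage {S : Scheme.{u}} {G : Over S} [GrpObj G] [LocallyOfFiniteType G.hom]
    (hconn : ∀ s : S, ConnectedSpace (G.hom.fiber s)) (T : Over S) (z : T.left) :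
    IsIrreducible ((snd G T).left ⁻¹' {z}) := by
  have := EtaleFixed.geometricallyConnected G hconn
  let h := T.left.fromSpecResidueField z ≫ T.hom
  let H : Over (Spec (CommRingCat.of (T.left.residueField z))) := Red.bc h G
  letI : GrpObj H := inferInstanceAs (GrpObj (Red.bc h G))
  have : LocallyOfFiniteType H.hom := inferInstanceAs (LocallyOfFiniteType (pullback.snd G.hom h))
  have : ConnectedSpace H.left := by
    have : GeometricallyConnected H.hom := inferInstanceAs (GeometricallyConnected (pullback.snd G.hom h))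
    have : Nonempty H.left := ⟨η[H].left (IsLocalRing.closedPoint (T.left.residueField z))⟩
    exact GeometricallyConnected.connectedSpace_of_subsingleton (f := H.hom)
  have := AntiAffine.irreducibleSpace H
  let e : H.left ≅ (snd G T).left.fiber z :=
    (pullbackLeftPullbackSndIso G.hom T.hom (T.left.fromSpecResidueField z)).symm
  rw [← Scheme.Hom.range_fiberι]
  have : IrreducibleSpace ((snd G T).left.fiber z) := by
    have h1 : IsIrreducible (Set.univ : Set H.left) :=
      ⟨Set.univ_nonempty, PreirreducibleSpace.isPreirreducible_univ⟩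
    have h2 := h1.image e.hom e.hom.continuous.continuousOn
    rw [Set.image_univ, Set.range_eq_univ.2 e.hom.surjective] at h2
    exact irreducibleSpace_def _ |>.2 h2
  rw [← Set.image_univ]
  exact IsIrreducible.image ⟨Set.univ_nonempty, PreirreducibleSpace.isPreirreducible_univ⟩ _
    ((snd G T).left.fiberι z).continuous.continuousOn

theorem isSeparated {S : Scheme.{u}} {G X : Over S} [GrpObj G] [LocallyOfFiniteType G.hom]
    [UniversallyOpen G.hom] (hconn : ∀ s : S, ConnectedSpace (G.hom.fiber s)) (a : AlgGrp.Action G X)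
    (hΦ : Surjective (lift a.act (snd G X)).left) : IsSeparated X.hom := by
  let δ : X ⟶ X ⊗ X := lift (𝟙 X) (𝟙 X)
  suffices hD : IsClosed (Set.range δ.left) by
    refine ⟨IsClosedImmersion.of_isPreimmersion _ ?_⟩
    have e : δ.left = pullback.diagonal X.hom := by
      apply pullback.hom_ext
      · rw [pullback.diagonal_fst]
        exact congrArg Over.Hom.left (lift_fst (𝟙 X) (𝟙 X))
      · rw [pullback.diagonal_snd]
        exact congrArg Over.Hom.left (lift_snd (𝟙 X) (𝟙 X))
    rwa [e] at hD
  refine isOpen_compl_iff.1 (isOpen_iff_forall_mem_open.2 fun z hz => ?_)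
  let T := X ⊗ X
  let m₁ : G ⊗ T ⟶ X := (G ◁ fst X X) ≫ a.act
  let m₂ : G ⊗ T ⟶ X := (G ◁ snd X X) ≫ a.act
  let pair : G ⊗ T ⟶ T := lift m₁ m₂
  -- an affine neighbourhood of the first point
  obtain ⟨_, ⟨U, hU, rfl⟩, hxU, -⟩ :=
    X.left.isBasis_affineOpens.exists_subset_of_mem_open (Set.mem_univ ((fst X X).left z)) isOpen_univ
  let U : X.left.Opens := U
  have hxU : (fst X X).left z ∈ (U : Set X.left) := hxU
  have : IsAffine U := hU
  have hsep : IsSeparated (U.ι ≫ X.hom) := inferInstance
  let UU : Set T.left := (fst X X).left ⁻¹' U ∩ (snd X X).left ⁻¹' U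
  have hUU : IsOpen UU := (U.2.preimage (fst X X).left.continuous).inter (U.2.preimage (snd X X).left.continuous)
  -- the diagonal is closed in `U × U`
  have hloc : ∀ w ∈ UU, w ∈ closure (Set.range δ.left) → w ∈ Set.range δ.left := by
    let Uo : Over S := Over.mk (U.ι ≫ X.hom)
    let iU : Uo ⟶ X := Over.homMk U.ι rfl
    let j := iU ⊗ₘ iU
    have hjle : (j.left : (Uo ⊗ Uo).left ⟶ T.left) =
        pullback.map _ _ _ _ U.ι U.ι (𝟙 S) (by simp [Uo]) (by simp [Uo]) := by
      apply pullback.hom_ext
      · rw [pullback.lift_fst]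
        exact congrArg Over.Hom.left (tensorHom_fst iU iU)
      · rw [pullback.lift_snd]
        exact congrArg Over.Hom.left (tensorHom_snd iU iU)
    have : IsOpenImmersion j.left := by rw [hjle]; infer_instance
    have hrange : Set.range j.left = UU := by
      rw [hjle]
      refine (Scheme.Pullback.range_map _ _ _ _ U.ι U.ι (𝟙 S) _ _).trans ?_
      simp [UU]
    have hcl : IsClosed (Set.range (pullback.diagonal (U.ι ≫ X.hom))) :=
      (pullback.diagonal (U.ι ≫ X.hom)).isClosedEmbedding.isClosed_range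
    have hjd : pullback.diagonal (U.ι ≫ X.hom) ≫ j.left = U.ι ≫ δ.left := by
      rw [hjle]
      apply pullback.hom_ext
      · rw [Category.assoc, pullback.lift_fst]
        refine (pullback.diagonal_fst_assoc (U.ι ≫ X.hom) U.ι).trans ?_
        rw [Category.assoc]
        exact ((congrArg (fun φ => U.ι ≫ φ) (congrArg Over.Hom.left (lift_fst (𝟙 X) (𝟙 X)))).trans (Category.comp_id _)).symm
      · rw [Category.assoc, pullback.lift_snd]
        refine (pullback.diagonal_snd_assoc (U.ι ≫ X.hom) U.ι).trans ?_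
        rw [Category.assoc]
        exact ((congrArg (fun φ => U.ι ≫ φ) (congrArg Over.Hom.left (lift_snd (𝟙 X) (𝟙 X)))).trans (Category.comp_id _)).symm
    intro w hw hwcl
    rw [← hrange] at hw
    obtain ⟨v, rfl⟩ := hw
    by_contra hn
    have hv : v ∉ Set.range (pullback.diagonal (U.ι ≫ X.hom)) := by
      rintro ⟨x, rfl⟩
      exact hn ⟨U.ι x, by rw [← Scheme.Hom.comp_apply, ← Scheme.Hom.comp_apply, hjd]⟩
    obtain ⟨_, ⟨v', hv', rfl⟩, x, hx⟩ := mem_closure_iff.1 hwcl _
      (j.left.isOpenEmbedding.isOpenMap _ hcl.isOpen_compl) ⟨v, hv, rfl⟩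
    have hxU' : x ∈ (U : Set X.left) := by
      have h1 : δ.left x ∈ UU := hrange ▸ ⟨v', hx.symm⟩
      have h2 := h1.1
      rw [Set.mem_preimage, ← Scheme.Hom.comp_apply, ← Over.comp_left, lift_fst] at h2
      exact h2
    refine hv' ⟨⟨x, hxU'⟩, j.left.isOpenEmbedding.injective ?_⟩
    rw [← hx, ← Scheme.Hom.comp_apply, hjd, Scheme.Hom.comp_apply]
    rfl
  let O : Set (G ⊗ T).left := pair.left ⁻¹' (UU \ closure (Set.range δ.left))
  have hO : IsOpen O := (hUU.sdiff isClosed_closure).preimage pair.left.continuous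
  have : UniversallyOpen (snd G T).left :=
    MorphismProperty.of_isPullback (P := @UniversallyOpen) (Torsor.isPullback_fst G T) ‹_›
  refine ⟨(snd G T).left '' O, ?_, (snd G T).left.isOpenMap _ hO, ?_⟩
  · rintro _ ⟨p, hp, rfl⟩ ⟨x, hx⟩
    obtain ⟨r, hr, -⟩ := Scheme.exists_preimage_of_isPullback
      (Torsor.isPullback_left (Orbit.isPullback_whiskerLeft (T := G) δ)) p x hx.symm
    refine hp.2 (subset_closure ⟨a.act.left r, ?_⟩)
    have h1 : (G ◁ δ) ≫ pair = a.act ≫ δ := by
      apply CartesianMonoidalCategory.hom_ext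
      · simp [pair, m₁, δ, ← MonoidalCategory.whiskerLeft_comp_assoc]
      · simp [pair, m₂, δ, ← MonoidalCategory.whiskerLeft_comp_assoc]
    rw [← hr, ← Scheme.Hom.comp_apply, ← Over.comp_left, ← h1, Over.comp_left, Scheme.Hom.comp_apply]
  · have hirr := isIrreducible_preimage hconn T z
    let O₁ := m₁.left ⁻¹' (U : Set X.left)
    let O₂ := m₂.left ⁻¹' (U : Set X.left)
    have h1 : ((snd G T).left ⁻¹' {z} ∩ O₁).Nonempty := by
      let e : T ⟶ G ⊗ T := lift 1 (𝟙 T)
      refine ⟨e.left z, ?_, ?_⟩
      · rw [Set.mem_preimage, ← Scheme.Hom.comp_apply, ← Over.comp_left, lift_snd]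
        rfl
      · show m₁.left (e.left z) ∈ (U : Set X.left)
        rw [← Scheme.Hom.comp_apply, ← Over.comp_left]
        have : e ≫ m₁ = fst X X := by
          show lift 1 (𝟙 T) ≫ (G ◁ fst X X) ≫ a.act = fst X X
          rw [lift_whiskerLeft_assoc, Category.id_comp, Orbit.act_one]
        rw [this]
        exact hxU
    have h2 : ((snd G T).left ⁻¹' {z} ∩ O₂).Nonempty := by
      obtain ⟨q, hq⟩ := (lift a.act (snd G X)).left.surjective z
      have hq2 : (snd G X).left q = (snd X X).left z := by
        rw [← hq, ← Scheme.Hom.comp_apply, ← Over.comp_left, lift_snd]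
      obtain ⟨p, hp1, hp2⟩ := Scheme.exists_preimage_of_isPullback
        (Torsor.isPullback_left (Orbit.isPullback_whiskerLeft (T := G) (snd X X))) q z hq2
      refine ⟨p, hp2, ?_⟩
      show m₂.left p ∈ (U : Set X.left)
      rw [Over.comp_left, Scheme.Hom.comp_apply, hp1]
      have hxU' := hxU
      rw [← hq, ← Scheme.Hom.comp_apply, ← Over.comp_left, lift_fst] at hxU'
      exact hxU'
    obtain ⟨p, hpz, hp1, hp2⟩ := hirr.2 O₁ O₂ (U.2.preimage m₁.left.continuous) (U.2.preimage m₂.left.continuous) h1 h2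
    have hpair : pair.left p ∈ UU := by
      refine ⟨?_, ?_⟩
      · rw [Set.mem_preimage, ← Scheme.Hom.comp_apply, ← Over.comp_left, lift_fst]; exact hp1
      · rw [Set.mem_preimage, ← Scheme.Hom.comp_apply, ← Over.comp_left, lift_snd]; exact hp2
    refine ⟨p, ⟨hpair, fun hc => hz ?_⟩, hpz⟩
    obtain ⟨x, hx⟩ := hloc _ hpair hc
    obtain ⟨w, hw, -⟩ := Scheme.exists_preimage_of_isPullback
      (IsPullback.of_hasPullback pair.left δ.left) p x hx.symm
    let Y : Over S := Over.mk (pullback.fst pair.left δ.left ≫ (G ⊗ T).hom)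
    let c : Y ⟶ G ⊗ T := Over.homMk (pullback.fst pair.left δ.left) rfl
    let d : Y ⟶ X := Over.homMk (pullback.snd pair.left δ.left) (by
      show pullback.snd pair.left δ.left ≫ X.hom = _
      rw [← Over.w δ, ← Category.assoc, ← pullback.condition, Category.assoc, Over.w pair]
      rfl)
    have hcd : c ≫ pair = d ≫ δ := Over.OverMorphism.ext pullback.condition
    have e1 : c ≫ m₁ = d := by
      simpa [pair, δ] using congrArg (· ≫ fst X X) hcd
    have e2 : c ≫ m₂ = d := by
      simpa [pair, δ] using congrArg (· ≫ snd X X) hcd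
    let g := c ≫ fst G T
    have f1 : lift g (c ≫ snd G T ≫ fst X X) ≫ a.act = d := by
      rw [← e1]
      show _ = c ≫ (G ◁ fst X X) ≫ a.act
      refine Eq.trans (congrArg (· ≫ a.act) ?_) (Category.assoc _ _ _)
      apply CartesianMonoidalCategory.hom_ext <;> simp [g]
    have f2 : lift g (c ≫ snd G T ≫ snd X X) ≫ a.act = d := by
      rw [← e2]
      show _ = c ≫ (G ◁ snd X X) ≫ a.act
      refine Eq.trans (congrArg (· ≫ a.act) ?_) (Category.assoc _ _ _)
      apply CartesianMonoidalCategory.hom_ext <;> simp [g]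
    have f3 : c ≫ snd G T ≫ fst X X = c ≫ snd G T ≫ snd X X := by
      have := congrArg (fun y => lift g⁻¹ y ≫ a.act) (f1.trans f2.symm)
      simpa only [← Orbit.act_mul, inv_mul_cancel, Orbit.act_one] using this
    have f4 : c ≫ snd G T = (c ≫ snd G T ≫ fst X X) ≫ δ := by
      apply CartesianMonoidalCategory.hom_ext
      · simp [δ]
      · simpa [δ] using f3.symm
    refine ⟨(c ≫ snd G T ≫ fst X X).left w, ?_⟩
    rw [← Scheme.Hom.comp_apply, ← Over.comp_left, ← f4, Over.comp_left, Scheme.Hom.comp_apply]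
    show (snd G T).left (pullback.fst pair.left δ.left w) = z
    rw [hw]
    exact hpz

end Groth.Agent.HopfRep.TransSep

end
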