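import Groth.Agent.HopfRep.TruncPoly

/-!
The order of a finite group scheme of height at most one.
-/

universe u v

noncomputable section

namespace Groth.Agent.HopfRep.TruncFinrank

open MvPolynomial TruncPoly

theorem finrank_eq {k : Type u} [Field k] (p : ℕ) [Fact p.Prime] [CharP k p] {A : Type v} [CommRing A]
    [HopfAlgebra k A] [Algebra.FiniteType k A] (h1 : ∀ f : A, Bialgebra.counitAlgHom k A f = 0 → f ^ p = 0) :
    Module.finrank k A = p ^ Module.finrank k (RingHom.ker (Bialgebra.counitAlgHom k A)).Cotangent := by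
  classical
  obtain ⟨x, D, hx, hD, hspan⟩ := exists_coords (k := k) (A := A) _ rfl
  let d := Module.finrank k (RingHom.ker (Bialgebra.counitAlgHom k A).toRingHom).Cotangent
  let s : Set (Fin d →₀ ℕ) := {e | ∀ i, e i < p}
  let g := Bialgebra.counitAlgHom k A
  have hp : ∀ a ∈ RingHom.ker g, a ^ p = 0 := h1
  let L : restrictSupport k s →ₗ[k] A := (aeval x : MvPolynomial (Fin d) k →ₐ[k] A).toLinearMap ∘ₗ (restrictSupport k s).subtype
  have hmem : ∀ P : MvPolynomial (Fin d) k, P ∈ restrictSupport k s ↔ ∀ e ∈ P.support, ∀ i, e i < p := fun P => by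
    rw [MvPolynomial.mem_restrictSupport_iff, Set.subset_def]
    rfl
  have hbij : Function.Bijective L := by
    refine ⟨(injective_iff_map_eq_zero _).2 fun P hP => Subtype.ext ?_, fun a => ?_⟩
    · exact eq_zero_of_aeval p g x hx D hD ((hmem _).1 P.2) hP
    · obtain ⟨P, rfl⟩ := aeval_surjective p g hp x hx hspan a
      obtain ⟨Q, hQ, hQ'⟩ := exists_red p P
      refine ⟨⟨Q, (hmem Q).2 hQ⟩, ?_⟩
      rw [← ker_aeval p g hp x hx D hD, RingHom.mem_ker, map_sub, sub_eq_zero] at hQ'
      exact hQ'.symm
  let e : s ≃ (Fin d → Fin p) :=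
    { toFun := fun e i => ⟨e.1 i, e.2 i⟩
      invFun := fun f => ⟨Finsupp.equivFunOnFinite.symm fun i => (f i : ℕ), fun i => by simp⟩
      left_inv := fun e => Subtype.ext (Finsupp.ext fun i => by simp)
      right_inv := fun f => funext fun i => Fin.ext (by simp) }
  have : Fintype s := Fintype.ofEquiv _ e.symm
  rw [← (LinearEquiv.ofBijective L hbij).finrank_eq, Module.finrank_eq_card_basis (basisRestrictSupport k s),
    Fintype.card_congr e, Fintype.card_fun, Fintype.card_fin, Fintype.card_fin]
  rfl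

end Groth.Agent.HopfRep.TruncFinrank

end
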