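import Groth.Agent.HopfRep.HopfReduced

/-!
Commutative Hopf algebras of height one are truncated polynomial algebras: over a field by derivations dual to a
cotangent basis, over a local ring by Nakayama and flatness.
-/

universe u v w

noncomputable section

namespace Groth.Agent.HopfRep.TruncPoly

open MvPolynomial

/-- the ideal of `p`-th powers of the variables -/
def spanX (R : Type u) [CommRing R] (ι : Type w) (p : ℕ) : Ideal (MvPolynomial ι R) :=
  Ideal.span (Set.range fun i => (X i : MvPolynomial ι R) ^ p)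

theorem exists_red {R : Type u} [CommRing R] {ι : Type w} (p : ℕ) (P : MvPolynomial ι R) :
    ∃ Q : MvPolynomial ι R, (∀ d ∈ Q.support, ∀ i, d i < p) ∧ P - Q ∈ spanX R ι p := by
  classical
  induction P using MvPolynomial.induction_on' with
  | monomial d c =>
    by_cases h : ∀ i, d i < p
    · refine ⟨monomial d c, fun e he i => ?_, by simp⟩
      rw [Finset.mem_singleton.1 (support_monomial_subset he)]
      exact h i
    · obtain ⟨i, hi⟩ := not_forall.1 h
      refine ⟨0, by simp, ?_⟩
      rw [sub_zero, show monomial d c = monomial (d - Finsupp.single i p) c * X i ^ p by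
        rw [X_pow_eq_monomial, monomial_mul, mul_one, tsub_add_cancel_of_le]
        exact Finsupp.single_le_iff.2 (not_lt.1 hi)]
      exact Ideal.mul_mem_left _ _ (Ideal.subset_span ⟨i, rfl⟩)
  | add P P' hP hP' =>
    obtain ⟨Q, hQ, hQ'⟩ := hP
    obtain ⟨R', hR, hR'⟩ := hP'
    refine ⟨Q + R', fun d hd => ?_, by rw [add_sub_add_comm]; exact add_mem hQ' hR'⟩
    rcases Finset.mem_union.1 (support_add hd) with h | h
    · exact hQ d h
    · exact hR d h

theorem finite_of_pow_eq_zero {R : Type u} [CommRing R] {A : Type v} [CommRing A] [Algebra R A]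
    [Algebra.FiniteType R A] (p : ℕ) (s : Set A) (hs : Algebra.adjoin R s = ⊤) (h : ∀ a ∈ s, a ^ p = 0) :
    Module.Finite R A := by
  have h1 : Algebra.IsIntegral R (Algebra.adjoin R s) :=
    Algebra.IsIntegral.adjoin fun a ha => ⟨Polynomial.X ^ p, Polynomial.monic_X_pow p, by simp [h a ha]⟩
  rw [hs] at h1
  have : Algebra.IsIntegral R A := ⟨fun a => by
    have := (h1.isIntegral ⟨a, Algebra.mem_top⟩).map (⊤ : Subalgebra R A).val
    exact this⟩
  exact Algebra.IsIntegral.finite

section Core

variable {k : Type u} [Field k] (p : ℕ) [Fact p.Prime] [CharP k p] {B : Type v} [CommRing B] [Algebra k B]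
  (g : B →ₐ[k] k) (hp : ∀ a ∈ RingHom.ker g, a ^ p = 0)
  {ι : Type w} [Fintype ι] [DecidableEq ι] (x : ι → B) (hx : ∀ i, g (x i) = 0)
  (D : ι → Derivation k B B) (hD : ∀ i j, g (D i (x j)) = if i = j then 1 else 0)
  (hspan : ∀ a ∈ RingHom.ker g, ∃ c : ι → k, a - ∑ i, c i • x i ∈ RingHom.ker g ^ 2)

theorem eq_zero_of_pderiv {P : MvPolynomial ι k} (hP : ∀ d ∈ P.support, ∀ i, d i < p)
    (h : ∀ i, pderiv i P = 0) {d : ι →₀ ℕ} (hd : d ≠ 0) : P.coeff d = 0 := by
  by_contra hc
  obtain ⟨i, hi⟩ : ∃ i, d i ≠ 0 := by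
    by_contra! hall
    exact hd (Finsupp.ext hall)
  have h1 := congrArg (fun Q : MvPolynomial ι k => Q.coeff (d - Finsupp.single i 1)) (h i)
  simp only [coeff_zero] at h1
  rw [MvPolynomial.coeff_pderiv, tsub_add_cancel_of_le (Finsupp.single_le_iff.2 (Nat.one_le_iff_ne_zero.2 hi))] at h1
  have hne : ((d - Finsupp.single i 1 : ι →₀ ℕ) i + 1 : k) ≠ 0 := by
    rw [Finsupp.tsub_apply, Finsupp.single_eq_same, ← Nat.cast_one (R := k), ← Nat.cast_add,
      Nat.sub_add_cancel (Nat.one_le_iff_ne_zero.2 hi), Ne, CharP.cast_eq_zero_iff k p]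
    exact fun hdvd => absurd (Nat.le_of_dvd (Nat.pos_of_ne_zero hi) hdvd)
      (not_le.2 (hP d (mem_support_iff.2 hc) i))
  simp [hc] at h1
  exact hne (by simpa using h1)

theorem pderiv_reduced {P : MvPolynomial ι k} (hP : ∀ d ∈ P.support, ∀ i, d i < p) (j : ι) :
    ∀ d ∈ (pderiv j P).support, ∀ i, d i < p := by
  intro d hd i
  rw [mem_support_iff, MvPolynomial.coeff_pderiv] at hd
  have := hP (d + Finsupp.single j 1) (mem_support_iff.2 fun h => hd (by rw [h]; simp)) i
  rw [Finsupp.add_apply] at this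
  omega

include hx hD in
/-- Reduced forms are independent. -/
theorem indep : ∀ n : ℕ, ∀ P : MvPolynomial ι k, P.IsHomogeneous n → (∀ d ∈ P.support, ∀ i, d i < p) →
    aeval x P ∈ RingHom.ker g ^ (n + 1) → P = 0 := by
  intro n
  induction n with
  | zero =>
    intro P hP _ h
    obtain ⟨c, rfl⟩ : ∃ c, P = C c :=
      ⟨_, totalDegree_eq_zero_iff_eq_C.1 ((totalDegree_zero_iff_isHomogeneous _).2 hP)⟩
    rw [zero_add, pow_one, aeval_C, RingHom.mem_ker, AlgHom.commutes] at h
    simp at h
    simp [h]
  | succ n ih =>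
    intro P hP hred h
    have hz : ∀ i, pderiv i P = 0 := by
      intro i
      refine ih _ hP.pderiv (pderiv_reduced p hred i) ?_
      have h1 := GrDeriv.deriv_pow (D i) (RingHom.ker g) (n + 1) _ h
      rw [GrDeriv.deriv_aeval] at h1
      have h2 : ∑ j, aeval x (pderiv j P) * (D i (x j) - if i = j then 1 else 0) ∈ RingHom.ker g ^ (n + 1) := by
        refine Submodule.sum_mem _ fun j _ => ?_
        rw [pow_succ]
        refine Ideal.mul_mem_mul (GrDeriv.aeval_mem g x hx n _ hP.pderiv) ?_
        rw [RingHom.mem_ker, map_sub, hD]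
        split <;> simp
      have h3 := sub_mem h1 h2
      rw [← Finset.sum_sub_distrib] at h3
      simpa [mul_sub] using h3
    refine MvPolynomial.ext _ _ fun d => ?_
    rw [coeff_zero]
    by_cases hd : d = 0
    · subst hd
      exact hP.coeff_eq_zero (by simp)
    · exact eq_zero_of_pderiv p hred hz hd

include hx hD in
theorem eq_zero_of_aeval {P : MvPolynomial ι k} (hP : ∀ d ∈ P.support, ∀ i, d i < p) (h : aeval x P = 0) :
    P = 0 := by
  by_contra hne
  classical
  have hex : ∃ n, homogeneousComponent n P ≠ 0 := by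
    by_contra! hall
    exact hne (by rw [← sum_homogeneousComponent P]; exact Finset.sum_eq_zero fun i _ => hall i)
  let n := Nat.find hex
  have hcomp := Nat.find_spec hex
  refine hcomp (indep p g x hx D hD n _ (homogeneousComponent_isHomogeneous n P) (fun d hd => ?_) ?_)
  · refine hP d (mem_support_iff.2 fun hc => ?_)
    rw [mem_support_iff, coeff_homogeneousComponent] at hd
    simp [hc] at hd
  · have hsum := congrArg (aeval x) (sum_homogeneousComponent P)
    rw [map_sum, h] at hsum
    have hn : n ∈ Finset.range (P.totalDegree + 1) := by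
      rw [Finset.mem_range]
      by_contra hlt
      exact hcomp (homogeneousComponent_eq_zero _ _ (by omega))
    rw [← Finset.add_sum_erase _ _ hn, add_eq_zero_iff_eq_neg] at hsum
    rw [hsum]
    refine neg_mem (Submodule.sum_mem _ fun i hi => ?_)
    rcases lt_trichotomy i n with hlt | heq | hgt
    · rw [not_not.1 (Nat.find_min hex hlt), map_zero]
      exact zero_mem _
    · exact absurd heq (Finset.mem_erase.1 hi).1
    · exact Ideal.pow_le_pow_right (by omega) (GrDeriv.aeval_mem g x hx i _ (homogeneousComponent_isHomogeneous i P))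

include hp hx hspan in
theorem aeval_surjective [Algebra.FiniteType k B] : Function.Surjective (aeval x : MvPolynomial ι k →ₐ[k] B) := by
  have : IsNoetherianRing B := Algebra.FiniteType.isNoetherianRing k B
  obtain ⟨N, hN⟩ := (Ideal.FG.isNilpotent_iff_le_nilradical (IsNoetherian.noetherian (RingHom.ker g))).2
    fun a ha => ⟨p, hp a ha⟩
  have key : ∀ j n, n + j = N → ∀ a ∈ RingHom.ker g ^ n, a ∈ (aeval x : MvPolynomial ι k →ₐ[k] B).range := by
    intro j
    induction j with
    | zero =>
      intro n hn a ha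
      rw [show n = N by omega, hN] at ha
      rw [show a = 0 from ha]
      exact Subalgebra.zero_mem _
    | succ j ih =>
      intro n hn a ha
      obtain ⟨P, -, hPa⟩ := GrDeriv.exists_form g x hx hspan n a ha
      obtain ⟨Q, hQ⟩ := (AlgHom.mem_range (φ := (aeval x : MvPolynomial ι k →ₐ[k] B))).1 (ih (n + 1) (by omega) _ hPa)
      exact (AlgHom.mem_range (φ := (aeval x : MvPolynomial ι k →ₐ[k] B))).2 ⟨Q + P, by rw [map_add, hQ, sub_add_cancel]⟩
  intro a
  exact (AlgHom.mem_range (φ := (aeval x : MvPolynomial ι k →ₐ[k] B))).1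
    (key N 0 (zero_add N) a (by rw [pow_zero, Ideal.one_eq_top]; trivial))

include hp hx hD in
theorem ker_aeval : RingHom.ker (aeval x : MvPolynomial ι k →ₐ[k] B) = spanX k ι p := by
  have hle : spanX k ι p ≤ RingHom.ker (aeval x : MvPolynomial ι k →ₐ[k] B) := by
    refine Ideal.span_le.2 ?_
    rintro _ ⟨i, rfl⟩
    show aeval x (X i ^ p) = 0
    rw [map_pow, aeval_X, hp _ (hx i)]
  refine le_antisymm (fun P hP => ?_) hle
  obtain ⟨Q, hQ, hQ'⟩ := exists_red p P
  have h0 : aeval x Q = 0 := by
    have h1 : aeval x (P - Q) = 0 := hle hQ'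
    rw [map_sub, show aeval x P = 0 from hP, zero_sub, neg_eq_zero] at h1
    exact h1
  rwa [eq_zero_of_aeval p g x hx D hD hQ h0, sub_zero] at hQ'

end Core

/-- A cotangent basis at the unit of a Hopf algebra, with dual derivations. -/
theorem exists_coords {k : Type u} [Field k] {A : Type v} [CommRing A] [HopfAlgebra k A] [Algebra.FiniteType k A]
    (d : ℕ) (hd : Module.finrank k (RingHom.ker (Bialgebra.counitAlgHom k A).toRingHom).Cotangent = d) :
    ∃ (x : Fin d → A) (D : Fin d → Derivation k A A), (∀ i, Bialgebra.counitAlgHom k A (x i) = 0) ∧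
      (∀ i j, Bialgebra.counitAlgHom k A (D i (x j)) = if i = j then 1 else 0) ∧
      ∀ a ∈ RingHom.ker (Bialgebra.counitAlgHom k A), ∃ c : Fin d → k,
        a - ∑ i, c i • x i ∈ RingHom.ker (Bialgebra.counitAlgHom k A) ^ 2 := by
  classical
  let ε := Bialgebra.counitAlgHom k A
  let m := RingHom.ker ε.toRingHom
  have : IsNoetherianRing A := Algebra.FiniteType.isNoetherianRing k A
  let toM : A →ₗ[k] m :=
    { toFun := fun a => ⟨a - algebraMap k A (ε a), show ε (a - algebraMap k A (ε a)) = 0 by simp⟩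
      map_add' := fun a b => Subtype.ext (by
        show (a + b) - algebraMap k A (ε (a + b)) = (a - algebraMap k A (ε a)) + (b - algebraMap k A (ε b))
        rw [map_add, map_add]; ring)
      map_smul' := fun c a => Subtype.ext (by
        show c • a - algebraMap k A (ε (c • a)) = c • (a - algebraMap k A (ε a))
        rw [map_smul, smul_eq_mul, map_mul, ← Algebra.smul_def, smul_sub]) }
  let q : A →ₗ[k] m.Cotangent := (m.toCotangent.restrictScalars k).comp toM
  have hqmem : ∀ a : m, q a = m.toCotangent a := fun a => by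
    show m.toCotangent (toM a) = _
    congr 1
    refine Subtype.ext ?_
    show (a : A) - algebraMap k A (ε a) = a
    rw [show ε (a : A) = 0 from a.2, map_zero, sub_zero]
  have hqs : Function.Surjective q := fun z => by
    obtain ⟨a, rfl⟩ := Ideal.toCotangent_surjective m z
    exact ⟨a, hqmem a⟩
  have : Module.Finite k m.Cotangent := by
    obtain ⟨t, ht⟩ := IsNoetherian.noetherian m
    refine ⟨⟨t.image q, eq_top_iff.2 fun z _ => ?_⟩⟩
    obtain ⟨⟨a, ha⟩, rfl⟩ := Ideal.toCotangent_surjective m z
    rw [← hqmem]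
    show q a ∈ _
    have ha' : a ∈ Submodule.span A (t : Set A) := ht.symm ▸ ha
    refine Submodule.span_induction (p := fun a _ => ε a = 0 → q a ∈ Submodule.span k ((t.image q : Finset _) : Set m.Cotangent))
      (fun b hb _ => Submodule.subset_span (by simpa using ⟨b, hb, rfl⟩)) (fun _ => by simp) ?_ ?_ ha' ha
    · intro b c hb hc ihb ihc _
      rw [map_add]
      have hb0 : ε b = 0 := (ht ▸ hb : b ∈ m)
      have hc0 : ε c = 0 := (ht ▸ hc : c ∈ m)
      exact add_mem (ihb hb0) (ihc hc0)
    · intro c b hb ihb _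
      have hb0 : ε b = 0 := (ht ▸ hb : b ∈ m)
      have heq : q (c • b) = ε c • q b := by
        rw [← map_smul]
        show m.toCotangent (toM (c • b)) = m.toCotangent (toM (ε c • b))
        rw [Ideal.toCotangent_eq, pow_two]
        show (c * b - algebraMap k A (ε (c * b))) - (ε c • b - algebraMap k A (ε (ε c • b))) ∈ m * m
        rw [map_mul ε, hb0, mul_zero, map_smul, hb0, smul_zero, map_zero, sub_zero, sub_zero, Algebra.smul_def,
          ← sub_mul]
        exact Ideal.mul_mem_mul (show ε (c - algebraMap k A (ε c)) = 0 by simp) hb0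
      rw [heq]
      exact Submodule.smul_mem _ _ (ihb hb0)
  let b : Module.Basis (Fin d) k m.Cotangent := Module.finBasisOfFinrankEq k _ hd
  choose x hx using fun i => Ideal.toCotangent_surjective m (b i)
  have hψ : ∀ i, ∃ Di : Derivation k A A, ∀ a, ε (Di a) = b.repr (q a) i := fun i => by
    refine HopfReduced.exists_deriv ε ((Finsupp.lapply i).comp (b.repr.toLinearMap.comp q)) fun a c => ?_
    show b.repr (q (a * c)) i = ε a * b.repr (q c) i + ε c * b.repr (q a) i
    have : q (a * c) = ε a • q c + ε c • q a := by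
      rw [← map_smul, ← map_smul, ← map_add]
      show m.toCotangent (toM (a * c)) = m.toCotangent (toM (ε a • c + ε c • a))
      rw [Ideal.toCotangent_eq, pow_two]
      show (a * c - algebraMap k A (ε (a * c))) -
        (ε a • c + ε c • a - algebraMap k A (ε (ε a • c + ε c • a))) ∈ m * m
      have : (a * c - algebraMap k A (ε (a * c))) - (ε a • c + ε c • a - algebraMap k A (ε (ε a • c + ε c • a))) =
          (a - algebraMap k A (ε a)) * (c - algebraMap k A (ε c)) := by
        simp only [map_mul, map_add, Algebra.smul_def, AlgHom.commutes, Algebra.algebraMap_self, RingHom.id_apply]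
        ring
      rw [this]
      exact Ideal.mul_mem_mul (show ε (a - algebraMap k A (ε a)) = 0 by simp) (show ε (c - algebraMap k A (ε c)) = 0 by simp)
    rw [this]
    simp
  choose D hD using hψ
  refine ⟨fun i => (x i : A), D, fun i => (x i).2, fun i j => ?_, fun a ha => ⟨fun i => b.repr (q a) i, ?_⟩⟩
  · show ε (D i (x j)) = _
    rw [hD, hqmem, hx, b.repr_self, Finsupp.single_apply]
    simp [eq_comm]
  · have hmem : a - ∑ i, b.repr (q a) i • (x i : A) ∈ m := by
      refine sub_mem ha (Submodule.sum_mem _ fun i _ => ?_)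
      exact Submodule.smul_of_tower_mem _ _ (x i).2
    show a - ∑ i, b.repr (q a) i • (x i : A) ∈ m ^ 2
    have h0 : m.toCotangent ⟨_, hmem⟩ = 0 := by
      rw [← hqmem, map_sub, map_sum]
      simp only [map_smul, hqmem, hx, b.sum_repr, sub_self]
    exact (Ideal.toCotangent_eq_zero _ _).1 h0

/-- A Hopf algebra of height one over a local ring is truncated polynomial. -/
theorem exists_algEquiv (p : ℕ) [Fact p.Prime] {R : Type u} [CommRing R] [IsLocalRing R] [CharP R p]
    {A : Type u} [CommRing A] [HopfAlgebra R A] [Algebra.FinitePresentation R A] [Module.Flat R A]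
    (h1 : ∀ a : A, Bialgebra.counitAlgHom R A a = 0 → a ^ p = 0) :
    ∃ n : ℕ, Nonempty (A ≃ₐ[R] (MvPolynomial (Fin n) R ⧸ spanX R (Fin n) p)) := by
  classical
  have hadj : ∃ s : Set A, Algebra.adjoin R s = ⊤ ∧ ∀ a ∈ s, a ^ p = 0 := by
    refine ⟨{a | Bialgebra.counitAlgHom R A a = 0}, eq_top_iff.2 fun a _ => ?_, fun a ha => h1 a ha⟩
    have : a = (a - algebraMap R A (Bialgebra.counitAlgHom R A a)) + algebraMap R A (Bialgebra.counitAlgHom R A a) :=
      (sub_add_cancel _ _).symm
    rw [this]
    refine add_mem (Algebra.subset_adjoin (show Bialgebra.counitAlgHom R A _ = 0 from ?_)) (Subalgebra.algebraMap_mem _ _)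
    simp
  obtain ⟨s, hs, hsp⟩ := hadj
  have : Module.Finite R A := finite_of_pow_eq_zero p s hs hsp
  let k := IsLocalRing.ResidueField R
  have hcast : (p : k) = 0 := by rw [← map_natCast (IsLocalRing.residue R), CharP.cast_eq_zero, map_zero]
  have : CharP k p := (CharP.charP_iff_prime_eq_zero Fact.out).2 hcast
  let A₀ := TensorProduct R k A
  let π : A →ₐ[R] A₀ := Algebra.TensorProduct.includeRight
  have hπ : Function.Surjective π := fun z => by
    induction z using TensorProduct.induction_on with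
    | zero => exact ⟨0, map_zero _⟩
    | add a b ha hb =>
      obtain ⟨a', rfl⟩ := ha
      obtain ⟨b', rfl⟩ := hb
      exact ⟨a' + b', map_add _ _ _⟩
    | tmul c a =>
      obtain ⟨r, rfl⟩ := IsLocalRing.residue_surjective c
      refine ⟨r • a, ?_⟩
      show (1 : k) ⊗ₜ[R] (r • a) = _
      rw [TensorProduct.tmul_smul, TensorProduct.smul_tmul', Algebra.smul_def, mul_one]
      rfl
  have hker : ∀ a : A, π a = 0 → a ∈ IsLocalRing.maximalIdeal R • (⊤ : Submodule R A) := fun a ha => by
    have h2 := congrArg (TensorProduct.quotTensorEquivQuotSMul A (IsLocalRing.maximalIdeal R)) ha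
    rw [show π a = (Ideal.Quotient.mk (IsLocalRing.maximalIdeal R) 1 : R ⧸ IsLocalRing.maximalIdeal R) ⊗ₜ[R] a from rfl,
      TensorProduct.quotTensorEquivQuotSMul_mk_tmul, one_smul] at h2
    exact (Submodule.Quotient.mk_eq_zero _).1 (h2.trans (map_zero _))
  have hεπ : ∀ a, Bialgebra.counitAlgHom k A₀ (π a) = algebraMap R k (Bialgebra.counitAlgHom R A a) := fun a => by
    show Coalgebra.counit (R := k) ((1 : k) ⊗ₜ[R] a) = _
    rw [TensorProduct.counit_tmul]
    simp [Algebra.smul_def]
  have hlift : ∀ z : A₀, Bialgebra.counitAlgHom k A₀ z = 0 → ∃ a, π a = z ∧ Bialgebra.counitAlgHom R A a = 0 := by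
    intro z hz
    obtain ⟨a, rfl⟩ := hπ z
    refine ⟨a - algebraMap R A (Bialgebra.counitAlgHom R A a), ?_, by simp⟩
    rw [map_sub, AlgHom.commutes]
    rw [hεπ] at hz
    rw [IsScalarTower.algebraMap_apply R k A₀, hz, map_zero, sub_zero]
  have hp₀ : ∀ z ∈ RingHom.ker (Bialgebra.counitAlgHom k A₀), z ^ p = 0 := fun z hz => by
    obtain ⟨a, rfl, ha⟩ := hlift z hz
    rw [← map_pow, h1 a ha, map_zero]
  obtain ⟨x, D, hx, hD, hspan⟩ := exists_coords (k := k) (A := A₀) _ rfl
  let d := Module.finrank k (RingHom.ker (Bialgebra.counitAlgHom k A₀).toRingHom).Cotangent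
  choose y hy hy' using fun i => hlift (x i) (hx i)
  refine ⟨d, ?_⟩
  let F : MvPolynomial (Fin d) R →ₐ[R] A := aeval y
  have hF : ∀ P, π (F P) = aeval x (MvPolynomial.map (algebraMap R k) P) := fun P => by
    rw [MvPolynomial.aeval_map_algebraMap, ← AlgHom.comp_apply, MvPolynomial.comp_aeval]
    congr 2
    exact funext hy
  have hF0 : spanX R (Fin d) p ≤ RingHom.ker F := by
    refine Ideal.span_le.2 ?_
    rintro _ ⟨i, rfl⟩
    show aeval y (X i ^ p) = 0
    rw [map_pow, aeval_X, h1 _ (hy' i)]
  let M := MvPolynomial (Fin d) R ⧸ spanX R (Fin d) p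
  let G : M →ₐ[R] A := Ideal.Quotient.liftₐ _ F fun a ha => hF0 ha
  have hG : ∀ P, G (Ideal.Quotient.mk _ P) = F P := fun P => rfl
  have hGs : Function.Surjective G := by
    have hsurj := aeval_surjective p (Bialgebra.counitAlgHom k A₀) hp₀ x hx hspan
    have htop : (⊤ : Submodule R A) ≤ LinearMap.range G.toLinearMap := by
      refine Submodule.le_of_le_smul_of_le_jacobson_bot Module.Finite.fg_top
        (IsLocalRing.maximalIdeal_le_jacobson _) fun a _ => ?_
      obtain ⟨P, hP⟩ := hsurj (π a)
      obtain ⟨P', rfl⟩ := MvPolynomial.map_surjective (algebraMap R k) IsLocalRing.residue_surjective P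
      have h3 := hker (a - F P') (by rw [map_sub, hF, hP, sub_self])
      rw [show a = F P' + (a - F P') from (add_sub_cancel _ _).symm]
      exact Submodule.add_mem_sup ⟨Ideal.Quotient.mk _ P', rfl⟩ h3
    exact fun a => htop (Submodule.mem_top : a ∈ (⊤ : Submodule R A))
  have : Module.Finite R M := by
    refine finite_of_pow_eq_zero p (Set.range fun i => Ideal.Quotient.mk (spanX R (Fin d) p) (X i)) ?_ ?_
    · rw [show (fun i => Ideal.Quotient.mk (spanX R (Fin d) p) (X i)) = (Ideal.Quotient.mkₐ R (spanX R (Fin d) p)) ∘ X from rfl,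
        Set.range_comp, ← AlgHom.map_adjoin, MvPolynomial.adjoin_range_X, Algebra.map_top]
      exact (AlgHom.range_eq_top _).2 (Ideal.Quotient.mkₐ_surjective R _)
    · rintro _ ⟨i, rfl⟩
      rw [← map_pow, Ideal.Quotient.eq_zero_iff_mem]
      exact Ideal.subset_span ⟨i, rfl⟩
  have : Module.Free R A := Module.free_of_flat_of_isLocalRing
  obtain ⟨σ, hσ⟩ := Module.projective_lifting_property G.toLinearMap LinearMap.id hGs
  have hσ' : ∀ a, G (σ a) = a := fun a => LinearMap.congr_fun hσ a
  let e : M →ₗ[R] M := LinearMap.id - σ.comp G.toLinearMap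
  have hke : ∀ z, G z = 0 → e z = z := fun z hz => by
    show z - σ (G z) = z
    rw [hz, map_zero, sub_zero]
  have hek : ∀ z, G (e z) = 0 := fun z => by
    show G (z - σ (G z)) = 0
    rw [map_sub, hσ', sub_self]
  have hGi : Function.Injective G := by
    rw [injective_iff_map_eq_zero]
    intro z hz
    have hK : LinearMap.range e ≤ (⊥ : Submodule R M) := by
      refine Submodule.le_of_le_smul_of_le_jacobson_bot ((LinearMap.range_eq_map e) ▸ Module.Finite.fg_top.map e)
        (IsLocalRing.maximalIdeal_le_jacobson _) ?_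
      rw [bot_sup_eq]
      rintro _ ⟨z, rfl⟩
      obtain ⟨P, hP⟩ := Ideal.Quotient.mk_surjective (e z)
      have hmap : MvPolynomial.map (algebraMap R k) P ∈ spanX k (Fin d) p := by
        rw [← ker_aeval p (Bialgebra.counitAlgHom k A₀) hp₀ x hx D hD, RingHom.mem_ker, ← hF, ← hG, hP, hek, map_zero]
      have hmem : e z ∈ IsLocalRing.maximalIdeal R • (⊤ : Submodule R M) := by
        have hle : spanX k (Fin d) p ≤ (spanX R (Fin d) p).map (MvPolynomial.map (algebraMap R k)) := by
          refine Ideal.span_le.2 ?_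
          rintro _ ⟨i, rfl⟩
          have := Ideal.mem_map_of_mem (MvPolynomial.map (algebraMap R k))
            (Ideal.subset_span ⟨i, rfl⟩ : X i ^ p ∈ spanX R (Fin d) p)
          simpa [spanX] using this
        obtain ⟨P₁, hP₁, hP₁'⟩ :=
          (Ideal.mem_map_iff_of_surjective _ (MvPolynomial.map_surjective (algebraMap R k) IsLocalRing.residue_surjective)).1
            (hle hmap)
        have h4 : P - P₁ ∈ Ideal.map C (IsLocalRing.maximalIdeal R) := by
          rw [MvPolynomial.mem_map_C_iff]
          intro m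
          have h5 := congrArg (fun Q : MvPolynomial (Fin d) k => Q.coeff m) hP₁'
          simp only [MvPolynomial.coeff_map] at h5
          rw [coeff_sub, ← Ideal.Quotient.eq_zero_iff_mem, map_sub]
          exact sub_eq_zero.2 h5.symm
        rw [Ideal.smul_top_eq_map, Submodule.restrictScalars_mem, ← hP,
          show Ideal.Quotient.mk (spanX R (Fin d) p) P = Ideal.Quotient.mk _ (P - P₁) by
            rw [map_sub, Ideal.Quotient.eq_zero_iff_mem.2 hP₁, sub_zero]]
        have h6 := Ideal.mem_map_of_mem (Ideal.Quotient.mk (spanX R (Fin d) p)) h4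
        rwa [Ideal.map_map] at h6
      have h7 := Submodule.mem_map_of_mem (f := e) hmem
      rw [Submodule.map_smul'', Submodule.map_top, hke _ (hek z)] at h7
      exact h7
    exact (Submodule.mem_bot R).1 (hK ⟨z, hke z hz⟩)
  exact ⟨(AlgEquiv.ofBijective G ⟨hGi, hGs⟩).symm⟩

/-- The kernel of Frobenius of a finite Hopf algebra over a field. -/
theorem frobeniusKernel (p : ℕ) [Fact p.Prime] {k : Type u} [Field k] [CharP k p] {A : Type u} [CommRing A]
    [HopfAlgebra k A] [Algebra.FiniteType k A] (d : ℕ)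
    (hd : Module.finrank k (RingHom.ker (Bialgebra.counitAlgHom k A).toRingHom).Cotangent = d) :
    Nonempty ((A ⧸ Ideal.span ((fun a : A => a ^ p) '' (RingHom.ker (Bialgebra.counitAlgHom k A).toRingHom : Set A)))
      ≃ₐ[k] (MvPolynomial (Fin d) k ⧸ spanX k (Fin d) p)) := by
  classical
  obtain ⟨x, D, hx, hD, hspan⟩ := exists_coords d hd
  let J := Ideal.span ((fun a : A => a ^ p) '' (RingHom.ker (Bialgebra.counitAlgHom k A).toRingHom : Set A))
  let g : A ⧸ J →ₐ[k] k := Ideal.Quotient.liftₐ J (Bialgebra.counitAlgHom k A) fun a ha => by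
    refine (Ideal.span_le.2 ?_ : J ≤ RingHom.ker (Bialgebra.counitAlgHom k A)) ha
    rintro _ ⟨b, hb, rfl⟩
    show Bialgebra.counitAlgHom k A (b ^ p) = 0
    rw [map_pow, show Bialgebra.counitAlgHom k A b = 0 from hb, zero_pow (Fact.out : p.Prime).ne_zero]
  have hpA : (p : A) = 0 := by rw [← map_natCast (algebraMap k A), CharP.cast_eq_zero, map_zero]
  have hDJ : ∀ i, ∀ a ∈ J, D i a ∈ J := fun i a ha => by
    induction ha using Submodule.span_induction with
    | mem b hb =>
      obtain ⟨c, -, rfl⟩ := hb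
      rw [Derivation.leibniz_pow, nsmul_eq_mul, hpA, zero_mul]
      exact zero_mem _
    | zero => rw [map_zero]; exact zero_mem _
    | add a b _ _ ha hb => rw [map_add]; exact add_mem ha hb
    | smul c b hb ih =>
      rw [smul_eq_mul, Derivation.leibniz, smul_eq_mul, smul_eq_mul]
      exact add_mem (J.mul_mem_left _ ih) (J.mul_mem_right _ hb)
  let D' : Fin d → Derivation k (A ⧸ J) (A ⧸ J) := fun i =>
    Derivation.mk' ((J.restrictScalars k).liftQ ((Ideal.Quotient.mkₐ k J).toLinearMap.comp (D i : A →ₗ[k] A))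
      fun a ha => by
        show Ideal.Quotient.mk J (D i a) = 0
        exact Ideal.Quotient.eq_zero_iff_mem.2 (hDJ i a ha)) (fun u v => by
      obtain ⟨a, rfl⟩ := Ideal.Quotient.mk_surjective u
      obtain ⟨b, rfl⟩ := Ideal.Quotient.mk_surjective v
      show Ideal.Quotient.mk J (D i (a * b)) = _
      rw [Derivation.leibniz, map_add, smul_eq_mul, smul_eq_mul, map_mul, map_mul]
      rfl)
  let x' := fun i => Ideal.Quotient.mk J (x i)
  have hx' : ∀ i, g (x' i) = 0 := hx
  have hp' : ∀ z ∈ RingHom.ker g, z ^ p = 0 := fun z hz => by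
    obtain ⟨a, rfl⟩ := Ideal.Quotient.mk_surjective z
    rw [← map_pow, Ideal.Quotient.eq_zero_iff_mem]
    exact Ideal.subset_span ⟨a, hz, rfl⟩
  have hspan' : ∀ z ∈ RingHom.ker g, ∃ c : Fin d → k, z - ∑ i, c i • x' i ∈ RingHom.ker g ^ 2 := fun z hz => by
    obtain ⟨a, rfl⟩ := Ideal.Quotient.mk_surjective z
    obtain ⟨c, hc⟩ := hspan a hz
    refine ⟨c, ?_⟩
    have hle : (RingHom.ker (Bialgebra.counitAlgHom k A)).map (Ideal.Quotient.mk J) ≤ RingHom.ker g :=
      Ideal.map_le_iff_le_comap.2 fun a ha => ha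
    have h3 := Ideal.pow_right_mono hle 2
    rw [← Ideal.map_pow] at h3
    have h4 := h3 (Ideal.mem_map_of_mem _ hc)
    rw [map_sub, map_sum] at h4
    exact h4
  have hs := aeval_surjective p g hp' x' hx' hspan'
  have hk := ker_aeval p g hp' x' hx' D' fun i j => hD i j
  exact ⟨((Ideal.quotientEquivAlgOfEq k hk.symm).trans (Ideal.quotientKerAlgEquivOfSurjective hs)).symm⟩

end Groth.Agent.HopfRep.TruncPoly

end
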