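import Mathlib.AlgebraicGeometry.IdealSheaf.Subscheme
import Mathlib.AlgebraicGeometry.Morphisms.ClosedImmersion
import Mathlib.AlgebraicGeometry.Pullbacks
import Mathlib.LinearAlgebra.TensorProduct.Basis
import Mathlib.RingTheory.TensorProduct.Maps
import Mathlib.LinearAlgebra.FreeModule.Basic
import Mathlib.Algebra.Module.Projective
import Mathlib.AlgebraicGeometry.Morphisms.FinitePresentation
import Mathlib.RingTheory.Flat.FaithfullyFlat.Algebra
import Groth.Agent.HopfRep.Rigidity2

/-!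
Weil restriction of a closed subscheme along a morphism which is locally projective on affine pieces
("essentially free"): the locus of the base over which the closed subscheme is everything.
-/

universe u

open TensorProduct CategoryTheory AlgebraicGeometry Limits

set_option linter.style.haveILetI false

noncomputable section

namespace Groth.Agent.HopfRep.WeilClosed

variable {P X E : Scheme.{u}} (p : P ⟶ X) (j : E ⟶ P)

/-- Over `g`, the closed subscheme contains the whole pullback, tested on all schemes. -/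
def Cond {T : Scheme.{u}} (g : T ⟶ X) : Prop :=
  ∀ ⦃W : Scheme.{u}⦄ (t : W ⟶ T) (q : W ⟶ P), t ≫ g = q ≫ p → ∃ e : W ⟶ E, e ≫ j = q

/-- The preimage of an affine open is covered by affine opens that are projective over it. -/
def FreeOver (U : X.affineOpens) : Prop :=
  ∀ x : P, p x ∈ U.1 → ∃ (B : Type u) (_ : CommRing B) (_ : Algebra Γ(X, U.1) B) (w : Spec (CommRingCat.of B) ⟶ P),
    Module.Projective Γ(X, U.1) B ∧ IsOpenImmersion w ∧ x ∈ Set.range w ∧
      w ≫ p = Spec.map (CommRingCat.ofHom (algebraMap Γ(X, U.1) B)) ≫ U.2.fromSpec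

theorem factor_of_local [Mono j] {W : Scheme.{u}} (q : W ⟶ P)
    (h : ∀ y : W, ∃ (W' : Scheme.{u}) (i : W' ⟶ W), IsOpenImmersion i ∧ y ∈ Set.range i ∧
      ∃ e : W' ⟶ E, e ≫ j = i ≫ q) : ∃ e : W ⟶ E, e ≫ j = q := by
  choose W' i hi hy e he using h
  let 𝒰 : W.OpenCover :=
    { I₀ := W
      X := W'
      f := i
      mem₀ := by
        rw [Scheme.presieve₀_mem_precoverage_iff]
        exact ⟨fun y => ⟨y, hy y⟩, hi⟩ }
  refine ⟨𝒰.glueMorphisms e fun a b => ?_, Scheme.Cover.hom_ext 𝒰 _ _ fun a => ?_⟩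
  · rw [← cancel_mono j, Category.assoc, Category.assoc, he, he, ← Category.assoc, ← Category.assoc]
    exact congrArg (· ≫ q) pullback.condition
  · rw [← Category.assoc, 𝒰.ι_glueMorphisms]
    exact he a

theorem cond_comp {T T' : Scheme.{u}} {g : T ⟶ X} (h : Cond p j g) (f : T' ⟶ T) : Cond p j (f ≫ g) :=
  fun W t q e => h (t ≫ f) q (by rw [Category.assoc, e])

theorem cond_of_local [Mono j] {T : Scheme.{u}} {g : T ⟶ X}
    (h : ∀ y : T, ∃ (T' : Scheme.{u}) (i : T' ⟶ T), IsOpenImmersion i ∧ y ∈ Set.range i ∧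
      Cond p j (i ≫ g)) : Cond p j g := by
  intro W t q e
  refine factor_of_local j q fun y => ?_
  obtain ⟨T', i, hi, ⟨y', hy'⟩, hc⟩ := h (t y)
  obtain ⟨z, hz, -⟩ := Scheme.exists_preimage_of_isPullback (IsPullback.of_hasPullback t i) y y' hy'.symm
  exact ⟨_, pullback.fst t i, inferInstance, ⟨z, hz⟩, hc (pullback.snd t i) _ (by
    rw [← Category.assoc, ← pullback.condition, Category.assoc, e, Category.assoc])⟩

/-- An ideal classifying the maps satisfying the condition. -/
def HasIdeal (U : X.affineOpens) : Prop :=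
  ∃ J : Ideal Γ(X, U.1), ∀ {A : CommRingCat.{u}} (ψ : Γ(X, U.1) ⟶ A),
    J ≤ RingHom.ker ψ.hom ↔ Cond p j (Spec.map ψ ≫ U.2.fromSpec)

theorem cond_pullback {T Q : Scheme.{u}} (φ : Q ⟶ X) (g : T ⟶ Q) :
    Cond p j (g ≫ φ) ↔ Cond (pullback.snd p φ) (pullback.snd j (pullback.fst p φ)) g := by
  constructor
  · intro h W t q heq
    obtain ⟨e, he⟩ := h t (q ≫ pullback.fst p φ) (by
      rw [Category.assoc, pullback.condition, ← Category.assoc, ← Category.assoc, heq])
    exact ⟨pullback.lift e q he, pullback.lift_snd _ _ _⟩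
  · intro h W t q heq
    obtain ⟨e, he⟩ := h t (pullback.lift q (t ≫ g) (by rw [← heq, Category.assoc])) (by rw [pullback.lift_snd])
    refine ⟨e ≫ pullback.fst j (pullback.fst p φ), ?_⟩
    rw [Category.assoc, pullback.condition, ← Category.assoc, he, pullback.lift_fst]

/-- The content ideal of a closed subscheme covered by projective pieces. -/
theorem ideal_of_pieces {R : Type u} [CommRing R] {P₀ E₀ : Scheme.{u}} (p₀ : P₀ ⟶ Spec (CommRingCat.of R))
    (j₀ : E₀ ⟶ P₀) [IsClosedImmersion j₀] {ι : Type*} (B : ι → Type u) [∀ x, CommRing (B x)]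
    [∀ x, Algebra R (B x)] (w : ∀ x, Spec (CommRingCat.of (B x)) ⟶ P₀) [∀ x, IsOpenImmersion (w x)]
    (hwp : ∀ x, w x ≫ p₀ = Spec.map (CommRingCat.ofHom (algebraMap R (B x))))
    (hcov : ∀ z : P₀, ∃ x, z ∈ Set.range (w x))
    {κ : ι → Type u} (e : ∀ x, κ x → B x) (s : ∀ x, B x →ₗ[R] κ x →₀ R)
    (hs : ∀ x b, Finsupp.linearCombination R (e x) (s x b) = b) :
    ∃ J : Ideal R, (∀ {A : CommRingCat.{u}} (ψ : CommRingCat.of R ⟶ A),
      J ≤ RingHom.ker ψ.hom ↔ Cond p₀ j₀ (Spec.map ψ)) ∧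
      (Finite ι → LocallyOfFinitePresentation j₀ → J.FG) := by
  have hI : ∀ x, ∃ (I : Ideal (CommRingCat.of (B x)))
      (e' : pullback j₀ (w x) ≅ Spec (CommRingCat.of ((CommRingCat.of (B x)) ⧸ I))),
      pullback.snd j₀ (w x) = e'.hom ≫ Spec.map (CommRingCat.ofHom (Ideal.Quotient.mk I)) :=
    fun x => IsClosedImmersion.Spec_iff.1 inferInstance
  choose I e' he using hI
  refine ⟨Ideal.span {r | ∃ x b i, b ∈ I x ∧ s x b i = r}, fun {A} ψ => ?_, fun hfin hj => ?_⟩
  · rw [Ideal.span_le]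
    constructor
    · intro hJ W t q heq
      refine factor_of_local j₀ q fun y => ?_
      obtain ⟨x, hx⟩ := hcov (q y)
      obtain ⟨_, ⟨D, hD, rfl⟩, hyD, hDw⟩ := W.isBasis_affineOpens.exists_subset_of_mem_open
        (show y ∈ q ⁻¹ᵁ (w x).opensRange from hx) (q ⁻¹ᵁ (w x).opensRange).2
      have hr : Set.range (hD.fromSpec ≫ q) ⊆ Set.range (w x) := by
        rintro _ ⟨z, rfl⟩
        exact hDw (hD.range_fromSpec.le ⟨z, rfl⟩)
      let l := IsOpenImmersion.lift (w x) (hD.fromSpec ≫ q) hr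
      have hl : l ≫ w x = hD.fromSpec ≫ q := IsOpenImmersion.lift_fac _ _ _
      let β := Spec.preimage l
      let τ := Spec.preimage (hD.fromSpec ≫ t)
      refine ⟨_, hD.fromSpec, IsAffineOpen.isOpenImmersion_fromSpec hD, by rwa [hD.range_fromSpec], ?_⟩
      have hβ : CommRingCat.ofHom (algebraMap R (B x)) ≫ β = ψ ≫ τ := by
        apply Spec.map_injective
        rw [Spec.map_comp, Spec.map_comp, ← hwp,
          Spec.map_preimage, Spec.map_preimage, ← Category.assoc, hl, Category.assoc, Category.assoc, heq]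
      have hkill : ∀ b ∈ I x, β.hom b = 0 := by
        intro b hb
        rw [← hs x b, Finsupp.linearCombination_apply, Finsupp.sum, map_sum]
        refine Finset.sum_eq_zero fun i _ => ?_
        have h1 : β.hom (algebraMap R (B x) (s x b i)) = τ.hom (ψ.hom (s x b i)) :=
          DFunLike.congr_fun (congrArg CommRingCat.Hom.hom hβ) _
        have h2 : ψ.hom (s x b i) = 0 := hJ ⟨x, b, i, hb, rfl⟩
        rw [Algebra.smul_def, map_mul, h1, h2, map_zero, zero_mul]
      let β' : CommRingCat.of ((CommRingCat.of (B x)) ⧸ I x) ⟶ _ :=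
        CommRingCat.ofHom (Ideal.Quotient.lift (I x) β.hom hkill)
      have hβ' : CommRingCat.ofHom (Ideal.Quotient.mk (I x)) ≫ β' = β := by ext b; rfl
      refine ⟨Spec.map β' ≫ (e' x).inv ≫ pullback.fst _ _, ?_⟩
      rw [Category.assoc, Category.assoc, pullback.condition, he, Category.assoc, Iso.inv_hom_id_assoc,
        ← Category.assoc, ← Spec.map_comp, hβ', Spec.map_preimage, hl]
    · rintro hc r ⟨x, b, i, hb, rfl⟩
      letI := ψ.hom.toAlgebra
      let M := A ⊗[R] B x
      let incl : CommRingCat.of (B x) ⟶ CommRingCat.of M :=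
        CommRingCat.ofHom (Algebra.TensorProduct.includeRight : B x →ₐ[R] M).toRingHom
      let incA : A ⟶ CommRingCat.of M := CommRingCat.ofHom Algebra.TensorProduct.includeLeftRingHom
      have hcomm : ψ ≫ incA = CommRingCat.ofHom (algebraMap R (B x)) ≫ incl := by
        ext r
        exact ((Algebra.TensorProduct.includeRight : B x →ₐ[R] M).commutes r).symm
      obtain ⟨l, hl⟩ := hc (Spec.map incA) (Spec.map incl ≫ w x) (by
        rw [Category.assoc, hwp, ← Spec.map_comp, ← Spec.map_comp, hcomm])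
      let γ' := Spec.preimage (pullback.lift l (Spec.map incl) hl ≫ (e' x).hom)
      have hγ : CommRingCat.ofHom (Ideal.Quotient.mk (I x)) ≫ γ' = incl := by
        apply Spec.map_injective
        rw [Spec.map_comp, Spec.map_preimage, Category.assoc, ← he, pullback.lift_snd]
      have h0 : (1 : A) ⊗ₜ[R] b = 0 := by
        have h1 := DFunLike.congr_fun (congrArg CommRingCat.Hom.hom hγ) b
        rw [CommRingCat.hom_comp, RingHom.comp_apply] at h1
        refine h1.symm.trans ?_
        rw [show (CommRingCat.ofHom (Ideal.Quotient.mk (I x))).hom b = 0 from Ideal.Quotient.eq_zero_iff_mem.2 hb]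
        exact map_zero _
      have := congrArg (fun z => TensorProduct.rid R A (((Finsupp.lapply i).comp (s x)).lTensor A z)) h0
      simpa [Algebra.smul_def, RingHom.algebraMap_toAlgebra] using this
  · have hfg : ∀ x, (I x).FG := fun x => by
      have := hj
      have h0 : LocallyOfFinitePresentation (pullback.snd j₀ (w x)) := inferInstance
      have h1 : LocallyOfFinitePresentation ((e' x).inv ≫ pullback.snd j₀ (w x)) := inferInstance
      rw [he, Iso.inv_hom_id_assoc] at h1
      have h2 : (Ideal.Quotient.mk (I x)).FinitePresentation :=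
        (HasRingHomProperty.Spec_iff (P := @LocallyOfFinitePresentation)).1 h1
      have h3 : Algebra.FinitePresentation (B x) (B x ⧸ I x) := RingHom.finitePresentation_algebraMap.1 h2
      have h4 := Algebra.FinitePresentation.ker_fG_of_surjective (Algebra.ofId (B x) (B x ⧸ I x))
        Ideal.Quotient.mk_surjective
      rwa [show RingHom.ker (Algebra.ofId (B x) (B x ⧸ I x)).toRingHom = I x from Ideal.mk_ker] at h4
    choose G hG using hfg
    let S₀ : Set R := ⋃ x, ⋃ b ∈ (G x : Set (B x)), (fun i => s x b i) '' ((s x b).support : Set (κ x))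
    have hS : S₀.Finite := Set.finite_iUnion fun x =>
      (G x).finite_toSet.biUnion fun b _ => (Finset.finite_toSet _).image _
    refine ⟨hS.toFinset, ?_⟩
    rw [Set.Finite.coe_toFinset]
    refine le_antisymm (Ideal.span_mono ?_) (Ideal.span_le.2 ?_)
    · intro r hr
      simp only [S₀, Set.mem_iUnion, Set.mem_image] at hr
      obtain ⟨x, b, hb, i, -, rfl⟩ := hr
      exact ⟨x, b, i, hG x ▸ Ideal.subset_span hb, rfl⟩
    · rintro r ⟨x, b, i, hb, rfl⟩
      have key : ∀ b ∈ (G x : Set (B x)), ∀ c : B x, ∀ i, s x (c * b) i ∈ Ideal.span S₀ := by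
        intro b hb c i
        rw [show c * b = c * Finsupp.linearCombination R (e x) (s x b) by rw [hs]]
        rw [Finsupp.linearCombination_apply, Finsupp.sum, Finset.mul_sum, map_sum, Finsupp.finsetSum_apply]
        refine Ideal.sum_mem _ fun l hl => ?_
        rw [mul_smul_comm, map_smul, Finsupp.smul_apply, smul_eq_mul]
        refine Ideal.mul_mem_right _ _ (Ideal.subset_span ?_)
        simp only [S₀, Set.mem_iUnion, Set.mem_image]
        exact ⟨x, b, hb, l, hl, rfl⟩
      rw [← hG x] at hb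
      suffices h : ∀ i, s x b i ∈ Ideal.span S₀ from h i
      induction hb using Submodule.span_induction with
      | mem y hy => intro i; simpa using key y hy 1 i
      | zero => simp
      | add y z _ _ hy hz => intro i; simpa using add_mem (hy i) (hz i)
      | smul c y hy ih =>
        intro i
        rw [smul_eq_mul]
        clear ih
        induction hy using Submodule.span_induction generalizing c i with
        | mem z hz => exact key z hz c i
        | zero => simp
        | add a a' _ _ ha ha' => rw [mul_add]; simpa using add_mem (ha c i) (ha' c i)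
        | smul d z _ hz => rw [smul_eq_mul, ← mul_assoc]; exact hz _ i

theorem hasIdeal_of_freeOver [IsClosedImmersion j] (U : X.affineOpens) (hU : FreeOver p U) :
    ∃ J : Ideal Γ(X, U.1), (∀ {A : CommRingCat.{u}} (ψ : Γ(X, U.1) ⟶ A),
      J ≤ RingHom.ker ψ.hom ↔ Cond p j (Spec.map ψ ≫ U.2.fromSpec)) ∧
      (QuasiCompact p → LocallyOfFinitePresentation j → J.FG) := by
  choose B hB hA w hproj hw hxw hwp using hU
  have : IsOpenImmersion U.2.fromSpec := IsAffineOpen.isOpenImmersion_fromSpec U.2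
  let p' := pullback.snd p U.2.fromSpec
  let π := pullback.fst p U.2.fromSpec
  let w' : ∀ x hx, Spec (CommRingCat.of (B x hx)) ⟶ pullback p U.2.fromSpec := fun x hx =>
    pullback.lift (w x hx) _ (hwp x hx)
  have hw' : ∀ x hx, IsOpenImmersion (w' x hx) := fun x hx => by
    have := hw x hx
    have : IsOpenImmersion (w' x hx ≫ π) := by rw [pullback.lift_fst]; infer_instance
    exact IsOpenImmersion.of_comp (w' x hx) π
  have hπ : ∀ z : ↑(pullback p U.2.fromSpec), p (π z) ∈ U.1 := fun z => by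
    rw [← Scheme.Hom.comp_apply, pullback.condition, Scheme.Hom.comp_apply]
    exact U.2.range_fromSpec.le ⟨_, rfl⟩
  have hcov : ∀ z : ↑(pullback p U.2.fromSpec), ∃ (x : P) (hx : p x ∈ U.1), z ∈ Set.range (w' x hx) := fun z => by
    obtain ⟨y, hy⟩ := hxw (π z) (hπ z)
    refine ⟨π z, hπ z, y, π.isOpenEmbedding.injective ?_⟩
    rw [← Scheme.Hom.comp_apply, pullback.lift_fst, hy]
  have hsec : ∀ x hx, ∃ s : B x hx →ₗ[Γ(X, U.1)] B x hx →₀ Γ(X, U.1),
      Finsupp.linearCombination Γ(X, U.1) id ∘ₗ s = LinearMap.id :=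
    fun x hx => Module.projective_def'.1 (hproj x hx)
  choose s hs using hsec
  let ι := {x : P // p x ∈ U.1}
  have gen : ∀ (t : Set ι), (∀ z, ∃ x ∈ t, z ∈ Set.range (w' x.1 x.2)) → ∃ J : Ideal Γ(X, U.1),
      (∀ {A : CommRingCat.{u}} (ψ : Γ(X, U.1) ⟶ A),
        J ≤ RingHom.ker ψ.hom ↔ Cond p j (Spec.map ψ ≫ U.2.fromSpec)) ∧
      (Finite t → LocallyOfFinitePresentation (pullback.snd j π) → J.FG) := fun t ht => by
    have := fun x : t => hw' x.1.1 x.1.2
    obtain ⟨J, hJ, hfg⟩ := ideal_of_pieces p' (pullback.snd j π) (fun x : t => B x.1.1 x.1.2)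
      (fun x => w' x.1.1 x.1.2) (fun x => pullback.lift_snd _ _ _)
      (fun z => by obtain ⟨x, hx, hz⟩ := ht z; exact ⟨⟨x, hx⟩, hz⟩)
      (fun x => id) (fun x => s x.1.1 x.1.2) (fun x b => DFunLike.congr_fun (hs x.1.1 x.1.2) b)
    exact ⟨J, fun ψ => (hJ ψ).trans (cond_pullback p j U.2.fromSpec (Spec.map ψ)).symm, hfg⟩
  obtain ⟨J, hJ, -⟩ := gen Set.univ fun z => by
    obtain ⟨x, hx, hz⟩ := hcov z; exact ⟨⟨x, hx⟩, trivial, hz⟩
  refine ⟨J, hJ, fun hp hj => ?_⟩
  have : CompactSpace ↑(pullback p U.2.fromSpec) := QuasiCompact.compactSpace_of_compactSpace p'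
  choose xf hxf hzf using hcov
  obtain ⟨t, ht⟩ := isCompact_univ.elim_finite_subcover
    (fun z : ↑(pullback p U.2.fromSpec) => Set.range (w' (xf z) (hxf z)))
    (fun z => (hw' (xf z) (hxf z)).base_open.isOpen_range) (fun z _ => Set.mem_iUnion.2 ⟨z, hzf z⟩)
  classical
  obtain ⟨J', hJ', hfg⟩ := gen ↑(t.image fun z => (⟨xf z, hxf z⟩ : ι)) fun z => by
    obtain ⟨z', hz', hmem⟩ := Set.mem_iUnion₂.1 (ht (Set.mem_univ z))
    exact ⟨⟨xf z', hxf z'⟩, Finset.mem_coe.2 (Finset.mem_image_of_mem _ hz'), hmem⟩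
  have heq : J = J' := by
    have h1 := (hJ (CommRingCat.ofHom (Ideal.Quotient.mk J'))).2 ((hJ' _).1 Ideal.mk_ker.ge)
    have h2 := (hJ' (CommRingCat.ofHom (Ideal.Quotient.mk J))).2 ((hJ _).1 Ideal.mk_ker.ge)
    exact le_antisymm (h1.trans Ideal.mk_ker.le) (h2.trans Ideal.mk_ker.le)
  exact heq ▸ hfg inferInstance (have := hj; inferInstanceAs (LocallyOfFinitePresentation (pullback.snd j π)))

theorem exists_ideal [IsClosedImmersion j] (U : X.affineOpens) (hU : FreeOver p U) : HasIdeal p j U :=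
  let ⟨J, hJ, _⟩ := hasIdeal_of_freeOver p j U hU
  ⟨J, hJ⟩

/-- Descent of classifying ideals along a faithfully flat ring extension. -/
theorem hasIdeal_of_descent [IsClosedImmersion j] (U : X.affineOpens) (R' : Type u) [CommRing R']
    [Algebra Γ(X, U.1) R'] [Module.FaithfullyFlat Γ(X, U.1) R']
    (J' : Ideal R') (hJ' : ∀ {A : CommRingCat.{u}} (ψ : CommRingCat.of R' ⟶ A), J' ≤ RingHom.ker ψ.hom ↔
      Cond p j (Spec.map ψ ≫ Spec.map (CommRingCat.ofHom (algebraMap Γ(X, U.1) R')) ≫ U.2.fromSpec)) :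
    ∃ J : Ideal Γ(X, U.1), (∀ {A : CommRingCat.{u}} (ψ : Γ(X, U.1) ⟶ A),
      J ≤ RingHom.ker ψ.hom ↔ Cond p j (Spec.map ψ ≫ U.2.fromSpec)) ∧ (J'.FG → J.FG) := by
  let R := Γ(X, U.1)
  let α := algebraMap R R'
  let J := J'.comap α
  have hmap : J.map α = J' := by
    refine le_antisymm Ideal.map_comap_le fun x hx => ?_
    let T := R' ⊗[R] R'
    let l : CommRingCat.of R' ⟶ CommRingCat.of T := CommRingCat.ofHom Algebra.TensorProduct.includeLeftRingHom
    let r : CommRingCat.of R' ⟶ CommRingCat.of T :=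
      CommRingCat.ofHom (Algebra.TensorProduct.includeRight : R' →ₐ[R] T).toRingHom
    have hlr : CommRingCat.ofHom α ≫ l = CommRingCat.ofHom α ≫ r := by
      ext a
      exact ((Algebra.TensorProduct.includeRight : R' →ₐ[R] T).commutes a).symm
    let π := CommRingCat.ofHom (Ideal.Quotient.mk (J'.map r.hom))
    have h1 : J' ≤ RingHom.ker (r ≫ π).hom := fun y hy => Ideal.Quotient.eq_zero_iff_mem.2 (Ideal.mem_map_of_mem _ hy)
    have h2 := (hJ' (r ≫ π)).1 h1
    rw [← Category.assoc, ← Spec.map_comp, ← Category.assoc, ← hlr, Category.assoc, Spec.map_comp,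
      Spec.map_comp, Category.assoc, Category.assoc] at h2
    have h3 := (hJ' (l ≫ π)).2 (by
      rw [Spec.map_comp, Category.assoc, ← Category.assoc (Spec.map l), ← Spec.map_comp]
      rw [← Category.assoc (Spec.map l), ← Spec.map_comp] at h2
      exact h2)
    have h4 : l.hom x ∈ J'.map r.hom := Ideal.Quotient.eq_zero_iff_mem.1 (h3 hx)
    let q : R ⧸ J →ₗ[R] R' ⧸ J' := (Ideal.quotientMapₐ J' (Algebra.ofId R R') (le_refl J)).toLinearMap
    have hq : Function.Injective q := Ideal.quotientMap_injective' (H := le_refl J) (le_refl J)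
    have hqT := Module.Flat.lTensor_preserves_injective_linearMap (M := R') q hq
    have h5 : x ⊗ₜ[R] (Ideal.Quotient.mk J' 1) = 0 := by
      let Φ : T →ₐ[R] R' ⊗[R] (R' ⧸ J') := Algebra.TensorProduct.map (AlgHom.id R R') (Ideal.Quotient.mkₐ R J')
      have h6 : J'.map r.hom ≤ RingHom.ker Φ := Ideal.map_le_iff_le_comap.2 fun y hy => by
        show Φ (1 ⊗ₜ y) = 0
        refine (Algebra.TensorProduct.map_tmul _ _ _ _).trans ?_
        rw [show (Ideal.Quotient.mkₐ R J') y = 0 from Ideal.Quotient.eq_zero_iff_mem.2 hy]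
        exact TensorProduct.tmul_zero _ _
      exact (RingHom.mem_ker.1 (h6 h4) :)
    have h8 : x ⊗ₜ[R] (Ideal.Quotient.mk J 1) = 0 := hqT (by
      rw [LinearMap.lTensor_tmul, map_zero]
      simpa [q] using h5)
    have h9 := congrArg (TensorProduct.quotTensorEquivQuotSMul R' J ∘ TensorProduct.comm R R' (R ⧸ J)) h8
    simp only [Function.comp_apply, TensorProduct.comm_tmul, map_zero] at h9
    rw [TensorProduct.quotTensorEquivQuotSMul_mk_tmul, one_smul, Submodule.Quotient.mk_eq_zero,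
      Ideal.smul_top_eq_map] at h9
    exact h9
  refine ⟨J, fun {A} ψ => ⟨fun hle => ?_, fun hc => ?_⟩, fun hfg => ?_⟩
  · letI := ψ.hom.toAlgebra
    let A' := A ⊗[R] R'
    let incA : A ⟶ CommRingCat.of A' := CommRingCat.ofHom (algebraMap A A')
    let incR : CommRingCat.of R' ⟶ CommRingCat.of A' :=
      CommRingCat.ofHom (Algebra.TensorProduct.includeRight : R' →ₐ[R] A').toRingHom
    have hcomm : ψ ≫ incA = CommRingCat.ofHom α ≫ incR := by
      ext r
      exact ((Algebra.TensorProduct.includeRight : R' →ₐ[R] A').commutes r).symm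
    have hc' : Cond p j (Spec.map incA ≫ Spec.map ψ ≫ U.2.fromSpec) := by
      rw [← Category.assoc, ← Spec.map_comp, hcomm, Spec.map_comp, Category.assoc]
      refine (hJ' incR).1 (hmap ▸ Ideal.map_le_iff_le_comap.2 fun a ha => ?_)
      show incR.hom (α a) = 0
      rw [show incR.hom (α a) = incA.hom (ψ.hom a) from (DFunLike.congr_fun (congrArg CommRingCat.Hom.hom hcomm) a).symm,
        RingHom.mem_ker.1 (hle ha), map_zero]
    intro W t q heq
    let c := pullback.fst q j
    have : IsClosedImmersion c := inferInstanceAs (IsClosedImmersion (pullback.fst q j))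
    suffices IsIso c from ⟨inv c ≫ pullback.snd q j, by
      rw [Category.assoc, ← pullback.condition, IsIso.inv_hom_id_assoc]⟩
    refine Rigidity2.isIso_of_flat_cover c fun y => ?_
    have : Module.FaithfullyFlat A A' := inferInstance
    have hff := (flat_and_surjective_SpecMap_iff incA).2 (by
      rw [CommRingCat.hom_ofHom, RingHom.faithfullyFlat_algebraMap_iff]; infer_instance)
    have hflat : Flat (Spec.map incA) := hff.1
    have hsurj : Surjective (Spec.map incA) := hff.2
    let f := pullback.fst t (Spec.map incA)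
    have : Flat f := inferInstanceAs (Flat (pullback.fst t (Spec.map incA)))
    have : Surjective f := inferInstanceAs (Surjective (pullback.fst t (Spec.map incA)))
    obtain ⟨z, hz⟩ := f.surjective y
    obtain ⟨e, he⟩ := hc' (pullback.snd t (Spec.map incA)) (f ≫ q) (by
      rw [← Category.assoc, ← pullback.condition, Category.assoc, heq, Category.assoc])
    exact ⟨_, f, z, pullback.lift f e he.symm, inferInstance, hz, pullback.lift_fst _ _ _⟩
  · letI := ψ.hom.toAlgebra
    let A' := A ⊗[R] R'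
    let incR : CommRingCat.of R' ⟶ CommRingCat.of A' :=
      CommRingCat.ofHom (Algebra.TensorProduct.includeRight : R' →ₐ[R] A').toRingHom
    let incA : A ⟶ CommRingCat.of A' := CommRingCat.ofHom (algebraMap A A')
    have hcomm : ψ ≫ incA = CommRingCat.ofHom α ≫ incR := by
      ext r
      exact ((Algebra.TensorProduct.includeRight : R' →ₐ[R] A').commutes r).symm
    have h1 := (hJ' incR).2 (by
      rw [← Category.assoc, ← Spec.map_comp, ← hcomm, Spec.map_comp, Category.assoc]
      exact cond_comp p j hc _)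
    intro a ha
    have h2 : incA.hom (ψ.hom a) = 0 :=
      (DFunLike.congr_fun (congrArg CommRingCat.Hom.hom hcomm) a).trans (RingHom.mem_ker.1 (h1 ha))
    exact RingHom.mem_ker.2 ((map_eq_zero_iff _ (FaithfulSMul.algebraMap_injective A A')).1 h2)
  · rw [← hmap] at hfg
    obtain ⟨G, hG⟩ := hfg
    classical
    have hG' : ∀ g : G, ∃ S : Finset R, ↑S ⊆ (J : Set R) ∧ (g : R') ∈ (Ideal.span (S : Set R)).map α := by
      intro g
      have hgJ : (g : R') ∈ Ideal.span (α '' (J : Set R)) := hG.le (Ideal.subset_span g.2)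
      obtain ⟨T, hT, hgT⟩ := Submodule.mem_span_finite_of_mem_span hgJ
      obtain ⟨S, hS, rfl⟩ := Finset.subset_set_image_iff.1 hT
      exact ⟨S, hS, by rw [Ideal.map_span]; simpa using hgT⟩
    choose S hSJ hSg using hG'
    refine ⟨Finset.univ.biUnion S, le_antisymm (Ideal.span_le.2 fun a ha => ?_) ?_⟩
    · obtain ⟨g, -, hg⟩ := Finset.mem_biUnion.1 ha
      exact hSJ g hg
    · have hle : J.map α ≤ (Ideal.span (↑(Finset.univ.biUnion S) : Set R)).map α := by
        rw [← hG]
        exact Ideal.span_le.2 fun g hg => Ideal.map_mono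
          (Ideal.span_mono (Finset.coe_subset.2 (Finset.subset_biUnion_of_mem S (Finset.mem_univ (⟨g, hg⟩ : G))))) (hSg ⟨g, hg⟩)
      rw [Ideal.map_le_iff_le_comap, Ideal.comap_map_eq_self_of_faithfullyFlat] at hle
      exact hle

/-- The Weil restriction of a closed subscheme along an essentially free morphism is closed. -/
theorem exists_closed_of_hasIdeal [IsClosedImmersion j]
    (hgood : ∀ x : X, ∃ U : X.affineOpens, x ∈ U.1 ∧ ∀ W : X.affineOpens, W.1 ≤ U.1 → HasIdeal p j W) :
    ∃ (Z : Scheme.{u}) (z : Z ⟶ X), IsClosedImmersion z ∧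
      (∀ {T : Scheme.{u}} (g : T ⟶ X), (∃ g' : T ⟶ Z, g' ≫ z = g) ↔ Cond p j g) ∧
      ((∀ x : X, ∃ U : X.affineOpens, x ∈ U.1 ∧ ∀ (W : X.affineOpens), W.1 ≤ U.1 → ∀ J : Ideal Γ(X, W.1),
        (∀ {A : CommRingCat.{u}} (ψ : Γ(X, W.1) ⟶ A), J ≤ RingHom.ker ψ.hom ↔
          Cond p j (Spec.map ψ ≫ W.2.fromSpec)) → J.FG) → LocallyOfFinitePresentation z) := by
  classical
  let Good : X.affineOpens → Prop := fun W =>
    ∃ U : X.affineOpens, W.1 ≤ U.1 ∧ ∀ W : X.affineOpens, W.1 ≤ U.1 → HasIdeal p j W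
  have hdown : ∀ {W W' : X.affineOpens}, W'.1 ≤ W.1 → Good W → Good W' :=
    fun h ⟨U, hU, hU'⟩ => ⟨U, h.trans hU, hU'⟩
  have hJ : ∀ W, Good W → ∃ J : Ideal Γ(X, W.1), ∀ {A : CommRingCat.{u}} (ψ : Γ(X, W.1) ⟶ A),
      J ≤ RingHom.ker ψ.hom ↔ Cond p j (Spec.map ψ ≫ W.2.fromSpec) :=
    fun W ⟨U, hU, hU'⟩ => hU' W hU
  choose J₀ hJ₀ using hJ
  let r : ∀ {W W' : X.affineOpens}, W'.1 ≤ W.1 → (Γ(X, W.1) →+* Γ(X, W'.1)) := fun h =>
    (X.presheaf.map (homOfLE h).op).hom
  have hr : ∀ {W W' W'' : X.affineOpens} (h : W'.1 ≤ W.1) (h' : W''.1 ≤ W'.1) (a : Γ(X, W.1)),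
      r h' (r h a) = r (h'.trans h) a := fun h h' a => by
    simp only [r, ← CommRingCat.comp_apply, ← Functor.map_comp]
    rfl
  have hcompat : ∀ {W W' : X.affineOpens} (h : W'.1 ≤ W.1) (hW : Good W),
      (J₀ W hW).map (r h) = J₀ W' (hdown h hW) := by
    intro W W' h hW
    apply le_antisymm
    · have h1 := (hJ₀ W' (hdown h hW) (CommRingCat.ofHom (Ideal.Quotient.mk (J₀ W' (hdown h hW))))).1
        Ideal.mk_ker.ge
      rw [← W.2.map_fromSpec W'.2 (homOfLE h).op, ← Category.assoc, ← Spec.map_comp] at h1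
      rw [Ideal.map_le_iff_le_comap]
      refine ((hJ₀ W hW _).2 h1).trans fun a ha => ?_
      rw [Ideal.mem_comap]
      exact Ideal.Quotient.eq_zero_iff_mem.1 (show Ideal.Quotient.mk _ (r h a) = 0 from ha)
    · have h1 : Cond p j (Spec.map (CommRingCat.ofHom (Ideal.Quotient.mk ((J₀ W hW).map (r h)))) ≫ W'.2.fromSpec) := by
        rw [← W.2.map_fromSpec W'.2 (homOfLE h).op, ← Category.assoc, ← Spec.map_comp]
        exact (hJ₀ W hW _).1 fun a ha => Ideal.Quotient.eq_zero_iff_mem.2 (Ideal.mem_map_of_mem _ ha)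
      exact ((hJ₀ W' (hdown h hW) _).2 h1).trans Ideal.mk_ker.le
  let K : ∀ U : X.affineOpens, Ideal Γ(X, U.1) := fun U =>
    ⨅ (W : X.affineOpens) (h : W.1 ≤ U.1) (hW : Good W), (J₀ W hW).comap (r h)
  have hK : ∀ {U : X.affineOpens} {a : Γ(X, U.1)},
      a ∈ K U ↔ ∀ (W : X.affineOpens) (h : W.1 ≤ U.1) (hW : Good W), r h a ∈ J₀ W hW := by
    intro U a; simp only [K, Ideal.mem_iInf, Ideal.mem_comap]
  have hKgood : ∀ U hU, K U = J₀ U hU := by
    intro U hU
    ext a
    rw [hK]
    refine ⟨fun h => ?_, fun ha W h hW => ?_⟩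
    · have := h U le_rfl hU
      simpa [r] using this
    · rw [← hcompat h hU]; exact Ideal.mem_map_of_mem _ ha
  have hcover : ∀ U : X.affineOpens, ∀ x ∈ U.1, ∃ g : Γ(X, U.1), Good (X.affineBasicOpen g) ∧ x ∈ X.basicOpen g := by
    intro U x hx
    obtain ⟨V, hxV, hV⟩ := hgood x
    obtain ⟨g, hg, hxg⟩ := U.2.exists_basicOpen_le ⟨x, hxV⟩ hx
    exact ⟨g, ⟨V, hg, hV⟩, hxg⟩
  have hbasic : ∀ (U : X.affineOpens) (f : Γ(X, U.1)),
      (K U).map (X.presheaf.map (homOfLE <| X.basicOpen_le f).op).hom = K (X.affineBasicOpen f) := by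
    intro U f
    apply le_antisymm
    · refine Ideal.map_le_iff_le_comap.2 fun a ha => (hK (U := X.affineBasicOpen f)).2 fun W h hW => ?_
      have := hr (W := U) (W' := X.affineBasicOpen f) (X.basicOpen_le f) h a
      exact this.symm ▸ hK.1 ha W (h.trans (X.basicOpen_le f)) hW
    · intro a ha
      have hloc := U.2.isLocalization_basicOpen f
      obtain ⟨⟨c, ⟨_, n, rfl⟩⟩, hc⟩ := IsLocalization.surj (Submonoid.powers f) a
      have halg : ∀ z : Γ(X, U.1), algebraMap Γ(X, U.1) Γ(X, X.basicOpen f) z = r (W := U) (W' := X.affineBasicOpen f) (X.basicOpen_le f) z :=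
        fun z => rfl
      let G := {g : Γ(X, U.1) // Good (X.affineBasicOpen g)}
      obtain ⟨t, ht⟩ := U.2.isCompact.elim_finite_subcover (fun g : G => (X.basicOpen g.1 : Set X))
        (fun g => (X.basicOpen g.1).2) (fun x hx => by
          obtain ⟨g, hg, hxg⟩ := hcover U x hx
          exact Set.mem_iUnion.2 ⟨⟨g, hg⟩, hxg⟩)
      have hstep : ∀ g : G, ∃ N : ℕ,
          r (W := U) (W' := X.affineBasicOpen g.1) (X.basicOpen_le _) (f ^ N * c) ∈ J₀ _ g.2 := by
        intro g
        let W := X.affineBasicOpen g.1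
        have hWU : W.1 ≤ U.1 := X.basicOpen_le _
        let f' := r hWU f
        let D := X.affineBasicOpen f'
        have hDW : D.1 ≤ W.1 := X.basicOpen_le _
        have hDf : D.1 ≤ (X.affineBasicOpen f).1 := by
          show X.basicOpen (X.presheaf.map (homOfLE hWU).op f) ≤ X.basicOpen f
          rw [Scheme.basicOpen_res]; exact inf_le_right
        have h1 : r hDf (algebraMap Γ(X, U.1) Γ(X, X.basicOpen f) c) ∈ J₀ D (hdown hDW g.2) := by
          rw [← hc]
          refine (map_mul (r (W := X.affineBasicOpen f) hDf) a _).symm ▸ ?_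
          exact Ideal.mul_mem_right _ _ ((hK (U := X.affineBasicOpen f)).1 ha D hDf _)
        replace h1 : r hDW (r hWU c) ∈ (J₀ W g.2).map (r hDW) := by
          rw [hcompat hDW g.2, hr]
          have := hr (W := U) (W' := X.affineBasicOpen f) (X.basicOpen_le f) hDf c
          exact this ▸ h1
        have := W.2.isLocalization_basicOpen f'
        obtain ⟨_, ⟨N, rfl⟩, hN⟩ :=
          (IsLocalization.algebraMap_mem_map_algebraMap_iff (Submonoid.powers f') Γ(X, X.basicOpen f') (J₀ W g.2) (r hWU c)).1 h1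
        exact ⟨N, by rw [map_mul, map_pow]; exact hN⟩
      choose N hN using hstep
      have hmem : f ^ t.sup N * c ∈ K U := by
        rw [hK]
        intro W h hW
        let gs : t → Γ(X, W.1) := fun g => r h g.1.1
        have hspan : Ideal.span (Set.range gs) = ⊤ := by
          rw [← W.2.self_le_iSup_basicOpen_iff]
          intro x hx
          obtain ⟨g, hg, hxg⟩ := Set.mem_iUnion₂.1 (ht (h hx))
          refine TopologicalSpace.Opens.mem_iSup.2 ⟨⟨_, ⟨g, hg⟩, rfl⟩, ?_⟩
          show x ∈ X.basicOpen (X.presheaf.map (homOfLE h).op g.1)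
          rw [Scheme.basicOpen_res]
          exact ⟨hx, hxg⟩
        refine Submodule.mem_of_span_eq_top_of_smul_pow_mem _ (Set.range gs) hspan _ ?_
        rintro ⟨_, ⟨⟨g, hg⟩, rfl⟩⟩
        let g' := r h g.1
        let D := X.affineBasicOpen g'
        have hDW : D.1 ≤ W.1 := X.basicOpen_le _
        have hDg : D.1 ≤ (X.affineBasicOpen g.1).1 := by
          show X.basicOpen (X.presheaf.map (homOfLE h).op g.1) ≤ X.basicOpen g.1
          rw [Scheme.basicOpen_res]; exact inf_le_right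
        have h1 : r hDW (r h (f ^ t.sup N * c)) ∈ J₀ D (hdown hDW hW) := by
          rw [hr, ← hr (W' := X.affineBasicOpen g.1) (X.basicOpen_le _) hDg, ← hcompat hDg g.2]
          refine Ideal.mem_map_of_mem _ ?_
          rw [show f ^ t.sup N * c = f ^ (t.sup N - N g) * (f ^ N g * c) by
            rw [← mul_assoc, ← pow_add, Nat.sub_add_cancel (Finset.le_sup hg)], map_mul]
          exact Ideal.mul_mem_left _ _ (hN g)
        rw [← hcompat hDW hW] at h1
        have := W.2.isLocalization_basicOpen g'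
        obtain ⟨_, ⟨M, rfl⟩, hM⟩ :=
          (IsLocalization.algebraMap_mem_map_algebraMap_iff (Submonoid.powers g') Γ(X, X.basicOpen g') (J₀ W hW)
            (r h (f ^ t.sup N * c))).1 h1
        exact ⟨M, hM⟩
      have h2 : algebraMap Γ(X, U.1) Γ(X, X.basicOpen f) (f ^ t.sup N * c) =
          a * (algebraMap Γ(X, U.1) Γ(X, X.basicOpen f) (f ^ n) * algebraMap _ _ (f ^ t.sup N)) := by
        rw [map_mul, ← hc]; ring
      have hu : IsUnit (algebraMap Γ(X, U.1) Γ(X, X.basicOpen f) (f ^ n) * algebraMap _ _ (f ^ t.sup N)) :=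
        (IsLocalization.map_units _ (⟨_, n, rfl⟩ : Submonoid.powers f)).mul
          (IsLocalization.map_units _ (⟨_, t.sup N, rfl⟩ : Submonoid.powers f))
      exact (Ideal.mul_unit_mem_iff_mem _ hu).1 (h2 ▸ Ideal.mem_map_of_mem _ hmem)
  let ℐ : X.IdealSheafData := { ideal := K, map_ideal_basicOpen := hbasic }
  refine ⟨ℐ.subscheme, ℐ.subschemeι, inferInstance, fun {T} g => ⟨?_, fun hg => ?_⟩, fun hfg => ?_⟩
  · rintro ⟨g', rfl⟩
    refine cond_comp p j (cond_of_local p j fun y => ?_) g'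
    obtain ⟨V, hyV, hV⟩ := hgood (ℐ.subschemeι y)
    have hVg : Good V := ⟨V, le_rfl, hV⟩
    refine ⟨_, ℐ.subschemeCover.f V, ℐ.subschemeCover.openCover.map_prop V, ?_, ?_⟩
    · exact (ℐ.opensRange_subschemeCover_map V).ge hyV
    · rw [ℐ.subschemeCover_map_subschemeι, Scheme.IdealSheafData.glueDataObjι]
      erw [Category.assoc, IsAffineOpen.isoSpec_inv_ι]
      exact (hJ₀ V hVg _).1 ((hKgood V hVg).ge.trans Ideal.mk_ker.ge)
  · refine factor_of_local ℐ.subschemeι g fun y => ?_
    obtain ⟨V, hyV, hV⟩ := hgood (g y)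
    have hVg : Good V := ⟨V, le_rfl, hV⟩
    obtain ⟨_, ⟨D, hD, rfl⟩, hyD, hDV⟩ := T.isBasis_affineOpens.exists_subset_of_mem_open
      (show y ∈ g ⁻¹ᵁ V.1 from hyV) (g ⁻¹ᵁ V.1).2
    have : IsOpenImmersion V.2.fromSpec := IsAffineOpen.isOpenImmersion_fromSpec V.2
    have hrg : Set.range (hD.fromSpec ≫ g) ⊆ Set.range V.2.fromSpec := by
      rw [V.2.range_fromSpec]
      rintro _ ⟨z, rfl⟩
      exact hDV (hD.range_fromSpec.le ⟨z, rfl⟩)
    let ψ := Spec.preimage (IsOpenImmersion.lift V.2.fromSpec (hD.fromSpec ≫ g) hrg)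
    have hψ : Spec.map ψ ≫ V.2.fromSpec = hD.fromSpec ≫ g := by
      rw [Spec.map_preimage, IsOpenImmersion.lift_fac]
    refine ⟨_, hD.fromSpec, IsAffineOpen.isOpenImmersion_fromSpec hD, by rwa [hD.range_fromSpec], ?_⟩
    have hle : ℐ.ideal V ≤ RingHom.ker ψ.hom :=
      (hKgood V hVg).le.trans ((hJ₀ V hVg ψ).2 (hψ ▸ cond_comp p j hg hD.fromSpec))
    let ψ' : CommRingCat.of (Γ(X, V.1) ⧸ ℐ.ideal V) ⟶ _ :=
      CommRingCat.ofHom (Ideal.Quotient.lift (ℐ.ideal V) ψ.hom fun a ha => hle ha)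
    refine ⟨Spec.map ψ' ≫ ℐ.subschemeCover.f V, ?_⟩
    have e : ℐ.subschemeCover.f V ≫ ℐ.subschemeι =
        Spec.map (CommRingCat.ofHom (Ideal.Quotient.mk (ℐ.ideal V))) ≫ V.2.fromSpec := by
      rw [ℐ.subschemeCover_map_subschemeι, Scheme.IdealSheafData.glueDataObjι]
      erw [Category.assoc, IsAffineOpen.isoSpec_inv_ι]
    refine (Category.assoc _ _ _).trans ((congrArg (Spec.map ψ' ≫ ·) e).trans ?_)
    refine (Category.assoc _ _ _).symm.trans ?_
    rw [← Spec.map_comp]
    exact hψ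
  · have hpt : ∀ y : ℐ.subscheme, ∃ V : X.affineOpens, Good V ∧ (ℐ.ideal V).FG ∧ ℐ.subschemeι y ∈ V.1 := fun y => by
      obtain ⟨V₁, hy₁, hV₁⟩ := hgood (ℐ.subschemeι y)
      obtain ⟨V₂, hy₂, hV₂⟩ := hfg (ℐ.subschemeι y)
      obtain ⟨_, ⟨V, hV, rfl⟩, hyV, hVs⟩ := X.isBasis_affineOpens.exists_subset_of_mem_open
        (show ℐ.subschemeι y ∈ V₁.1 ⊓ V₂.1 from ⟨hy₁, hy₂⟩) (V₁.1 ⊓ V₂.1).2
      have hg : Good ⟨V, hV⟩ := ⟨V₁, fun a ha => (hVs ha).1, hV₁⟩
      refine ⟨⟨V, hV⟩, hg, ?_, hyV⟩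
      show (K ⟨V, hV⟩).FG
      rw [hKgood _ hg]
      exact hV₂ ⟨V, hV⟩ (fun a ha => (hVs ha).2) _ (hJ₀ _ hg)
    choose V hVg hVfg hyV using hpt
    let 𝒰 : ℐ.subscheme.OpenCover :=
      { I₀ := ℐ.subscheme
        X := fun y => Spec (ℐ.subschemeCover.X (V y))
        f := fun y => ℐ.subschemeCover.f (V y)
        mem₀ := by
          rw [Scheme.presieve₀_mem_precoverage_iff]
          exact ⟨fun y => ⟨y, (ℐ.opensRange_subschemeCover_map (V y)).ge (hyV y)⟩,
            fun y => ℐ.subschemeCover.openCover.map_prop (V y)⟩ }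
    have : IsZariskiLocalAtSource @LocallyOfFinitePresentation := HasRingHomProperty.instIsZariskiLocalAtSource
    refine IsZariskiLocalAtSource.of_openCover (P := @LocallyOfFinitePresentation) 𝒰 fun y => ?_
    show LocallyOfFinitePresentation (ℐ.subschemeCover.f (V y) ≫ ℐ.subschemeι)
    rw [ℐ.subschemeCover_map_subschemeι, Scheme.IdealSheafData.glueDataObjι]
    erw [Category.assoc, IsAffineOpen.isoSpec_inv_ι]
    have h1 : LocallyOfFinitePresentation (Spec.map (CommRingCat.ofHom (Ideal.Quotient.mk (ℐ.ideal (V y))))) :=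
      (HasRingHomProperty.Spec_iff (P := @LocallyOfFinitePresentation)).2
        (RingHom.FinitePresentation.of_surjective _ Ideal.Quotient.mk_surjective (by rw [CommRingCat.hom_ofHom, Ideal.mk_ker]; exact hVfg y))
    have : IsOpenImmersion (V y).2.fromSpec := IsAffineOpen.isOpenImmersion_fromSpec (V y).2
    exact MorphismProperty.comp_mem @LocallyOfFinitePresentation _ _ h1 inferInstance

/-- The Weil restriction of a closed subscheme along an essentially free morphism is closed. -/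
theorem exists_closed [IsClosedImmersion j]
    (hgood : ∀ x : X, ∃ U : X.affineOpens, x ∈ U.1 ∧ ∀ W : X.affineOpens, W.1 ≤ U.1 → FreeOver p W) :
    ∃ (Z : Scheme.{u}) (z : Z ⟶ X), IsClosedImmersion z ∧
      (∀ {T : Scheme.{u}} (g : T ⟶ X), (∃ g' : T ⟶ Z, g' ≫ z = g) ↔ Cond p j g) ∧
      (QuasiCompact p → LocallyOfFinitePresentation j → LocallyOfFinitePresentation z) := by
  obtain ⟨Z, z, hz, h, hfg⟩ := exists_closed_of_hasIdeal p j fun x => by
    obtain ⟨U, hx, hU⟩ := hgood x
    exact ⟨U, hx, fun W hW => exists_ideal p j W (hU W hW)⟩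
  refine ⟨Z, z, hz, h, fun hp hj => hfg fun x => ?_⟩
  obtain ⟨U, hx, hU⟩ := hgood x
  refine ⟨U, hx, fun W hW J hJ => ?_⟩
  obtain ⟨J', hJ', hfg'⟩ := hasIdeal_of_freeOver p j W (hU W hW)
  have heq : J = J' := by
    have h1 := (hJ (CommRingCat.ofHom (Ideal.Quotient.mk J'))).2 ((hJ' _).1 Ideal.mk_ker.ge)
    have h2 := (hJ' (CommRingCat.ofHom (Ideal.Quotient.mk J))).2 ((hJ _).1 Ideal.mk_ker.ge)
    exact le_antisymm (h1.trans Ideal.mk_ker.le) (h2.trans Ideal.mk_ker.le)
  exact heq ▸ hfg' hp hj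

end Groth.Agent.HopfRep.WeilClosed

end
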